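import Groth.Agent.Lib.Helper80.Boot1

/-!
# Bootstrap, part 2: a sheaf over an algebraic space with algebraic-space fibres is an algebraic space
(helper80)
-/

set_option autoImplicit false
set_option backward.isDefEq.respectTransparency false

universe u

open CategoryTheory CategoryTheory.Limits AlgebraicGeometry Opposite

namespace Groth.Agent.Lib.Helper80

variable {S : Scheme.{u}}

open AlgSp

/-- If `f : F ⟶ G` has algebraic-space fibres over schemes and `G` is an algebraic space, then every map from a scheme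
to `F` is representable. -/
theorem representable_of_fibres {F G : Sp S} (f : F ⟶ G)
    (hf : ∀ ⦃U : Over S⦄ (ξ : (yon S).obj U ⟶ G), IsAlgSpace (pullback f ξ))
    (hG : IsAlgSpace G) {U : Over S} (g : (yon S).obj U ⟶ F) : Representable g := by
  intro V h
  obtain ⟨P, p₂, p₁, sqP⟩ := hG.representable_from_yon (g ≫ f) (h ≫ f)
  have hFP := hf (p₁ ≫ g ≫ f)
  let σ₁ : (yon S).obj P ⟶ pullback f (p₁ ≫ g ≫ f) := pullback.lift (p₁ ≫ g) (𝟙 _) (by simp)
  let σ₂ : (yon S).obj P ⟶ pullback f (p₁ ≫ g ≫ f) :=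
    pullback.lift ((yon S).map p₂ ≫ h) (𝟙 _) (by simpa using sqP.w.symm)
  obtain ⟨W, s, t, sqW⟩ := hFP.representable_from_yon σ₂ σ₁
  have ht : t = (yon S).map s := by
    have := sqW.w =≫ pullback.snd f (p₁ ≫ g ≫ f)
    simpa [σ₁, σ₂] using this
  subst ht
  have hw : ((yon S).map s ≫ p₁) ≫ g = (yon S).map (s ≫ p₂) ≫ h := by
    have := sqW.w =≫ pullback.fst f (p₁ ≫ g ≫ f)
    simp only [σ₁, σ₂, Category.assoc, pullback.lift_fst] at this
    rw [Functor.map_comp, Category.assoc, Category.assoc]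
    exact this.symm
  have hγ : ∀ c : PullbackCone g h, c.fst ≫ g ≫ f = c.snd ≫ h ≫ f := fun c => by
    rw [← Category.assoc, c.condition, Category.assoc]
  have hδ : ∀ c : PullbackCone g h,
      sqP.lift c.fst c.snd (hγ c) ≫ σ₂ = sqP.lift c.fst c.snd (hγ c) ≫ σ₁ := fun c => by
    apply pullback.hom_ext
    · simp only [σ₁, σ₂, Category.assoc, pullback.lift_fst]
      rw [← Category.assoc, ← Category.assoc, sqP.lift_fst, sqP.lift_snd]
      exact c.condition.symm
    · simp only [σ₁, σ₂, Category.assoc, pullback.lift_snd]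
  refine ⟨W, s ≫ p₂, (yon S).map s ≫ p₁, ⟨⟨hw⟩, ⟨PullbackCone.IsLimit.mk _
    (fun c => sqW.lift _ _ (hδ c)) ?_ ?_ ?_⟩⟩⟩
  · intro c
    rw [← Category.assoc, sqW.lift_snd, sqP.lift_fst]
  · intro c
    rw [Functor.map_comp, ← Category.assoc, sqW.lift_snd, sqP.lift_snd]
  · intro c m hm1 hm2
    have h1 : m ≫ (yon S).map s = sqP.lift c.fst c.snd (hγ c) := by
      apply sqP.hom_ext
      · rw [sqP.lift_fst, Category.assoc]; exact hm1
      · rw [sqP.lift_snd, Category.assoc, ← Functor.map_comp]; exact hm2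
    apply sqW.hom_ext
    · rw [sqW.lift_fst]; exact h1
    · rw [sqW.lift_snd]; exact h1

/-- Bootstrap: a sheaf over an algebraic space all of whose fibres over schemes are algebraic spaces is an
algebraic space. -/
theorem isAlgSpace_of_fibres {F G : Sp S} (f : F ⟶ G)
    (hf : ∀ ⦃U : Over S⦄ (ξ : (yon S).obj U ⟶ G), IsAlgSpace (pullback f ξ))
    (hG : IsAlgSpace G) : IsAlgSpace F where
  diag := Functor.relativelyRepresentable.diag_of_map_from_obj
    (fun _ g => representable_of_fibres f hf hG g)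
  atlas := by
    obtain ⟨U, p, hp1, hp2⟩ := hG.atlas
    obtain ⟨V, q, hq1, hq2⟩ := (hf p).atlas
    have sq : IsPullback (pullback.snd f p) (pullback.fst f p) p f := (IsPullback.of_hasPullback f p).flip
    refine ⟨V, q ≫ pullback.fst f p, ?_, ?_⟩
    · exact (RepWith @Etale).comp_mem _ _ hq1 (MorphismProperty.of_isPullback sq hp1)
    · exact (RepWith @Surjective).comp_mem _ _ hq2 (MorphismProperty.of_isPullback sq hp2)

/-- `S10091`: the source of a map of presheaves representable by algebraic spaces into an algebraic space is an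
algebraic space. -/
theorem isAlgSpaceP_of_repBySp {F G : PSp S} (a : F ⟶ G) (ha : RepBySp a) (hG : IsAlgSpaceP G) :
    IsAlgSpaceP F := by
  obtain ⟨hGs, hG'⟩ := hG
  have hFs := isSheaf_of_repBySp a ha hGs
  refine ⟨hFs, ?_⟩
  let f : (⟨F, hFs⟩ : Sp S) ⟶ (⟨G, hGs⟩ : Sp S) := ObjectProperty.homMk a
  have h1 := (repBySp_hom_iff f).1 ha
  exact isAlgSpace_of_fibres f (fun U ξ => h1 ξ _ _ (IsPullback.of_hasPullback f ξ)) hG'

/-- Base change of `RepBySp`. -/
theorem repBySp_of_isPullback {F G F' G' : PSp S} {a : F ⟶ G} {b : G' ⟶ G} {a' : F' ⟶ G'} {b' : F' ⟶ F}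
    (sq : IsPullback b' a' a b) (ha : RepBySp a) : RepBySp a' := by
  intro U ξ F'' fst snd sq'
  exact ha (ξ ≫ b) (fst ≫ b') snd (sq'.paste_horiz sq)

/-- `S10092`: the base change of a map representable by algebraic spaces to an algebraic space is an algebraic
space. -/
theorem isAlgSpaceP_of_isPullback {F G X F' : PSp S} {a : F ⟶ G} (ha : RepBySp a) (hX : IsAlgSpaceP X)
    {ξ : X ⟶ G} {fst : F' ⟶ X} {snd : F' ⟶ F} (sq : IsPullback fst snd ξ a) : IsAlgSpaceP F' :=
  isAlgSpaceP_of_repBySp fst (repBySp_of_isPullback sq.flip ha) hX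

/-- `S10093`: composition of maps representable by algebraic spaces. -/
theorem repBySp_comp {F G H : PSp S} (a : F ⟶ G) (b : G ⟶ H) (ha : RepBySp a) (hb : RepBySp b) :
    RepBySp (a ≫ b) := by
  intro U ξ F'' fst snd sq
  have sqb := IsPullback.of_hasPullback b ξ
  have hGU : IsAlgSpaceP (pullback b ξ) := hb ξ _ _ sqb
  let l : F'' ⟶ pullback b ξ := pullback.lift (fst ≫ a) snd (by rw [Category.assoc]; exact sq.w)
  have hl2 : l ≫ pullback.snd b ξ = snd := pullback.lift_snd _ _ _
  have hl1 : fst ≫ a = l ≫ pullback.fst b ξ := (pullback.lift_fst _ _ _).symm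
  have sq' : IsPullback fst (l ≫ pullback.snd b ξ) (a ≫ b) ξ := by rw [hl2]; exact sq
  have top : IsPullback fst l a (pullback.fst b ξ) := IsPullback.of_bot sq' hl1 sqb
  exact isAlgSpaceP_of_isPullback ha hGU top.flip

end Groth.Agent.Lib.Helper80
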