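import Groth.Agent.Lib.Helper80.FibCat18

/-!
# Isomorphisms of functors into a 2-fibre product; representability of the diagonal (helper80)
-/

set_option autoImplicit false
set_option backward.isDefEq.respectTransparency false

universe v₅ u₅ v₄ u₄ v₃ u₃ v₂ u₂ v u

open CategoryTheory CategoryTheory.Functor CategoryTheory.Limits

namespace Groth.Agent.Lib.Helper80

open BasedFunctor

variable {C : Type u} [Category.{v} C]

section FpIsoMk

variable {𝒳 : BasedCategory.{v₂, u₂} C} {𝒴 : BasedCategory.{v₃, u₃} C} {𝒮 : BasedCategory.{v₄, u₄} C}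
  {𝒲 : BasedCategory.{v₅, u₅} C} {F : 𝒳 ⥤ᵇ 𝒮} {G : 𝒴 ⥤ᵇ 𝒮}

/-- An isomorphism between two functors over `C` into a 2-fibre product, from compatible
isomorphisms between their two components. -/
def fpIsoMk {A B : 𝒲 ⥤ᵇ FibCat.fp F G}
    (i₁ : BasedFunctor.comp A (FibCat.fpFst F G) ≅ BasedFunctor.comp B (FibCat.fpFst F G))
    (i₂ : BasedFunctor.comp A (FibCat.fpSnd F G) ≅ BasedFunctor.comp B (FibCat.fpSnd F G))
    (compat : ∀ w : 𝒲.obj, F.map (i₁.hom.toNatTrans.app w) ≫ (B.obj w).obj.iso.hom =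
      (A.obj w).obj.iso.hom ≫ G.map (i₂.hom.toNatTrans.app w)) : A ≅ B :=
  BasedNatIso.mkNatIso
    (NatIso.ofComponents
      (fun w => ObjectProperty.isoMk _
        (CategoricalPullback.mkIso (appIso i₁ w) (appIso i₂ w) (compat w)))
      (by
        intro w w' m
        apply ObjectProperty.hom_ext
        apply CategoricalPullback.hom_ext
        · exact iso_hom_naturality i₁ m
        · exact iso_hom_naturality i₂ m))
    (fun w => by
      rw [fp_isHomLift_iff]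
      exact iso_hom_app_isHomLift i₁ w rfl)

/-- For functors into `𝒮 ×_C 𝒮` the compatibility is automatic. -/
def sqIsoMk {A B : 𝒲 ⥤ᵇ FibCat.fp (FibCat.toSelf 𝒮) (FibCat.toSelf 𝒮)}
    (i₁ : BasedFunctor.comp A (FibCat.fpFst _ _) ≅ BasedFunctor.comp B (FibCat.fpFst _ _))
    (i₂ : BasedFunctor.comp A (FibCat.fpSnd _ _) ≅ BasedFunctor.comp B (FibCat.fpSnd _ _)) :
    A ≅ B :=
  fpIsoMk i₁ i₂ (fun w => by
    have c1 : 𝒮.p.IsHomLift (𝟙 (𝒲.p.obj w)) (i₁.hom.toNatTrans.app w) :=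
      iso_hom_app_isHomLift i₁ w rfl
    have c2 : 𝒮.p.IsHomLift (𝟙 (𝒲.p.obj w)) (i₂.hom.toNatTrans.app w) :=
      iso_hom_app_isHomLift i₂ w rfl
    have c3 : (FibCat.selfOver C).p.IsHomLift (𝟙 (𝒲.p.obj w))
      ((FibCat.toSelf 𝒮).map (i₁.hom.toNatTrans.app w)) := inferInstance
    have c4 : (FibCat.selfOver C).p.IsHomLift (𝟙 (𝒲.p.obj w))
      ((FibCat.toSelf 𝒮).map (i₂.hom.toNatTrans.app w)) := inferInstance
    have c5 : (FibCat.selfOver C).p.IsHomLift (𝟙 (𝒲.p.obj w)) (B.obj w).obj.iso.hom :=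
      fp_iso_isHomLift _ _ (B.obj w) (B.w_obj w)
    have c6 : (FibCat.selfOver C).p.IsHomLift (𝟙 (𝒲.p.obj w)) (A.obj w).obj.iso.hom :=
      fp_iso_isHomLift _ _ (A.obj w) (A.w_obj w)
    have c7 := comp_isHomLift_id (FibCat.selfOver C).p
      ((FibCat.toSelf 𝒮).map (i₁.hom.toNatTrans.app w)) (B.obj w).obj.iso.hom (S := 𝒲.p.obj w)
    have c8 := comp_isHomLift_id (FibCat.selfOver C).p
      (A.obj w).obj.iso.hom ((FibCat.toSelf 𝒮).map (i₂.hom.toNatTrans.app w)) (S := 𝒲.p.obj w)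
    exact eq_of_isHomLift_of_faithful (FibCat.selfOver C).p (𝟙 (𝒲.p.obj w)) _ _)

end FpIsoMk

section Retract

/-- `𝟭 ≅ overMap d ⋙ overMap r` for a retraction `d ≫ r = 𝟙`. -/
def overMapRetractIso {T T' : C} (d : T ⟶ T') (r : T' ⟶ T) (w : d ≫ r = 𝟙 T) :
    BasedFunctor.id (FibCat.overCat T) ≅ BasedFunctor.comp (overMap d) (overMap r) :=
  BasedNatIso.mkNatIso
    (NatIso.ofComponents
      (fun x => Over.isoMk (Iso.refl _) (by
        change 𝟙 _ ≫ (x.hom ≫ d) ≫ r = x.hom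
        rw [Category.id_comp, Category.assoc, w, Category.comp_id]))
      (by
        intro x y m
        apply Over.OverMorphism.ext
        change m.left ≫ 𝟙 _ = 𝟙 _ ≫ m.left
        rw [Category.comp_id, Category.id_comp]))
    (fun x => by
      apply IsHomLift.of_fac (Over.forget T) _ _ rfl rfl
      change 𝟙 _ = eqToHom rfl ≫ 𝟙 _ ≫ eqToHom rfl
      simp)

end Retract

end Groth.Agent.Lib.Helper80
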