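import Groth.Agent.Lib.Helper80.FibCat14

/-!
# Corollaries for 2-fibre products: change of one leg (helper80)
-/

set_option autoImplicit false
set_option backward.isDefEq.respectTransparency false

universe v₆ u₆ v₅ u₅ v₄ u₄ v₃ u₃ v₂ u₂ v u

open CategoryTheory CategoryTheory.Functor CategoryTheory.Limits

namespace Groth.Agent.Lib.Helper80

open BasedFunctor

variable {C : Type u} [Category.{v} C]

section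

variable {𝒳 : BasedCategory.{v₂, u₂} C} {𝒴 : BasedCategory.{v₃, u₃} C} {𝒮 : BasedCategory.{v₄, u₄} C}

instance id_full : (BasedFunctor.id 𝒳).toFunctor.Full := inferInstanceAs (𝟭 𝒳.obj).Full
instance id_faithful : (BasedFunctor.id 𝒳).toFunctor.Faithful := inferInstanceAs (𝟭 𝒳.obj).Faithful

theorem isEquivOver_id : FibCat.IsEquivOver (BasedFunctor.id 𝒳) :=
  ⟨BasedFunctor.id 𝒳, ⟨BasedNatIso.id _⟩, ⟨BasedNatIso.id _⟩⟩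

variable {𝒳' : BasedCategory.{v₅, u₅} C} {𝒴' : BasedCategory.{v₆, u₆} C}

/-- Change of the left leg of a 2-fibre product along `a : 𝒳' ⟶ 𝒳` and `i : F' ≅ a ⋙ F`. -/
def fpMapLeft (F : 𝒳 ⥤ᵇ 𝒮) (G : 𝒴 ⥤ᵇ 𝒮) (a : 𝒳' ⥤ᵇ 𝒳) (F' : 𝒳' ⥤ᵇ 𝒮)
    (i : F' ≅ BasedFunctor.comp a F) : FibCat.fp F' G ⥤ᵇ FibCat.fp F G :=
  fpMap F G F' G a (BasedFunctor.id 𝒴) (BasedFunctor.id 𝒮) i (BasedNatIso.id _)

theorem fpMapLeft_isEquivOver (F : 𝒳 ⥤ᵇ 𝒮) (G : 𝒴 ⥤ᵇ 𝒮) (a : 𝒳' ⥤ᵇ 𝒳) (F' : 𝒳' ⥤ᵇ 𝒮)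
    (i : F' ≅ BasedFunctor.comp a F) (ha : FibCat.IsEquivOver a) :
    FibCat.IsEquivOver (fpMapLeft F G a F' i) :=
  fpMap_isEquivOver F G F' G a (BasedFunctor.id 𝒴) (BasedFunctor.id 𝒮) i (BasedNatIso.id _) ha
    isEquivOver_id

/-- Change of the right leg of a 2-fibre product along `b : 𝒴' ⟶ 𝒴` and `i : G' ≅ b ⋙ G`. -/
def fpMapRight (F : 𝒳 ⥤ᵇ 𝒮) (G : 𝒴 ⥤ᵇ 𝒮) (b : 𝒴' ⥤ᵇ 𝒴) (G' : 𝒴' ⥤ᵇ 𝒮)
    (i : G' ≅ BasedFunctor.comp b G) : FibCat.fp F G' ⥤ᵇ FibCat.fp F G :=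
  fpMap F G F G' (BasedFunctor.id 𝒳) b (BasedFunctor.id 𝒮) (BasedNatIso.id _) i

theorem fpMapRight_isEquivOver (F : 𝒳 ⥤ᵇ 𝒮) (G : 𝒴 ⥤ᵇ 𝒮) (b : 𝒴' ⥤ᵇ 𝒴) (G' : 𝒴' ⥤ᵇ 𝒮)
    (i : G' ≅ BasedFunctor.comp b G) (hb : FibCat.IsEquivOver b) :
    FibCat.IsEquivOver (fpMapRight F G b G' i) :=
  fpMap_isEquivOver F G F G' (BasedFunctor.id 𝒳) b (BasedFunctor.id 𝒮) (BasedNatIso.id _) i
    isEquivOver_id hb

end

section Whisker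

variable {𝒳 : BasedCategory.{v₂, u₂} C} {𝒴 : BasedCategory.{v₃, u₃} C} {𝒵 : BasedCategory.{v₄, u₄} C}

/-- Left whiskering of an isomorphism of functors over `C`. -/
def whiskerLeftIso (F : 𝒳 ⥤ᵇ 𝒴) {G H : 𝒴 ⥤ᵇ 𝒵} (i : G ≅ H) :
    BasedFunctor.comp F G ≅ BasedFunctor.comp F H :=
  BasedNatIso.mkNatIso
    (Functor.isoWhiskerLeft F.toFunctor ((BasedNatTrans.forgetful _ _).mapIso i))
    (fun x => BasedNatTrans.isHomLift i.hom (F.w_obj x))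

@[simp] theorem whiskerLeftIso_hom_app (F : 𝒳 ⥤ᵇ 𝒴) {G H : 𝒴 ⥤ᵇ 𝒵} (i : G ≅ H) (x : 𝒳.obj) :
    (whiskerLeftIso F i).hom.toNatTrans.app x = i.hom.toNatTrans.app (F.obj x) := rfl

/-- Right whiskering of an isomorphism of functors over `C`. -/
def whiskerRightIso {F G : 𝒳 ⥤ᵇ 𝒴} (i : F ≅ G) (H : 𝒴 ⥤ᵇ 𝒵) :
    BasedFunctor.comp F H ≅ BasedFunctor.comp G H :=
  BasedNatIso.mkNatIso
    (Functor.isoWhiskerRight ((BasedNatTrans.forgetful _ _).mapIso i) H.toFunctor)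
    (fun x => by
      have : 𝒴.p.IsHomLift (𝟙 (𝒳.p.obj x)) (i.hom.toNatTrans.app x) :=
        BasedNatTrans.isHomLift i.hom rfl
      exact BasedFunctor.preserves_isHomLift H (𝟙 (𝒳.p.obj x)) (i.hom.toNatTrans.app x))

@[simp] theorem whiskerRightIso_hom_app {F G : 𝒳 ⥤ᵇ 𝒴} (i : F ≅ G) (H : 𝒴 ⥤ᵇ 𝒵) (x : 𝒳.obj) :
    (whiskerRightIso i H).hom.toNatTrans.app x = H.map (i.hom.toNatTrans.app x) := rfl

end Whisker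

end Groth.Agent.Lib.Helper80
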