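import Groth.Agent.Lib.Helper80.FibCat13

/-!
# Pasting of 2-fibre products over `C` (helper80)

* `fpPasteRight G g f : fp G (f ⋙ g) ⥤ᵇ fp (fpSnd G g) f`, an equivalence over `C`.
* `fpPasteLeft G g f : fp (G ⋙ g) f ⥤ᵇ fp G (fpFst g f)`, an equivalence over `C`.
-/

set_option autoImplicit false
set_option backward.isDefEq.respectTransparency false

universe v₅ u₅ v₄ u₄ v₃ u₃ v₂ u₂ v u

open CategoryTheory CategoryTheory.Functor CategoryTheory.Limits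

namespace Groth.Agent.Lib.Helper80

open BasedFunctor

variable {C : Type u} [Category.{v} C]

section PasteRight

variable {𝒰 : BasedCategory.{v₂, u₂} C} {𝒳 : BasedCategory.{v₃, u₃} C}
  {𝒴 : BasedCategory.{v₄, u₄} C} {𝒵 : BasedCategory.{v₅, u₅} C}
  (G : 𝒰 ⥤ᵇ 𝒵) (g : 𝒴 ⥤ᵇ 𝒵) (f : 𝒳 ⥤ᵇ 𝒴)

/-- `(u, x, θ : G u ≅ g (f x)) ↦ (u, f x, θ)`. -/
def fpPasteRightFst : FibCat.fp G (BasedFunctor.comp f g) ⥤ᵇ FibCat.fp G g :=
  FibCat.fpLift (FibCat.fpFst G (BasedFunctor.comp f g))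
    (BasedFunctor.comp (FibCat.fpSnd G (BasedFunctor.comp f g)) f)
    (FibCat.fpIso G (BasedFunctor.comp f g))

/-- `(u, x, θ : G u ≅ g (f x)) ↦ ((u, f x, θ), x, 𝟙)`. -/
def fpPasteRight : FibCat.fp G (BasedFunctor.comp f g) ⥤ᵇ FibCat.fp (FibCat.fpSnd G g) f :=
  FibCat.fpLift (fpPasteRightFst G g f) (FibCat.fpSnd G (BasedFunctor.comp f g))
    (BasedNatIso.id _)

theorem fpPasteRight_isEquivOver : FibCat.IsEquivOver (fpPasteRight G g f) := by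
  apply fpLift_isEquivOver
  · intro P Q m m' h1 h2
    apply ObjectProperty.hom_ext
    apply CategoricalPullback.hom_ext
    · exact congrArg (fun k => k.hom.fst) h1
    · exact h2
  · intro P Q φ ψ hw
    -- `φ : (P.fst, f P.snd, P.iso) ⟶ (Q.fst, f Q.snd, Q.iso)` in `fp G g`, `ψ : P.snd ⟶ Q.snd`
    have hw' : φ.hom.snd ≫ 𝟙 _ = 𝟙 _ ≫ f.map ψ := hw
    rw [Category.comp_id, Category.id_comp] at hw'
    have hφ : G.map φ.hom.fst ≫ Q.obj.iso.hom = P.obj.iso.hom ≫ g.map φ.hom.snd := φ.hom.w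
    have key : G.map φ.hom.fst ≫ Q.obj.iso.hom =
        P.obj.iso.hom ≫ (BasedFunctor.comp f g).map ψ := by
      rw [hφ, hw']; rfl
    refine ⟨ObjectProperty.homMk ⟨φ.hom.fst, ψ, key⟩, ?_, rfl⟩
    apply ObjectProperty.hom_ext
    apply CategoricalPullback.hom_ext
    · rfl
    · exact hw'.symm
  · intro Q
    -- `Q = ((u, y, θ'), x, η : y ≅ f x)`
    let u := Q.obj.fst.obj.fst
    let y := Q.obj.fst.obj.snd
    let x := Q.obj.snd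
    let θ' : G.obj u ≅ g.obj y := Q.obj.fst.obj.iso
    let η : y ≅ f.obj x := Q.obj.iso
    have hθ' : 𝒵.p.IsHomLift (𝟙 (𝒰.p.obj u)) θ'.hom := Q.obj.fst.property
    have hη : 𝒴.p.IsHomLift (𝟙 (𝒰.p.obj u)) η.hom := Q.property
    have hηinv : 𝒴.p.IsHomLift (𝟙 (𝒰.p.obj u)) η.inv := IsHomLift.lift_id_inv 𝒴.p _ η
    have hP : 𝒵.p.IsHomLift (𝟙 (𝒰.p.obj u)) (θ' ≪≫ g.toFunctor.mapIso η).hom := by
      have : 𝒵.p.IsHomLift (𝟙 (𝒰.p.obj u)) (g.map η.hom) := inferInstance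
      exact comp_isHomLift_id 𝒵.p θ'.hom (g.map η.hom)
    let P : (FibCat.fp G (BasedFunctor.comp f g)).obj :=
      ⟨⟨u, x, θ' ≪≫ g.toFunctor.mapIso η⟩, hP⟩
    let α : (fpPasteRightFst G g f).obj P ≅ Q.obj.fst :=
      ObjectProperty.isoMk _ (CategoricalPullback.mkIso (Iso.refl u) η.symm (by
        change G.map (𝟙 u) ≫ θ'.hom = (θ'.hom ≫ g.map η.hom) ≫ g.map η.inv
        rw [Category.assoc, ← Functor.map_comp, η.hom_inv_id, Functor.map_id, Functor.map_id,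
          Category.id_comp, Category.comp_id]))
    refine ⟨P, α, Iso.refl x, ?_, ?_⟩
    · rw [fp_isHomLift_iff]
      change 𝒰.p.IsHomLift (𝟙 (𝒰.p.obj u)) (𝟙 u)
      infer_instance
    · change η.inv ≫ η.hom = 𝟙 _ ≫ f.map (𝟙 x)
      rw [η.inv_hom_id, Functor.map_id, Category.comp_id]

end PasteRight

section PasteLeft

variable {𝒰 : BasedCategory.{v₂, u₂} C} {𝒳 : BasedCategory.{v₃, u₃} C}
  {𝒴 : BasedCategory.{v₄, u₄} C} {𝒵 : BasedCategory.{v₅, u₅} C}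
  (G : 𝒰 ⥤ᵇ 𝒵) (g : 𝒵 ⥤ᵇ 𝒴) (f : 𝒳 ⥤ᵇ 𝒴)

/-- `(u, x, θ : g (G u) ≅ f x) ↦ (G u, x, θ)`. -/
def fpPasteLeftSnd : FibCat.fp (BasedFunctor.comp G g) f ⥤ᵇ FibCat.fp g f :=
  FibCat.fpLift (BasedFunctor.comp (FibCat.fpFst (BasedFunctor.comp G g) f) G)
    (FibCat.fpSnd (BasedFunctor.comp G g) f)
    (FibCat.fpIso (BasedFunctor.comp G g) f)

/-- `(u, x, θ : g (G u) ≅ f x) ↦ (u, (G u, x, θ), 𝟙)`. -/
def fpPasteLeft : FibCat.fp (BasedFunctor.comp G g) f ⥤ᵇ FibCat.fp G (FibCat.fpFst g f) :=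
  FibCat.fpLift (FibCat.fpFst (BasedFunctor.comp G g) f) (fpPasteLeftSnd G g f)
    (BasedNatIso.id _)

theorem fpPasteLeft_isEquivOver : FibCat.IsEquivOver (fpPasteLeft G g f) := by
  apply fpLift_isEquivOver
  · intro P Q m m' h1 h2
    apply ObjectProperty.hom_ext
    apply CategoricalPullback.hom_ext
    · exact h1
    · exact congrArg (fun k => k.hom.snd) h2
  · intro P Q φ ψ hw
    -- `φ : P.fst ⟶ Q.fst`, `ψ : (G P.fst, P.snd, P.iso) ⟶ (G Q.fst, Q.snd, Q.iso)` in `fp g f`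
    have hw' : G.map φ ≫ 𝟙 _ = 𝟙 _ ≫ ψ.hom.fst := hw
    rw [Category.comp_id, Category.id_comp] at hw'
    have hψ : g.map ψ.hom.fst ≫ Q.obj.iso.hom = P.obj.iso.hom ≫ f.map ψ.hom.snd := ψ.hom.w
    have key : (BasedFunctor.comp G g).map φ ≫ Q.obj.iso.hom =
        P.obj.iso.hom ≫ f.map ψ.hom.snd := by
      rw [← hψ, ← hw']; rfl
    refine ⟨ObjectProperty.homMk ⟨φ, ψ.hom.snd, key⟩, rfl, ?_⟩
    apply ObjectProperty.hom_ext
    apply CategoricalPullback.hom_ext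
    · exact hw'
    · rfl
  · intro Q
    -- `Q = (u, (z, x, η : g z ≅ f x), θ : G u ≅ z)`
    let u := Q.obj.fst
    let z := Q.obj.snd.obj.fst
    let x := Q.obj.snd.obj.snd
    let η : g.obj z ≅ f.obj x := Q.obj.snd.obj.iso
    let θ : G.obj u ≅ z := Q.obj.iso
    have hθ : 𝒵.p.IsHomLift (𝟙 (𝒰.p.obj u)) θ.hom := Q.property
    have hz : 𝒵.p.obj z = 𝒰.p.obj u := IsHomLift.codomain_eq 𝒵.p (𝟙 (𝒰.p.obj u)) θ.hom
    have hη : 𝒴.p.IsHomLift (𝟙 (𝒰.p.obj u)) η.hom :=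
      isHomLift_id_of_eq 𝒴.p hz η.hom (hφ := Q.obj.snd.property)
    have hP : 𝒴.p.IsHomLift (𝟙 (𝒰.p.obj u)) (g.toFunctor.mapIso θ ≪≫ η).hom := by
      have : 𝒴.p.IsHomLift (𝟙 (𝒰.p.obj u)) (g.map θ.hom) := inferInstance
      exact comp_isHomLift_id 𝒴.p (g.map θ.hom) η.hom
    let P : (FibCat.fp (BasedFunctor.comp G g) f).obj :=
      ⟨⟨u, x, g.toFunctor.mapIso θ ≪≫ η⟩, hP⟩
    let β : (fpPasteLeftSnd G g f).obj P ≅ Q.obj.snd :=
      ObjectProperty.isoMk _ (CategoricalPullback.mkIso θ (Iso.refl x) (by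
        change g.map θ.hom ≫ η.hom = (g.map θ.hom ≫ η.hom) ≫ f.map (𝟙 x)
        rw [Functor.map_id, Category.comp_id]))
    refine ⟨P, Iso.refl u, β, ?_, ?_⟩
    · change 𝒰.p.IsHomLift (𝟙 (𝒰.p.obj u)) (𝟙 u)
      infer_instance
    · change G.map (𝟙 u) ≫ θ.hom = 𝟙 _ ≫ θ.hom
      rw [Functor.map_id]

end PasteLeft

end Groth.Agent.Lib.Helper80
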