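import Groth.Agent.Lib.Helper80.FibCat5

/-!
# Fully faithful + essentially surjective over `C` implies equivalence over `C` (helper80)
-/

set_option autoImplicit false
set_option backward.isDefEq.respectTransparency false

universe v₃ u₃ v₂ u₂ v u

open CategoryTheory CategoryTheory.Functor CategoryTheory.Limits

namespace Groth.Agent.Lib.Helper80

open BasedFunctor

variable {C : Type u} [Category.{v} C]
  {𝒳 : BasedCategory.{v₂, u₂} C} {𝒴 : BasedCategory.{v₃, u₃} C}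

theorem isHomLift_id_of_eq {𝒵 : Type*} [Category 𝒵] (p : 𝒵 ⥤ C) {S S' : C} (h : S = S')
    {a b : 𝒵} (φ : a ⟶ b) [hφ : p.IsHomLift (𝟙 S) φ] : p.IsHomLift (𝟙 S') φ := by
  subst h; exact hφ

/-- The inverse functor of a fully faithful functor over `C` which is essentially surjective
over `C`, built from a choice of preimages. -/
noncomputable def invFunctor (F : 𝒳 ⥤ᵇ 𝒴) [F.toFunctor.Full] [F.toFunctor.Faithful]
    (x : 𝒴.obj → 𝒳.obj) (θ : ∀ y : 𝒴.obj, F.obj (x y) ≅ y) : 𝒴.obj ⥤ 𝒳.obj where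
  obj := x
  map {y y'} g := F.toFunctor.preimage ((θ y).hom ≫ g ≫ (θ y').inv)
  map_id y := by
    apply F.toFunctor.map_injective
    simp
  map_comp g g' := by
    apply F.toFunctor.map_injective
    simp

theorem map_invFunctor_map (F : 𝒳 ⥤ᵇ 𝒴) [F.toFunctor.Full] [F.toFunctor.Faithful]
    (x : 𝒴.obj → 𝒳.obj) (θ : ∀ y : 𝒴.obj, F.obj (x y) ≅ y) {y y' : 𝒴.obj} (g : y ⟶ y') :
    F.map ((invFunctor F x θ).map g) = (θ y).hom ≫ g ≫ (θ y').inv := by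
  simp [invFunctor]

theorem invFunctor_map_isHomLift (F : 𝒳 ⥤ᵇ 𝒴) [F.toFunctor.Full] [F.toFunctor.Faithful]
    (x : 𝒴.obj → 𝒳.obj) (θ : ∀ y : 𝒴.obj, F.obj (x y) ≅ y)
    (hθ : ∀ y : 𝒴.obj, 𝒴.p.IsHomLift (𝟙 (𝒴.p.obj y)) (θ y).hom) {y y' : 𝒴.obj} (g : y ⟶ y') :
    𝒳.p.IsHomLift (𝒴.p.map g) ((invFunctor F x θ).map g) := by
  have := hθ y
  have := hθ y'
  have h1 : 𝒴.p.IsHomLift (𝟙 (𝒴.p.obj y')) (θ y').inv := inferInstance
  have h2 : 𝒴.p.IsHomLift (𝒴.p.map g) ((θ y).hom ≫ g ≫ (θ y').inv) := inferInstance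
  have h4 : 𝒴.p.IsHomLift (𝒴.p.map g) (F.map ((invFunctor F x θ).map g)) := by
    rw [map_invFunctor_map]; exact h2
  exact isHomLift_map F _ _

theorem invFunctor_obj_proj (F : 𝒳 ⥤ᵇ 𝒴)
    (x : 𝒴.obj → 𝒳.obj) (θ : ∀ y : 𝒴.obj, F.obj (x y) ≅ y)
    (hθ : ∀ y : 𝒴.obj, 𝒴.p.IsHomLift (𝟙 (𝒴.p.obj y)) (θ y).hom) (y : 𝒴.obj) :
    𝒳.p.obj (x y) = 𝒴.p.obj y := by
  have := hθ y
  rw [← F.w_obj]
  exact IsHomLift.domain_eq 𝒴.p (𝟙 (𝒴.p.obj y)) (θ y).hom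

/-- The inverse functor as a functor over `C`. -/
noncomputable def invBasedFunctor (F : 𝒳 ⥤ᵇ 𝒴) [F.toFunctor.Full] [F.toFunctor.Faithful]
    (x : 𝒴.obj → 𝒳.obj) (θ : ∀ y : 𝒴.obj, F.obj (x y) ≅ y)
    (hθ : ∀ y : 𝒴.obj, 𝒴.p.IsHomLift (𝟙 (𝒴.p.obj y)) (θ y).hom) : 𝒴 ⥤ᵇ 𝒳 where
  toFunctor := invFunctor F x θ
  w := by
    refine Functor.ext (fun y => invFunctor_obj_proj F x θ hθ y) ?_
    intro y y' g
    have := invFunctor_map_isHomLift F x θ hθ g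
    exact IsHomLift.fac' 𝒳.p (𝒴.p.map g) ((invFunctor F x θ).map g)

theorem isEquivOver_of_choice (F : 𝒳 ⥤ᵇ 𝒴) [F.toFunctor.Full] [F.toFunctor.Faithful]
    (x : 𝒴.obj → 𝒳.obj) (θ : ∀ y : 𝒴.obj, F.obj (x y) ≅ y)
    (hθ : ∀ y : 𝒴.obj, 𝒴.p.IsHomLift (𝟙 (𝒴.p.obj y)) (θ y).hom) : FibCat.IsEquivOver F := by
  refine ⟨invBasedFunctor F x θ hθ, ⟨?_⟩, ⟨?_⟩⟩
  · refine BasedNatIso.mkNatIso
      (NatIso.ofComponents (fun a => F.toFunctor.preimageIso (θ (F.obj a))) ?_) ?_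
    · intro a b φ
      apply F.toFunctor.map_injective
      change F.map ((invFunctor F x θ).map (F.map φ) ≫ F.toFunctor.preimage (θ (F.obj b)).hom) =
        F.map (F.toFunctor.preimage (θ (F.obj a)).hom ≫ φ)
      rw [Functor.map_comp, Functor.map_comp, map_invFunctor_map, Functor.map_preimage,
        Functor.map_preimage]
      simp
    · intro a
      have := hθ (F.obj a)
      have h0 : 𝒴.p.IsHomLift (𝟙 (𝒳.p.obj a)) (θ (F.obj a)).hom :=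
        isHomLift_id_of_eq 𝒴.p (F.w_obj a) _
      have h1 : 𝒴.p.IsHomLift (𝟙 (𝒳.p.obj a)) (F.map (F.toFunctor.preimage
          (θ (F.obj a)).hom)) := by
        rw [Functor.map_preimage]; exact h0
      exact isHomLift_map F _ (F.toFunctor.preimage (θ (F.obj a)).hom)
  · refine BasedNatIso.mkNatIso (NatIso.ofComponents (fun y => θ y) ?_) ?_
    · intro y y' g
      change F.map ((invFunctor F x θ).map g) ≫ (θ y').hom = (θ y).hom ≫ g
      rw [map_invFunctor_map]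
      simp
    · intro y
      exact hθ y

theorem IsFFEssSurjOver.isEquivOver {F : 𝒳 ⥤ᵇ 𝒴} (hF : IsFFEssSurjOver F) :
    FibCat.IsEquivOver F := by
  have := hF.full
  have := hF.faithful
  choose x θ hθ using hF.essSurj
  exact isEquivOver_of_choice F x θ hθ

theorem isEquivOver_iff_isFFEssSurjOver {F : 𝒳 ⥤ᵇ 𝒴} :
    FibCat.IsEquivOver F ↔ IsFFEssSurjOver F :=
  ⟨IsEquivOver.isFFEssSurjOver, IsFFEssSurjOver.isEquivOver⟩

end Groth.Agent.Lib.Helper80
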