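import Groth.Agent.Lib.Helper80.FibCat20
import Groth.Prelude.Def_AlgSt

/-!
# Postcomposition with an equivalence over `C`; invariance of the stack conditions (helper80)

* `postcomp 𝒜 F : (𝒜 ⥤ᵇ 𝒳) ⥤ (𝒜 ⥤ᵇ 𝒴)` and `postcomp_isEquivalence` for `F` an equivalence over `C`.
* `IsEquivOver.isFibGrpd_iff`.
* `isStackFor_iff_of_isEquivOver`, `isPrestackFor_iff_of_isEquivOver`, `isStack_iff_of_isEquivOver`,
  `isPrestack_iff_of_isEquivOver`.
-/

set_option autoImplicit false
set_option backward.isDefEq.respectTransparency false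

universe v₅ u₅ v₄ u₄ v₃ u₃ v₂ u₂ v u

open CategoryTheory CategoryTheory.Functor CategoryTheory.Limits

namespace Groth.Agent.Lib.Helper80

open BasedFunctor

variable {C : Type u} [Category.{v} C]

section Postcomp

variable (𝒜 : BasedCategory.{v₂, u₂} C) {𝒳 : BasedCategory.{v₃, u₃} C} {𝒴 : BasedCategory.{v₄, u₄} C}
  (F : 𝒳 ⥤ᵇ 𝒴)

/-- Postcomposition with a functor over `C`. -/
def postcomp : (𝒜 ⥤ᵇ 𝒳) ⥤ (𝒜 ⥤ᵇ 𝒴) where
  obj G := BasedFunctor.comp G F
  map α := BasedCategory.whiskerRight α F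
  map_id G := by
    apply BasedNatTrans.homCategory.ext; ext a
    exact F.toFunctor.map_id _
  map_comp α β := by
    apply BasedNatTrans.homCategory.ext; ext a
    exact F.toFunctor.map_comp _ _

@[simp] theorem postcomp_obj (G : 𝒜 ⥤ᵇ 𝒳) : (postcomp 𝒜 F).obj G = BasedFunctor.comp G F := rfl

@[simp] theorem postcomp_map_app {G G' : 𝒜 ⥤ᵇ 𝒳} (α : G ⟶ G') (a : 𝒜.obj) :
    ((postcomp 𝒜 F).map α).toNatTrans.app a = F.map (α.toNatTrans.app a) := rfl

theorem postcomp_faithful [F.toFunctor.Faithful] : (postcomp 𝒜 F).Faithful where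
  map_injective {G G'} α β h := by
    apply BasedNatTrans.homCategory.ext
    ext a
    apply F.toFunctor.map_injective
    have := congrArg (fun γ => γ.toNatTrans.app a) h
    exact this

theorem postcomp_full [F.toFunctor.Full] [F.toFunctor.Faithful] : (postcomp 𝒜 F).Full where
  map_surjective {G G'} β := by
    let α : G ⟶ G' :=
      { toNatTrans :=
          { app := fun a => F.toFunctor.preimage (β.toNatTrans.app a)
            naturality := by
              intro a a' m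
              apply F.toFunctor.map_injective
              have h0 : F.map (G.map m) ≫ β.toNatTrans.app a' =
                  β.toNatTrans.app a ≫ F.map (G'.map m) := β.toNatTrans.naturality m
              rw [Functor.map_comp, Functor.map_comp, F.toFunctor.map_preimage,
                F.toFunctor.map_preimage]
              exact h0 }
        isHomLift' := fun a => by
          have h1 : 𝒴.p.IsHomLift (𝟙 (𝒜.p.obj a)) (β.toNatTrans.app a) :=
            BasedNatTrans.isHomLift β rfl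
          have h2 : 𝒴.p.IsHomLift (𝟙 (𝒜.p.obj a))
              (F.map (F.toFunctor.preimage (β.toNatTrans.app a))) := by
            rw [show F.map (F.toFunctor.preimage (β.toNatTrans.app a)) = β.toNatTrans.app a from
              F.toFunctor.map_preimage _]
            exact h1
          exact isHomLift_map F _ _ }
    refine ⟨α, ?_⟩
    apply BasedNatTrans.homCategory.ext
    ext a
    exact F.toFunctor.map_preimage _

theorem postcomp_essSurj (hF : FibCat.IsEquivOver F) : (postcomp 𝒜 F).EssSurj where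
  mem_essImage K := by
    obtain ⟨F', -, ⟨ε⟩⟩ := hF
    exact ⟨BasedFunctor.comp K F', ⟨whiskerLeftIso K ε⟩⟩

theorem postcomp_isEquivalence (hF : FibCat.IsEquivOver F) : (postcomp 𝒜 F).IsEquivalence := by
  obtain ⟨hfull, hfaith, -⟩ := IsEquivOver.isFFEssSurjOver hF
  exact { faithful := postcomp_faithful 𝒜 F
          full := postcomp_full 𝒜 F
          essSurj := postcomp_essSurj 𝒜 F hF }

end Postcomp

section FibGrpd

variable {𝒳 : BasedCategory.{v₂, u₂} C} {𝒴 : BasedCategory.{v₃, u₃} C}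

/-- Being fibred in groupoids is reflected by a functor over `C` which is fully faithful and
essentially surjective over `C`. -/
theorem IsFFEssSurjOver.isFibGrpd_of {F : 𝒳 ⥤ᵇ 𝒴} (hF : IsFFEssSurjOver F)
    (h𝒴 : FibCat.IsFibGrpd 𝒴.p) : FibCat.IsFibGrpd 𝒳.p where
  exists_lift := by
    intro x V f
    have := hF.full
    have := hF.faithful
    have hf : 𝒴.p.obj (F.obj x) = 𝒳.p.obj x := F.w_obj x
    obtain ⟨y', ψ, hψ⟩ := h𝒴.exists_lift (x := F.obj x) (f ≫ eqToHom hf.symm)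
    have hψ' : 𝒴.p.IsHomLift f ψ := by
      have : 𝒴.p.IsHomLift ((f ≫ eqToHom hf.symm) ≫ eqToHom hf) ψ := inferInstance
      simpa using this
    obtain ⟨x', θ, hθ⟩ := hF.essSurj y'
    have hy' : 𝒴.p.obj y' = V := IsHomLift.domain_eq 𝒴.p f ψ
    have hθ' : 𝒴.p.IsHomLift (𝟙 V) θ.hom := isHomLift_id_of_eq 𝒴.p hy' θ.hom
    have h1 : 𝒴.p.IsHomLift (𝟙 V ≫ f) (θ.hom ≫ ψ) := inferInstance
    rw [Category.id_comp] at h1
    obtain ⟨φ, hφ⟩ := F.toFunctor.map_surjective (θ.hom ≫ ψ)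
    have h2 : 𝒴.p.IsHomLift f (F.map φ) := by
      rw [show F.map φ = θ.hom ≫ ψ from hφ]; exact h1
    exact ⟨x', φ, isHomLift_map F f φ⟩
  isStronglyCartesian := by
    intro y x φ
    have := hF.full
    have := hF.faithful
    have h1 : 𝒴.p.IsStronglyCartesian (𝒳.p.map φ) (F.map φ) :=
      IsFibGrpd.isStronglyCartesian' 𝒴.p h𝒴 _ _
    exact isStronglyCartesian_of_map (F := F) (𝒳.p.map φ) φ

theorem IsEquivOver.isFibGrpd_iff {F : 𝒳 ⥤ᵇ 𝒴} (hF : FibCat.IsEquivOver F) :
    FibCat.IsFibGrpd 𝒳.p ↔ FibCat.IsFibGrpd 𝒴.p := by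
  obtain ⟨F', hF', -, -⟩ := IsEquivOver.symm hF
  exact ⟨fun h => IsFFEssSurjOver.isFibGrpd_of (IsEquivOver.isFFEssSurjOver hF') h,
    fun h => IsFFEssSurjOver.isFibGrpd_of (IsEquivOver.isFFEssSurjOver hF) h⟩

end FibGrpd

section Stacks

variable {𝒳 : BasedCategory.{v₂, u₂} C} {𝒴 : BasedCategory.{v₃, u₃} C}

/-- Restriction along a sieve commutes with postcomposition. -/
def resSievePostcompIso {U : C} (R : Sieve U) (F : 𝒳 ⥤ᵇ 𝒴) :
    Stk.resSieve R 𝒳 ⋙ postcomp (Stk.sieveCat R) F ≅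
      postcomp (FibCat.overCat U) F ⋙ Stk.resSieve R 𝒴 :=
  NatIso.ofComponents (fun G => Iso.refl _) (by
    intro G G' α
    apply BasedNatTrans.homCategory.ext
    ext a
    simp
    rfl)

theorem isStackFor_iff_of_isEquivOver {U : C} (R : Sieve U) (F : 𝒳 ⥤ᵇ 𝒴)
    (hF : FibCat.IsEquivOver F) : Stk.IsStackFor R 𝒳 ↔ Stk.IsStackFor R 𝒴 := by
  have h1 := postcomp_isEquivalence (Stk.sieveCat R) F hF
  have h2 := postcomp_isEquivalence (FibCat.overCat U) F hF
  constructor
  · intro h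
    have : (Stk.resSieve R 𝒳).IsEquivalence := h
    have h3 : (Stk.resSieve R 𝒳 ⋙ postcomp (Stk.sieveCat R) F).IsEquivalence := inferInstance
    have h4 : (postcomp (FibCat.overCat U) F ⋙ Stk.resSieve R 𝒴).IsEquivalence :=
      Functor.isEquivalence_of_iso (resSievePostcompIso R F)
    exact Functor.isEquivalence_of_comp_left (postcomp (FibCat.overCat U) F) (Stk.resSieve R 𝒴)
  · intro h
    have : (Stk.resSieve R 𝒴).IsEquivalence := h
    have h3 : (postcomp (FibCat.overCat U) F ⋙ Stk.resSieve R 𝒴).IsEquivalence := inferInstance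
    have h4 : (Stk.resSieve R 𝒳 ⋙ postcomp (Stk.sieveCat R) F).IsEquivalence :=
      Functor.isEquivalence_of_iso (resSievePostcompIso R F).symm
    exact Functor.isEquivalence_of_comp_right (Stk.resSieve R 𝒳) (postcomp (Stk.sieveCat R) F)

theorem isStack_iff_of_isEquivOver (J : GrothendieckTopology C) (F : 𝒳 ⥤ᵇ 𝒴)
    (hF : FibCat.IsEquivOver F) : Stk.IsStack J 𝒳 ↔ Stk.IsStack J 𝒴 := by
  unfold Stk.IsStack
  rw [IsEquivOver.isFibGrpd_iff hF]
  constructor
  · rintro ⟨h1, h2⟩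
    exact ⟨h1, fun U R hR => (isStackFor_iff_of_isEquivOver R F hF).mp (h2 R hR)⟩
  · rintro ⟨h1, h2⟩
    exact ⟨h1, fun U R hR => (isStackFor_iff_of_isEquivOver R F hF).mpr (h2 R hR)⟩

/-- Full faithfulness transfers across a square of functors whose other two sides are
equivalences. -/
theorem full_faithful_of_square {A A' B B' : Type*} [Category A] [Category A'] [Category B]
    [Category B'] (P : A ⥤ A') (Q : B ⥤ B') (r : A ⥤ B) (r' : A' ⥤ B')
    [P.IsEquivalence] [Q.IsEquivalence] (i : r ⋙ Q ≅ P ⋙ r') :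
    (r.Full ∧ r.Faithful) ↔ (r'.Full ∧ r'.Faithful) := by
  constructor
  · rintro ⟨h1, h2⟩
    have j : P.inv ⋙ r ⋙ Q ≅ r' :=
      isoWhiskerLeft P.inv i ≪≫ (Functor.associator _ _ _).symm ≪≫
        isoWhiskerRight P.asEquivalence.counitIso r' ≪≫ r'.leftUnitor
    exact ⟨Functor.Full.of_iso j, Functor.Faithful.of_iso j⟩
  · rintro ⟨h1, h2⟩
    have j : P ⋙ r' ⋙ Q.inv ≅ r :=
      (Functor.associator _ _ _).symm ≪≫ isoWhiskerRight i.symm Q.inv ≪≫
        Functor.associator _ _ _ ≪≫ isoWhiskerLeft r Q.asEquivalence.unitIso.symm ≪≫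
        r.rightUnitor
    exact ⟨Functor.Full.of_iso j, Functor.Faithful.of_iso j⟩

theorem isPrestackFor_iff_of_isEquivOver {U : C} (R : Sieve U) (F : 𝒳 ⥤ᵇ 𝒴)
    (hF : FibCat.IsEquivOver F) : Stk.IsPrestackFor R 𝒳 ↔ Stk.IsPrestackFor R 𝒴 := by
  have h1 := postcomp_isEquivalence (Stk.sieveCat R) F hF
  have h2 := postcomp_isEquivalence (FibCat.overCat U) F hF
  exact full_faithful_of_square (postcomp (FibCat.overCat U) F) (postcomp (Stk.sieveCat R) F)
    (Stk.resSieve R 𝒳) (Stk.resSieve R 𝒴) (resSievePostcompIso R F)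

theorem isPrestack_iff_of_isEquivOver (J : GrothendieckTopology C) (F : 𝒳 ⥤ᵇ 𝒴)
    (hF : FibCat.IsEquivOver F) : Stk.IsPrestack J 𝒳 ↔ Stk.IsPrestack J 𝒴 := by
  unfold Stk.IsPrestack
  rw [IsEquivOver.isFibGrpd_iff hF]
  constructor
  · rintro ⟨h1, h2⟩
    exact ⟨h1, fun U R hR => (isPrestackFor_iff_of_isEquivOver R F hF).mp (h2 R hR)⟩
  · rintro ⟨h1, h2⟩
    exact ⟨h1, fun U R hR => (isPrestackFor_iff_of_isEquivOver R F hF).mpr (h2 R hR)⟩

end Stacks

end Groth.Agent.Lib.Helper80
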