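import Groth.Agent.Lib.Helper80.FibCat

/-!
# Fibrewise criteria for functors between categories fibred in groupoids (helper80)
-/

set_option autoImplicit false
set_option backward.isDefEq.respectTransparency false

universe v₃ u₃ v₂ u₂ v u

open CategoryTheory CategoryTheory.Functor

namespace Groth.Agent.Lib.Helper80

open BasedFunctor

variable {C : Type u} [Category.{v} C]
  {𝒳 : BasedCategory.{v₂, u₂} C} {𝒴 : BasedCategory.{v₃, u₃} C}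

theorem fiberFunctor_faithful_of_faithful (G : 𝒳 ⥤ᵇ 𝒴) [G.toFunctor.Faithful] (U : C) :
    (FibCat.fiberFunctor G U).Faithful where
  map_injective {x y} φ₁ φ₂ h := by
    apply Fiber.hom_ext
    apply G.toFunctor.map_injective
    exact congrArg Subtype.val h

theorem fiberFunctor_full_of_full (G : 𝒳 ⥤ᵇ 𝒴) [G.toFunctor.Full] (U : C) :
    (FibCat.fiberFunctor G U).Full where
  map_surjective {x y} ψ := by
    obtain ⟨φ, hφ⟩ := G.toFunctor.map_surjective ψ.1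
    have : 𝒴.p.IsHomLift (𝟙 U) (G.map φ) := by rw [hφ]; exact ψ.2
    have : 𝒳.p.IsHomLift (𝟙 U) φ := isHomLift_map G (𝟙 U) φ
    exact ⟨⟨φ, inferInstance⟩, Subtype.ext hφ⟩

theorem faithful_of_fiberFunctor_faithful (G : 𝒳 ⥤ᵇ 𝒴) (h𝒳 : FibCat.IsFibGrpd 𝒳.p)
    (h𝒴 : FibCat.IsFibGrpd 𝒴.p) (hG : ∀ U : C, (FibCat.fiberFunctor G U).Faithful) :
    G.toFunctor.Faithful where
  map_injective {a b} φ₁ φ₂ h := by
    have h' : G.map φ₁ = G.map φ₂ := h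
    -- `φ₁` lifts `𝒳.p.map φ₂`
    have h1 : 𝒴.p.IsHomLift (𝒳.p.map φ₂) (G.map φ₁) := by rw [h']; infer_instance
    have h2 : 𝒳.p.IsHomLift (𝒳.p.map φ₂) φ₁ := isHomLift_map G _ φ₁
    have := h𝒳.isStronglyCartesian φ₂
    let χ := IsCartesian.map 𝒳.p (𝒳.p.map φ₂) φ₂ φ₁
    have hχ : χ ≫ φ₂ = φ₁ := IsCartesian.fac 𝒳.p (𝒳.p.map φ₂) φ₂ φ₁
    have := IsFibGrpd.isStronglyCartesian' 𝒴.p h𝒴 (𝒳.p.map φ₂) (G.map φ₂)
    have hGχ : G.map χ = 𝟙 (G.obj a) := by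
      apply IsCartesian.ext 𝒴.p (𝒳.p.map φ₂) (G.map φ₂)
      rw [← Functor.map_comp, hχ, h', Category.id_comp]
    -- view `χ` in the fibre
    have := hG (𝒳.p.obj a)
    let χ' := Fiber.homMk 𝒳.p (𝒳.p.obj a) χ
    have hχ' : χ' = 𝟙 _ := by
      apply (FibCat.fiberFunctor G (𝒳.p.obj a)).map_injective
      apply Fiber.hom_ext
      change G.map χ = G.map (𝟙 a)
      rw [hGχ, Functor.map_id]
    have hχ1 : χ = 𝟙 a := congrArg Subtype.val hχ'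
    rw [← hχ, hχ1, Category.id_comp]

theorem full_of_fiberFunctor_full (G : 𝒳 ⥤ᵇ 𝒴) (h𝒳 : FibCat.IsFibGrpd 𝒳.p)
    (h𝒴 : FibCat.IsFibGrpd 𝒴.p) (hG : ∀ U : C, (FibCat.fiberFunctor G U).Full) :
    G.toFunctor.Full where
  map_surjective {a b} ψ := by
    let f : 𝒳.p.obj a ⟶ 𝒳.p.obj b :=
      eqToHom (G.w_obj a).symm ≫ 𝒴.p.map ψ ≫ eqToHom (G.w_obj b)
    have hψ : 𝒴.p.IsHomLift f ψ := by
      apply IsHomLift.of_fac 𝒴.p f ψ (G.w_obj a) (G.w_obj b) rfl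
    obtain ⟨a', φ₀, hφ₀⟩ := h𝒳.exists_lift (x := b) f
    have := IsFibGrpd.isStronglyCartesian' 𝒴.p h𝒴 f (G.map φ₀)
    let χ := IsCartesian.map 𝒴.p f (G.map φ₀) ψ
    have hχ : χ ≫ G.map φ₀ = ψ := IsCartesian.fac 𝒴.p f (G.map φ₀) ψ
    have := hG (𝒳.p.obj a)
    let x : 𝒳.p.Fiber (𝒳.p.obj a) := Fiber.mk (p := 𝒳.p) (a := a) rfl
    let y : 𝒳.p.Fiber (𝒳.p.obj a) := Fiber.mk (IsHomLift.domain_eq 𝒳.p f φ₀)
    let χ' : (FibCat.fiberFunctor G (𝒳.p.obj a)).obj x ⟶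
        (FibCat.fiberFunctor G (𝒳.p.obj a)).obj y := ⟨χ, inferInstance⟩
    obtain ⟨χ₀, hχ₀⟩ := (FibCat.fiberFunctor G (𝒳.p.obj a)).map_surjective χ'
    have hχ₀' : G.map χ₀.1 = χ := congrArg Subtype.val hχ₀
    refine ⟨χ₀.1 ≫ φ₀, ?_⟩
    change G.map (χ₀.1 ≫ φ₀) = ψ
    rw [Functor.map_comp, hχ₀', hχ]

theorem essSurj_of_fiberFunctor_essSurj (G : 𝒳 ⥤ᵇ 𝒴)
    (hG : ∀ U : C, (FibCat.fiberFunctor G U).EssSurj) : G.toFunctor.EssSurj where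
  mem_essImage y := by
    have := hG (𝒴.p.obj y)
    let y' : 𝒴.p.Fiber (𝒴.p.obj y) := Fiber.mk (p := 𝒴.p) (a := y) rfl
    let x' := (FibCat.fiberFunctor G (𝒴.p.obj y)).objPreimage y'
    let e := (FibCat.fiberFunctor G (𝒴.p.obj y)).objObjPreimageIso y'
    exact ⟨x'.1, ⟨Fiber.fiberInclusion.mapIso e⟩⟩

theorem fiberFunctor_essSurj_of_essSurj (G : 𝒳 ⥤ᵇ 𝒴) (h𝒳 : FibCat.IsFibGrpd 𝒳.p)
    (h𝒴 : FibCat.IsFibGrpd 𝒴.p) [G.toFunctor.EssSurj] (U : C) :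
    (FibCat.fiberFunctor G U).EssSurj where
  mem_essImage y := by
    let x := G.toFunctor.objPreimage y.1
    let θ : G.obj x ≅ y.1 := G.toFunctor.objObjPreimageIso y.1
    let f : U ⟶ 𝒳.p.obj x := eqToHom y.2.symm ≫ 𝒴.p.map θ.inv ≫ eqToHom (G.w_obj x)
    have hθ : 𝒴.p.IsHomLift f θ.inv := IsHomLift.of_fac 𝒴.p f θ.inv y.2 (G.w_obj x) rfl
    obtain ⟨x', φ, hφ⟩ := h𝒳.exists_lift (x := x) f
    have := IsFibGrpd.isStronglyCartesian' 𝒴.p h𝒴 f (G.map φ)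
    let χ := IsCartesian.map 𝒴.p f (G.map φ) θ.inv
    have : IsIso χ := IsFibGrpd.isIso_of_base_isIso 𝒴.p h𝒴 (𝟙 U) χ
    let x'' : 𝒳.p.Fiber U := Fiber.mk (IsHomLift.domain_eq 𝒳.p f φ)
    let χ' : y ⟶ (FibCat.fiberFunctor G U).obj x'' := ⟨χ, inferInstance⟩
    have : IsIso χ'.1 := ‹IsIso χ›
    have : IsIso χ' := fiber_isIso_of_isIso 𝒴.p χ'
    exact ⟨x'', ⟨(asIso χ').symm⟩⟩

theorem isEquivalence_iff_fiberFunctor (G : 𝒳 ⥤ᵇ 𝒴) (h𝒳 : FibCat.IsFibGrpd 𝒳.p)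
    (h𝒴 : FibCat.IsFibGrpd 𝒴.p) :
    G.toFunctor.IsEquivalence ↔ ∀ U : C, (FibCat.fiberFunctor G U).IsEquivalence := by
  constructor
  · intro h U
    exact
      { faithful := fiberFunctor_faithful_of_faithful G U
        full := fiberFunctor_full_of_full G U
        essSurj := fiberFunctor_essSurj_of_essSurj G h𝒳 h𝒴 U }
  · intro h
    exact
      { faithful := faithful_of_fiberFunctor_faithful G h𝒳 h𝒴 (fun U => (h U).faithful)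
        full := full_of_fiberFunctor_full G h𝒳 h𝒴 (fun U => (h U).full)
        essSurj := essSurj_of_fiberFunctor_essSurj G (fun U => (h U).essSurj) }

end Groth.Agent.Lib.Helper80
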