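import Groth.Agent.Lib.Helper80.FibCat21

/-!
# Invariance of "fibred in setoids" under equivalences over `C` (helper80)
-/

set_option autoImplicit false
set_option backward.isDefEq.respectTransparency false

universe v₃ u₃ v₂ u₂ v u

open CategoryTheory CategoryTheory.Functor CategoryTheory.Limits

namespace Groth.Agent.Lib.Helper80

open BasedFunctor

variable {C : Type u} [Category.{v} C]
  {𝒳 : BasedCategory.{v₂, u₂} C} {𝒴 : BasedCategory.{v₃, u₃} C}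

theorem IsFFEssSurjOver.isFibSetoid_of {F : 𝒳 ⥤ᵇ 𝒴} (hF : IsFFEssSurjOver F)
    (h𝒴 : FibCat.IsFibSetoid 𝒴.p) : FibCat.IsFibSetoid 𝒳.p := by
  refine ⟨IsFFEssSurjOver.isFibGrpd_of hF h𝒴.1, fun U => fun x x' => ⟨fun φ φ' => ?_⟩⟩
  have := hF.faithful
  have h1 : 𝒳.p.IsHomLift (𝟙 U) φ.1 := φ.2
  have h2 : 𝒳.p.IsHomLift (𝟙 U) φ'.1 := φ'.2
  apply Subtype.ext
  apply F.toFunctor.map_injective
  exact IsFibSetoid.hom_ext h𝒴 (𝟙 U) (F.map φ.1) (F.map φ'.1)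

theorem IsEquivOver.isFibSetoid_iff {F : 𝒳 ⥤ᵇ 𝒴} (hF : FibCat.IsEquivOver F) :
    FibCat.IsFibSetoid 𝒳.p ↔ FibCat.IsFibSetoid 𝒴.p := by
  obtain ⟨F', hF', -, -⟩ := IsEquivOver.symm hF
  exact ⟨fun h => IsFFEssSurjOver.isFibSetoid_of (IsEquivOver.isFFEssSurjOver hF') h,
    fun h => IsFFEssSurjOver.isFibSetoid_of (IsEquivOver.isFFEssSurjOver hF) h⟩

end Groth.Agent.Lib.Helper80
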