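import Groth.Agent.Lib.Helper80.AlgStFp2
import Groth.Agent.Lib.Helper80.FibCat22

/-!
# Categories of presheaves are fibred in setoids; consequences for representability by algebraic
spaces (helper80)
-/

set_option autoImplicit false
set_option backward.isDefEq.respectTransparency false

universe w v u

open CategoryTheory CategoryTheory.Functor CategoryTheory.Limits Opposite

namespace Groth.Agent.Lib.Helper80

open BasedFunctor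

section OfPsh

variable {C : Type u} [Category.{v} C] (P : Cᵒᵖ ⥤ Type w)

instance ofPsh_faithful : (Stk.EltObj.forget P).Faithful where
  map_injective h := Stk.EltObj.hom_ext h

theorem ofPsh_isFibSetoid : FibCat.IsFibSetoid (Stk.ofPsh P).p := by
  refine ⟨Stk.isFibGrpd_ofPsh P, fun U x y => ⟨fun φ ψ => ?_⟩⟩
  have h1 : (Stk.EltObj.forget P).IsHomLift (𝟙 U) φ.1 := φ.2
  have h2 : (Stk.EltObj.forget P).IsHomLift (𝟙 U) ψ.1 := ψ.2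
  apply Subtype.ext
  exact eq_of_isHomLift_of_faithful (Stk.EltObj.forget P) (𝟙 U) φ.1 ψ.1

end OfPsh

section Yoneda

variable {C : Type u} [Category.{v} C] {𝒴 : BasedCategory.{v, max u v} C}

/-- A functor `C/U ⟶ 𝒴` over `C` whose value at the identity is a given object over `U`. -/
theorem exists_yoneda [𝒴.p.IsFibered] {U : C} (y : 𝒴.obj) (hy : 𝒴.p.obj y = U) :
    ∃ (Y : FibCat.overCat U ⥤ᵇ 𝒴) (ζ : Y.obj (Over.mk (𝟙 U)) ≅ y), 𝒴.p.IsHomLift (𝟙 U) ζ.hom := by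
  obtain ⟨e⟩ := nonempty_evalAtId_yonedaFunctor_iso y hy
  exact ⟨yonedaFunctor y hy, Functor.Fiber.fiberInclusion.mapIso e, e.hom.2⟩

end Yoneda

section Faithful

variable {C : Type u} [Category.{v} C] {𝒳 𝒴 : BasedCategory.{v, max u v} C}

/-- If every base change of `f` to a slice is fibred in setoids, `f` is faithful. -/
theorem faithful_of_isFibSetoid_fp (h𝒳 : FibCat.IsFibGrpd 𝒳.p) (h𝒴 : FibCat.IsFibGrpd 𝒴.p)
    (f : 𝒳 ⥤ᵇ 𝒴)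
    (hf : ∀ (U : C) (y : FibCat.overCat U ⥤ᵇ 𝒴), FibCat.IsFibSetoid (FibCat.fp y f).p) :
    f.toFunctor.Faithful := by
  have := IsFibGrpd.isFibered 𝒴.p h𝒴
  apply faithful_of_fiberFunctor_faithful f h𝒳 h𝒴
  intro U
  refine ⟨fun {x x'} χ₁ χ₂ h => ?_⟩
  have h12 : f.map χ₁.1 = f.map χ₂.1 := congrArg Subtype.val h
  have hl1 : 𝒳.p.IsHomLift (𝟙 U) χ₁.1 := χ₁.2
  have hl2 : 𝒳.p.IsHomLift (𝟙 U) χ₂.1 := χ₂.2
  have hfx' : 𝒴.p.obj (f.obj x'.1) = U := (f.w_obj x'.1).trans x'.2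
  obtain ⟨Y, ζ, hζ⟩ := exists_yoneda (f.obj x'.1) hfx'
  let u₀ : Over U := Over.mk (𝟙 U)
  have hψl : 𝒴.p.IsHomLift (𝟙 U) (f.map χ₁.1) := inferInstance
  have : IsIso (f.map χ₁.1) := IsFibGrpd.isIso_of_base_isIso 𝒴.p h𝒴 (𝟙 U) (f.map χ₁.1)
  let ψ : f.obj x.1 ≅ f.obj x'.1 := asIso (f.map χ₁.1)
  have hψh : 𝒴.p.IsHomLift (𝟙 U) ψ.hom := hψl
  have hψi : 𝒴.p.IsHomLift (𝟙 U) ψ.inv := IsHomLift.lift_id_inv 𝒴.p U ψ
  have hQ : 𝒴.p.IsHomLift (𝟙 ((FibCat.overCat U).p.obj u₀)) (ζ ≪≫ ψ.symm).hom :=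
    comp_isHomLift_id 𝒴.p ζ.hom ψ.inv (S := U)
  let Q : (FibCat.fp Y f).obj := ⟨⟨u₀, x.1, ζ ≪≫ ψ.symm⟩, hQ⟩
  let Q' : (FibCat.fp Y f).obj := ⟨⟨u₀, x'.1, ζ⟩, hζ⟩
  have w1 : Y.map (𝟙 u₀) ≫ ζ.hom = (ζ.hom ≫ ψ.inv) ≫ f.map χ₁.1 := by
    rw [CategoryTheory.Functor.map_id, Category.id_comp, Category.assoc]
    change _ = ζ.hom ≫ (ψ.inv ≫ ψ.hom)
    rw [ψ.inv_hom_id, Category.comp_id]
  have w2 : Y.map (𝟙 u₀) ≫ ζ.hom = (ζ.hom ≫ ψ.inv) ≫ f.map χ₂.1 := by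
    rw [← h12]; exact w1
  let m₁ : Q ⟶ Q' := ObjectProperty.homMk ⟨𝟙 u₀, χ₁.1, w1⟩
  let m₂ : Q ⟶ Q' := ObjectProperty.homMk ⟨𝟙 u₀, χ₂.1, w2⟩
  have l1 : (FibCat.fp Y f).p.IsHomLift (𝟙 U) m₁ := by
    rw [fp_isHomLift_iff]
    exact IsHomLift.id rfl
  have l2 : (FibCat.fp Y f).p.IsHomLift (𝟙 U) m₂ := by
    rw [fp_isHomLift_iff]
    exact IsHomLift.id rfl
  have hm : m₁ = m₂ := IsFibSetoid.hom_ext (hf U Y) (𝟙 U) m₁ m₂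
  apply Subtype.ext
  exact congrArg (fun k => k.hom.snd) hm

end Faithful

section AlgSt

open AlgebraicGeometry

variable {S : Scheme.{u}}

theorem isFibSetoid_of_repByAlgSp {𝒳 : AlgSt.Cat S} (hr : AlgSt.RepByAlgSp 𝒳) :
    FibCat.IsFibSetoid 𝒳.p := by
  obtain ⟨F, e, he⟩ := hr
  exact (IsEquivOver.isFibSetoid_iff he).mp (ofPsh_isFibSetoid _)

theorem faithful_of_repByAlgSp1 {𝒳 𝒴 : AlgSt.Cat S}
    (h𝒳 : FibCat.IsFibGrpd 𝒳.p) (h𝒴 : FibCat.IsFibGrpd 𝒴.p) (f : 𝒳 ⥤ᵇ 𝒴)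
    (hf : AlgSt.RepByAlgSp1 f) : f.toFunctor.Faithful :=
  faithful_of_isFibSetoid_fp h𝒳 h𝒴 f (fun U y => isFibSetoid_of_repByAlgSp (hf U y))

end AlgSt

end Groth.Agent.Lib.Helper80
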