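import Groth.Agent.Lib.Helper80.FibCat23
import Groth.Agent.Lib.Helper80.AlgStFp3

/-!
# Locally essentially surjective fully faithful functors between stacks are equivalences (helper80)
-/

set_option autoImplicit false
set_option backward.isDefEq.respectTransparency false

universe v₅ u₅ v₄ u₄ v₃ u₃ v₂ u₂ v u

open CategoryTheory CategoryTheory.Functor CategoryTheory.Limits

namespace Groth.Agent.Lib.Helper80

open BasedFunctor

variable {C : Type u} [Category.{v} C]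

section FpFstFF

variable {𝒳 : BasedCategory.{v₂, u₂} C} {𝒴 : BasedCategory.{v₃, u₃} C} {𝒮 : BasedCategory.{v₄, u₄} C}
  (F : 𝒳 ⥤ᵇ 𝒮) (G : 𝒴 ⥤ᵇ 𝒮)

theorem fpFst_faithful_of_faithful [G.toFunctor.Faithful] : (FibCat.fpFst F G).toFunctor.Faithful where
  map_injective {P Q} m m' h := by
    have h1 : m.hom.fst = m'.hom.fst := h
    have w := m.hom.w
    have w' := m'.hom.w
    have h2 : G.map m.hom.snd = G.map m'.hom.snd := by
      have e1 : P.obj.iso.hom ≫ G.map m.hom.snd = P.obj.iso.hom ≫ G.map m'.hom.snd := by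
        rw [← w, ← w', h1]
      exact (cancel_epi P.obj.iso.hom).mp e1
    apply ObjectProperty.hom_ext
    apply CategoricalPullback.hom_ext
    · exact h1
    · exact G.toFunctor.map_injective h2

theorem fpFst_full_of_full [G.toFunctor.Full] : (FibCat.fpFst F G).toFunctor.Full where
  map_surjective {P Q} φ := by
    obtain ⟨ψ, hψ⟩ := G.toFunctor.map_surjective (P.obj.iso.inv ≫ F.map φ ≫ Q.obj.iso.hom)
    have hψ' : G.map ψ = P.obj.iso.inv ≫ F.map φ ≫ Q.obj.iso.hom := hψ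
    refine ⟨ObjectProperty.homMk ⟨φ, ψ, ?_⟩, rfl⟩
    rw [hψ']; simp

end FpFstFF

section LocallyEssSurj

variable {𝒳 𝒴 : BasedCategory.{v, max u v} C}

/-- A fully faithful functor over `C` between stacks in groupoids which is locally essentially
surjective is an equivalence over `C`. Only the gluing of objects in `𝒳` and of morphisms in `𝒴`
is used. -/
theorem isEquivOver_of_locally_essSurj (J : GrothendieckTopology C)
    (h𝒳 : Stk.IsStack J 𝒳) (h𝒴 : Stk.IsStack J 𝒴) (F : 𝒳 ⥤ᵇ 𝒴)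
    [F.toFunctor.Full] [F.toFunctor.Faithful]
    (hloc : ∀ y : 𝒴.obj, ∃ R ∈ J (𝒴.p.obj y), ∀ ⦃V : C⦄ (f : V ⟶ 𝒴.p.obj y), R f →
      ∃ (x : 𝒳.obj) (φ : F.obj x ⟶ y), 𝒴.p.IsHomLift f φ) :
    FibCat.IsEquivOver F := by
  refine IsFFEssSurjOver.isEquivOver ⟨inferInstance, inferInstance, fun y => ?_⟩
  obtain ⟨R, hR, hloc⟩ := hloc y
  have := IsFibGrpd.isFibered 𝒴.p h𝒴.1
  obtain ⟨Y, ζ, hζ⟩ := exists_yoneda y rfl
  let U := 𝒴.p.obj y
  let ι : Stk.sieveCat R ⥤ᵇ FibCat.overCat U := Stk.sieveIncl R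
  let Yι := BasedFunctor.comp ι Y
  -- the first projection of `R ×_𝒴 𝒳` is an equivalence over `C`
  have hpr₁ : FibCat.IsEquivOver (FibCat.fpFst Yι F) := by
    refine IsFFEssSurjOver.isEquivOver ⟨fpFst_full_of_full Yι F, fpFst_faithful_of_faithful Yι F,
      fun r => ?_⟩
    obtain ⟨x, φ, hφ⟩ := hloc r.obj.hom r.property
    let φ' : Y.obj r.obj ⟶ y := Y.map (toId U r.obj) ≫ ζ.hom
    have hφ' : 𝒴.p.IsHomLift r.obj.hom φ' := by
      have h1 : 𝒴.p.IsHomLift r.obj.hom (Y.map (toId U r.obj)) := map_toId_isHomLift Y r.obj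
      have h2 : 𝒴.p.IsHomLift (r.obj.hom ≫ 𝟙 U) (Y.map (toId U r.obj) ≫ ζ.hom) := inferInstance
      rw [Category.comp_id] at h2
      exact h2
    have c1 : 𝒴.p.IsStronglyCartesian r.obj.hom φ :=
      IsFibGrpd.isStronglyCartesian' 𝒴.p h𝒴.1 _ _
    have c2 : 𝒴.p.IsStronglyCartesian r.obj.hom φ' :=
      IsFibGrpd.isStronglyCartesian' 𝒴.p h𝒴.1 _ _
    let θ : Y.obj r.obj ≅ F.obj x := IsCartesian.domainUniqueUpToIso 𝒴.p r.obj.hom φ φ'
    have hθ : 𝒴.p.IsHomLift (𝟙 r.obj.left) θ.hom := inferInstance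
    let P : (FibCat.fp Yι F).obj := ⟨⟨r, x, θ⟩, hθ⟩
    exact ⟨P, Iso.refl r, IsHomLift.id rfl⟩
  obtain ⟨s, -, ⟨ε⟩⟩ := hpr₁
  let D : Stk.sieveCat R ⥤ᵇ 𝒳 := BasedFunctor.comp s (FibCat.fpSnd Yι F)
  let k : BasedFunctor.comp D F ≅ Yι :=
    (whiskerLeftIso s (FibCat.fpIso Yι F).symm : _ ≅
      BasedFunctor.comp (BasedFunctor.comp s (FibCat.fpFst Yι F)) Yι) ≪≫ whiskerRightIso ε Yι
  -- glue the objects
  have hX : (Stk.resSieve R 𝒳).IsEquivalence := h𝒳.2 R hR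
  have hY : (Stk.resSieve R 𝒴).IsEquivalence := h𝒴.2 R hR
  let G : FibCat.overCat U ⥤ᵇ 𝒳 := (Stk.resSieve R 𝒳).objPreimage D
  let i : BasedFunctor.comp ι G ≅ D := (Stk.resSieve R 𝒳).objObjPreimageIso D
  let ē : (Stk.resSieve R 𝒴).obj (BasedFunctor.comp G F) ≅ (Stk.resSieve R 𝒴).obj Y :=
    whiskerRightIso i F ≪≫ k
  let j : BasedFunctor.comp G F ≅ Y := (Stk.resSieve R 𝒴).preimageIso ē
  let x : 𝒳.obj := G.obj (Over.mk (𝟙 U))
  have h1 : 𝒴.p.IsHomLift (𝟙 U) (appIso j (Over.mk (𝟙 U))).hom :=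
    iso_hom_app_isHomLift j _ rfl
  exact ⟨x, appIso j (Over.mk (𝟙 U)) ≪≫ ζ, comp_isHomLift_id 𝒴.p _ ζ.hom (S := U)⟩

end LocallyEssSurj

end Groth.Agent.Lib.Helper80
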