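import Groth.Agent.Lib.Helper80.FibCat6

/-!
# The diagonal of a functor over `C` (helper80)
-/

set_option autoImplicit false
set_option backward.isDefEq.respectTransparency false

universe v₃ u₃ v₂ u₂ v u

open CategoryTheory CategoryTheory.Functor CategoryTheory.Limits

namespace Groth.Agent.Lib.Helper80

open BasedFunctor

variable {C : Type u} [Category.{v} C]
  {𝒳 : BasedCategory.{v₂, u₂} C} {𝒴 : BasedCategory.{v₃, u₃} C} (G : 𝒳 ⥤ᵇ 𝒴)

@[simp] theorem diag_obj_fst (x : 𝒳.obj) : ((FibCat.diag G).obj x).obj.fst = x := rfl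
@[simp] theorem diag_obj_snd (x : 𝒳.obj) : ((FibCat.diag G).obj x).obj.snd = x := rfl
@[simp] theorem diag_obj_iso_hom (x : 𝒳.obj) :
    ((FibCat.diag G).obj x).obj.iso.hom = 𝟙 (G.obj x) := rfl
@[simp] theorem diag_obj_iso_inv (x : 𝒳.obj) :
    ((FibCat.diag G).obj x).obj.iso.inv = 𝟙 (G.obj x) := rfl
@[simp] theorem diag_map_fst {x y : 𝒳.obj} (g : x ⟶ y) : ((FibCat.diag G).map g).hom.fst = g := rfl
@[simp] theorem diag_map_snd {x y : 𝒳.obj} (g : x ⟶ y) : ((FibCat.diag G).map g).hom.snd = g := rfl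

theorem diag_isFFEssSurjOver [G.toFunctor.Full] [G.toFunctor.Faithful] :
    IsFFEssSurjOver (FibCat.diag G) where
  faithful := ⟨fun {x y} g₁ g₂ h => by
    have := congrArg (fun m => m.hom.fst) h
    simpa using this⟩
  full := ⟨fun {x y} m => by
    have hw := m.hom.w
    have h1 : G.map m.hom.fst = G.map m.hom.snd := by simpa using hw
    have h2 : m.hom.fst = m.hom.snd := G.toFunctor.map_injective h1
    refine ⟨m.hom.fst, ?_⟩
    apply ObjectProperty.hom_ext
    apply CategoricalPullback.hom_ext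
    · rfl
    · exact h2⟩
  essSurj := fun P => by
    let e : P.obj.fst ≅ P.obj.snd := G.toFunctor.preimageIso P.obj.iso
    let θ : (FibCat.diag G).obj P.obj.fst ≅ P :=
      ObjectProperty.isoMk _ (CategoricalPullback.mkIso (Iso.refl _) e (by simp [e]))
    refine ⟨P.obj.fst, θ, ?_⟩
    rw [fp_isHomLift_iff]
    change 𝒳.p.IsHomLift (𝟙 (𝒳.p.obj P.obj.fst)) (𝟙 P.obj.fst)
    infer_instance

theorem diag_isEquivOver_of_full_faithful [G.toFunctor.Full] [G.toFunctor.Faithful] :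
    FibCat.IsEquivOver (FibCat.diag G) :=
  (diag_isFFEssSurjOver G).isEquivOver

theorem fiberFunctor_faithful_of_diag (h : FibCat.IsEquivOver (FibCat.diag G)) (U : C) :
    (FibCat.fiberFunctor G U).Faithful where
  map_injective {x y} χ₁ χ₂ hχ := by
    have hfull := (IsEquivOver.isFFEssSurjOver h).full
    have h1 : G.map χ₁.1 = G.map χ₂.1 := congrArg Subtype.val hχ
    let m : (FibCat.diag G).obj x.1 ⟶ (FibCat.diag G).obj y.1 :=
      ObjectProperty.homMk ⟨χ₁.1, χ₂.1, by simpa using h1⟩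
    obtain ⟨ψ, hψ⟩ := (FibCat.diag G).toFunctor.map_surjective m
    have e1 : ψ = χ₁.1 := by
      have := congrArg (fun m => m.hom.fst) hψ
      simpa [m] using this
    have e2 : ψ = χ₂.1 := by
      have := congrArg (fun m => m.hom.snd) hψ
      simpa [m] using this
    exact Subtype.ext (e1.symm.trans e2)

theorem fiberFunctor_full_of_diag (h𝒴 : FibCat.IsFibGrpd 𝒴.p)
    (h : FibCat.IsEquivOver (FibCat.diag G)) (U : C) :
    (FibCat.fiberFunctor G U).Full where
  map_surjective {x y} ψ := by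
    have hess := (IsEquivOver.isFFEssSurjOver h).essSurj
    have hψl : 𝒴.p.IsHomLift (𝟙 U) ψ.1 := ψ.2
    have : IsIso ψ.1 := IsFibGrpd.isIso_of_base_isIso 𝒴.p h𝒴 (𝟙 U) ψ.1
    have hprop : 𝒴.p.IsHomLift (𝟙 (𝒳.p.obj x.1)) (asIso ψ.1).hom := by
      have : 𝒴.p.IsHomLift (𝟙 U) (asIso ψ.1).hom := hψl
      exact isHomLift_id_of_eq 𝒴.p x.2.symm _
    let P : (FibCat.fp G G).obj := ⟨⟨x.1, y.1, asIso ψ.1⟩, hprop⟩
    obtain ⟨z, θ, hθ⟩ := hess P
    let α' : x.1 ⟶ z := θ.inv.hom.fst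
    let β : z ⟶ y.1 := θ.hom.hom.snd
    have hw : G.map θ.hom.hom.fst ≫ ψ.1 = G.map β := by
      have := θ.hom.hom.w
      simpa [P] using this
    have hinv : α' ≫ θ.hom.hom.fst = 𝟙 x.1 := by
      have := congrArg (fun m => m.hom.fst) θ.inv_hom_id
      exact this
    have hG : G.map (α' ≫ β) = ψ.1 := by
      rw [Functor.map_comp, ← hw, ← Category.assoc, ← Functor.map_comp, hinv, Functor.map_id,
        Category.id_comp]
    have hl : 𝒴.p.IsHomLift (𝟙 U) (G.map (α' ≫ β)) := by rw [hG]; exact hψl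
    have hl' : 𝒳.p.IsHomLift (𝟙 U) (α' ≫ β) := isHomLift_map G _ _
    exact ⟨⟨α' ≫ β, hl'⟩, Subtype.ext hG⟩

theorem full_faithful_iff_isEquivOver_diag (h𝒳 : FibCat.IsFibGrpd 𝒳.p)
    (h𝒴 : FibCat.IsFibGrpd 𝒴.p) :
    (G.toFunctor.Full ∧ G.toFunctor.Faithful) ↔ FibCat.IsEquivOver (FibCat.diag G) := by
  constructor
  · rintro ⟨h1, h2⟩
    exact diag_isEquivOver_of_full_faithful G
  · intro h
    exact ⟨full_of_fiberFunctor_full G h𝒳 h𝒴 (fiberFunctor_full_of_diag G h𝒴 h),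
      faithful_of_fiberFunctor_faithful G h𝒳 h𝒴 (fiberFunctor_faithful_of_diag G h)⟩

end Groth.Agent.Lib.Helper80
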