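import Groth.Agent.Lib.Helper80.FibCat4

/-!
# The 2-Yoneda lemma for fibred categories (helper80)
-/

set_option autoImplicit false
set_option backward.isDefEq.respectTransparency false

universe v₂ u₂ v u

open CategoryTheory CategoryTheory.Functor CategoryTheory.Limits

namespace Groth.Agent.Lib.Helper80

open BasedFunctor

variable {C : Type u} [Category.{v} C] {𝒳 : BasedCategory.{v₂, u₂} C} (U : C)

/-- The terminal map of an object of `C/U`. -/
def toId (X : Over U) : X ⟶ Over.mk (𝟙 U) := Over.homMk X.hom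

@[simp] theorem toId_left (X : Over U) : (toId U X).left = X.hom := rfl

@[simp] theorem comp_toId {X Y : Over U} (w : X ⟶ Y) : w ≫ toId U Y = toId U X := by
  ext; simp

@[simp] theorem toId_mk_id : toId U (Over.mk (𝟙 U)) = 𝟙 _ := by
  ext; simp

/-- Every morphism of `C/U` is strongly cartesian for the forgetful functor. -/
theorem over_isStronglyCartesian {X Y : Over U} (w : X ⟶ Y) :
    (Over.forget U).IsStronglyCartesian w.left w := by
  have : (Over.forget U).IsHomLift w.left w := IsHomLift.map (Over.forget U) w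
  refine ⟨fun {Z} g ψ hψ => ?_⟩
  have h1 : g ≫ w.left = ψ.left := IsHomLift.eq_of_isHomLift (Over.forget U) (g ≫ w.left) ψ
  have h2 : g ≫ X.hom = Z.hom := by
    rw [← Over.w w, ← Category.assoc, h1, Over.w ψ]
  refine ⟨Over.homMk g h2, ⟨?_, ?_⟩, ?_⟩
  · exact IsHomLift.map (Over.forget U) (Over.homMk g h2)
  · ext; simpa using h1
  · rintro χ' ⟨hχ'1, -⟩
    ext
    have := IsHomLift.eq_of_isHomLift (Over.forget U) g χ'
    simpa using this.symm

section Aux

variable {U}
variable (G H : FibCat.overCat U ⥤ᵇ 𝒳)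

theorem map_toId_isHomLift (X : Over U) : 𝒳.p.IsHomLift X.hom (G.map (toId U X)) := by
  have : (FibCat.overCat U).p.IsHomLift X.hom (toId U X) :=
    IsHomLift.map (Over.forget U) (toId U X)
  infer_instance

theorem map_isHomLift_left {X Y : Over U} (w : X ⟶ Y) : 𝒳.p.IsHomLift w.left (G.map w) := by
  have : (FibCat.overCat U).p.IsHomLift w.left w := IsHomLift.map (Over.forget U) w
  infer_instance

theorem app_isHomLift_left {G H : FibCat.overCat U ⥤ᵇ 𝒳} (α : G ⟶ H) (X : Over U) :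
    𝒳.p.IsHomLift (𝟙 X.left) (α.toNatTrans.app X) := α.isHomLift' X

theorem evalAtId_faithful_aux
    (hH : ∀ X : Over U, 𝒳.p.IsStronglyCartesian X.hom (H.map (toId U X)))
    (α β : G ⟶ H)
    (h : α.toNatTrans.app (Over.mk (𝟙 U)) = β.toNatTrans.app (Over.mk (𝟙 U))) : α = β := by
  apply BasedNatTrans.ext
  ext X
  have := hH X
  have := app_isHomLift_left α X
  have := app_isHomLift_left β X
  apply IsCartesian.ext 𝒳.p X.hom (H.map (toId U X))
  have e1 := α.toNatTrans.naturality (toId U X)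
  have e2 := β.toNatTrans.naturality (toId U X)
  rw [← e1, ← e2, h]

theorem evalAtId_full_aux
    (hH : ∀ X : Over U, 𝒳.p.IsStronglyCartesian X.hom (H.map (toId U X)))
    (m : G.obj (Over.mk (𝟙 U)) ⟶ H.obj (Over.mk (𝟙 U))) [hm : 𝒳.p.IsHomLift (𝟙 U) m] :
    ∃ α : G ⟶ H, α.toNatTrans.app (Over.mk (𝟙 U)) = m := by
  have hl : ∀ X : Over U, 𝒳.p.IsHomLift X.hom (G.map (toId U X) ≫ m) := by
    intro X
    have := map_toId_isHomLift G X
    infer_instance
  let a : ∀ X : Over U, G.obj X ⟶ H.obj X := fun X =>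
    have := hH X
    have := hl X
    IsCartesian.map 𝒳.p X.hom (H.map (toId U X)) (G.map (toId U X) ≫ m)
  have ha : ∀ X : Over U, a X ≫ H.map (toId U X) = G.map (toId U X) ≫ m := by
    intro X
    have := hH X
    have := hl X
    exact IsCartesian.fac 𝒳.p X.hom (H.map (toId U X)) (G.map (toId U X) ≫ m)
  have hal : ∀ X : Over U, 𝒳.p.IsHomLift (𝟙 X.left) (a X) := by
    intro X
    have := hH X
    have := hl X
    exact IsCartesian.map_isHomLift 𝒳.p X.hom (H.map (toId U X)) (G.map (toId U X) ≫ m)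
  have hnat : ∀ {X Y : Over U} (w : X ⟶ Y), G.map w ≫ a Y = a X ≫ H.map w := by
    intro X Y w
    have := hH Y
    have := hal X
    have := hal Y
    have := map_isHomLift_left G w
    have := map_isHomLift_left H w
    have l1 : 𝒳.p.IsHomLift w.left (G.map w ≫ a Y) := inferInstance
    have l2 : 𝒳.p.IsHomLift w.left (a X ≫ H.map w) := inferInstance
    apply IsStronglyCartesian.ext 𝒳.p Y.hom (H.map (toId U Y)) w.left
    rw [Category.assoc, Category.assoc, ha Y, ← Functor.map_comp, comp_toId, ha X,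
      ← Category.assoc, ← Functor.map_comp, comp_toId]
  let α : G ⟶ H :=
    { toNatTrans := { app := a, naturality := fun X Y w => hnat w }
      isHomLift' := fun X => hal X }
  refine ⟨α, ?_⟩
  change a (Over.mk (𝟙 U)) = m
  have := hH (Over.mk (𝟙 U))
  have := hl (Over.mk (𝟙 U))
  have : 𝒳.p.IsHomLift (𝟙 (Over.mk (𝟙 U)).left) m := hm
  symm
  apply IsCartesian.map_uniq 𝒳.p (Over.mk (𝟙 U)).hom (H.map (toId U (Over.mk (𝟙 U))))
  simp

end Aux

section Construction

variable {U}
variable [𝒳.p.IsFibered] (x : 𝒳.obj) (hx : 𝒳.p.obj x = U)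

/-- The action on morphisms of `yonedaFunctor`. -/
noncomputable def yMap {X Y : Over U} (w : X ⟶ Y) :
    IsPreFibered.pullbackObj hx X.hom ⟶ IsPreFibered.pullbackObj hx Y.hom :=
  IsStronglyCartesian.map 𝒳.p Y.hom (IsPreFibered.pullbackMap hx Y.hom) (g := w.left)
    (Over.w w).symm (IsPreFibered.pullbackMap hx X.hom)

instance yMap_isHomLift {X Y : Over U} (w : X ⟶ Y) : 𝒳.p.IsHomLift w.left (yMap x hx w) := by
  unfold yMap; infer_instance

theorem yMap_fac {X Y : Over U} (w : X ⟶ Y) :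
    yMap x hx w ≫ IsPreFibered.pullbackMap hx Y.hom = IsPreFibered.pullbackMap hx X.hom :=
  IsStronglyCartesian.fac 𝒳.p Y.hom (IsPreFibered.pullbackMap hx Y.hom) (Over.w w).symm
    (IsPreFibered.pullbackMap hx X.hom)

theorem yMap_uniq {X Y : Over U} (w : X ⟶ Y)
    (ψ : IsPreFibered.pullbackObj hx X.hom ⟶ IsPreFibered.pullbackObj hx Y.hom)
    [𝒳.p.IsHomLift w.left ψ]
    (hψ : ψ ≫ IsPreFibered.pullbackMap hx Y.hom = IsPreFibered.pullbackMap hx X.hom) :
    ψ = yMap x hx w :=
  IsStronglyCartesian.map_uniq 𝒳.p Y.hom (IsPreFibered.pullbackMap hx Y.hom) (Over.w w).symm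
    (IsPreFibered.pullbackMap hx X.hom) ψ hψ

theorem yMap_id (X : Over U) : yMap x hx (𝟙 X) = 𝟙 _ := by
  symm
  have : 𝒳.p.IsHomLift (𝟙 X : X ⟶ X).left (𝟙 (IsPreFibered.pullbackObj hx X.hom)) :=
    IsHomLift.id (IsPreFibered.pullbackObj_proj hx X.hom)
  apply yMap_uniq
  simp

theorem yMap_comp {X Y Z : Over U} (w : X ⟶ Y) (w' : Y ⟶ Z) :
    yMap x hx (w ≫ w') = yMap x hx w ≫ yMap x hx w' := by
  symm
  have : 𝒳.p.IsHomLift (w ≫ w').left (yMap x hx w ≫ yMap x hx w') := by
    have : 𝒳.p.IsHomLift (w.left ≫ w'.left) (yMap x hx w ≫ yMap x hx w') := inferInstance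
    exact this
  apply yMap_uniq
  rw [Category.assoc, yMap_fac, yMap_fac]

/-- The functor `C/U ⥤ 𝒳` over `C` attached to an object `x` over `U`, by a choice of
pullbacks. -/
noncomputable def yonedaFunctor : FibCat.overCat U ⥤ᵇ 𝒳 where
  toFunctor :=
    { obj := fun (X : Over U) => IsPreFibered.pullbackObj hx X.hom
      map := fun {X Y : Over U} (w : X ⟶ Y) => yMap x hx w
      map_id := fun (X : Over U) => yMap_id x hx X
      map_comp := fun {X Y Z : Over U} w w' => yMap_comp x hx w w' }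
  w := by
    refine Functor.ext (fun (X : Over U) => IsPreFibered.pullbackObj_proj hx X.hom) ?_
    intro (X : Over U) (Y : Over U) (w : X ⟶ Y)
    exact IsHomLift.fac' 𝒳.p w.left (yMap x hx w)

theorem yonedaFunctor_map_fac {X Y : Over U} (w : X ⟶ Y) :
    (yonedaFunctor x hx).map w ≫ IsPreFibered.pullbackMap hx Y.hom =
      IsPreFibered.pullbackMap hx X.hom :=
  yMap_fac x hx w

theorem yonedaFunctor_map_isStronglyCartesian {X Y : Over U} (w : X ⟶ Y) :
    𝒳.p.IsStronglyCartesian w.left ((yonedaFunctor x hx).map w) := by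
  have := map_isHomLift_left (yonedaFunctor x hx) w
  have h : 𝒳.p.IsStronglyCartesian (w.left ≫ Y.hom)
      ((yonedaFunctor x hx).map w ≫ IsPreFibered.pullbackMap hx Y.hom) := by
    rw [yonedaFunctor_map_fac, Over.w w]; infer_instance
  exact IsStronglyCartesian.of_comp 𝒳.p (g := Y.hom) (ψ := IsPreFibered.pullbackMap hx Y.hom)

theorem yonedaFunctor_preserves : FibCat.PreservesStronglyCartesian (yonedaFunctor x hx) := by
  intro R S f X Y w hw
  have : (Over.forget U).IsHomLift f w := hw.toIsHomLift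
  subst_hom_lift (Over.forget U) f w
  exact yonedaFunctor_map_isStronglyCartesian x hx w

/-- Evaluating `yonedaFunctor x` at the identity gives back `x` up to isomorphism in the
fibre. -/
theorem nonempty_evalAtId_yonedaFunctor_iso :
    Nonempty ((FibCat.evalAtId 𝒳 U).obj (yonedaFunctor x hx) ≅ Fiber.mk hx) := by
  let φ := IsPreFibered.pullbackMap hx (Over.mk (𝟙 U)).hom
  have h0 : 𝒳.p.IsCartesian (Over.mk (𝟙 U)).hom φ := inferInstance
  have h1 : 𝒳.p.IsStronglyCartesian (𝟙 U) φ := by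
    have : 𝒳.p.IsCartesian (𝟙 U) φ := h0
    infer_instance
  have : IsIso φ := IsStronglyCartesian.isIso_of_base_isIso 𝒳.p (𝟙 U) φ
  let φ' : (FibCat.evalAtId 𝒳 U).obj (yonedaFunctor x hx) ⟶ Fiber.mk hx := ⟨φ, inferInstance⟩
  have : IsIso φ'.1 := ‹IsIso φ›
  have := fiber_isIso_of_isIso 𝒳.p φ'
  exact ⟨asIso φ'⟩

end Construction

/-- 2-Yoneda for categories fibred in groupoids. -/
theorem evalAtId_isEquivalence_of_isFibGrpd (h𝒳 : FibCat.IsFibGrpd 𝒳.p) :
    (FibCat.evalAtId 𝒳 U).IsEquivalence := by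
  have hsc : ∀ (H : FibCat.overCat U ⥤ᵇ 𝒳) (X : Over U),
      𝒳.p.IsStronglyCartesian X.hom (H.map (toId U X)) := by
    intro H X
    have := map_toId_isHomLift H X
    exact IsFibGrpd.isStronglyCartesian' 𝒳.p h𝒳 _ _
  have := IsFibGrpd.isFibered 𝒳.p h𝒳
  exact
    { faithful := ⟨fun {G H} α β h => evalAtId_faithful_aux G H (hsc H) α β
        (congrArg Subtype.val h)⟩
      full := ⟨fun {G H} m => by
        have : 𝒳.p.IsHomLift (𝟙 U) m.1 := m.2
        obtain ⟨α, hα⟩ := evalAtId_full_aux G H (hsc H) m.1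
        exact ⟨α, Subtype.ext hα⟩⟩
      essSurj := ⟨fun x => by
        obtain ⟨e⟩ := nonempty_evalAtId_yonedaFunctor_iso x.1 x.2
        exact ⟨yonedaFunctor x.1 x.2, ⟨e⟩⟩⟩ }

/-- 2-Yoneda for fibred categories. -/
theorem evalAtId_ι_isEquivalence [𝒳.p.IsFibered] :
    ((ObjectProperty.ι (FibCat.PreservesStronglyCartesian (𝒳 := FibCat.overCat U) (𝒴 := 𝒳))) ⋙
      FibCat.evalAtId 𝒳 U).IsEquivalence := by
  have hsc : ∀ (H : ObjectProperty.FullSubcategory (FibCat.PreservesStronglyCartesian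
      (𝒳 := FibCat.overCat U) (𝒴 := 𝒳))) (X : Over U),
      𝒳.p.IsStronglyCartesian X.hom (H.obj.map (toId U X)) := by
    intro H X
    exact H.property X.hom (toId U X) (over_isStronglyCartesian U (toId U X))
  exact
    { faithful := ⟨fun {G H} α β h => by
        apply ObjectProperty.hom_ext
        exact evalAtId_faithful_aux G.obj H.obj (hsc H) α.hom β.hom (congrArg Subtype.val h)⟩
      full := ⟨fun {G H} m => by
        have : 𝒳.p.IsHomLift (𝟙 U) m.1 := m.2
        obtain ⟨α, hα⟩ := evalAtId_full_aux G.obj H.obj (hsc H) m.1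
        exact ⟨ObjectProperty.homMk α, Subtype.ext hα⟩⟩
      essSurj := ⟨fun x => by
        obtain ⟨e⟩ := nonempty_evalAtId_yonedaFunctor_iso x.1 x.2
        exact ⟨⟨yonedaFunctor x.1 x.2, yonedaFunctor_preserves x.1 x.2⟩, ⟨e⟩⟩⟩ }

end Groth.Agent.Lib.Helper80
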