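import Groth.Prelude.Def_W4stkcategoriessitesFib
import Mathlib.CategoryTheory.Groupoid

/-!
# Basic library on categories fibred in groupoids (helper80)
-/

set_option autoImplicit false

universe v₃ u₃ v₂ u₂ v u

open CategoryTheory CategoryTheory.Functor

namespace Groth.Agent.Lib.Helper80

variable {C : Type u} [Category.{v} C] {𝒳 : Type u₂} [Category.{v₂} 𝒳] (p : 𝒳 ⥤ C)

/-- A strongly cartesian morphism over `p.map φ`, restated over any `f` that `φ` lifts. -/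
theorem isStronglyCartesian_of_isHomLift {R S : C} {a b : 𝒳} (f : R ⟶ S) (φ : a ⟶ b)
    [hl : p.IsHomLift f φ] (h : p.IsStronglyCartesian (p.map φ) φ) :
    p.IsStronglyCartesian f φ := by
  subst_hom_lift p f φ
  exact h

/-- In a category fibred in groupoids every morphism is strongly cartesian over whatever it
lifts. -/
theorem IsFibGrpd.isStronglyCartesian' (h : FibCat.IsFibGrpd p) {R S : C} {a b : 𝒳}
    (f : R ⟶ S) (φ : a ⟶ b) [p.IsHomLift f φ] : p.IsStronglyCartesian f φ :=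
  isStronglyCartesian_of_isHomLift p f φ (h.isStronglyCartesian φ)

theorem IsFibGrpd.isFibered (h : FibCat.IsFibGrpd p) : p.IsFibered := by
  apply IsFibered.of_exists_isStronglyCartesian
  intro a R f
  obtain ⟨y, φ, hφ⟩ := h.exists_lift f
  exact ⟨y, φ, IsFibGrpd.isStronglyCartesian' p h f φ⟩

/-- In a category fibred in groupoids, a morphism lying over an isomorphism is an isomorphism. -/
theorem IsFibGrpd.isIso_of_base_isIso (h : FibCat.IsFibGrpd p) {R S : C} {a b : 𝒳}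
    (f : R ⟶ S) (φ : a ⟶ b) [p.IsHomLift f φ] [IsIso f] : IsIso φ :=
  have := IsFibGrpd.isStronglyCartesian' p h f φ
  IsStronglyCartesian.isIso_of_base_isIso p f φ

/-- A morphism of a fibre whose underlying morphism is an isomorphism is an isomorphism of the
fibre. -/
theorem fiber_isIso_of_isIso {U : C} {x y : p.Fiber U} (φ : x ⟶ y) [hφ : IsIso φ.1] : IsIso φ := by
  have : p.IsHomLift (𝟙 U) φ.1 := φ.2
  have : p.IsHomLift (𝟙 U) (inv φ.1) := by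
    have : p.IsHomLift (inv (𝟙 U)) (inv φ.1) := inferInstance
    simpa using this
  refine ⟨⟨⟨inv φ.1, inferInstance⟩, ?_, ?_⟩⟩
  · apply Fiber.hom_ext; simp [Fiber.fiberInclusion]
  · apply Fiber.hom_ext; simp [Fiber.fiberInclusion]

theorem IsFibGrpd.isGroupoid_fiber (h : FibCat.IsFibGrpd p) (U : C) : IsGroupoid (p.Fiber U) := by
  refine ⟨fun {x y} φ => ?_⟩
  have : p.IsHomLift (𝟙 U) φ.1 := φ.2
  have : IsIso φ.1 := IsFibGrpd.isIso_of_base_isIso p h (𝟙 U) φ.1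
  exact fiber_isIso_of_isIso p φ

/-- In a fibred category whose fibres are groupoids every morphism is strongly cartesian. -/
theorem isStronglyCartesian_of_isFibered_of_isGroupoid [p.IsFibered]
    (hg : ∀ U : C, IsGroupoid (p.Fiber U)) {y x : 𝒳} (φ : y ⟶ x) :
    p.IsStronglyCartesian (p.map φ) φ := by
  -- a cartesian lift `ψ` of `p.map φ`
  obtain ⟨y', ψ, hψ⟩ := IsPreFibered.exists_isCartesian p (a := x) rfl (p.map φ)
  have : p.IsStronglyCartesian (p.map φ) ψ := inferInstance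
  let χ : y ⟶ y' := IsCartesian.map p (p.map φ) ψ φ
  have hχ : χ ≫ ψ = φ := IsCartesian.fac p (p.map φ) ψ φ
  -- `χ` is a morphism of the fibre over `p.obj y`, hence an isomorphism
  let χ' := Fiber.homMk p (p.obj y) χ
  have := (hg (p.obj y)).all_isIso χ'
  have : IsIso χ := by
    have : IsIso (Fiber.fiberInclusion.map χ') := inferInstance
    exact this
  have : p.IsStronglyCartesian (𝟙 (p.obj y)) χ := IsStronglyCartesian.of_isIso p _ χ
  have : p.IsStronglyCartesian (𝟙 (p.obj y) ≫ p.map φ) (χ ≫ ψ) := inferInstance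
  rw [hχ, Category.id_comp] at this
  exact this

theorem isFibGrpd_of_isFibered_of_isGroupoid [p.IsFibered]
    (hg : ∀ U : C, IsGroupoid (p.Fiber U)) : FibCat.IsFibGrpd p where
  exists_lift := by
    intro x V f
    obtain ⟨y, φ, hφ⟩ := IsPreFibered.exists_isCartesian p (a := x) rfl f
    exact ⟨y, φ, inferInstance⟩
  isStronglyCartesian := fun φ => isStronglyCartesian_of_isFibered_of_isGroupoid p hg φ

theorem isFibGrpd_iff :
    FibCat.IsFibGrpd p ↔ (p.IsFibered ∧ ∀ U : C, IsGroupoid (p.Fiber U)) :=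
  ⟨fun h => ⟨IsFibGrpd.isFibered p h, IsFibGrpd.isGroupoid_fiber p h⟩,
    fun ⟨h1, h2⟩ => have := h1; isFibGrpd_of_isFibered_of_isGroupoid p h2⟩


section EquivOver

open BasedFunctor

variable {C : Type u} [Category.{v} C]
  {𝒳 : BasedCategory.{v₂, u₂} C} {𝒴 : BasedCategory.{v₃, u₃} C}

/-- A functor over `C` which is fully faithful and essentially surjective "over `C`"
(every object of the target is isomorphic, by an isomorphism over an identity, to an object in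
the image). -/
structure IsFFEssSurjOver (F : 𝒳 ⥤ᵇ 𝒴) : Prop where
  full : F.toFunctor.Full
  faithful : F.toFunctor.Faithful
  essSurj : ∀ y : 𝒴.obj, ∃ (x : 𝒳.obj) (θ : F.obj x ≅ y), 𝒴.p.IsHomLift (𝟙 (𝒴.p.obj y)) θ.hom

theorem IsEquivOver.symm {F : 𝒳 ⥤ᵇ 𝒴} (hF : FibCat.IsEquivOver F) :
    ∃ G : 𝒴 ⥤ᵇ 𝒳, FibCat.IsEquivOver G ∧ Nonempty (BasedFunctor.comp F G ≅ BasedFunctor.id 𝒳) ∧
      Nonempty (BasedFunctor.comp G F ≅ BasedFunctor.id 𝒴) := by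
  obtain ⟨G, ⟨η⟩, ⟨ε⟩⟩ := hF
  exact ⟨G, ⟨F, ⟨ε⟩, ⟨η⟩⟩, ⟨η⟩, ⟨ε⟩⟩

/-- The underlying equivalence of categories of an equivalence over `C`. -/
noncomputable def equivalenceOfIsos {F : 𝒳 ⥤ᵇ 𝒴} {G : 𝒴 ⥤ᵇ 𝒳}
    (η : BasedFunctor.comp F G ≅ BasedFunctor.id 𝒳)
    (ε : BasedFunctor.comp G F ≅ BasedFunctor.id 𝒴) : 𝒳.obj ≌ 𝒴.obj :=
  CategoryTheory.Equivalence.mk F.toFunctor G.toFunctor
    ((BasedNatTrans.forgetful _ _).mapIso η).symm ((BasedNatTrans.forgetful _ _).mapIso ε)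

theorem IsEquivOver.isEquivalence {F : 𝒳 ⥤ᵇ 𝒴} (hF : FibCat.IsEquivOver F) :
    F.toFunctor.IsEquivalence := by
  obtain ⟨G, ⟨η⟩, ⟨ε⟩⟩ := hF
  exact (equivalenceOfIsos η ε).isEquivalence_functor

theorem IsEquivOver.isFFEssSurjOver {F : 𝒳 ⥤ᵇ 𝒴} (hF : FibCat.IsEquivOver F) :
    IsFFEssSurjOver F := by
  have := IsEquivOver.isEquivalence hF
  obtain ⟨G, ⟨η⟩, ⟨ε⟩⟩ := hF
  refine ⟨inferInstance, inferInstance, fun y => ?_⟩
  exact ⟨G.obj y, ((BasedNatTrans.forgetful _ _).mapIso ε).app y, ε.hom.isHomLift' y⟩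

/-- A fully faithful functor over `C` reflects strongly cartesian morphisms. -/
theorem isStronglyCartesian_of_map {F : 𝒳 ⥤ᵇ 𝒴} [F.toFunctor.Full] [F.toFunctor.Faithful]
    {R S : C} (f : R ⟶ S) {a b : 𝒳.obj} (φ : a ⟶ b)
    [h : 𝒴.p.IsStronglyCartesian f (F.map φ)] : 𝒳.p.IsStronglyCartesian f φ := by
  have : 𝒳.p.IsHomLift f φ := isHomLift_map F f φ
  refine ⟨fun {a'} g φ' hφ' => ?_⟩
  have : 𝒴.p.IsHomLift (g ≫ f) (F.map φ') := inferInstance
  obtain ⟨χ, ⟨hχ1, hχ2⟩, hχu⟩ :=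
    IsStronglyCartesian.universal_property 𝒴.p f (F.map φ) g (g ≫ f) rfl (F.map φ')
  obtain ⟨ψ, rfl⟩ := F.toFunctor.map_surjective χ
  have : 𝒳.p.IsHomLift g ψ := isHomLift_map F g ψ
  refine ⟨ψ, ⟨inferInstance, ?_⟩, ?_⟩
  · apply F.toFunctor.map_injective
    rw [Functor.map_comp]; exact hχ2
  · rintro ψ' ⟨hψ'1, hψ'2⟩
    apply F.toFunctor.map_injective
    apply hχu
    exact ⟨inferInstance, by rw [← Functor.map_comp, hψ'2]⟩

/-- An equivalence over `C` preserves strongly cartesian morphisms. -/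
theorem IsFFEssSurjOver.map_isStronglyCartesian {F : 𝒳 ⥤ᵇ 𝒴} (hF : IsFFEssSurjOver F)
    {R S : C} (f : R ⟶ S) {a b : 𝒳.obj} (φ : a ⟶ b) [𝒳.p.IsStronglyCartesian f φ] :
    𝒴.p.IsStronglyCartesian f (F.map φ) := by
  have := hF.full
  have := hF.faithful
  refine ⟨fun {a'} g φ' hφ' => ?_⟩
  obtain ⟨a'', θ, hθ⟩ := hF.essSurj a'
  -- transport `φ'` to a morphism out of `F a''`
  have h1 : 𝒴.p.IsHomLift (g ≫ f) (θ.hom ≫ φ') := by
    have : 𝒴.p.IsHomLift (𝟙 (𝒴.p.obj a') ≫ g ≫ f) (θ.hom ≫ φ') := inferInstance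
    simpa using this
  obtain ⟨ψ', hψ'⟩ := F.toFunctor.map_surjective (θ.hom ≫ φ')
  have : 𝒴.p.IsHomLift (g ≫ f) (F.map ψ') := by rw [hψ']; exact h1
  have : 𝒳.p.IsHomLift (g ≫ f) ψ' := isHomLift_map F (g ≫ f) ψ'
  obtain ⟨ψ, ⟨hψ1, hψ2⟩, hψu⟩ :=
    IsStronglyCartesian.universal_property 𝒳.p f φ g (g ≫ f) rfl ψ'
  have h2 : 𝒴.p.IsHomLift g (θ.inv ≫ F.map ψ) := by
    have : 𝒴.p.IsHomLift (𝟙 (𝒴.p.obj a')) θ.inv := inferInstance
    have : 𝒴.p.IsHomLift (𝟙 (𝒴.p.obj a') ≫ g) (θ.inv ≫ F.map ψ) := inferInstance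
    simpa using this
  refine ⟨θ.inv ≫ F.map ψ, ⟨h2, ?_⟩, ?_⟩
  · rw [Category.assoc, ← Functor.map_comp, hψ2, hψ', Iso.inv_hom_id_assoc]
  · rintro χ' ⟨hχ'1, hχ'2⟩
    have h3 : 𝒴.p.IsHomLift g (θ.hom ≫ χ') := by
      have : 𝒴.p.IsHomLift (𝟙 (𝒴.p.obj a') ≫ g) (θ.hom ≫ χ') := inferInstance
      simpa using this
    obtain ⟨ψ₂, hψ₂⟩ := F.toFunctor.map_surjective (θ.hom ≫ χ')
    have : 𝒴.p.IsHomLift g (F.map ψ₂) := by rw [hψ₂]; exact h3
    have : 𝒳.p.IsHomLift g ψ₂ := isHomLift_map F g ψ₂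
    have h4 : ψ₂ = ψ := by
      apply hψu
      refine ⟨inferInstance, ?_⟩
      apply F.toFunctor.map_injective
      rw [Functor.map_comp, hψ₂, hψ', Category.assoc, hχ'2]
    rw [← h4, hψ₂, Iso.inv_hom_id_assoc]

theorem IsEquivOver.map_isStronglyCartesian {F : 𝒳 ⥤ᵇ 𝒴} (hF : FibCat.IsEquivOver F)
    {R S : C} (f : R ⟶ S) {a b : 𝒳.obj} (φ : a ⟶ b) [𝒳.p.IsStronglyCartesian f φ] :
    𝒴.p.IsStronglyCartesian f (F.map φ) :=
  (IsEquivOver.isFFEssSurjOver hF).map_isStronglyCartesian f φ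

/-- Fibredness transfers along an equivalence over `C`. -/
theorem IsFFEssSurjOver.isFibered {F : 𝒳 ⥤ᵇ 𝒴} (hF : IsFFEssSurjOver F) [𝒳.p.IsFibered] :
    𝒴.p.IsFibered := by
  apply IsFibered.of_exists_isStronglyCartesian
  intro y R f
  obtain ⟨x, θ, hθ⟩ := hF.essSurj y
  have hx : 𝒳.p.obj x = 𝒴.p.obj y := by
    rw [← F.w_obj x]; exact IsHomLift.domain_eq 𝒴.p (𝟙 (𝒴.p.obj y)) θ.hom
  obtain ⟨x', φ, hφ⟩ := IsPreFibered.exists_isCartesian 𝒳.p hx f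
  have : 𝒳.p.IsStronglyCartesian f φ := inferInstance
  have : 𝒴.p.IsStronglyCartesian f (F.map φ) := hF.map_isStronglyCartesian f φ
  have : 𝒴.p.IsStronglyCartesian (𝟙 (𝒴.p.obj y)) θ.hom := IsStronglyCartesian.of_iso 𝒴.p _ θ
  have h : 𝒴.p.IsStronglyCartesian (f ≫ 𝟙 (𝒴.p.obj y)) (F.map φ ≫ θ.hom) := inferInstance
  rw [Category.comp_id] at h
  exact ⟨_, _, h⟩

theorem IsEquivOver.isFibered_iff {F : 𝒳 ⥤ᵇ 𝒴} (hF : FibCat.IsEquivOver F) :
    𝒳.p.IsFibered ↔ 𝒴.p.IsFibered := by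
  obtain ⟨G, hG, -, -⟩ := IsEquivOver.symm hF
  exact ⟨fun _ => (IsEquivOver.isFFEssSurjOver hF).isFibered,
    fun _ => (IsEquivOver.isFFEssSurjOver hG).isFibered⟩

end EquivOver

end Groth.Agent.Lib.Helper80
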