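import Groth.Agent.S10526
import Groth.Agent.S10527
import Groth.Agent.S10530
import Groth.Agent.S10548
import Groth.Agent.S10549
import Groth.Agent.S10550
import Groth.Agent.S10567
import Groth.Agent.Lib.Helper78.AlgSpFppfFpqc
import Groth.Agent.Lib.Helper78.AlgSpLocP2
import Groth.Agent.Lib.Helper78.AlgSpLocPFlat
import Groth.Agent.Lib.Helper78.AlgSpLocPLofp
import Groth.Agent.Lib.Helper78.AlgSpLocPLoft

/-!
# Flat, locally of finite type and locally of finite presentation are smooth local on the source-and-target (helper80)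
-/

set_option autoImplicit false

universe u

open CategoryTheory CategoryTheory.Limits AlgebraicGeometry

namespace Groth.Agent.Lib.Helper80

open AlgSp

variable {S : Scheme.{u}}

theorem locP_mono' {P Q : MorphismProperty Scheme.{u}} (hle : ∀ {A B : Scheme.{u}} (k : A ⟶ B), P k → Q k)
    {X Y : Sp S} {f : X ⟶ Y} (hf : LocP P f) : LocP Q f :=
  fun _ _ a b h ha hb comm => hle _ (hf a b h ha hb comm)

theorem smooth_flat {A B : Scheme.{u}} (k : A ⟶ B) (hk : Smooth k) : Flat k := by
  have : Smooth k := hk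
  exact inferInstance

theorem smooth_lofp {A B : Scheme.{u}} (k : A ⟶ B) (hk : Smooth k) : LocallyOfFinitePresentation k := by
  have : Smooth k := hk
  exact inferInstance

theorem smooth_loft {A B : Scheme.{u}} (k : A ⟶ B) (hk : Smooth k) : LocallyOfFiniteType k := by
  have : Smooth k := hk
  exact inferInstance

/-- A smooth covering is an fppf covering. -/
theorem isFppfCover_of_isSmCover {ι : Type u} {X : Sp S} (Xi : ι → Sp S) (g : ∀ i, Xi i ⟶ X)
    (hcov : IsSmCover Xi g) : IsFppfCover Xi g :=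
  ⟨fun i => ⟨locP_mono' smooth_flat (hcov.1 i), locP_mono' smooth_lofp (hcov.1 i)⟩, hcov.2⟩

/-- A smooth covering of an algebraic space by algebraic spaces is an fpqc covering. -/
theorem isFpqcCover_of_isSmCover {ι : Type u} {X : Sp S} (Xi : ι → Sp S) (g : ∀ i, Xi i ⟶ X)
    (hX : IsAlgSpace X) (hXi : ∀ i, IsAlgSpace (Xi i)) (hcov : IsSmCover Xi g) : IsFpqcCover Xi g :=
  Groth.Agent.Lib.Helper78.AlgSpFppfFpqc.isFpqcCover_of_isFppfCover Xi g hX hXi
    (isFppfCover_of_isSmCover Xi g hcov)

theorem isLocalOnSource_sm_of_fppf {P : MorphismProperty (Sp S)}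
    (h : IsLocalOnSource (IsFppfCover (S := S)) P) : IsLocalOnSource (IsSmCover (S := S)) P :=
  fun _ _ Xi g hX hXi hcov _ f hY => h Xi g hX hXi (isFppfCover_of_isSmCover Xi g hcov) f hY

theorem isLocalOnSource_sm_of_fpqc {P : MorphismProperty (Sp S)}
    (h : IsLocalOnSource (IsFpqcCover (S := S)) P) : IsLocalOnSource (IsSmCover (S := S)) P :=
  fun _ _ Xi g hX hXi hcov _ f hY => h Xi g hX hXi (isFpqcCover_of_isSmCover Xi g hX hXi hcov) f hY

theorem isLocalOnBase_sm_of_fpqc {P : MorphismProperty (Sp S)}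
    (h : IsLocalOnBase (IsFpqcCover (S := S)) P) : IsLocalOnBase (IsSmCover (S := S)) P :=
  fun _ _ Yi g hY hYi hcov _ f hX Xi p q hXi sq =>
    h Yi g hY hYi (isFpqcCover_of_isSmCover Yi g hY hYi hcov) f hX Xi p q hXi sq

/-- Postcomposition with a smooth morphism. -/
theorem locP_postcomp_smooth {P : MorphismProperty Scheme.{u}}
    (hP : Groth.Agent.Lib.Helper78.AlgSpLocP.EtLocalST P) [P.IsStableUnderComposition]
    (hle : ∀ {A B : Scheme.{u}} (k : A ⟶ B), Smooth k → P k) ⦃X Y Z : AlgSp.Space S⦄ (f : X ⟶ Y) (g : Y ⟶ Z)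
    (hf : LocP P f.hom) (hg : LocP @Smooth g.hom) : LocP P (f ≫ g).hom :=
  Groth.Agent.Lib.Helper78.AlgSpLocP.locP_comp hP f.hom g.hom Y.property.atlas hf (locP_mono' hle hg)

/-- Flatness is smooth local on the source-and-target. -/
theorem isSmoothLocalST_flat : IsSmoothLocalST (LocP @Flat (S := S)) :=
  Groth.Agent.S10567.result _ (isLocalOnSource_sm_of_fpqc (Groth.Agent.S10548.result S))
    (isLocalOnBase_sm_of_fpqc (Groth.Agent.S10530.result S))
    (locP_postcomp_smooth Groth.Agent.Lib.Helper78.AlgSpLocPFlat.etLocalST_flat smooth_flat)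

/-- Being locally of finite type is smooth local on the source-and-target. -/
theorem isSmoothLocalST_loft : IsSmoothLocalST (LocP @LocallyOfFiniteType (S := S)) :=
  Groth.Agent.S10567.result _ (isLocalOnSource_sm_of_fppf (Groth.Agent.S10550.result S))
    (isLocalOnBase_sm_of_fpqc (Groth.Agent.S10526.result S))
    (locP_postcomp_smooth Groth.Agent.Lib.Helper78.AlgSpLocPLoft.etLocalST_loft smooth_loft)

/-- Being locally of finite presentation is smooth local on the source-and-target. -/
theorem isSmoothLocalST_lofp : IsSmoothLocalST (LocP @LocallyOfFinitePresentation (S := S)) :=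
  Groth.Agent.S10567.result _ (isLocalOnSource_sm_of_fppf (Groth.Agent.S10549.result S))
    (isLocalOnBase_sm_of_fpqc (Groth.Agent.S10527.result S))
    (locP_postcomp_smooth Groth.Agent.Lib.Helper78.AlgSpLocPLofp.etLocalST_lofp smooth_lofp)

end Groth.Agent.Lib.Helper80
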