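import Groth.Agent.Lib.Helper80.AlgStFp2

/-!
# Base change for `RepByAlgSpWith` (helper80)

`RepByAlgSpWith P` is stable under 2-base change, for ANY `P` (no hypothesis on `P`: the
2-fibre products that are tested are the same up to equivalence over the base, compatibly
with the projections to the test scheme).
-/

set_option autoImplicit false
set_option backward.isDefEq.respectTransparency false

universe u

open CategoryTheory CategoryTheory.Functor CategoryTheory.Limits AlgebraicGeometry Opposite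

namespace Groth.Agent.Lib.Helper80

open BasedFunctor

variable {S : Scheme.{u}}

section BC

variable {𝒳 𝒴 𝒮 : AlgSt.Cat S}

/-- Base change: if `G : 𝒴 ⟶ 𝒮` is representable by algebraic spaces with `P`, so is the
projection `𝒳 ×_𝒮 𝒴 ⟶ 𝒳`. -/
theorem repByAlgSpWith_fpFst (P : MorphismProperty (AlgSp.Sp S)) (F : 𝒳 ⥤ᵇ 𝒮) (G : 𝒴 ⥤ᵇ 𝒮)
    (h : AlgSt.RepByAlgSpWith P G) : AlgSt.RepByAlgSpWith P (FibCat.fpFst F G) := by
  intro U y
  exact (repWith_transfer P (FibCat.fpFst (BasedFunctor.comp y F) G)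
    (FibCat.fpFst y (FibCat.fpFst F G)) (fpPasteLeft y F G) (fpPasteLeft_isEquivOver y F G)
    (BasedNatIso.id _)).mp (h U (BasedFunctor.comp y F))

/-- The swap `𝒳 ×_𝒮 𝒴 ⟶ 𝒴 ×_𝒮 𝒳`. -/
def fpSwap (F : 𝒳 ⥤ᵇ 𝒮) (G : 𝒴 ⥤ᵇ 𝒮) : FibCat.fp F G ⥤ᵇ FibCat.fp G F :=
  FibCat.fpLift (FibCat.fpSnd F G) (FibCat.fpFst F G) (FibCat.fpIso F G).symm

theorem fpSwap_isEquivOver (F : 𝒳 ⥤ᵇ 𝒮) (G : 𝒴 ⥤ᵇ 𝒮) : FibCat.IsEquivOver (fpSwap F G) := by
  apply fpLift_isEquivOver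
  · intro w w' m m' h1 h2
    apply ObjectProperty.hom_ext
    apply CategoricalPullback.hom_ext
    · exact h2
    · exact h1
  · intro w w' φ ψ hw
    have hw' : G.map φ ≫ w'.obj.iso.inv = w.obj.iso.inv ≫ F.map ψ := hw
    have key : F.map ψ ≫ w'.obj.iso.hom = w.obj.iso.hom ≫ G.map φ := by
      rw [← cancel_epi w.obj.iso.inv, ← Category.assoc, ← hw']
      simp
    exact ⟨ObjectProperty.homMk ⟨ψ, φ, key⟩, rfl, rfl⟩
  · intro Q
    have hQ : 𝒮.p.IsHomLift (𝟙 (𝒴.p.obj Q.obj.fst)) Q.obj.iso.hom := Q.property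
    have hQi : 𝒮.p.IsHomLift (𝟙 (𝒴.p.obj Q.obj.fst)) Q.obj.iso.inv :=
      IsHomLift.lift_id_inv 𝒮.p _ Q.obj.iso
    have hx : 𝒳.p.obj Q.obj.snd = 𝒴.p.obj Q.obj.fst :=
      (F.w_obj Q.obj.snd).symm.trans
        (IsHomLift.codomain_eq 𝒮.p (𝟙 (𝒴.p.obj Q.obj.fst)) Q.obj.iso.hom)
    have hP : 𝒮.p.IsHomLift (𝟙 (𝒳.p.obj Q.obj.snd)) Q.obj.iso.symm.hom :=
      isHomLift_id_of_eq 𝒮.p hx.symm Q.obj.iso.inv
    let P : (FibCat.fp F G).obj := ⟨⟨Q.obj.snd, Q.obj.fst, Q.obj.iso.symm⟩, hP⟩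
    refine ⟨P, Iso.refl _, Iso.refl _, IsHomLift.id rfl, ?_⟩
    change G.map (𝟙 _) ≫ Q.obj.iso.hom = Q.obj.iso.hom ≫ F.map (𝟙 _)
    simp

/-- Base change, second projection. -/
theorem repByAlgSpWith_fpSnd (P : MorphismProperty (AlgSp.Sp S)) (F : 𝒳 ⥤ᵇ 𝒮) (G : 𝒴 ⥤ᵇ 𝒮)
    (h : AlgSt.RepByAlgSpWith P F) : AlgSt.RepByAlgSpWith P (FibCat.fpSnd F G) :=
  (repByAlgSpWith_iff_of_square P (FibCat.fpFst G F) (FibCat.fpSnd F G) (fpSwap F G)
    (BasedFunctor.id _) (fpSwap_isEquivOver F G) isEquivOver_id (BasedNatIso.id _)).mp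
    (repByAlgSpWith_fpFst P G F h)

/-- Base change along a 2-cartesian square. -/
theorem repByAlgSpWith_of_isTwoCartOver {𝒲 : AlgSt.Cat S} (P : MorphismProperty (AlgSp.Sp S))
    {F : 𝒳 ⥤ᵇ 𝒮} {G : 𝒴 ⥤ᵇ 𝒮} (a : 𝒲 ⥤ᵇ 𝒳) (b : 𝒲 ⥤ᵇ 𝒴)
    (e : BasedFunctor.comp a F ≅ BasedFunctor.comp b G)
    (h2 : FibCat.IsTwoCartOver a b e) (h : AlgSt.RepByAlgSpWith P G) :
    AlgSt.RepByAlgSpWith P a :=
  (repByAlgSpWith_iff_of_square P (FibCat.fpFst F G) a (FibCat.fpLift a b e)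
    (BasedFunctor.id _) h2 isEquivOver_id (BasedNatIso.id _)).mp
    (repByAlgSpWith_fpFst P F G h)

end BC

section Comparison

variable {𝒳 𝒴 𝒵 𝒯 : AlgSt.Cat S}

theorem rel_obj_iso_eq {F : 𝒳 ⥤ᵇ 𝒵} {G : 𝒴 ⥤ᵇ 𝒵} {g : 𝒵 ⥤ᵇ 𝒯}
    (Q₀ : (FibCat.fp (relPair F G g) (FibCat.diag g)).obj) :
    Q₀.obj.fst.obj.iso.hom = g.map ((relI₁ Q₀).hom ≫ (relI₂ Q₀).inv) := by
  have e0 : g.map ((relI₁ Q₀).hom ≫ (relI₂ Q₀).inv) =
      g.map (relI₁ Q₀).hom ≫ g.map (relI₂ Q₀).inv := Functor.map_comp _ _ _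
  have e1 : g.map (relI₂ Q₀).hom ≫ g.map (relI₂ Q₀).inv = 𝟙 _ := by
    rw [← Functor.map_comp, Iso.hom_inv_id, CategoryTheory.Functor.map_id]
  rw [e0, rel_obj_w Q₀, Category.assoc, e1]
  exact (Category.comp_id _).symm

/-- The comparison `𝒳 ×_𝒵 𝒴 ⟶ 𝒳 ×_𝒯 𝒴` is a base change of the diagonal of `t : 𝒵 ⟶ 𝒯`. -/
theorem repByAlgSpWith_fpComparison (P : MorphismProperty (AlgSp.Sp S))
    (f : 𝒳 ⥤ᵇ 𝒵) (g : 𝒴 ⥤ᵇ 𝒵) (t : 𝒵 ⥤ᵇ 𝒯)
    (e : BasedFunctor.comp (FibCat.fpFst f g) (BasedFunctor.comp f t) ≅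
      BasedFunctor.comp (FibCat.fpSnd f g) (BasedFunctor.comp g t))
    (he : ∀ x, e.hom.toNatTrans.app x = t.map x.obj.iso.hom)
    (h : AlgSt.RepByAlgSpWith P (FibCat.diag t)) :
    AlgSt.RepByAlgSpWith P (FibCat.fpLift (FibCat.fpFst f g) (FibCat.fpSnd f g) e) := by
  have h1 := repByAlgSpWith_fpFst P (relPair f g t) (FibCat.diag t) h
  refine (repByAlgSpWith_iff_of_square P
    (FibCat.fpLift (FibCat.fpFst f g) (FibCat.fpSnd f g) e)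
    (FibCat.fpFst (relPair f g t) (FibCat.diag t)) (relMagic f g t) (BasedFunctor.id _)
    (relMagic_isEquivOver f g t) isEquivOver_id ?_).mpr h1
  refine fpIsoMk (BasedNatIso.id _) (BasedNatIso.id _) ?_
  intro w
  change (BasedFunctor.comp f t).map (𝟙 _) ≫ e.hom.toNatTrans.app ((relMagic f g t).obj w) =
    w.obj.fst.obj.iso.hom ≫ (BasedFunctor.comp g t).map (𝟙 _)
  rw [he, CategoryTheory.Functor.map_id, CategoryTheory.Functor.map_id, Category.id_comp,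
    Category.comp_id, rel_obj_iso_eq w]
  rfl

end Comparison

section Graph

variable {𝒳 𝒴 𝒯 : AlgSt.Cat S} (p : 𝒳 ⥤ᵇ 𝒯) (q : 𝒴 ⥤ᵇ 𝒯) (g : 𝒳 ⥤ᵇ 𝒴)
  (e : BasedFunctor.comp (BasedFunctor.id 𝒳) p ≅ BasedFunctor.comp g q)

/-- The 2-isomorphism used by `graphBase`: at `(x, y, θ)` it is `e_x⁻¹ ≫ θ`. -/
def graphBaseIso : BasedFunctor.comp (BasedFunctor.comp (FibCat.fpFst p q) g) q ≅
    BasedFunctor.comp (FibCat.fpSnd p q) q :=
  ((whiskerLeftIso (FibCat.fpFst p q) e).symm :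
    BasedFunctor.comp (BasedFunctor.comp (FibCat.fpFst p q) g) q ≅
      BasedFunctor.comp (FibCat.fpFst p q) p) ≪≫ FibCat.fpIso p q

/-- `𝒳 ×_𝒯 𝒴 ⟶ 𝒴 ×_𝒯 𝒴`, `(x, y, θ) ↦ (g x, y, e_x⁻¹ ≫ θ)`. -/
def graphBase : FibCat.fp p q ⥤ᵇ FibCat.fp q q :=
  FibCat.fpLift (BasedFunctor.comp (FibCat.fpFst p q) g) (FibCat.fpSnd p q) (graphBaseIso p q g e)

theorem graphBase_obj_iso_hom (Q : (FibCat.fp p q).obj) :
    ((graphBase p q g e).obj Q).obj.iso.hom = e.inv.toNatTrans.app Q.obj.fst ≫ Q.obj.iso.hom := rfl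

/-- The graph `x ↦ (x, g x, e_x)`. -/
abbrev graphMap : 𝒳 ⥤ᵇ FibCat.fp p q := FibCat.fpLift (BasedFunctor.id 𝒳) g e

/-- The square of the graph over the diagonal of `q` 2-commutes. -/
def graphSqIso : BasedFunctor.comp (graphMap p q g e) (graphBase p q g e) ≅
    BasedFunctor.comp g (FibCat.diag q) :=
  fpIsoMk (BasedNatIso.id _) (BasedNatIso.id _) (by
    intro x
    change q.map (𝟙 _) ≫ 𝟙 _ =
      (e.inv.toNatTrans.app x ≫ e.hom.toNatTrans.app x) ≫ q.map (𝟙 _)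
    rw [iso_inv_hom_app]
    simp)

theorem graphSqIso_hom_app_fst (x : 𝒳.obj) :
    ((graphSqIso p q g e).hom.toNatTrans.app x).hom.fst = 𝟙 _ := rfl

theorem graphSqIso_hom_app_snd (x : 𝒳.obj) :
    ((graphSqIso p q g e).hom.toNatTrans.app x).hom.snd = 𝟙 _ := rfl

/-- The graph of `g` is a base change of the diagonal of `q`. -/
theorem graph_isTwoCartOver :
    FibCat.IsTwoCartOver (F := graphBase p q g e) (G := FibCat.diag q)
      (graphMap p q g e) g (graphSqIso p q g e) := by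
  apply fpLift_isEquivOver
  · intro x x' m m' h1 _
    exact congrArg (fun k => k.hom.fst) h1
  · intro x x' φ ψ hw
    have hw1 : g.map φ.hom.fst ≫ 𝟙 _ = 𝟙 _ ≫ ψ := congrArg (fun k => k.hom.fst) hw
    have hw2 : φ.hom.snd ≫ 𝟙 _ = 𝟙 _ ≫ ψ := congrArg (fun k => k.hom.snd) hw
    rw [Category.comp_id, Category.id_comp] at hw1 hw2
    refine ⟨φ.hom.fst, ?_, hw1⟩
    apply ObjectProperty.hom_ext
    apply CategoricalPullback.hom_ext
    · rfl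
    · exact hw1.trans hw2.symm
  · intro Q
    let x := Q.obj.fst.obj.fst
    let α₁ : g.obj x ≅ Q.obj.snd := (FibCat.fpFst q q).toFunctor.mapIso Q.obj.iso
    let α₂ : Q.obj.fst.obj.snd ≅ Q.obj.snd := (FibCat.fpSnd q q).toFunctor.mapIso Q.obj.iso
    have hc : q.map α₁.hom ≫ 𝟙 _ =
        (e.inv.toNatTrans.app x ≫ Q.obj.fst.obj.iso.hom) ≫ q.map α₂.hom :=
      Q.obj.iso.hom.hom.w
    rw [Category.comp_id] at hc
    have compat' : p.map (𝟙 x) ≫ Q.obj.fst.obj.iso.hom =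
        e.hom.toNatTrans.app x ≫ q.map (α₁ ≪≫ α₂.symm).hom := by
      have e1 : q.map α₂.hom ≫ q.map α₂.inv = 𝟙 _ := by
        rw [← Functor.map_comp, Iso.hom_inv_id, CategoryTheory.Functor.map_id]
      change p.map (𝟙 x) ≫ Q.obj.fst.obj.iso.hom =
        e.hom.toNatTrans.app x ≫ q.map (α₁.hom ≫ α₂.inv)
      rw [CategoryTheory.Functor.map_id, Category.id_comp, Functor.map_comp, hc]
      simp only [Category.assoc, e1, Category.comp_id]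
      rw [← Category.assoc, iso_hom_inv_app, Category.id_comp]
    let α : (graphMap p q g e).obj x ≅ Q.obj.fst :=
      ObjectProperty.isoMk _ (CategoricalPullback.mkIso (Iso.refl x) (α₁ ≪≫ α₂.symm) compat')
    refine ⟨x, α, α₁, ?_, ?_⟩
    · rw [fp_isHomLift_iff]
      exact IsHomLift.id rfl
    · apply ObjectProperty.hom_ext
      apply CategoricalPullback.hom_ext
      · change g.map (𝟙 x) ≫ α₁.hom = 𝟙 _ ≫ α₁.hom
        rw [CategoryTheory.Functor.map_id]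
      · change (α₁.hom ≫ α₂.inv) ≫ α₂.hom = 𝟙 _ ≫ α₁.hom
        simp

/-- The graph of `g : 𝒳 ⟶ 𝒴` over `𝒯` inherits the properties of the diagonal of `q : 𝒴 ⟶ 𝒯`. -/
theorem repByAlgSpWith_graph (P : MorphismProperty (AlgSp.Sp S))
    (h : AlgSt.RepByAlgSpWith P (FibCat.diag q)) :
    AlgSt.RepByAlgSpWith P (FibCat.fpLift (BasedFunctor.id 𝒳) g e) :=
  repByAlgSpWith_of_isTwoCartOver P (graphMap p q g e) g (graphSqIso p q g e)
    (graph_isTwoCartOver p q g e) h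

end Graph

section Section

variable {𝒳 𝒯 : AlgSt.Cat S} (f : 𝒳 ⥤ᵇ 𝒯)

/-- `𝒳 ⟶ 𝒯 ×_𝒯 𝒳`, `x ↦ (f x, x, 𝟙)`. -/
def fpIdLeftInv : 𝒳 ⥤ᵇ FibCat.fp (BasedFunctor.id 𝒯) f :=
  FibCat.fpLift (F := BasedFunctor.id 𝒯) (G := f) f (BasedFunctor.id 𝒳) (BasedNatIso.id _)

theorem fpIdLeftInv_isEquivOver : FibCat.IsEquivOver (fpIdLeftInv f) := by
  apply fpLift_isEquivOver
  · intro x x' m m' _ h2
    exact h2
  · intro x x' φ ψ hw
    have hw' : φ ≫ 𝟙 _ = 𝟙 _ ≫ f.map ψ := hw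
    rw [Category.comp_id, Category.id_comp] at hw'
    exact ⟨ψ, hw'.symm, rfl⟩
  · intro Q
    have hQ : 𝒯.p.IsHomLift (𝟙 (𝒯.p.obj Q.obj.fst)) Q.obj.iso.hom := Q.property
    have hQi : 𝒯.p.IsHomLift (𝟙 (𝒯.p.obj Q.obj.fst)) Q.obj.iso.inv :=
      IsHomLift.lift_id_inv 𝒯.p _ Q.obj.iso
    refine ⟨Q.obj.snd, Q.obj.iso.symm, Iso.refl _, hQi, ?_⟩
    change Q.obj.iso.inv ≫ Q.obj.iso.hom = 𝟙 _ ≫ f.map (𝟙 _)
    simp

/-- A section of `f` inherits the properties of the diagonal of `f`. -/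
theorem repByAlgSpWith_section (s : 𝒯 ⥤ᵇ 𝒳) (e : BasedFunctor.comp s f ≅ BasedFunctor.id 𝒯)
    (P : MorphismProperty (AlgSp.Sp S))
    (h : AlgSt.RepByAlgSpWith P (FibCat.diag f)) : AlgSt.RepByAlgSpWith P s := by
  let e' : BasedFunctor.comp (BasedFunctor.id 𝒯) (BasedFunctor.id 𝒯) ≅ BasedFunctor.comp s f :=
    e.symm
  have h1 := repByAlgSpWith_graph (BasedFunctor.id 𝒯) f s e' P h
  refine (repByAlgSpWith_iff_of_square P
    (FibCat.fpLift (BasedFunctor.id 𝒯) s e') s (BasedFunctor.id 𝒯) (fpIdLeftInv f)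
    isEquivOver_id (fpIdLeftInv_isEquivOver f) ?_).mp h1
  refine fpIsoMk (e : BasedFunctor.comp (BasedFunctor.comp s (fpIdLeftInv f)) (FibCat.fpFst _ _) ≅
    BasedFunctor.comp (BasedFunctor.comp (BasedFunctor.id 𝒯)
      (FibCat.fpLift (BasedFunctor.id 𝒯) s e')) (FibCat.fpFst _ _)) (BasedNatIso.id _) ?_
  intro τ
  change e.hom.toNatTrans.app τ ≫ e.inv.toNatTrans.app τ = 𝟙 _ ≫ f.map (𝟙 _)
  rw [iso_hom_inv_app, CategoryTheory.Functor.map_id, Category.id_comp]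
  rfl

end Section

section DiagBC

variable {𝒳 𝒴 𝒴' : AlgSt.Cat S} (g : 𝒴' ⥤ᵇ 𝒴) (f : 𝒳 ⥤ᵇ 𝒴)

/-- The 2-isomorphism used by `diagBase`: at `(P₁, P₂, ψ)` it is `φ₁⁻¹ ≫ g ψ ≫ φ₂`. -/
def diagBaseIso :
    BasedFunctor.comp (BasedFunctor.comp (FibCat.fpFst (FibCat.fpFst g f) (FibCat.fpFst g f))
      (FibCat.fpSnd g f)) f ≅
    BasedFunctor.comp (BasedFunctor.comp (FibCat.fpSnd (FibCat.fpFst g f) (FibCat.fpFst g f))
      (FibCat.fpSnd g f)) f :=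
  ((whiskerLeftIso (FibCat.fpFst (FibCat.fpFst g f) (FibCat.fpFst g f)) (FibCat.fpIso g f).symm :
      BasedFunctor.comp (BasedFunctor.comp (FibCat.fpFst (FibCat.fpFst g f) (FibCat.fpFst g f))
        (FibCat.fpSnd g f)) f ≅
      BasedFunctor.comp (BasedFunctor.comp (FibCat.fpFst (FibCat.fpFst g f) (FibCat.fpFst g f))
        (FibCat.fpFst g f)) g)) ≪≫
    whiskerRightIso (FibCat.fpIso (FibCat.fpFst g f) (FibCat.fpFst g f)) g ≪≫
    (whiskerLeftIso (FibCat.fpSnd (FibCat.fpFst g f) (FibCat.fpFst g f)) (FibCat.fpIso g f) :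
      BasedFunctor.comp (BasedFunctor.comp (FibCat.fpSnd (FibCat.fpFst g f) (FibCat.fpFst g f))
        (FibCat.fpFst g f)) g ≅
      BasedFunctor.comp (BasedFunctor.comp (FibCat.fpSnd (FibCat.fpFst g f) (FibCat.fpFst g f))
        (FibCat.fpSnd g f)) f)

/-- `(𝒴' ×_𝒴 𝒳) ×_{𝒴'} (𝒴' ×_𝒴 𝒳) ⟶ 𝒳 ×_𝒴 𝒳`. -/
def diagBase : FibCat.fp (FibCat.fpFst g f) (FibCat.fpFst g f) ⥤ᵇ FibCat.fp f f :=
  FibCat.fpLift
    (BasedFunctor.comp (FibCat.fpFst (FibCat.fpFst g f) (FibCat.fpFst g f)) (FibCat.fpSnd g f))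
    (BasedFunctor.comp (FibCat.fpSnd (FibCat.fpFst g f) (FibCat.fpFst g f)) (FibCat.fpSnd g f))
    (diagBaseIso g f)

theorem diagBase_obj_iso_hom (W : (FibCat.fp (FibCat.fpFst g f) (FibCat.fpFst g f)).obj) :
    ((diagBase g f).obj W).obj.iso.hom =
      W.obj.fst.obj.iso.inv ≫ g.map W.obj.iso.hom ≫ W.obj.snd.obj.iso.hom := rfl

/-- The square of the diagonal of the base change over the diagonal of `f` 2-commutes. -/
def diagSqIso' : BasedFunctor.comp (FibCat.diag (FibCat.fpFst g f)) (diagBase g f) ≅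
    BasedFunctor.comp (FibCat.fpSnd g f) (FibCat.diag f) :=
  fpIsoMk (BasedNatIso.id _) (BasedNatIso.id _) (by
    intro P
    change f.map (𝟙 _) ≫ 𝟙 _ =
      (P.obj.iso.inv ≫ g.map (𝟙 _) ≫ P.obj.iso.hom) ≫ f.map (𝟙 _)
    simp)

/-- The diagonal of the base change `𝒴' ×_𝒴 𝒳 ⟶ 𝒴'` is a base change of the diagonal of `f`. -/
theorem diag_fpFst_isTwoCartOver :
    FibCat.IsTwoCartOver (F := diagBase g f) (G := FibCat.diag f)
      (FibCat.diag (FibCat.fpFst g f)) (FibCat.fpSnd g f) (diagSqIso' g f) := by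
  apply fpLift_isEquivOver
  · intro P P' m m' h1 _
    exact congrArg (fun k => k.hom.fst) h1
  · intro P P' φ ψ hw
    have hw1 : φ.hom.fst.hom.snd ≫ 𝟙 _ = 𝟙 _ ≫ ψ := congrArg (fun k => k.hom.fst) hw
    have hw2 : φ.hom.snd.hom.snd ≫ 𝟙 _ = 𝟙 _ ≫ ψ := congrArg (fun k => k.hom.snd) hw
    rw [Category.comp_id, Category.id_comp] at hw1 hw2
    have hφ : φ.hom.fst.hom.fst ≫ 𝟙 _ = 𝟙 _ ≫ φ.hom.snd.hom.fst := φ.hom.w
    rw [Category.comp_id, Category.id_comp] at hφ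
    have heq : φ.hom.fst = φ.hom.snd := by
      apply ObjectProperty.hom_ext
      apply CategoricalPullback.hom_ext
      · exact hφ
      · exact hw1.trans hw2.symm
    refine ⟨φ.hom.fst, ?_, hw1⟩
    apply ObjectProperty.hom_ext
    apply CategoricalPullback.hom_ext
    · rfl
    · exact heq
  · intro R
    let P₁ := R.obj.fst.obj.fst
    let P₂ := R.obj.fst.obj.snd
    let ψ : P₁.obj.fst ≅ P₂.obj.fst := R.obj.fst.obj.iso
    let ι₁ : P₁.obj.snd ≅ R.obj.snd := (FibCat.fpFst f f).toFunctor.mapIso R.obj.iso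
    let ι₂ : P₂.obj.snd ≅ R.obj.snd := (FibCat.fpSnd f f).toFunctor.mapIso R.obj.iso
    have hc : f.map ι₁.hom ≫ 𝟙 _ =
        (P₁.obj.iso.inv ≫ g.map ψ.hom ≫ P₂.obj.iso.hom) ≫ f.map ι₂.hom :=
      R.obj.iso.hom.hom.w
    rw [Category.comp_id] at hc
    have compatκ : g.map ψ.hom ≫ P₂.obj.iso.hom =
        P₁.obj.iso.hom ≫ f.map (ι₁ ≪≫ ι₂.symm).hom := by
      have e1 : f.map ι₂.hom ≫ f.map ι₂.inv = 𝟙 _ := by
        rw [← Functor.map_comp, Iso.hom_inv_id, CategoryTheory.Functor.map_id]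
      change g.map ψ.hom ≫ P₂.obj.iso.hom = P₁.obj.iso.hom ≫ f.map (ι₁.hom ≫ ι₂.inv)
      rw [Functor.map_comp, hc]
      simp only [Category.assoc, e1, Category.comp_id, Iso.hom_inv_id_assoc]
    let κ : P₁ ≅ P₂ :=
      ObjectProperty.isoMk _ (CategoricalPullback.mkIso ψ (ι₁ ≪≫ ι₂.symm) compatκ)
    have compatα : (FibCat.fpFst g f).map (Iso.refl P₁).hom ≫ R.obj.fst.obj.iso.hom =
        ((FibCat.diag (FibCat.fpFst g f)).obj P₁).obj.iso.hom ≫ (FibCat.fpFst g f).map κ.hom := by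
      change (FibCat.fpFst g f).map (𝟙 P₁) ≫ ψ.hom = 𝟙 _ ≫ ψ.hom
      rw [CategoryTheory.Functor.map_id]
      rfl
    let α : (FibCat.diag (FibCat.fpFst g f)).obj P₁ ≅ R.obj.fst :=
      ObjectProperty.isoMk _ (CategoricalPullback.mkIso (Iso.refl P₁) κ compatα)
    refine ⟨P₁, α, ι₁, ?_, ?_⟩
    · rw [fp_isHomLift_iff]
      exact IsHomLift.id rfl
    · apply ObjectProperty.hom_ext
      apply CategoricalPullback.hom_ext
      · change (FibCat.fpSnd g f).map (𝟙 P₁) ≫ ι₁.hom = 𝟙 _ ≫ ι₁.hom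
        rw [CategoryTheory.Functor.map_id]
        rfl
      · change (ι₁.hom ≫ ι₂.inv) ≫ ι₂.hom = 𝟙 _ ≫ ι₁.hom
        simp

/-- The diagonal of the base change inherits the properties of the diagonal of `f`. -/
theorem repByAlgSpWith_diag_fpFst (P : MorphismProperty (AlgSp.Sp S))
    (h : AlgSt.RepByAlgSpWith P (FibCat.diag f)) :
    AlgSt.RepByAlgSpWith P (FibCat.diag (FibCat.fpFst g f)) :=
  repByAlgSpWith_of_isTwoCartOver P (FibCat.diag (FibCat.fpFst g f)) (FibCat.fpSnd g f)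
    (diagSqIso' g f) (diag_fpFst_isTwoCartOver g f) h

end DiagBC

end Groth.Agent.Lib.Helper80
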