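import Groth.Agent.Lib.Helper80.AlgStT
import Groth.Agent.Lib.Helper80.AlgStBC

/-!
# Consequences of the space-test theorem (helper80)
-/

set_option autoImplicit false
set_option backward.isDefEq.respectTransparency false

universe u

open CategoryTheory CategoryTheory.Functor CategoryTheory.Limits AlgebraicGeometry Opposite

namespace Groth.Agent.Lib.Helper80

open BasedFunctor

variable {S : Scheme.{u}}

/-- The slice `(Sch/U)` is fibred in groupoids over `(Sch/S)`. -/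
theorem overCat_isFibGrpd (U : Over S) : FibCat.IsFibGrpd (FibCat.overCat U).p :=
  (IsEquivOver.isFibGrpd_iff (toOverCat_isEquivOver U)).mp (Stk.isFibGrpd_ofPsh _)

/-- The slice `(Sch/U)` is representable by an algebraic space (the scheme `U`). -/
theorem repByAlgSp_overCat (U : Over S) : AlgSt.RepByAlgSp (FibCat.overCat U) :=
  ⟨⟨(AlgSp.yon S).obj U, AlgSp.IsAlgSpace.yon_obj U⟩, AlgSt.toOverCat U, toOverCat_isEquivOver U⟩

/-- Being representable by an algebraic space is invariant under equivalence over `(Sch/S)`. -/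
theorem repByAlgSp_of_isEquivOver {𝒜 ℬ : AlgSt.Cat S} (E : 𝒜 ⥤ᵇ ℬ) (hE : FibCat.IsEquivOver E)
    (h : AlgSt.RepByAlgSp 𝒜) : AlgSt.RepByAlgSp ℬ := by
  obtain ⟨F, e, he⟩ := h
  exact ⟨F, BasedFunctor.comp e E, IsEquivOver.comp he hE⟩

variable {𝒳 𝒴 : AlgSt.Cat S}

/-- Space-test theorem, plain form. -/
theorem repByAlgSp_fp_ofSp (h𝒳 : FibCat.IsFibGrpd 𝒳.p) (h𝒴 : FibCat.IsFibGrpd 𝒴.p) (f : 𝒳 ⥤ᵇ 𝒴)
    (hf : AlgSt.RepByAlgSp1 f) (Z : AlgSp.Space S) (z : AlgSt.ofSp Z.obj ⥤ᵇ 𝒴) :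
    AlgSt.RepByAlgSp (FibCat.fp z f) := by
  obtain ⟨V, a, e, he, -, -⟩ := exists_space_fp h𝒳 h𝒴 f hf Z z
  exact ⟨V, e, he⟩

/-- Space-test theorem for a source representable by an algebraic space. -/
theorem repByAlgSp_fp_of_repByAlgSp (h𝒳 : FibCat.IsFibGrpd 𝒳.p) (h𝒴 : FibCat.IsFibGrpd 𝒴.p)
    (f : 𝒳 ⥤ᵇ 𝒴) (hf : AlgSt.RepByAlgSp1 f) {𝒰 : AlgSt.Cat S} (h𝒰 : AlgSt.RepByAlgSp 𝒰)
    (x : 𝒰 ⥤ᵇ 𝒴) : AlgSt.RepByAlgSp (FibCat.fp x f) := by
  obtain ⟨Z, E, hE⟩ := h𝒰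
  have h1 := repByAlgSp_fp_ofSp h𝒳 h𝒴 f hf Z (BasedFunctor.comp E x)
  exact repByAlgSp_of_isEquivOver _
    (fpMapLeft_isEquivOver x f E (BasedFunctor.comp E x) (BasedNatIso.id _) hE) h1

end Groth.Agent.Lib.Helper80
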