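import Groth.Agent.Lib.Helper80.AlgStTP2
import Groth.Agent.Lib.Helper78.AlgSpLocP2

/-!
# Atlas-local properties, composition of representable morphisms and of diagonals (helper80)
-/

set_option autoImplicit false
set_option backward.isDefEq.respectTransparency false

universe u

open CategoryTheory CategoryTheory.Functor CategoryTheory.Limits AlgebraicGeometry Opposite

namespace Groth.Agent.Lib.Helper80

open BasedFunctor

variable {S : Scheme.{u}}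

/-- A property of morphisms of algebraic spaces that can be checked after base change to an atlas of the target. -/
def AtlasLocal (P : MorphismProperty (AlgSp.Sp S)) : Prop :=
  ∀ ⦃V Z A : AlgSp.Sp S⦄ ⦃U : Over S⦄ (a : V ⟶ Z) (p : (AlgSp.yon S).obj U ⟶ Z) (q : A ⟶ V)
    (r : A ⟶ (AlgSp.yon S).obj U), AlgSp.IsAlgSpace V → AlgSp.IsAlgSpace Z → AlgSp.IsAlgSpace A →
    AlgSp.RepWith @Etale p → AlgSp.RepWith @Surjective p → IsPullback q r a p → P r → P a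

theorem atlasLocal_of_isLocalOnBase_fppf (P : MorphismProperty (AlgSp.Sp S))
    (hP : AlgSp.IsLocalOnBase AlgSp.IsFppfCover P) : AtlasLocal P := by
  intro V Z A U a p q r hV hZ hA hp1 hp2 sq hr
  exact (hP (fun _ : PUnit.{u + 1} => (AlgSp.yon S).obj U) (fun _ => p) hZ
    (fun _ => AlgSp.IsAlgSpace.yon_obj U) (atlas_isFppfCover p hp1 hp2) a hV
    (fun _ => A) (fun _ => r) (fun _ => q) (fun _ => hA) (fun _ => sq)).mpr (fun _ => hr)

/-- An atlas is an etale covering. -/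
theorem atlas_isEtCover {Z : AlgSp.Sp S} {U : Over S} (p : (AlgSp.yon S).obj U ⟶ Z)
    (hp1 : AlgSp.RepWith @Etale p) (hp2 : AlgSp.RepWith @Surjective p) :
    AlgSp.IsEtCover (fun _ : PUnit.{u + 1} => (AlgSp.yon S).obj U) (fun _ => p) := by
  refine ⟨fun _ => ?_, fun x =>
    ⟨PUnit.unit, Groth.Agent.Lib.Helper51.surjective_map_of_repWith_surjective hp2 x⟩⟩
  intro U' φ hφ
  exact (AlgSp.RepWith (S := S) @Etale).comp_mem _ _ hφ hp1

theorem atlasLocal_of_isLocalOnBase_et (P : MorphismProperty (AlgSp.Sp S))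
    (hP : AlgSp.IsLocalOnBase AlgSp.IsEtCover P) : AtlasLocal P := by
  intro V Z A U a p q r hV hZ hA hp1 hp2 sq hr
  exact (hP (fun _ : PUnit.{u + 1} => (AlgSp.yon S).obj U) (fun _ => p) hZ
    (fun _ => AlgSp.IsAlgSpace.yon_obj U) (atlas_isEtCover p hp1 hp2) a hV
    (fun _ => A) (fun _ => r) (fun _ => q) (fun _ => hA) (fun _ => sq)).mpr (fun _ => hr)

open Groth.Agent.Lib.Helper78.AlgSpLocP in
/-- `LocP Q` is atlas-local for `Q` etale local on the source-and-target. -/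
theorem atlasLocal_locP {Q : MorphismProperty Scheme.{u}} (hQ : EtLocalST Q) :
    AtlasLocal (S := S) (AlgSp.LocP Q) := by
  intro V Z A U a p q r hV hZ hA hp1 hp2 sq hr
  obtain ⟨W, c, hc1, hc2⟩ := hA.atlas
  -- `q` is etale surjective as a base change of `p`
  have hq1 : AlgSp.RepWith @Etale q := MorphismProperty.of_isPullback sq.flip hp1
  have hq2 : AlgSp.RepWith @Surjective q := MorphismProperty.of_isPullback sq.flip hp2
  obtain ⟨h, hh⟩ := (AlgSp.yon S).map_surjective (c ≫ r)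
  have hQh : Q h.left := by
    refine hr c (𝟙 _) h hc1 (AlgSp.repWith_id _ U) ?_
    rw [hh, Category.comp_id]
  refine locP_of_chart hQ a (c ≫ q) p h
    ((AlgSp.RepWith (S := S) @Etale).comp_mem _ _ hc1 hq1)
    ((AlgSp.RepWith (S := S) @Surjective).comp_mem _ _ hc2 hq2) hp1 ?_ hQh
  rw [Category.assoc, sq.w, ← Category.assoc, hh]

variable {𝒳 𝒴 𝒵 : AlgSt.Cat S}

/-- Space-test theorem with an atlas-local property. -/
theorem exists_space_fp_with' (h𝒳 : FibCat.IsFibGrpd 𝒳.p) (h𝒴 : FibCat.IsFibGrpd 𝒴.p)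
    (P : MorphismProperty (AlgSp.Sp S)) (hP : AtlasLocal P)
    (f : 𝒳 ⥤ᵇ 𝒴) (hf : AlgSt.RepByAlgSpWith P f) (Z : AlgSp.Space S) (z : AlgSt.ofSp Z.obj ⥤ᵇ 𝒴) :
    ∃ (V : AlgSp.Space S) (a : V ⟶ Z) (e : AlgSt.ofSp V.obj ⥤ᵇ FibCat.fp z f),
      FibCat.IsEquivOver e ∧
      Nonempty (BasedFunctor.comp e (FibCat.fpFst z f) ≅ AlgSt.ofSpMap a.hom) ∧ P a.hom := by
  obtain ⟨V, a, e, he, i, hsq⟩ :=
    exists_space_fp h𝒳 h𝒴 f (repByAlgSp1_of_repByAlgSpWith P hf) Z z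
  refine ⟨V, a, e, he, i, ?_⟩
  obtain ⟨U, p, hp1, hp2⟩ := Z.property.atlas
  obtain ⟨FU, eU, heU, hPU⟩ := hf U (BasedFunctor.comp (ptFun p.hom) z)
  obtain ⟨q, sq⟩ := hsq U p FU.obj eU heU
  exact hP a.hom p q _ V.property Z.property FU.property hp1 hp2 sq hPU

/-- Composition of morphisms representable by algebraic spaces with an atlas-local property stable under
composition. -/
theorem repByAlgSpWith_comp (h𝒳 : FibCat.IsFibGrpd 𝒳.p) (h𝒴 : FibCat.IsFibGrpd 𝒴.p)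
    (P : MorphismProperty (AlgSp.Sp S)) (hP : AtlasLocal P)
    (hPc : ∀ ⦃X Y Z : AlgSp.Sp S⦄, AlgSp.IsAlgSpace X → AlgSp.IsAlgSpace Y → AlgSp.IsAlgSpace Z →
      ∀ (a : X ⟶ Y) (b : Y ⟶ Z), P a → P b → P (a ≫ b))
    (f : 𝒳 ⥤ᵇ 𝒴) (g : 𝒴 ⥤ᵇ 𝒵) (hf : AlgSt.RepByAlgSpWith P f) (hg : AlgSt.RepByAlgSpWith P g) :
    AlgSt.RepByAlgSpWith P (BasedFunctor.comp f g) := by
  intro U y
  obtain ⟨G, eg, heg, hPg⟩ := hg U y
  obtain ⟨V, a, e, he, ⟨i⟩, hPa⟩ := exists_space_fp_with' h𝒳 h𝒴 P hP f hf G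
    (BasedFunctor.comp eg (FibCat.fpSnd y g))
  exact comp_transfer P f g y G eg heg V a e he i
    (hPc V.property G.property (AlgSp.IsAlgSpace.yon_obj U) a.hom _ hPa hPg)

/-- Invariance of `RepByAlgSpWith P` under isomorphism of functors. -/
theorem repByAlgSpWith_of_iso (P : MorphismProperty (AlgSp.Sp S)) {f f' : 𝒳 ⥤ᵇ 𝒴} (i : f ≅ f')
    (hf : AlgSt.RepByAlgSpWith P f) : AlgSt.RepByAlgSpWith P f' :=
  (repByAlgSpWith_iff_of_square P f f' (BasedFunctor.id _) (BasedFunctor.id _) isEquivOver_id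
    isEquivOver_id (i.symm : BasedFunctor.comp f' (BasedFunctor.id _) ≅
      BasedFunctor.comp (BasedFunctor.id _) f)).mp hf

/-- The comparison functor `𝒳 ×_𝒴 𝒳 ⟶ 𝒳 ×_𝒵 𝒳`. -/
def diagComparison (f : 𝒳 ⥤ᵇ 𝒴) (g : 𝒴 ⥤ᵇ 𝒵) :
    FibCat.fp f f ⥤ᵇ FibCat.fp (BasedFunctor.comp f g) (BasedFunctor.comp f g) :=
  FibCat.fpLift (FibCat.fpFst f f) (FibCat.fpSnd f f)
    (whiskerRightIso (FibCat.fpIso f f) g :
      BasedFunctor.comp (FibCat.fpFst f f) (BasedFunctor.comp f g) ≅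
        BasedFunctor.comp (FibCat.fpSnd f f) (BasedFunctor.comp f g))

/-- The diagonal of a composite is the diagonal of the first followed by the comparison functor. -/
def diagCompIso (f : 𝒳 ⥤ᵇ 𝒴) (g : 𝒴 ⥤ᵇ 𝒵) :
    BasedFunctor.comp (FibCat.diag f) (diagComparison f g) ≅ FibCat.diag (BasedFunctor.comp f g) :=
  fpIsoMk (BasedNatIso.id _) (BasedNatIso.id _) (by
    intro x
    change (BasedFunctor.comp f g).map (𝟙 _) ≫ 𝟙 _ = g.map (𝟙 _) ≫ (BasedFunctor.comp f g).map (𝟙 _)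
    simp)

/-- The diagonal of a composite has an atlas-local, composition-stable property `P` as soon as the two diagonals
do. -/
theorem repByAlgSpWith_diag_comp (h𝒳 : FibCat.IsFibGrpd 𝒳.p) (h𝒴 : FibCat.IsFibGrpd 𝒴.p)
    (P : MorphismProperty (AlgSp.Sp S)) (hP : AtlasLocal P)
    (hPc : ∀ ⦃X Y Z : AlgSp.Sp S⦄, AlgSp.IsAlgSpace X → AlgSp.IsAlgSpace Y → AlgSp.IsAlgSpace Z →
      ∀ (a : X ⟶ Y) (b : Y ⟶ Z), P a → P b → P (a ≫ b))
    (f : 𝒳 ⥤ᵇ 𝒴) (g : 𝒴 ⥤ᵇ 𝒵) (hf : AlgSt.RepByAlgSpWith P (FibCat.diag f))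
    (hg : AlgSt.RepByAlgSpWith P (FibCat.diag g)) :
    AlgSt.RepByAlgSpWith P (FibCat.diag (BasedFunctor.comp f g)) := by
  have hc : AlgSt.RepByAlgSpWith P (diagComparison f g) :=
    repByAlgSpWith_fpComparison P f f g _ (fun x => rfl) hg
  have h1 := repByAlgSpWith_comp h𝒳 (fp_isFibGrpd f f h𝒳 h𝒳 h𝒴) P hP hPc (FibCat.diag f)
    (diagComparison f g) hf hc
  exact repByAlgSpWith_of_iso P (diagCompIso f g) h1

end Groth.Agent.Lib.Helper80
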