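import Groth.Agent.Lib.Helper80.AlgStCancel
import Groth.Agent.Lib.Helper80.AlgStTP3
import Groth.Agent.Lib.Helper80.AlgStT2
import Groth.Agent.Lib.Helper80.AlgStBC
import Groth.Agent.Lib.Helper78.AlgSpLocP3
import Groth.Agent.Lib.Helper78.AlgSpLocPSmooth
import Groth.Agent.Lib.Helper52.Points

/-!
# Atlases: surjectivity, charts of algebraic spaces as functors, atlas of the source of a representable morphism (helper80)
-/

set_option autoImplicit false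
set_option backward.isDefEq.respectTransparency false

universe u

open CategoryTheory CategoryTheory.Functor CategoryTheory.Limits AlgebraicGeometry Opposite

namespace Groth.Agent.Lib.Helper80

open BasedFunctor

variable {S : Scheme.{u}}

section Surj

theorem isSurjectiveMor_comp {X Y Z : AlgSp.Sp S} (a : X ⟶ Y) (b : Y ⟶ Z)
    (ha : AlgSp.IsSurjectiveMor a) (hb : AlgSp.IsSurjectiveMor b) : AlgSp.IsSurjectiveMor (a ≫ b) := by
  intro z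
  obtain ⟨y, hy⟩ := hb z
  obtain ⟨x, hx⟩ := ha y
  exact ⟨x, by rw [AlgSp.Points.map_comp, hx, hy]⟩

theorem isSurjectiveMor_of_comp {X Y Z : AlgSp.Sp S} (a : X ⟶ Y) (b : Y ⟶ Z)
    (hab : AlgSp.IsSurjectiveMor (a ≫ b)) : AlgSp.IsSurjectiveMor b := by
  intro z
  obtain ⟨x, hx⟩ := hab z
  exact ⟨AlgSp.Points.map a x, by rw [← AlgSp.Points.map_comp, hx]⟩

theorem isSurjectiveMor_baseChange {X Y X' Y' : AlgSp.Sp S} {f : X ⟶ Y} {g : Y' ⟶ Y}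
    {fst : X' ⟶ X} {f' : X' ⟶ Y'} (sq : IsPullback fst f' f g) (hs : AlgSp.IsSurjectiveMor f) :
    AlgSp.IsSurjectiveMor f' := by
  intro y'
  obtain ⟨x, hx⟩ := hs (AlgSp.Points.map g y')
  obtain ⟨w, -, hw⟩ := Groth.Agent.Lib.Helper52.exists_point_of_isPullback sq x y' hx
  exact ⟨w, hw⟩

theorem atlasLocal_isSurjectiveMor : AtlasLocal (S := S) AlgSp.IsSurjectiveMor := by
  intro V Z A U a p q r hV hZ hA hp1 hp2 sq hr
  have hp : AlgSp.IsSurjectiveMor p :=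
    Groth.Agent.Lib.Helper51.surjective_map_of_repWith_surjective hp2
  have h1 : AlgSp.IsSurjectiveMor (q ≫ a) := by
    rw [sq.w]
    exact isSurjectiveMor_comp r p hr hp
  exact isSurjectiveMor_of_comp q a h1

variable {𝒳 𝒴 𝒵 : AlgSt.Cat S}

theorem repByAlgSpWith_isSurjectiveMor_comp (h𝒳 : FibCat.IsFibGrpd 𝒳.p) (h𝒴 : FibCat.IsFibGrpd 𝒴.p)
    (f : 𝒳 ⥤ᵇ 𝒴) (g : 𝒴 ⥤ᵇ 𝒵) (hf : AlgSt.RepByAlgSpWith AlgSp.IsSurjectiveMor f)
    (hg : AlgSt.RepByAlgSpWith AlgSp.IsSurjectiveMor g) :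
    AlgSt.RepByAlgSpWith AlgSp.IsSurjectiveMor (BasedFunctor.comp f g) :=
  repByAlgSpWith_comp h𝒳 h𝒴 _ atlasLocal_isSurjectiveMor
    (fun _ _ _ _ _ _ a b ha hb => isSurjectiveMor_comp a b ha hb) f g hf hg

open Groth.Agent.Lib.Helper78.AlgSpLocP in
theorem repByAlgSpWith_locP_comp {Q : MorphismProperty Scheme.{u}} (hQ : EtLocalST Q)
    [Q.IsStableUnderComposition]
    (h𝒳 : FibCat.IsFibGrpd 𝒳.p) (h𝒴 : FibCat.IsFibGrpd 𝒴.p)
    (f : 𝒳 ⥤ᵇ 𝒴) (g : 𝒴 ⥤ᵇ 𝒵) (hf : AlgSt.RepByAlgSpWith (AlgSp.LocP Q) f)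
    (hg : AlgSt.RepByAlgSpWith (AlgSp.LocP Q) g) :
    AlgSt.RepByAlgSpWith (AlgSp.LocP Q) (BasedFunctor.comp f g) :=
  repByAlgSpWith_comp h𝒳 h𝒴 _ (atlasLocal_locP hQ)
    (fun _ _ _ _ hY _ a b ha hb => locP_comp hQ a b hY.atlas ha hb) f g hf hg

end Surj

section Chart

/-- A morphism `c : h_W ⟶ F` into an algebraic space with a base-change-stable property `P`, as a functor
`(Sch/W) ⟶ ofSp F` followed by an equivalence `e`, is representable by algebraic spaces with `P`. -/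
theorem repByAlgSpWith_chart (P : MorphismProperty (AlgSp.Sp S))
    (hPb : ∀ ⦃X₁ Y₁ X₂ Y₂ : AlgSp.Sp S⦄, AlgSp.IsAlgSpace X₁ → AlgSp.IsAlgSpace Y₁ → AlgSp.IsAlgSpace X₂ →
      AlgSp.IsAlgSpace Y₂ → ∀ (a : X₁ ⟶ Y₁) (b : Y₂ ⟶ Y₁) (a' : X₂ ⟶ Y₂) (b' : X₂ ⟶ X₁),
      IsPullback b' a' a b → P a → P a')
    {F : AlgSp.Sp S} (hF : AlgSp.IsAlgSpace F) {W : Over S} (c : (AlgSp.yon S).obj W ⟶ F) (hc : P c)
    {𝒬 : AlgSt.Cat S} (e : AlgSt.ofSp F ⥤ᵇ 𝒬) (he : FibCat.IsEquivOver e) :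
    AlgSt.RepByAlgSpWith P (BasedFunctor.comp (ptFun c.hom) e) := by
  have h1 : AlgSt.RepByAlgSpWith P (AlgSt.ofSpMap c) :=
    repByAlgSpWith_ofSpMap P hPb (AlgSp.IsAlgSpace.yon_obj W) hF c hc
  exact (repByAlgSpWith_iff_of_square P (BasedFunctor.comp (ptFun c.hom) e) (AlgSt.ofSpMap c)
    (AlgSt.toOverCat W) e (toOverCat_isEquivOver W) he
    (BasedNatIso.id _ : BasedFunctor.comp (AlgSt.ofSpMap c) e ≅
      BasedFunctor.comp (AlgSt.toOverCat W) (BasedFunctor.comp (ptFun c.hom) e))).mpr h1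

end Chart

end Groth.Agent.Lib.Helper80
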