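import Groth.Agent.Lib.Helper80.AlgStPsh3
import Groth.Agent.Lib.Helper80.FibCat19

/-!
# Functors between categories representable by algebraic spaces; the diagonal criterion (helper80)
-/

set_option autoImplicit false
set_option backward.isDefEq.respectTransparency false

universe u

open CategoryTheory CategoryTheory.Functor CategoryTheory.Limits AlgebraicGeometry Opposite

namespace Groth.Agent.Lib.Helper80

open BasedFunctor

variable {S : Scheme.{u}}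

theorem repByAlgSp1_of_iso {𝒳 𝒴 : AlgSt.Cat S} {f f' : 𝒳 ⥤ᵇ 𝒴} (i : f ≅ f')
    (hf : AlgSt.RepByAlgSp1 f) : AlgSt.RepByAlgSp1 f' :=
  (repByAlgSp1_iff_of_square f f' (BasedFunctor.id _) (BasedFunctor.id _) isEquivOver_id
    isEquivOver_id (i.symm : BasedFunctor.comp f' (BasedFunctor.id _) ≅
      BasedFunctor.comp (BasedFunctor.id _) f)).mp hf

/-- `S12775` without the groupoid hypotheses. -/
theorem repByAlgSp1_of_repByAlgSp {𝒳 𝒴 : AlgSt.Cat S}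
    (hX : AlgSt.RepByAlgSp 𝒳) (hY : AlgSt.RepByAlgSp 𝒴) (f : 𝒳 ⥤ᵇ 𝒴) :
    AlgSt.RepByAlgSp1 f := by
  obtain ⟨F, e, he⟩ := hX
  obtain ⟨G, e', he'⟩ := hY
  obtain ⟨d, hd, ⟨η⟩, ⟨ε⟩⟩ := IsEquivOver.symm he'
  let f' : AlgSt.ofSp F.obj ⥤ᵇ AlgSt.ofSp G.obj := BasedFunctor.comp (BasedFunctor.comp e f) d
  have i : BasedFunctor.comp f' e' ≅ BasedFunctor.comp e f :=
    whiskerLeftIso (BasedFunctor.comp e f) ε
  rw [repByAlgSp1_iff_of_square f f' e e' he he' i]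
  let α : F.obj ⟶ G.obj := ⟨pshMapOf f'⟩
  have h1 : AlgSt.RepByAlgSp1 (AlgSt.ofSpMap α) := repByAlgSp1_ofSpMap F.property G.property α
  exact repByAlgSp1_of_iso (ofPshMapIso f') h1

/-- Every `(Sch/U) ⟶ 𝒳` is representable by algebraic spaces if the diagonal of `𝒳` is. -/
theorem repByAlgSp1_of_diag {𝒳 : AlgSt.Cat S}
    (hΔ : AlgSt.RepByAlgSp1 (FibCat.diag (FibCat.toSelf 𝒳)))
    (U : Over S) (x : FibCat.overCat U ⥤ᵇ 𝒳) : AlgSt.RepByAlgSp1 x := by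
  intro V y
  let a := overMap (prod.fst : V ⨯ U ⟶ V)
  let b := overMap (prod.snd : V ⨯ U ⟶ U)
  let ε' : BasedFunctor.comp (BasedFunctor.comp a y) (FibCat.toSelf 𝒳) ≅
    BasedFunctor.comp (BasedFunctor.comp b x) (FibCat.toSelf 𝒳) := selfOverIso _ _
  have h1 := magic_isEquivOver y x a b ε' (selfOverIso _ _) (overProd_isFFEssSurjOver V U _)
  exact (repByAlgSp_iff_of_isEquivOver _ h1).mp (hΔ (V ⨯ U) (pairToSq y x a b ε'))

/-- The diagonal of `𝒳` is representable by algebraic spaces if every `(Sch/U) ⟶ 𝒳` is. -/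
theorem repByAlgSp1_diag_of_forall {𝒳 : AlgSt.Cat S}
    (hall : ∀ (U : Over S) (x : FibCat.overCat U ⥤ᵇ 𝒳), AlgSt.RepByAlgSp1 x) :
    AlgSt.RepByAlgSp1 (FibCat.diag (FibCat.toSelf 𝒳)) := by
  intro T H
  let pr₁ := FibCat.fpFst (FibCat.toSelf 𝒳) (FibCat.toSelf 𝒳)
  let pr₂ := FibCat.fpSnd (FibCat.toSelf 𝒳) (FibCat.toSelf 𝒳)
  let H₁ := BasedFunctor.comp H pr₁
  let H₂ := BasedFunctor.comp H pr₂
  let a := overMap (prod.fst : T ⨯ T ⟶ T)
  let b := overMap (prod.snd : T ⨯ T ⟶ T)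
  let ε' : BasedFunctor.comp (BasedFunctor.comp a H₁) (FibCat.toSelf 𝒳) ≅
    BasedFunctor.comp (BasedFunctor.comp b H₂) (FibCat.toSelf 𝒳) := selfOverIso _ _
  let H₁₂ := pairToSq H₁ H₂ a b ε'
  let Δ := FibCat.diag (FibCat.toSelf 𝒳)
  have hmagic := magic_isEquivOver H₁ H₂ a b ε' (selfOverIso _ _) (overProd_isFFEssSurjOver T T _)
  have hrep : AlgSt.RepByAlgSp (FibCat.fp H₁₂ Δ) :=
    (repByAlgSp_iff_of_isEquivOver _ hmagic).mpr (hall T H₂ T H₁)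
  have hφ : AlgSt.RepByAlgSp1 (FibCat.fpFst H₁₂ Δ) :=
    repByAlgSp1_of_repByAlgSp hrep (repByAlgSp_overCat (T ⨯ T)) _
  let d : T ⟶ T ⨯ T := prod.lift (𝟙 T) (𝟙 T)
  let i₁ : BasedFunctor.comp H pr₁ ≅ BasedFunctor.comp (BasedFunctor.comp (overMap d) H₁₂) pr₁ :=
    whiskerRightIso (overMapRetractIso d prod.fst (prod.lift_fst _ _)) H₁
  let i₂ : BasedFunctor.comp H pr₂ ≅ BasedFunctor.comp (BasedFunctor.comp (overMap d) H₁₂) pr₂ :=
    whiskerRightIso (overMapRetractIso d prod.snd (prod.lift_snd _ _)) H₂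
  let i : H ≅ BasedFunctor.comp (overMap d) H₁₂ := sqIsoMk i₁ i₂
  have e1 := fpMapLeft_isEquivOver (BasedFunctor.comp (overMap d) H₁₂) Δ (BasedFunctor.id _) H i
    isEquivOver_id
  have e2 := fpPasteLeft_isEquivOver (overMap d) H₁₂ Δ
  have r2 : AlgSt.RepByAlgSp (FibCat.fp (overMap d) (FibCat.fpFst H₁₂ Δ)) := hφ T (overMap d)
  have r1 := (repByAlgSp_iff_of_isEquivOver _ e2).mpr r2
  exact (repByAlgSp_iff_of_isEquivOver _ e1).mpr r1

end Groth.Agent.Lib.Helper80
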