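import Groth.Agent.Lib.Helper80.StkPsh

/-!
# The category of a presheaf is a stack exactly when the presheaf is a sheaf (helper80)
-/

set_option autoImplicit false
set_option backward.isDefEq.respectTransparency false

universe w v₂ u₂ v u

open CategoryTheory CategoryTheory.Functor CategoryTheory.Limits Opposite

namespace Groth.Agent.Lib.Helper80

open BasedFunctor

variable {C : Type u} [Category.{v} C] {P : Cᵒᵖ ⥤ Type w} {U : C} (R : Sieve U)

/-- The object of `sieveCat R` of an arrow of `R`. -/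
def sieveObj {V : C} (f : V ⟶ U) (hf : R f) : (Stk.sieveCat R).obj := ⟨Over.mk f, hf⟩

/-- The family of sections of a functor `sieveCat R ⟶ ofPsh P` over `C`. -/
def famOf (H : Stk.sieveCat R ⥤ᵇ Stk.ofPsh P) : Presieve.FamilyOfElements P R.arrows :=
  fun _ f hf => secOf H (sieveObj R f hf)

theorem famOf_sieveCompatible (H : Stk.sieveCat R ⥤ᵇ Stk.ofPsh P) : (famOf R H).SieveCompatible := by
  intro Y Z f g hf
  let φ : sieveObj R (g ≫ f) (R.downward_closed hf g) ⟶ sieveObj R f hf :=
    ObjectProperty.homMk (Over.homMk g)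
  exact (secOf_map H φ).symm

theorem fam_congr (x : Presieve.FamilyOfElements P R.arrows) {V : C} {f f' : V ⟶ U} (h : f = f')
    (hf : R f) (hf' : R f') : x f hf = x f' hf' := by
  subst h
  rfl

/-- The functor `sieveCat R ⟶ ofPsh P` over `C` of a compatible family. -/
def famFun (x : Presieve.FamilyOfElements P R.arrows) (hx : x.SieveCompatible) :
    Stk.sieveCat R ⥤ᵇ Stk.ofPsh P where
  toFunctor :=
    { obj := fun a => ⟨a.obj.left, x a.obj.hom a.property⟩
      map := fun {a b} φ => ⟨φ.hom.left, by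
        change P.map φ.hom.left.op (x b.obj.hom b.property) = x a.obj.hom a.property
        rw [← hx]
        exact fam_congr R x (Over.w φ.hom) _ _⟩
      map_id := fun a => by apply Stk.EltObj.hom_ext; rfl
      map_comp := fun f g => by apply Stk.EltObj.hom_ext; rfl }
  w := rfl

theorem secOf_famFun (x : Presieve.FamilyOfElements P R.arrows) (hx : x.SieveCompatible)
    (a : (Stk.sieveCat R).obj) : secOf (famFun R x hx) a = x a.obj.hom a.property := by
  unfold secOf
  exact secAt_rfl _

theorem secOf_sieveIncl (G : FibCat.overCat U ⥤ᵇ Stk.ofPsh P) (a : (Stk.sieveCat R).obj) :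
    secOf (BasedFunctor.comp (Stk.sieveIncl R) G) a = P.map a.obj.hom.op (secOf G (Over.mk (𝟙 U))) :=
  secOf_overCat G a.obj

theorem secOf_eq_famOf (H : Stk.sieveCat R ⥤ᵇ Stk.ofPsh P) (a : (Stk.sieveCat R).obj) :
    secOf H a = famOf R H a.obj.hom a.property := by
  obtain ⟨⟨V, ⟨⟨⟩⟩, f⟩, hf⟩ := a
  rfl

variable (P) in
/-- If `P` is a sheaf for `J`, then `ofPsh P` is a stack for `J`. -/
theorem isStack_ofPsh_of_isSheaf (J : GrothendieckTopology C) (hP : Presieve.IsSheaf J P) :
    Stk.IsStack J (Stk.ofPsh P) := by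
  refine ⟨Stk.isFibGrpd_ofPsh P, fun U R hR => ?_⟩
  have hsh := hP R hR
  have hfaith : (Stk.resSieve R (Stk.ofPsh P)).Faithful := ⟨fun {G G'} {α β} _ => ofPsh_hom_thin α β⟩
  have hfull : (Stk.resSieve R (Stk.ofPsh P)).Full := by
    refine ⟨fun {G G'} α => ?_⟩
    have ht : secOf G (Over.mk (𝟙 U)) = secOf G' (Over.mk (𝟙 U)) := by
      apply hsh.isSeparatedFor.ext
      intro V f hf
      have h1 := secOf_sieveIncl R G (sieveObj R f hf)
      have h2 := secOf_sieveIncl R G' (sieveObj R f hf)
      have h3 := secOf_eq_of_hom α (sieveObj R f hf)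
      exact h1.symm.trans (h3.trans h2)
    have hall : ∀ h : Over U, secOf G h = secOf G' h := fun h => by
      rw [secOf_overCat G h, secOf_overCat G' h, ht]
    exact ⟨(isoOfSecEq G G' hall).hom, ofPsh_hom_thin _ _⟩
  have hess : (Stk.resSieve R (Stk.ofPsh P)).EssSurj := by
    refine ⟨fun H => ?_⟩
    obtain ⟨t, ht, -⟩ := hsh (famOf R H)
      ((Presieve.compatible_iff_sieveCompatible _).mpr (famOf_sieveCompatible R H))
    refine ⟨secFun t, ⟨isoOfSecEq _ _ (fun a => ?_)⟩⟩
    have h1 := secOf_sieveIncl R (secFun (P := P) t) a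
    rw [secOf_secFun] at h1
    have h2 : P.map a.obj.hom.op (P.map (𝟙 U).op t) = P.map a.obj.hom.op t := by
      rw [op_id, P.map_id]; rfl
    refine h1.trans (h2.trans ?_)
    rw [secOf_eq_famOf]
    exact ht a.obj.hom a.property
  exact { faithful := hfaith, full := hfull, essSurj := hess }

/-- If `ofPsh P` is a stack for `J`, then `P` is a sheaf for `J`. -/
theorem isSheaf_of_isStack_ofPsh (J : GrothendieckTopology C) (h : Stk.IsStack J (Stk.ofPsh P)) :
    Presieve.IsSheaf J P := by
  intro U R hR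
  have hE : (Stk.resSieve R (Stk.ofPsh P)).IsEquivalence := h.2 R hR
  intro x hx
  have hx' := (Presieve.compatible_iff_sieveCompatible x).mp hx
  obtain ⟨G, ⟨e⟩⟩ := hE.essSurj.mem_essImage (famFun R x hx')
  have key : ∀ {V : C} (f : V ⟶ U) (hf : R f),
      P.map f.op (secOf G (Over.mk (𝟙 U))) = x f hf := by
    intro V f hf
    have h1 := secOf_sieveIncl R G (sieveObj R f hf)
    have h3 := secOf_eq_of_hom e.hom (sieveObj R f hf)
    have h4 := secOf_famFun R x hx' (sieveObj R f hf)
    exact h1.symm.trans (h3.trans h4)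
  refine ⟨secOf G (Over.mk (𝟙 U)), fun V f hf => key f hf, ?_⟩
  intro t' ht'
  have hall : ∀ a : (Stk.sieveCat R).obj,
      secOf (BasedFunctor.comp (Stk.sieveIncl R) (secFun (P := P) t')) a =
        secOf (BasedFunctor.comp (Stk.sieveIncl R) G) a := by
    intro a
    have h1 := secOf_sieveIncl R (secFun (P := P) t') a
    rw [secOf_secFun] at h1
    have h2 : P.map a.obj.hom.op (P.map (𝟙 U).op t') = P.map a.obj.hom.op t' := by
      rw [op_id, P.map_id]; rfl
    have h3 := secOf_sieveIncl R G a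
    exact h1.trans (h2.trans ((ht' a.obj.hom a.property).trans
      ((key a.obj.hom a.property).symm.trans h3.symm)))
  obtain ⟨β, -⟩ := hE.full.map_surjective (isoOfSecEq _ _ hall).hom
  have h5 := secOf_eq_of_hom β (Over.mk (𝟙 U))
  rw [secOf_secFun] at h5
  have h6 : P.map (𝟙 U).op t' = t' := by
    rw [op_id, P.map_id]; rfl
  exact h6.symm.trans h5

theorem isStack_ofPsh_iff_isSheaf (J : GrothendieckTopology C) (P : Cᵒᵖ ⥤ Type w) :
    Stk.IsStack J (Stk.ofPsh P) ↔ Presieve.IsSheaf J P :=
  ⟨isSheaf_of_isStack_ofPsh J, isStack_ofPsh_of_isSheaf P J⟩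

end Groth.Agent.Lib.Helper80
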