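import Groth.Agent.Lib.Helper80.StkRel
import Groth.Agent.Lib.Helper80.StkPsh2
import Groth.Agent.Lib.Helper80.FibCat21
import Groth.Prelude.Def_AlgSt2
import Groth.Agent.Lib.Helper80.AlgStBC

/-!
# A category representable by algebraic spaces over a stack is a stack (helper80)
-/

set_option autoImplicit false
set_option backward.isDefEq.respectTransparency false

universe v₃ u₃ v₂ u₂ v u

open CategoryTheory CategoryTheory.Functor CategoryTheory.Limits AlgebraicGeometry Opposite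

namespace Groth.Agent.Lib.Helper80

open BasedFunctor

section General

variable {C : Type u} [Category.{v} C] {𝒳 : BasedCategory.{v₂, u₂} C} {𝒴 : BasedCategory.{v₃, u₃} C}

/-- If `𝒴` is a stack and every fibre `(C/U) ×_𝒴 𝒳` of `j : 𝒳 ⟶ 𝒴` is a stack, then `𝒳` is a stack. -/
theorem isStack_of_fp (J : GrothendieckTopology C) (j : 𝒳 ⥤ᵇ 𝒴) (h𝒳 : FibCat.IsFibGrpd 𝒳.p)
    (h𝒴 : Stk.IsStack J 𝒴)
    (hfp : ∀ (U : C) (y : FibCat.overCat U ⥤ᵇ 𝒴), Stk.IsStack J (FibCat.fp y j)) :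
    Stk.IsStack J 𝒳 :=
  ⟨h𝒳, fun U R hR => restr_isEquivalence_of_fp (Stk.sieveIncl R) j h𝒴.1 (h𝒴.2 R hR)
    (fun y => (hfp U y).2 R hR)⟩

end General

variable {S : Scheme.{u}}

/-- The category of a sheaf is a stack. -/
theorem isStack_ofSp (F : AlgSp.Sp S) :
    Stk.IsStack (QuotSh.J Scheme.fppfPrecoverage S) (AlgSt.ofSp F) :=
  isStack_ofPsh_of_isSheaf F.obj _ ((isSheaf_iff_isSheaf_of_type _ _).mp F.property)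

/-- A category over `(Sch/S)` representable by an algebraic space is a stack. -/
theorem isStack_of_repByAlgSp {𝒲 : AlgSt.Cat S} (h : AlgSt.RepByAlgSp 𝒲) :
    Stk.IsStack (QuotSh.J Scheme.fppfPrecoverage S) 𝒲 := by
  obtain ⟨F, e, he⟩ := h
  exact (isStack_iff_of_isEquivOver _ e he).mp (isStack_ofSp F.obj)

/-- `S12767`. -/
theorem isStack_of_repByAlgSp1 {𝒳 𝒴 : AlgSt.Cat S}
    (h𝒳 : FibCat.IsFibGrpd 𝒳.p) (h𝒴 : Stk.IsStack (QuotSh.J Scheme.fppfPrecoverage S) 𝒴)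
    (j : 𝒳 ⥤ᵇ 𝒴) (hj : AlgSt.RepByAlgSp1 j) :
    Stk.IsStack (QuotSh.J Scheme.fppfPrecoverage S) 𝒳 :=
  isStack_of_fp _ j h𝒳 h𝒴 (fun U y => isStack_of_repByAlgSp (hj U y))

theorem repByAlgSp1_fpSnd {𝒳 𝒴 𝒵 : AlgSt.Cat S} (f : 𝒳 ⥤ᵇ 𝒵) (g : 𝒴 ⥤ᵇ 𝒵)
    (hf : AlgSt.RepByAlgSp1 f) : AlgSt.RepByAlgSp1 (FibCat.fpSnd f g) := by
  rw [repByAlgSp1_iff_repByAlgSpWith_top] at hf ⊢
  exact repByAlgSpWith_fpSnd ⊤ f g hf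

theorem repByAlgSp1_fpFst {𝒳 𝒴 𝒵 : AlgSt.Cat S} (f : 𝒳 ⥤ᵇ 𝒵) (g : 𝒴 ⥤ᵇ 𝒵)
    (hg : AlgSt.RepByAlgSp1 g) : AlgSt.RepByAlgSp1 (FibCat.fpFst f g) := by
  rw [repByAlgSp1_iff_repByAlgSpWith_top] at hg ⊢
  exact repByAlgSpWith_fpFst ⊤ f g hg

/-- `S12769`. -/
theorem isStack_fp_of_repByAlgSp1 {𝒳 𝒴 𝒵 : AlgSt.Cat S}
    (h𝒳 : FibCat.IsFibGrpd 𝒳.p) (h𝒵 : FibCat.IsFibGrpd 𝒵.p)
    (h𝒴 : Stk.IsStack (QuotSh.J Scheme.fppfPrecoverage S) 𝒴)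
    (f : 𝒳 ⥤ᵇ 𝒵) (g : 𝒴 ⥤ᵇ 𝒵) (hf : AlgSt.RepByAlgSp1 f) :
    Stk.IsStack (QuotSh.J Scheme.fppfPrecoverage S) (FibCat.fp f g) :=
  isStack_of_repByAlgSp1 (fp_isFibGrpd f g h𝒳 h𝒴.1 h𝒵) h𝒴 (FibCat.fpSnd f g) (repByAlgSp1_fpSnd f g hf)

end Groth.Agent.Lib.Helper80
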