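import Groth.Agent.Lib.Helper80.AlgStAtlas
import Groth.Agent.Lib.Helper80.AlgStStack
import Groth.Agent.Lib.Helper80.AlgStPsh4

/-!
# The source of a morphism representable by algebraic spaces into an algebraic stack is an algebraic stack (helper80)
-/

set_option autoImplicit false
set_option backward.isDefEq.respectTransparency false

universe u

open CategoryTheory CategoryTheory.Functor CategoryTheory.Limits AlgebraicGeometry Opposite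

namespace Groth.Agent.Lib.Helper80

open BasedFunctor

variable {S : Scheme.{u}}

theorem locP_smooth_of_repWith_etale {X Y : AlgSp.Sp S} {c : X ⟶ Y} (hc : AlgSp.RepWith @Etale c) :
    AlgSp.LocP @Smooth c :=
  Groth.Agent.Lib.Helper30.locP_of_repWith @Etale @Smooth
    (fun k i hk hi => by
      have : Etale k := hk
      have : Etale i := hi
      have : Etale (k ≫ i) := inferInstance
      exact (inferInstance : Smooth (k ≫ i))) hc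

open Groth.Agent.Lib.Helper78.AlgSpLocP in
theorem locP_baseChange {Q : MorphismProperty Scheme.{u}} (hQ : EtLocalST Q) [Q.IsStableUnderBaseChange] :
    ∀ ⦃X₁ Y₁ X₂ Y₂ : AlgSp.Sp S⦄, AlgSp.IsAlgSpace X₁ → AlgSp.IsAlgSpace Y₁ → AlgSp.IsAlgSpace X₂ →
      AlgSp.IsAlgSpace Y₂ → ∀ (a : X₁ ⟶ Y₁) (b : Y₂ ⟶ Y₁) (a' : X₂ ⟶ Y₂) (b' : X₂ ⟶ X₁),
      IsPullback b' a' a b → AlgSp.LocP Q a → AlgSp.LocP Q a' := by
  intro X₁ Y₁ X₂ Y₂ h1 h2 h3 h4 a b a' b' sq ha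
  exact locP_of_isPullback hQ sq
    (Groth.Agent.Lib.Helper78.AlgSpFibre.repAll_of_isAlgSpace h2) h1.atlas h2.atlas ha

variable {𝒳 𝒴 𝒜 ℬ : AlgSt.Cat S}

/-- Cancellation for representability by algebraic spaces. -/
theorem repByAlgSp1_of_comp (Δ : 𝒳 ⥤ᵇ 𝒜) (c : 𝒜 ⥤ᵇ ℬ) (hc : AlgSt.RepByAlgSp1 c)
    (hΔc : AlgSt.RepByAlgSp1 (BasedFunctor.comp Δ c)) : AlgSt.RepByAlgSp1 Δ := by
  rw [repByAlgSp1_iff_repByAlgSpWith_top] at hc hΔc ⊢
  exact repByAlgSpWith_of_comp_cancel ⊤ ⊤ (fun _ _ _ _ _ _ _ _ _ _ _ _ _ _ => trivial)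
    (fun _ _ _ _ _ _ _ _ _ _ => trivial) Δ c hc hΔc

/-- A smooth surjective atlas of `𝒴` gives one of `𝒳` when `j : 𝒳 ⟶ 𝒴` is representable by algebraic spaces. -/
theorem hasAtlas_smooth_of_repByAlgSp1 (h𝒳 : FibCat.IsFibGrpd 𝒳.p) (h𝒴 : FibCat.IsFibGrpd 𝒴.p)
    (j : 𝒳 ⥤ᵇ 𝒴) (hj : AlgSt.RepByAlgSp1 j) (hat : AlgSt.HasAtlas (AlgSp.LocP @Smooth) 𝒴) :
    AlgSt.HasAtlas (AlgSp.LocP @Smooth) 𝒳 := by
  obtain ⟨V, y, hy1, hy2⟩ := hat
  obtain ⟨F, e, he⟩ := hj V y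
  obtain ⟨W, c, hc1, hc2⟩ := F.property.atlas
  have hQ := Groth.Agent.Lib.Helper78.AlgSpLocPSmooth.etLocalST_smooth
  have g𝒬 : FibCat.IsFibGrpd (FibCat.fp y j).p := fp_isFibGrpd y j (overCat_isFibGrpd V) h𝒳 h𝒴
  have hpr1 := repByAlgSpWith_fpSnd (AlgSp.LocP @Smooth) y j hy1
  have hpr2 := repByAlgSpWith_fpSnd AlgSp.IsSurjectiveMor y j hy2
  have hx1 : AlgSt.RepByAlgSpWith (AlgSp.LocP @Smooth) (BasedFunctor.comp (ptFun c.hom) e) :=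
    repByAlgSpWith_chart _ (locP_baseChange hQ) F.property c (locP_smooth_of_repWith_etale hc1) e he
  have hx2 : AlgSt.RepByAlgSpWith AlgSp.IsSurjectiveMor (BasedFunctor.comp (ptFun c.hom) e) :=
    repByAlgSpWith_chart _ (fun _ _ _ _ _ _ _ _ _ _ _ _ sq h => isSurjectiveMor_baseChange sq h)
      F.property c (Groth.Agent.Lib.Helper51.surjective_map_of_repWith_surjective hc2) e he
  exact ⟨W, BasedFunctor.comp (BasedFunctor.comp (ptFun c.hom) e) (FibCat.fpSnd y j),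
    repByAlgSpWith_locP_comp hQ (overCat_isFibGrpd W) g𝒬 _ _ hx1 hpr1,
    repByAlgSpWith_isSurjectiveMor_comp (overCat_isFibGrpd W) g𝒬 _ _ hx2 hpr2⟩

/-- `S12768`. -/
theorem isAlgStack_of_repByAlgSp1 (h𝒳 : FibCat.IsFibGrpd 𝒳.p)
    (h𝒴 : AlgSt.IsAlgStack Scheme.fppfPrecoverage 𝒴) (j : 𝒳 ⥤ᵇ 𝒴) (hj : AlgSt.RepByAlgSp1 j) :
    AlgSt.IsAlgStack Scheme.fppfPrecoverage 𝒳 where
  isStack := isStack_of_repByAlgSp1 h𝒳 h𝒴.isStack j hj
  diag := repByAlgSp1_diag_of_forall (fun U x =>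
    repByAlgSp1_of_comp x j hj (repByAlgSp1_of_diag h𝒴.diag U (BasedFunctor.comp x j)))
  atlas := hasAtlas_smooth_of_repByAlgSp1 h𝒳 h𝒴.isStack.1 j hj h𝒴.atlas

end Groth.Agent.Lib.Helper80
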