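import Groth.Agent.Lib.Helper80.FibCat19

/-!
# The relative magic square (helper80)

For `F : 𝒳 ⟶ 𝒮`, `G : 𝒴 ⟶ 𝒮`, `g : 𝒮 ⟶ 𝒵` over `C`:
`(𝒳 ×_𝒵 𝒴) ×_{𝒮 ×_𝒵 𝒮} 𝒮 ≃ 𝒳 ×_𝒮 𝒴`.
-/

set_option autoImplicit false
set_option backward.isDefEq.respectTransparency false

universe v₅ u₅ v₄ u₄ v₃ u₃ v₂ u₂ v u

open CategoryTheory CategoryTheory.Functor CategoryTheory.Limits

namespace Groth.Agent.Lib.Helper80

open BasedFunctor

variable {C : Type u} [Category.{v} C]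

section RelMagic

variable {𝒳 : BasedCategory.{v₂, u₂} C} {𝒴 : BasedCategory.{v₃, u₃} C} {𝒮 : BasedCategory.{v₄, u₄} C}
  {𝒵 : BasedCategory.{v₅, u₅} C}
  (F : 𝒳 ⥤ᵇ 𝒮) (G : 𝒴 ⥤ᵇ 𝒮) (g : 𝒮 ⥤ᵇ 𝒵)

/-- `𝒳 ×_𝒵 𝒴 ⟶ 𝒮 ×_𝒵 𝒮`, `(x, y, θ') ↦ (F x, G y, θ')`. -/
abbrev relPair : FibCat.fp (BasedFunctor.comp F g) (BasedFunctor.comp G g) ⥤ᵇ FibCat.fp g g :=
  FibCat.fpLift
    (BasedFunctor.comp (FibCat.fpFst (BasedFunctor.comp F g) (BasedFunctor.comp G g)) F)
    (BasedFunctor.comp (FibCat.fpSnd (BasedFunctor.comp F g) (BasedFunctor.comp G g)) G)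
    (FibCat.fpIso (BasedFunctor.comp F g) (BasedFunctor.comp G g))

/-- The 2-isomorphism of the relative magic square. -/
def relMagicIso :
    BasedFunctor.comp (BasedFunctor.comp
      (FibCat.fpFst (relPair F G g) (FibCat.diag g))
      (FibCat.fpFst (BasedFunctor.comp F g) (BasedFunctor.comp G g))) F ≅
    BasedFunctor.comp (BasedFunctor.comp
      (FibCat.fpFst (relPair F G g) (FibCat.diag g))
      (FibCat.fpSnd (BasedFunctor.comp F g) (BasedFunctor.comp G g))) G :=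
  (whiskerRightIso (FibCat.fpIso (relPair F G g) (FibCat.diag g)) (FibCat.fpFst g g)) ≪≫
    (whiskerRightIso (FibCat.fpIso (relPair F G g) (FibCat.diag g)) (FibCat.fpSnd g g)).symm

/-- The comparison functor of the relative magic square. -/
def relMagic : FibCat.fp (relPair F G g) (FibCat.diag g) ⥤ᵇ FibCat.fp F G :=
  FibCat.fpLift
    (BasedFunctor.comp (FibCat.fpFst (relPair F G g) (FibCat.diag g))
      (FibCat.fpFst (BasedFunctor.comp F g) (BasedFunctor.comp G g)))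
    (BasedFunctor.comp (FibCat.fpFst (relPair F G g) (FibCat.diag g))
      (FibCat.fpSnd (BasedFunctor.comp F g) (BasedFunctor.comp G g)))
    (relMagicIso F G g)

variable {F G g}

/-- First component of the isomorphism carried by an object. -/
def relI₁ (Q : (FibCat.fp (relPair F G g) (FibCat.diag g)).obj) :
    F.obj Q.obj.fst.obj.fst ≅ Q.obj.snd :=
  (FibCat.fpFst g g).toFunctor.mapIso Q.obj.iso

/-- Second component of the isomorphism carried by an object. -/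
def relI₂ (Q : (FibCat.fp (relPair F G g) (FibCat.diag g)).obj) :
    G.obj Q.obj.fst.obj.snd ≅ Q.obj.snd :=
  (FibCat.fpSnd g g).toFunctor.mapIso Q.obj.iso

theorem relMagicIso_hom_app (Q : (FibCat.fp (relPair F G g) (FibCat.diag g)).obj) :
    (relMagicIso F G g).hom.toNatTrans.app Q = (relI₁ Q).hom ≫ (relI₂ Q).inv := rfl

/-- The compatibility carried by an object: `g η₁ = θ' ≫ g η₂`. -/
theorem rel_obj_w (Q : (FibCat.fp (relPair F G g) (FibCat.diag g)).obj) :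
    g.map (relI₁ Q).hom = Q.obj.fst.obj.iso.hom ≫ g.map (relI₂ Q).hom := by
  have h : g.map Q.obj.iso.hom.hom.fst ≫ 𝟙 _ =
      Q.obj.fst.obj.iso.hom ≫ g.map Q.obj.iso.hom.hom.snd := Q.obj.iso.hom.hom.w
  rw [Category.comp_id] at h
  exact h

theorem rel_w₁ {Q Q' : (FibCat.fp (relPair F G g) (FibCat.diag g)).obj} (m : Q ⟶ Q') :
    F.map m.hom.fst.hom.fst ≫ (relI₁ Q').hom = (relI₁ Q).hom ≫ m.hom.snd :=
  congrArg (fun k => k.hom.fst) m.hom.w

theorem rel_w₂ {Q Q' : (FibCat.fp (relPair F G g) (FibCat.diag g)).obj} (m : Q ⟶ Q') :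
    G.map m.hom.fst.hom.snd ≫ (relI₂ Q').hom = (relI₂ Q).hom ≫ m.hom.snd :=
  congrArg (fun k => k.hom.snd) m.hom.w

theorem relI₁_isHomLift (Q : (FibCat.fp (relPair F G g) (FibCat.diag g)).obj) :
    𝒮.p.IsHomLift (𝟙 (𝒳.p.obj Q.obj.fst.obj.fst)) (relI₁ Q).hom := by
  have h : (FibCat.fp g g).p.IsHomLift (𝟙 (𝒳.p.obj Q.obj.fst.obj.fst)) Q.obj.iso.hom := Q.property
  exact (fp_isHomLift_iff _ _ _ _).mp h

theorem relI₂_isHomLift (Q : (FibCat.fp (relPair F G g) (FibCat.diag g)).obj) :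
    𝒮.p.IsHomLift (𝟙 (𝒳.p.obj Q.obj.fst.obj.fst)) (relI₂ Q).hom := by
  have h : (FibCat.fp g g).p.IsHomLift (𝟙 (𝒳.p.obj Q.obj.fst.obj.fst)) Q.obj.iso.hom := Q.property
  exact fp_isHomLift_snd _ _ _ _

variable (F G g)

/-- The relative magic square is 2-cartesian over `C`. -/
theorem relMagic_isEquivOver : FibCat.IsEquivOver (relMagic F G g) := by
  apply fpLift_isEquivOver
  · -- faithful
    intro Q Q' m m' h1 h2
    have h1' : m.hom.fst.hom.fst = m'.hom.fst.hom.fst := h1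
    have h2' : m.hom.fst.hom.snd = m'.hom.fst.hom.snd := h2
    have e1 : m.hom.fst = m'.hom.fst := by
      apply ObjectProperty.hom_ext
      apply CategoricalPullback.hom_ext
      · exact h1'
      · exact h2'
    have e2 : m.hom.snd = m'.hom.snd := by
      have w1 := rel_w₁ m
      have w2 := rel_w₁ m'
      rw [h1'] at w1
      exact (cancel_epi (relI₁ Q).hom).mp (w1.symm.trans w2)
    apply ObjectProperty.hom_ext
    apply CategoricalPullback.hom_ext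
    · exact e1
    · exact e2
  · -- full
    intro Q Q' φ ψ hw
    have hw' : F.map φ ≫ (relI₁ Q').hom ≫ (relI₂ Q').inv =
        ((relI₁ Q).hom ≫ (relI₂ Q).inv) ≫ G.map ψ := hw
    have hGψ : G.map ψ = (relI₂ Q).hom ≫ (relI₁ Q).inv ≫ F.map φ ≫ (relI₁ Q').hom ≫
        (relI₂ Q').inv := by
      rw [hw']; simp
    -- `θ' = g (η₁ ≫ η₂⁻¹)`
    have hθ : ∀ Q₀ : (FibCat.fp (relPair F G g) (FibCat.diag g)).obj,
        Q₀.obj.fst.obj.iso.hom = g.map ((relI₁ Q₀).hom ≫ (relI₂ Q₀).inv) := by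
      intro Q₀
      have e0 : g.map ((relI₁ Q₀).hom ≫ (relI₂ Q₀).inv) =
          g.map (relI₁ Q₀).hom ≫ g.map (relI₂ Q₀).inv := Functor.map_comp _ _ _
      have e1 : g.map (relI₂ Q₀).hom ≫ g.map (relI₂ Q₀).inv = 𝟙 _ := by
        rw [← Functor.map_comp, Iso.hom_inv_id, CategoryTheory.Functor.map_id]
      rw [e0, rel_obj_w Q₀, Category.assoc, e1]
      exact (Category.comp_id _).symm
    have compat : (BasedFunctor.comp F g).map φ ≫ Q'.obj.fst.obj.iso.hom =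
        Q.obj.fst.obj.iso.hom ≫ (BasedFunctor.comp G g).map ψ := by
      rw [hθ Q, hθ Q']
      change g.map (F.map φ) ≫ g.map _ = g.map _ ≫ g.map (G.map ψ)
      rw [← Functor.map_comp, ← Functor.map_comp, hw']
    let k₁ : Q.obj.fst ⟶ Q'.obj.fst := ObjectProperty.homMk ⟨φ, ψ, compat⟩
    let k₂ : Q.obj.snd ⟶ Q'.obj.snd := (relI₁ Q).inv ≫ F.map φ ≫ (relI₁ Q').hom
    have hwk : (relPair F G g).map k₁ ≫ Q'.obj.iso.hom =
        Q.obj.iso.hom ≫ (FibCat.diag g).map k₂ := by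
      apply ObjectProperty.hom_ext
      apply CategoricalPullback.hom_ext
      · change F.map φ ≫ (relI₁ Q').hom = (relI₁ Q).hom ≫ k₂
        simp [k₂]
      · change G.map ψ ≫ (relI₂ Q').hom = (relI₂ Q).hom ≫ k₂
        rw [hGψ]; simp [k₂]
    exact ⟨ObjectProperty.homMk ⟨k₁, k₂, hwk⟩, rfl, rfl⟩
  · -- essentially surjective
    intro P
    let x := P.obj.fst
    let y := P.obj.snd
    let θ : F.obj x ≅ G.obj y := P.obj.iso
    have hθ : 𝒮.p.IsHomLift (𝟙 (𝒳.p.obj x)) θ.hom := P.property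
    have hθi : 𝒮.p.IsHomLift (𝟙 (𝒳.p.obj x)) θ.inv := IsHomLift.lift_id_inv 𝒮.p _ θ
    have hgθ : 𝒵.p.IsHomLift (𝟙 (𝒳.p.obj x)) (g.toFunctor.mapIso θ).hom :=
      BasedFunctor.preserves_isHomLift g (𝟙 (𝒳.p.obj x)) θ.hom
    let w : (FibCat.fp (BasedFunctor.comp F g) (BasedFunctor.comp G g)).obj :=
      ⟨⟨x, y, g.toFunctor.mapIso θ⟩, hgθ⟩
    let s : 𝒮.obj := F.obj x
    have compat : g.map (Iso.refl (F.obj x)).hom ≫ ((FibCat.diag g).obj s).obj.iso.hom =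
        ((relPair F G g).obj w).obj.iso.hom ≫ g.map θ.symm.hom := by
      change g.map (𝟙 (F.obj x)) ≫ 𝟙 _ = g.map θ.hom ≫ g.map θ.inv
      rw [← Functor.map_comp, θ.hom_inv_id, Category.comp_id]
    let η : (relPair F G g).obj w ≅ (FibCat.diag g).obj s :=
      ObjectProperty.isoMk _ (CategoricalPullback.mkIso (Iso.refl _) θ.symm compat)
    have hη : (FibCat.fp g g).p.IsHomLift (𝟙 (𝒳.p.obj x)) η.hom := by
      rw [fp_isHomLift_iff]
      exact IsHomLift.id (F.w_obj x)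
    let Q : (FibCat.fp (relPair F G g) (FibCat.diag g)).obj := ⟨⟨w, s, η⟩, hη⟩
    refine ⟨Q, Iso.refl x, Iso.refl y, ?_, ?_⟩
    · exact IsHomLift.id rfl
    · rw [relMagicIso_hom_app]
      change F.map (𝟙 x) ≫ θ.hom = (𝟙 _ ≫ θ.hom) ≫ G.map (𝟙 y)
      simp

end RelMagic

end Groth.Agent.Lib.Helper80
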