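import Groth.Agent.Lib.Helper80.AlgStPsh4
import Groth.Agent.Lib.Helper80.FibCat20

/-!
# The diagonal of a morphism of stacks with representable diagonals (helper80)
-/

set_option autoImplicit false
set_option backward.isDefEq.respectTransparency false

universe u

open CategoryTheory CategoryTheory.Functor CategoryTheory.Limits AlgebraicGeometry Opposite

namespace Groth.Agent.Lib.Helper80

open BasedFunctor

variable {S : Scheme.{u}} {𝒴 𝒵 : AlgSt.Cat S}

/-- If the diagonals of `𝒴` and `𝒵` are representable by algebraic spaces, so is the diagonal of every `g : 𝒴 ⟶ 𝒵`. -/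
theorem repByAlgSp1_diag_of_diag (g : 𝒴 ⥤ᵇ 𝒵)
    (h𝒴 : AlgSt.RepByAlgSp1 (FibCat.diag (FibCat.toSelf 𝒴)))
    (h𝒵 : AlgSt.RepByAlgSp1 (FibCat.diag (FibCat.toSelf 𝒵))) :
    AlgSt.RepByAlgSp1 (FibCat.diag g) := by
  intro T t
  let t₁ : FibCat.overCat T ⥤ᵇ 𝒴 := BasedFunctor.comp t (FibCat.fpFst g g)
  let t₂ : FibCat.overCat T ⥤ᵇ 𝒴 := BasedFunctor.comp t (FibCat.fpSnd g g)
  let θ : BasedFunctor.comp t₁ g ≅ BasedFunctor.comp t₂ g := whiskerLeftIso t (FibCat.fpIso g g)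
  let lift : FibCat.overCat T ⥤ᵇ FibCat.fp (BasedFunctor.comp t₁ g) (BasedFunctor.comp t₂ g) :=
    FibCat.fpLift (BasedFunctor.id _) (BasedFunctor.id _) θ
  let rp := relPair t₁ t₂ g
  let i : t ≅ BasedFunctor.comp lift rp := fpIsoMk (BasedNatIso.id _) (BasedNatIso.id _) (by
    intro w
    change g.map (𝟙 _) ≫ (t.obj w).obj.iso.hom = (t.obj w).obj.iso.hom ≫ g.map (𝟙 _)
    simp)
  have e1 := fpMapLeft_isEquivOver (BasedFunctor.comp lift rp) (FibCat.diag g) (BasedFunctor.id _) t i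
    isEquivOver_id
  have e2 := fpPasteLeft_isEquivOver lift rp (FibCat.diag g)
  have hsrc : AlgSt.RepByAlgSp (FibCat.fp rp (FibCat.diag g)) :=
    (repByAlgSp_iff_of_isEquivOver _ (relMagic_isEquivOver t₁ t₂ g)).mpr
      (repByAlgSp1_of_diag h𝒴 T t₂ T t₁)
  have htgt : AlgSt.RepByAlgSp (FibCat.fp (BasedFunctor.comp t₁ g) (BasedFunctor.comp t₂ g)) :=
    repByAlgSp1_of_diag h𝒵 T (BasedFunctor.comp t₂ g) T (BasedFunctor.comp t₁ g)
  have hq : AlgSt.RepByAlgSp1 (FibCat.fpFst rp (FibCat.diag g)) :=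
    repByAlgSp1_of_repByAlgSp hsrc htgt _
  have r2 := hq T lift
  have r1 := (repByAlgSp_iff_of_isEquivOver _ e2).mpr r2
  exact (repByAlgSp_iff_of_isEquivOver _ e1).mpr r1

end Groth.Agent.Lib.Helper80
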