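import Groth.Agent.Lib.Helper80.AlgStAtlas2
import Groth.Agent.Lib.Helper80.AlgStDiag

/-!
# The 2-fibre product of algebraic stacks is an algebraic stack (helper80)
-/

set_option autoImplicit false
set_option backward.isDefEq.respectTransparency false

universe u

open CategoryTheory CategoryTheory.Functor CategoryTheory.Limits AlgebraicGeometry Opposite

namespace Groth.Agent.Lib.Helper80

open BasedFunctor

variable {S : Scheme.{u}}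

section BC2

variable {𝒳 𝒴 𝒮 𝒲 : AlgSt.Cat S}

/-- Base change along a 2-cartesian square, second projection. -/
theorem repByAlgSpWith_of_isTwoCartOver' (P : MorphismProperty (AlgSp.Sp S))
    {F : 𝒳 ⥤ᵇ 𝒮} {G : 𝒴 ⥤ᵇ 𝒮} (a : 𝒲 ⥤ᵇ 𝒳) (b : 𝒲 ⥤ᵇ 𝒴)
    (e : BasedFunctor.comp a F ≅ BasedFunctor.comp b G)
    (h2 : FibCat.IsTwoCartOver a b e) (h : AlgSt.RepByAlgSpWith P F) :
    AlgSt.RepByAlgSpWith P b :=
  (repByAlgSpWith_iff_of_square P (FibCat.fpSnd F G) b (FibCat.fpLift a b e)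
    (BasedFunctor.id _) h2 isEquivOver_id (BasedNatIso.id _)).mp
    (repByAlgSpWith_fpSnd P F G h)

end BC2

variable {𝒳 𝒴 𝒵 𝒜 𝒲 : AlgSt.Cat S}

/-- A smooth surjective morphism from a category representable by an algebraic space gives a smooth surjective atlas
from a scheme. -/
theorem hasAtlas_smooth_of_space (hrep : AlgSt.RepByAlgSp 𝒜)
    (m : 𝒜 ⥤ᵇ 𝒲) (hm1 : AlgSt.RepByAlgSpWith (AlgSp.LocP @Smooth) m)
    (hm2 : AlgSt.RepByAlgSpWith AlgSp.IsSurjectiveMor m) :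
    AlgSt.HasAtlas (AlgSp.LocP @Smooth) 𝒲 := by
  obtain ⟨F, e, he⟩ := hrep
  obtain ⟨W, c, hc1, hc2⟩ := F.property.atlas
  have hQ := Groth.Agent.Lib.Helper78.AlgSpLocPSmooth.etLocalST_smooth
  have g𝒜 : FibCat.IsFibGrpd 𝒜.p := (IsEquivOver.isFibGrpd_iff he).mp (Stk.isFibGrpd_ofPsh _)
  have hx1 : AlgSt.RepByAlgSpWith (AlgSp.LocP @Smooth) (BasedFunctor.comp (ptFun c.hom) e) :=
    repByAlgSpWith_chart _ (locP_baseChange hQ) F.property c (locP_smooth_of_repWith_etale hc1) e he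
  have hx2 : AlgSt.RepByAlgSpWith AlgSp.IsSurjectiveMor (BasedFunctor.comp (ptFun c.hom) e) :=
    repByAlgSpWith_chart _ (fun _ _ _ _ _ _ _ _ _ _ _ _ sq h => isSurjectiveMor_baseChange sq h)
      F.property c (Groth.Agent.Lib.Helper51.surjective_map_of_repWith_surjective hc2) e he
  exact ⟨W, BasedFunctor.comp (BasedFunctor.comp (ptFun c.hom) e) m,
    repByAlgSpWith_locP_comp hQ (overCat_isFibGrpd W) g𝒜 _ _ hx1 hm1,
    repByAlgSpWith_isSurjectiveMor_comp (overCat_isFibGrpd W) g𝒜 _ _ hx2 hm2⟩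

/-- The diagonal of `𝒳 ×_𝒵 𝒴` is representable by algebraic spaces if those of `𝒳` and of `g : 𝒴 ⟶ 𝒵` are. -/
theorem repByAlgSp1_diag_fp (h𝒳 : FibCat.IsFibGrpd 𝒳.p) (h𝒴 : FibCat.IsFibGrpd 𝒴.p)
    (h𝒵 : FibCat.IsFibGrpd 𝒵.p) (f : 𝒳 ⥤ᵇ 𝒵) (g : 𝒴 ⥤ᵇ 𝒵)
    (hΔ𝒳 : AlgSt.RepByAlgSp1 (FibCat.diag (FibCat.toSelf 𝒳)))
    (hΔg : AlgSt.RepByAlgSp1 (FibCat.diag g)) :
    AlgSt.RepByAlgSp1 (FibCat.diag (FibCat.toSelf (FibCat.fp f g))) := by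
  apply repByAlgSp1_diag_of_forall
  intro U w U' w'
  let p₁ := FibCat.fpFst f g
  have g𝒲 : FibCat.IsFibGrpd (FibCat.fp f g).p := fp_isFibGrpd f g h𝒳 h𝒴 h𝒵
  have hΔp : AlgSt.RepByAlgSp1 (FibCat.diag p₁) := by
    rw [repByAlgSp1_iff_repByAlgSpWith_top] at hΔg ⊢
    exact repByAlgSpWith_diag_fpFst f g ⊤ hΔg
  have hsrc : AlgSt.RepByAlgSp (FibCat.fp (BasedFunctor.comp w' p₁) (BasedFunctor.comp w p₁)) :=
    repByAlgSp1_of_diag hΔ𝒳 U (BasedFunctor.comp w p₁) U' (BasedFunctor.comp w' p₁)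
  have h1 : AlgSt.RepByAlgSp (FibCat.fp (relPair w' w p₁) (FibCat.diag p₁)) :=
    repByAlgSp_fp_of_repByAlgSp g𝒲 (fp_isFibGrpd p₁ p₁ g𝒲 g𝒲 h𝒳) (FibCat.diag p₁) hΔp hsrc
      (relPair w' w p₁)
  exact (repByAlgSp_iff_of_isEquivOver _ (relMagic_isEquivOver w' w p₁)).mp h1

/-- `S12763`. -/
theorem isAlgStack_fp
    (h𝒵 : Stk.IsStack (QuotSh.J Scheme.fppfPrecoverage S) 𝒵)
    (hΔ : AlgSt.RepByAlgSp1 (FibCat.diag (FibCat.toSelf 𝒵)))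
    (h𝒳 : AlgSt.IsAlgStack Scheme.fppfPrecoverage 𝒳) (h𝒴 : AlgSt.IsAlgStack Scheme.fppfPrecoverage 𝒴)
    (f : 𝒳 ⥤ᵇ 𝒵) (g : 𝒴 ⥤ᵇ 𝒵) :
    AlgSt.IsAlgStack Scheme.fppfPrecoverage (FibCat.fp f g) where
  isStack := isStack_fp _ f g h𝒳.isStack h𝒴.isStack (IsStack.isPrestack h𝒵)
  diag := repByAlgSp1_diag_fp h𝒳.isStack.1 h𝒴.isStack.1 h𝒵.1 f g h𝒳.diag
    (repByAlgSp1_diag_of_diag g h𝒴.diag hΔ)
  atlas := by
    obtain ⟨U, x, hx1, hx2⟩ := h𝒳.atlas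
    obtain ⟨V, y, hy1, hy2⟩ := h𝒴.atlas
    have hQ := Groth.Agent.Lib.Helper78.AlgSpLocPSmooth.etLocalST_smooth
    let xf := BasedFunctor.comp x f
    let m₂ : FibCat.fp xf (BasedFunctor.comp y g) ⥤ᵇ FibCat.fp xf g := fpPasteRightFst xf g y
    let m₁ : FibCat.fp xf g ⥤ᵇ FibCat.fp f g := fpPasteLeftSnd x f g
    have gU := overCat_isFibGrpd U
    have gV := overCat_isFibGrpd V
    have g1 : FibCat.IsFibGrpd (FibCat.fp xf (BasedFunctor.comp y g)).p :=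
      fp_isFibGrpd _ _ gU gV h𝒵.1
    have g2 : FibCat.IsFibGrpd (FibCat.fp xf g).p := fp_isFibGrpd _ _ gU h𝒴.isStack.1 h𝒵.1
    have g3 : FibCat.IsFibGrpd (FibCat.fp f g).p := fp_isFibGrpd _ _ h𝒳.isStack.1 h𝒴.isStack.1 h𝒵.1
    have hm2 : ∀ P : MorphismProperty (AlgSp.Sp S), AlgSt.RepByAlgSpWith P y →
        AlgSt.RepByAlgSpWith P m₂ := fun P hy =>
      repByAlgSpWith_of_isTwoCartOver P (F := FibCat.fpSnd xf g) (G := y) m₂
        (FibCat.fpSnd xf (BasedFunctor.comp y g))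
        (BasedNatIso.id _) (fpPasteRight_isEquivOver xf g y) hy
    have hm1 : ∀ P : MorphismProperty (AlgSp.Sp S), AlgSt.RepByAlgSpWith P x →
        AlgSt.RepByAlgSpWith P m₁ := fun P hx =>
      repByAlgSpWith_of_isTwoCartOver' P (F := x) (G := FibCat.fpFst f g) (FibCat.fpFst xf g) m₁
        (BasedNatIso.id _) (fpPasteLeft_isEquivOver x f g) hx
    have hrep : AlgSt.RepByAlgSp (FibCat.fp xf (BasedFunctor.comp y g)) :=
      repByAlgSp1_of_diag hΔ V (BasedFunctor.comp y g) U xf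
    exact hasAtlas_smooth_of_space hrep (BasedFunctor.comp m₂ m₁)
      (repByAlgSpWith_locP_comp hQ g1 g2 m₂ m₁ (hm2 _ hy1) (hm1 _ hx1))
      (repByAlgSpWith_isSurjectiveMor_comp g1 g2 m₂ m₁ (hm2 _ hy2) (hm1 _ hx2))

end Groth.Agent.Lib.Helper80
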