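import Groth.Agent.Lib.Helper80.AlgStAtlas3
import Groth.Agent.Lib.Helper78.AlgSpMisc

/-!
# Algebraicity of the source from algebraicity of the fibres (helper80)
-/

set_option autoImplicit false
set_option backward.isDefEq.respectTransparency false

universe u

open CategoryTheory CategoryTheory.Functor CategoryTheory.Limits AlgebraicGeometry Opposite

namespace Groth.Agent.Lib.Helper80

open BasedFunctor

variable {S : Scheme.{u}} {𝒳 𝒴 𝒵 : AlgSt.Cat S}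

theorem atlasLocal_top : AtlasLocal (S := S) ⊤ := by
  intro V Z A U a p q r hV hZ hA hp1 hp2 sq hr
  trivial

/-- Composition of morphisms representable by algebraic spaces. -/
theorem repByAlgSp1_comp (h𝒳 : FibCat.IsFibGrpd 𝒳.p) (h𝒴 : FibCat.IsFibGrpd 𝒴.p)
    (f : 𝒳 ⥤ᵇ 𝒴) (g : 𝒴 ⥤ᵇ 𝒵) (hf : AlgSt.RepByAlgSp1 f) (hg : AlgSt.RepByAlgSp1 g) :
    AlgSt.RepByAlgSp1 (BasedFunctor.comp f g) := by
  rw [repByAlgSp1_iff_repByAlgSpWith_top] at hf hg ⊢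
  exact repByAlgSpWith_comp h𝒳 h𝒴 ⊤ atlasLocal_top (fun _ _ _ _ _ _ _ _ _ _ => trivial) f g hf hg

/-- Properties that agree on morphisms to schemes give the same notion of representable morphism with the property. -/
theorem repByAlgSpWith_congr (P P' : MorphismProperty (AlgSp.Sp S))
    (h : ∀ ⦃X : AlgSp.Sp S⦄ ⦃U : Over S⦄ (a : X ⟶ (AlgSp.yon S).obj U), P a → P' a)
    {f : 𝒳 ⥤ᵇ 𝒴} (hf : AlgSt.RepByAlgSpWith P f) : AlgSt.RepByAlgSpWith P' f := by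
  intro U y
  obtain ⟨F, e, he, hP⟩ := hf U y
  exact ⟨F, e, he, h _ hP⟩

theorem hasAtlas_congr (P P' : MorphismProperty (AlgSp.Sp S))
    (h : ∀ ⦃X : AlgSp.Sp S⦄ ⦃U : Over S⦄ (a : X ⟶ (AlgSp.yon S).obj U), P a → P' a)
    (hat : AlgSt.HasAtlas P 𝒳) : AlgSt.HasAtlas P' 𝒳 := by
  obtain ⟨U, x, h1, h2⟩ := hat
  exact ⟨U, x, repByAlgSpWith_congr P P' h h1, h2⟩

theorem hasAtlas_isEtaleMor_iff : AlgSt.HasAtlas AlgSp.IsEtaleMor 𝒳 ↔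
    AlgSt.HasAtlas (AlgSp.LocP @Etale) 𝒳 :=
  ⟨hasAtlas_congr _ _ (fun _ U a ha =>
      (Groth.Agent.Lib.Helper78.AlgSpMisc.isEtaleMor_iff_locP (AlgSp.IsAlgSpace.yon_obj U) a).mp ha),
    hasAtlas_congr _ _ (fun _ U a ha =>
      (Groth.Agent.Lib.Helper78.AlgSpMisc.isEtaleMor_iff_locP (AlgSp.IsAlgSpace.yon_obj U) a).mpr ha)⟩

/-- The diagonal of `𝒳` is representable by algebraic spaces if that of `𝒴` and those of all fibres `U ×_𝒴 𝒳` are. -/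
theorem repByAlgSp1_diag_of_forall_fp (h𝒳 : FibCat.IsFibGrpd 𝒳.p) (h𝒴 : FibCat.IsFibGrpd 𝒴.p)
    (f : 𝒳 ⥤ᵇ 𝒴) (hΔ𝒴 : AlgSt.RepByAlgSp1 (FibCat.diag (FibCat.toSelf 𝒴)))
    (hf : ∀ (U : Over S) (g : FibCat.overCat U ⥤ᵇ 𝒴),
      AlgSt.RepByAlgSp1 (FibCat.diag (FibCat.toSelf (FibCat.fp g f)))) :
    AlgSt.RepByAlgSp1 (FibCat.diag (FibCat.toSelf 𝒳)) := by
  apply repByAlgSp1_diag_of_forall
  intro U x
  let y₀ : FibCat.overCat U ⥤ᵇ 𝒴 := BasedFunctor.comp x f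
  let s : FibCat.overCat U ⥤ᵇ FibCat.fp y₀ f :=
    FibCat.fpLift (BasedFunctor.id _) x
      (BasedNatIso.id _ : BasedFunctor.comp (BasedFunctor.id _) y₀ ≅ BasedFunctor.comp x f)
  have hs : AlgSt.RepByAlgSp1 s := repByAlgSp1_of_diag (hf U y₀) U s
  have hpr : AlgSt.RepByAlgSp1 (FibCat.fpSnd y₀ f) :=
    repByAlgSp1_fpSnd y₀ f (repByAlgSp1_of_diag hΔ𝒴 U y₀)
  have h1 := repByAlgSp1_comp (overCat_isFibGrpd U)
    (fp_isFibGrpd y₀ f (overCat_isFibGrpd U) h𝒳 h𝒴) s (FibCat.fpSnd y₀ f) hs hpr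
  exact repByAlgSp1_of_iso (BasedNatIso.id _ : BasedFunctor.comp s (FibCat.fpSnd y₀ f) ≅ x) h1

open Groth.Agent.Lib.Helper78.AlgSpLocP in
/-- An atlas with `LocP Q` of `𝒴` and of the fibre over it give one of `𝒳`. -/
theorem hasAtlas_locP_of_forall_fp {Q : MorphismProperty Scheme.{u}} (hQ : EtLocalST Q)
    [Q.IsStableUnderComposition]
    (h𝒳 : FibCat.IsFibGrpd 𝒳.p) (h𝒴 : FibCat.IsFibGrpd 𝒴.p) (f : 𝒳 ⥤ᵇ 𝒴)
    (hat : AlgSt.HasAtlas (AlgSp.LocP Q) 𝒴)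
    (hf : ∀ (U : Over S) (g : FibCat.overCat U ⥤ᵇ 𝒴), AlgSt.HasAtlas (AlgSp.LocP Q) (FibCat.fp g f)) :
    AlgSt.HasAtlas (AlgSp.LocP Q) 𝒳 := by
  obtain ⟨V, y, hy1, hy2⟩ := hat
  obtain ⟨W, x', hx1, hx2⟩ := hf V y
  have g1 := overCat_isFibGrpd W
  have g2 : FibCat.IsFibGrpd (FibCat.fp y f).p := fp_isFibGrpd y f (overCat_isFibGrpd V) h𝒳 h𝒴
  exact ⟨W, BasedFunctor.comp x' (FibCat.fpSnd y f),
    repByAlgSpWith_locP_comp hQ g1 g2 x' _ hx1 (repByAlgSpWith_fpSnd _ y f hy1),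
    repByAlgSpWith_isSurjectiveMor_comp g1 g2 x' _ hx2 (repByAlgSpWith_fpSnd _ y f hy2)⟩

/-- `S15250` for any precoverage. -/
theorem isAlgStack_of_forall_fp (K : Precoverage Scheme.{u})
    (h𝒳 : Stk.IsStack (QuotSh.J K S) 𝒳) (h𝒴 : AlgSt.IsAlgStack K 𝒴) (f : 𝒳 ⥤ᵇ 𝒴)
    (hf : ∀ (U : Over S) (g : FibCat.overCat U ⥤ᵇ 𝒴), AlgSt.IsAlgStack K (FibCat.fp g f)) :
    AlgSt.IsAlgStack K 𝒳 where
  isStack := h𝒳
  diag := repByAlgSp1_diag_of_forall_fp h𝒳.1 h𝒴.isStack.1 f h𝒴.diag (fun U g => (hf U g).diag)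
  atlas := hasAtlas_locP_of_forall_fp Groth.Agent.Lib.Helper78.AlgSpLocPSmooth.etLocalST_smooth
    h𝒳.1 h𝒴.isStack.1 f h𝒴.atlas (fun U g => (hf U g).atlas)

/-- `S15251` for any precoverage. -/
theorem isDM_of_forall_fp (K : Precoverage Scheme.{u})
    (h𝒳 : Stk.IsStack (QuotSh.J K S) 𝒳) (h𝒴 : AlgSt.IsDM K 𝒴) (f : 𝒳 ⥤ᵇ 𝒴)
    (hf : ∀ (U : Over S) (g : FibCat.overCat U ⥤ᵇ 𝒴), AlgSt.IsDM K (FibCat.fp g f)) :
    AlgSt.IsDM K 𝒳 := by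
  refine ⟨isAlgStack_of_forall_fp K h𝒳 h𝒴.1 f (fun U g => (hf U g).1), ?_⟩
  rw [hasAtlas_isEtaleMor_iff]
  exact hasAtlas_locP_of_forall_fp Groth.Agent.Lib.Helper78.AlgSpLocPSmooth.etLocalST_etale
    h𝒳.1 h𝒴.1.isStack.1 f (hasAtlas_isEtaleMor_iff.mp h𝒴.2)
    (fun U g => hasAtlas_isEtaleMor_iff.mp (hf U g).2)

end Groth.Agent.Lib.Helper80
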