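import Groth.Agent.Lib.Helper80.AlgStMono
import Groth.Agent.Lib.Helper80.FibCat24

/-!
# Equivalences over `(Sch/S)` are representable by algebraic spaces with every property that
identities of schemes have (helper80)
-/

set_option autoImplicit false
set_option backward.isDefEq.respectTransparency false

universe v₅ u₅ v₄ u₄ v₃ u₃ v₂ u₂ v u

open CategoryTheory CategoryTheory.Functor CategoryTheory.Limits AlgebraicGeometry Opposite

namespace Groth.Agent.Lib.Helper80

open BasedFunctor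

section General

variable {C : Type u} [Category.{v} C]
  {𝒳 : BasedCategory.{v₂, u₂} C} {𝒴 : BasedCategory.{v₃, u₃} C} {𝒮 : BasedCategory.{v₄, u₄} C}

/-- The base change of an equivalence over `C` is an equivalence over `C`. -/
theorem fpFst_isEquivOver_of_isEquivOver (F : 𝒳 ⥤ᵇ 𝒮) (G : 𝒴 ⥤ᵇ 𝒮) (hG : FibCat.IsEquivOver G) :
    FibCat.IsEquivOver (FibCat.fpFst F G) := by
  obtain ⟨hfull, hfaith, hess⟩ := IsEquivOver.isFFEssSurjOver hG
  refine IsFFEssSurjOver.isEquivOver ⟨fpFst_full_of_full F G, fpFst_faithful_of_faithful F G, ?_⟩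
  intro x
  obtain ⟨y, θ, hθ⟩ := hess (F.obj x)
  have hθi : 𝒮.p.IsHomLift (𝟙 (𝒮.p.obj (F.obj x))) θ.inv := IsHomLift.lift_id_inv 𝒮.p _ θ
  have hP : 𝒮.p.IsHomLift (𝟙 (𝒳.p.obj x)) θ.symm.hom :=
    isHomLift_id_of_eq 𝒮.p (F.w_obj x) θ.inv
  exact ⟨⟨⟨x, y, θ.symm⟩, hP⟩, Iso.refl x, IsHomLift.id rfl⟩

end General

section AlgSt

variable {S : Scheme.{u}}

/-- `toOverCat U` is an equivalence over `(Sch/S)`. -/
theorem toOverCat_isEquivOver (U : Over S) : FibCat.IsEquivOver (AlgSt.toOverCat U) :=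
  ⟨AlgSt.ofOverCat U, ⟨BasedNatIso.id _⟩, ⟨BasedNatIso.id _⟩⟩

/-- The map of sheaves associated with `toOverCat U` is the identity of `h_U`. -/
theorem spMapOfOver_toOverCat (U : Over S) :
    AlgSt.spMapOfOver (AlgSt.toOverCat U) = 𝟙 ((AlgSp.yon S).obj U) := by
  apply ObjectProperty.hom_ext
  ext T x
  induction T using Opposite.rec with
  | _ T =>
    change (AlgSt.spMapOfOver (AlgSt.toOverCat U)).hom.app (op T) x = x
    rw [AlgSt.spMapOfOver_app]
    apply ULift.ext
    change eqToHom _ ≫ x.down = x.down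
    simp

/-- An equivalence over `(Sch/S)` is representable by algebraic spaces (indeed by schemes) with
every property `P` that the identities of the `h_U` have. -/
theorem repByAlgSpWith_of_isEquivOver (P : MorphismProperty (AlgSp.Sp S))
    (hP : ∀ U : Over S, P (𝟙 ((AlgSp.yon S).obj U))) {𝒳 𝒴 : AlgSt.Cat S} (E : 𝒳 ⥤ᵇ 𝒴)
    (hE : FibCat.IsEquivOver E) : AlgSt.RepByAlgSpWith P E := by
  intro U y
  have h1 := fpFst_isEquivOver_of_isEquivOver y E hE
  obtain ⟨q', hq', -, ⟨ε⟩⟩ := IsEquivOver.symm h1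
  refine ⟨⟨(AlgSp.yon S).obj U, AlgSp.IsAlgSpace.yon_obj U⟩,
    BasedFunctor.comp (AlgSt.toOverCat U) q',
    IsEquivOver.comp (toOverCat_isEquivOver U) hq', ?_⟩
  have i : BasedFunctor.comp (BasedFunctor.comp (AlgSt.toOverCat U) q') (FibCat.fpFst y E) ≅
      AlgSt.toOverCat U := whiskerLeftIso (AlgSt.toOverCat U) ε
  rw [spMapOfOver_eq_of_iso i, spMapOfOver_toOverCat]
  exact hP U

end AlgSt

end Groth.Agent.Lib.Helper80
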