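import Groth.Agent.Lib.Helper80.AlgStAtlas4
import Groth.Agent.Lib.Helper80.AlgStEquiv

/-!
# Fibre products of algebraic / Deligne-Mumford stacks for a general topology; spaces are DM stacks; lifting atlases (helper80)
-/

set_option autoImplicit false
set_option backward.isDefEq.respectTransparency false

universe u

open CategoryTheory CategoryTheory.Functor CategoryTheory.Limits AlgebraicGeometry Opposite

namespace Groth.Agent.Lib.Helper80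

open BasedFunctor

variable {S : Scheme.{u}} {𝒳 𝒴 𝒵 𝒜 𝒲 : AlgSt.Cat S}

open Groth.Agent.Lib.Helper78.AlgSpLocP in
theorem locP_id {Q : MorphismProperty Scheme.{u}} (hQ : EtLocalST Q) [Q.ContainsIdentities]
    (U : Over S) : AlgSp.LocP Q (𝟙 ((AlgSp.yon S).obj U)) := by
  rw [← (AlgSp.yon S).map_id]
  exact (locP_yon_map_iff hQ (𝟙 U)).mpr (Q.id_mem _)

theorem isSurjectiveMor_id (X : AlgSp.Sp S) : AlgSp.IsSurjectiveMor (𝟙 X) :=
  fun x => ⟨x, AlgSp.Points.map_id x⟩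

theorem locP_of_repWith_etale {Q : MorphismProperty Scheme.{u}}
    (hQet : ∀ {A B : Scheme.{u}} (k : A ⟶ B), Etale k → Q k)
    {X Y : AlgSp.Sp S} {c : X ⟶ Y} (hc : AlgSp.RepWith @Etale c) : AlgSp.LocP Q c :=
  Groth.Agent.Lib.Helper30.locP_of_repWith @Etale Q
    (fun k i hk hi => by
      have : Etale k := hk
      have : Etale i := hi
      exact hQet (k ≫ i) inferInstance) hc

open Groth.Agent.Lib.Helper78.AlgSpLocP in
/-- A surjective morphism with `LocP Q` from a category representable by an algebraic space gives an atlas with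
`LocP Q` from a scheme, when etale morphisms have `Q`. -/
theorem hasAtlas_locP_of_space {Q : MorphismProperty Scheme.{u}} (hQ : EtLocalST Q)
    [Q.IsStableUnderBaseChange] [Q.IsStableUnderComposition]
    (hQet : ∀ {A B : Scheme.{u}} (k : A ⟶ B), Etale k → Q k)
    (hrep : AlgSt.RepByAlgSp 𝒜)
    (m : 𝒜 ⥤ᵇ 𝒲) (hm1 : AlgSt.RepByAlgSpWith (AlgSp.LocP Q) m)
    (hm2 : AlgSt.RepByAlgSpWith AlgSp.IsSurjectiveMor m) :
    AlgSt.HasAtlas (AlgSp.LocP Q) 𝒲 := by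
  obtain ⟨F, e, he⟩ := hrep
  obtain ⟨W, c, hc1, hc2⟩ := F.property.atlas
  have g𝒜 : FibCat.IsFibGrpd 𝒜.p := (IsEquivOver.isFibGrpd_iff he).mp (Stk.isFibGrpd_ofPsh _)
  have hx1 : AlgSt.RepByAlgSpWith (AlgSp.LocP Q) (BasedFunctor.comp (ptFun c.hom) e) :=
    repByAlgSpWith_chart _ (locP_baseChange hQ) F.property c (locP_of_repWith_etale hQet hc1) e he
  have hx2 : AlgSt.RepByAlgSpWith AlgSp.IsSurjectiveMor (BasedFunctor.comp (ptFun c.hom) e) :=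
    repByAlgSpWith_chart _ (fun _ _ _ _ _ _ _ _ _ _ _ _ sq h => isSurjectiveMor_baseChange sq h)
      F.property c (Groth.Agent.Lib.Helper51.surjective_map_of_repWith_surjective hc2) e he
  exact ⟨W, BasedFunctor.comp (BasedFunctor.comp (ptFun c.hom) e) m,
    repByAlgSpWith_locP_comp hQ (overCat_isFibGrpd W) g𝒜 _ _ hx1 hm1,
    repByAlgSpWith_isSurjectiveMor_comp (overCat_isFibGrpd W) g𝒜 _ _ hx2 hm2⟩

open Groth.Agent.Lib.Helper78.AlgSpLocP in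
/-- Atlases with `LocP Q` of `𝒳` and `𝒴` give one of `𝒳 ×_𝒵 𝒴`. -/
theorem hasAtlas_locP_fp {Q : MorphismProperty Scheme.{u}} (hQ : EtLocalST Q)
    [Q.IsStableUnderBaseChange] [Q.IsStableUnderComposition]
    (hQet : ∀ {A B : Scheme.{u}} (k : A ⟶ B), Etale k → Q k)
    (h𝒴 : FibCat.IsFibGrpd 𝒴.p) (h𝒵 : FibCat.IsFibGrpd 𝒵.p)
    (hΔ : AlgSt.RepByAlgSp1 (FibCat.diag (FibCat.toSelf 𝒵)))
    (f : 𝒳 ⥤ᵇ 𝒵) (g : 𝒴 ⥤ᵇ 𝒵)
    (hat𝒳 : AlgSt.HasAtlas (AlgSp.LocP Q) 𝒳) (hat𝒴 : AlgSt.HasAtlas (AlgSp.LocP Q) 𝒴) :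
    AlgSt.HasAtlas (AlgSp.LocP Q) (FibCat.fp f g) := by
  obtain ⟨U, x, hx1, hx2⟩ := hat𝒳
  obtain ⟨V, y, hy1, hy2⟩ := hat𝒴
  let xf := BasedFunctor.comp x f
  let m₂ : FibCat.fp xf (BasedFunctor.comp y g) ⥤ᵇ FibCat.fp xf g := fpPasteRightFst xf g y
  let m₁ : FibCat.fp xf g ⥤ᵇ FibCat.fp f g := fpPasteLeftSnd x f g
  have gU := overCat_isFibGrpd U
  have gV := overCat_isFibGrpd V
  have g1 : FibCat.IsFibGrpd (FibCat.fp xf (BasedFunctor.comp y g)).p := fp_isFibGrpd _ _ gU gV h𝒵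
  have g2 : FibCat.IsFibGrpd (FibCat.fp xf g).p := fp_isFibGrpd _ _ gU h𝒴 h𝒵
  have hm2 : ∀ P : MorphismProperty (AlgSp.Sp S), AlgSt.RepByAlgSpWith P y →
      AlgSt.RepByAlgSpWith P m₂ := fun P hy =>
    repByAlgSpWith_of_isTwoCartOver P (F := FibCat.fpSnd xf g) (G := y) m₂
      (FibCat.fpSnd xf (BasedFunctor.comp y g))
      (BasedNatIso.id _) (fpPasteRight_isEquivOver xf g y) hy
  have hm1 : ∀ P : MorphismProperty (AlgSp.Sp S), AlgSt.RepByAlgSpWith P x →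
      AlgSt.RepByAlgSpWith P m₁ := fun P hx =>
    repByAlgSpWith_of_isTwoCartOver' P (F := x) (G := FibCat.fpFst f g) (FibCat.fpFst xf g) m₁
      (BasedNatIso.id _) (fpPasteLeft_isEquivOver x f g) hx
  have hrep : AlgSt.RepByAlgSp (FibCat.fp xf (BasedFunctor.comp y g)) :=
    repByAlgSp1_of_diag hΔ V (BasedFunctor.comp y g) U xf
  exact hasAtlas_locP_of_space hQ hQet hrep (BasedFunctor.comp m₂ m₁)
    (repByAlgSpWith_locP_comp hQ g1 g2 m₂ m₁ (hm2 _ hy1) (hm1 _ hx1))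
    (repByAlgSpWith_isSurjectiveMor_comp g1 g2 m₂ m₁ (hm2 _ hy2) (hm1 _ hx2))

theorem smooth_of_etale {A B : Scheme.{u}} (k : A ⟶ B) (hk : Etale k) : Smooth k := by
  have : Etale k := hk
  exact inferInstance

/-- The 2-fibre product of algebraic stacks (any topology). -/
theorem isAlgStack_fp' (K : Precoverage Scheme.{u})
    (h𝒵 : Stk.IsStack (QuotSh.J K S) 𝒵)
    (hΔ : AlgSt.RepByAlgSp1 (FibCat.diag (FibCat.toSelf 𝒵)))
    (h𝒳 : AlgSt.IsAlgStack K 𝒳) (h𝒴 : AlgSt.IsAlgStack K 𝒴) (f : 𝒳 ⥤ᵇ 𝒵) (g : 𝒴 ⥤ᵇ 𝒵) :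
    AlgSt.IsAlgStack K (FibCat.fp f g) where
  isStack := isStack_fp _ f g h𝒳.isStack h𝒴.isStack (IsStack.isPrestack h𝒵)
  diag := repByAlgSp1_diag_fp h𝒳.isStack.1 h𝒴.isStack.1 h𝒵.1 f g h𝒳.diag
    (repByAlgSp1_diag_of_diag g h𝒴.diag hΔ)
  atlas := hasAtlas_locP_fp Groth.Agent.Lib.Helper78.AlgSpLocPSmooth.etLocalST_smooth
    smooth_of_etale h𝒴.isStack.1 h𝒵.1 hΔ f g h𝒳.atlas h𝒴.atlas

/-- The 2-fibre product of Deligne-Mumford stacks (any topology). -/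
theorem isDM_fp (K : Precoverage Scheme.{u})
    (h𝒵 : Stk.IsStack (QuotSh.J K S) 𝒵)
    (hΔ : AlgSt.RepByAlgSp1 (FibCat.diag (FibCat.toSelf 𝒵)))
    (h𝒳 : AlgSt.IsDM K 𝒳) (h𝒴 : AlgSt.IsDM K 𝒴) (f : 𝒳 ⥤ᵇ 𝒵) (g : 𝒴 ⥤ᵇ 𝒵) :
    AlgSt.IsDM K (FibCat.fp f g) := by
  refine ⟨isAlgStack_fp' K h𝒵 hΔ h𝒳.1 h𝒴.1 f g, ?_⟩
  rw [hasAtlas_isEtaleMor_iff]
  exact hasAtlas_locP_fp Groth.Agent.Lib.Helper78.AlgSpLocPSmooth.etLocalST_etale
    (fun _ hk => hk) h𝒴.1.isStack.1 h𝒵.1 hΔ f g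
    (hasAtlas_isEtaleMor_iff.mp h𝒳.2) (hasAtlas_isEtaleMor_iff.mp h𝒴.2)

/-- `S12772`. -/
theorem isDM_of_repByAlgSp (hr : AlgSt.RepByAlgSp 𝒳) : AlgSt.IsDM Scheme.fppfPrecoverage 𝒳 := by
  have hid1 : ∀ {Q : MorphismProperty Scheme.{u}}, Groth.Agent.Lib.Helper78.AlgSpLocP.EtLocalST Q →
      Q.ContainsIdentities → AlgSt.RepByAlgSpWith (AlgSp.LocP Q) (BasedFunctor.id 𝒳) :=
    fun hQ _ => repByAlgSpWith_of_isEquivOver _ (fun U => locP_id hQ U) _ isEquivOver_id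
  have hid2 : AlgSt.RepByAlgSpWith AlgSp.IsSurjectiveMor (BasedFunctor.id 𝒳) :=
    repByAlgSpWith_of_isEquivOver _ (fun U => isSurjectiveMor_id _) _ isEquivOver_id
  refine ⟨⟨isStack_of_repByAlgSp hr, ?_, ?_⟩, ?_⟩
  · exact repByAlgSp1_diag_of_forall (fun U x =>
      repByAlgSp1_of_repByAlgSp (repByAlgSp_overCat U) hr x)
  · exact hasAtlas_locP_of_space Groth.Agent.Lib.Helper78.AlgSpLocPSmooth.etLocalST_smooth
      smooth_of_etale hr (BasedFunctor.id 𝒳)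
      (hid1 Groth.Agent.Lib.Helper78.AlgSpLocPSmooth.etLocalST_smooth inferInstance) hid2
  · rw [hasAtlas_isEtaleMor_iff]
    exact hasAtlas_locP_of_space Groth.Agent.Lib.Helper78.AlgSpLocPSmooth.etLocalST_etale
      (fun _ hk => hk) hr (BasedFunctor.id 𝒳)
      (hid1 Groth.Agent.Lib.Helper78.AlgSpLocPSmooth.etLocalST_etale inferInstance) hid2

/-- `S12773`. -/
theorem exists_smooth_surjective_chart_over
    (h𝒳 : AlgSt.IsAlgStack Scheme.fppfPrecoverage 𝒳) (h𝒴 : AlgSt.IsAlgStack Scheme.fppfPrecoverage 𝒴)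
    (f : 𝒳 ⥤ᵇ 𝒴) (V : Over S) (y : FibCat.overCat V ⥤ᵇ 𝒴)
    (hy : AlgSt.RepByAlgSpWith (AlgSp.LocP @Smooth) y)
    (hy' : AlgSt.RepByAlgSpWith AlgSp.IsSurjectiveMor y) :
    ∃ (U : Over S) (a : U ⟶ V) (x : FibCat.overCat U ⥤ᵇ 𝒳),
      AlgSt.RepByAlgSpWith (AlgSp.LocP @Smooth) x ∧ AlgSt.RepByAlgSpWith AlgSp.IsSurjectiveMor x ∧
        Nonempty (BasedFunctor.comp x f ≅ BasedFunctor.comp (AlgSt.overMap a) y) := by
  have hV : AlgSt.IsAlgStack Scheme.fppfPrecoverage (FibCat.overCat V) :=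
    (isDM_of_repByAlgSp (repByAlgSp_overCat V)).1
  have hfp := isAlgStack_fp' _ h𝒴.isStack h𝒴.diag hV h𝒳 y f
  obtain ⟨U, x', hx1, hx2⟩ := hfp.atlas
  have hQ := Groth.Agent.Lib.Helper78.AlgSpLocPSmooth.etLocalST_smooth
  have g1 := overCat_isFibGrpd U
  have g2 : FibCat.IsFibGrpd (FibCat.fp y f).p := hfp.isStack.1
  let G : FibCat.overCat U ⥤ᵇ FibCat.overCat V := BasedFunctor.comp x' (FibCat.fpFst y f)
  refine ⟨U, overClassify G, BasedFunctor.comp x' (FibCat.fpSnd y f),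
    repByAlgSpWith_locP_comp hQ g1 g2 x' _ hx1 (repByAlgSpWith_fpSnd _ y f hy),
    repByAlgSpWith_isSurjectiveMor_comp g1 g2 x' _ hx2 (repByAlgSpWith_fpSnd _ y f hy'), ⟨?_⟩⟩
  have i1 : BasedFunctor.comp (BasedFunctor.comp x' (FibCat.fpSnd y f)) f ≅
      BasedFunctor.comp G y := (whiskerLeftIso x' (FibCat.fpIso y f)).symm
  have i2 : G ≅ AlgSt.overMap (overClassify G) := isoOverMap G
  exact i1 ≪≫ whiskerRightIso i2 y

end Groth.Agent.Lib.Helper80
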