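import Groth.Agent.Lib.Helper80.AlgStLoft

/-!
# The diagonal of a representable morphism versus the diagonals of its base changes (helper80)
-/

set_option autoImplicit false
set_option backward.isDefEq.respectTransparency false

universe u

open CategoryTheory CategoryTheory.Functor CategoryTheory.Limits AlgebraicGeometry Opposite

namespace Groth.Agent.Lib.Helper80

open BasedFunctor

variable {S : Scheme.{u}}

/-- For a morphism `a` of algebraic spaces and `Q` stable under base change and atlas-local: the functor of `a` is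
representable by algebraic spaces with `Q` if and only if `a` has `Q`. -/
theorem repByAlgSpWith_ofSpMap_iff (Q : MorphismProperty (AlgSp.Sp S))
    (hQb : ∀ ⦃X₁ Y₁ X₂ Y₂ : AlgSp.Sp S⦄, AlgSp.IsAlgSpace X₁ → AlgSp.IsAlgSpace Y₁ → AlgSp.IsAlgSpace X₂ →
      AlgSp.IsAlgSpace Y₂ → ∀ (a : X₁ ⟶ Y₁) (b : Y₂ ⟶ Y₁) (a' : X₂ ⟶ Y₂) (b' : X₂ ⟶ X₁),
      IsPullback b' a' a b → Q a → Q a')
    (hQ : AtlasLocal Q) {X Y : AlgSp.Sp S} (hX : AlgSp.IsAlgSpace X) (hY : AlgSp.IsAlgSpace Y)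
    (a : X ⟶ Y) : AlgSt.RepByAlgSpWith Q (AlgSt.ofSpMap a) ↔ Q a := by
  constructor
  · intro h
    have r := exists_space_fp_with' (ofPsh_isFibSetoid _).1 (ofPsh_isFibSetoid _).1 Q hQ
      (AlgSt.ofSpMap a) h ⟨Y, hY⟩ (BasedFunctor.id _)
    exact repOverSp_unique Q hQb (B := ⟨Y, hY⟩) (FibCat.fpFst (BasedFunctor.id _) (AlgSt.ofSpMap a)) r hX a
      (fpIdLeftInv (AlgSt.ofSpMap a)) (fpIdLeftInv_isEquivOver (AlgSt.ofSpMap a)) (BasedNatIso.id _)
  · exact repByAlgSpWith_ofSpMap Q hQb hX hY a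

/-- The diagonal of the functor of a map of sheaves is the functor of the diagonal. -/
theorem repByAlgSpWith_diag_ofSpMap_iff (Q : MorphismProperty (AlgSp.Sp S)) {E Y : AlgSp.Sp S} (p : E ⟶ Y) :
    AlgSt.RepByAlgSpWith Q (FibCat.diag (AlgSt.ofSpMap p)) ↔
      AlgSt.RepByAlgSpWith Q (AlgSt.ofSpMap (pullback.diagonal p)) := by
  have sq : IsPullback (pullback.fst p p) (pullback.snd p p) p p := IsPullback.of_hasPullback p p
  have sq' := sq.map (sheafToPresheaf (AlgSp.J S) (Type (u + 1)))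
  have w₁ : (pullback.diagonal p).hom ≫ (pullback.fst p p).hom = 𝟙 E.obj ≫ 𝟙 E.obj := by
    rw [Category.id_comp]
    exact congrArg (fun k => k.hom) (pullback.diagonal_fst p)
  have w₂ : (pullback.diagonal p).hom ≫ (pullback.snd p p).hom = 𝟙 E.obj ≫ 𝟙 E.obj := by
    rw [Category.id_comp]
    exact congrArg (fun k => k.hom) (pullback.diagonal_snd p)
  refine repByAlgSpWith_iff_of_square Q (FibCat.diag (AlgSt.ofSpMap p))
    (AlgSt.ofSpMap (pullback.diagonal p)) (BasedFunctor.id _) (ofPshFp sq'.w) isEquivOver_id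
    (ofPshFp_isEquivOver sq') ?_
  refine fpIsoMk (ofPshSqIso w₁) (ofPshSqIso w₂) ?_
  intro x
  apply Stk.EltObj.hom_ext
  change 𝟙 x.base ≫ 𝟙 x.base = 𝟙 x.base ≫ 𝟙 x.base
  rfl

variable {𝒜 ℬ 𝒜' ℬ' : AlgSt.Cat S}

/-- Invariance of the properties of the diagonal under a 2-commutative square whose horizontal arrows are
equivalences. -/
theorem repByAlgSpWith_diag_iff_of_square (Q : MorphismProperty (AlgSp.Sp S))
    (g : 𝒜 ⥤ᵇ ℬ) (g' : 𝒜' ⥤ᵇ ℬ') (a : 𝒜' ⥤ᵇ 𝒜) (b : ℬ' ⥤ᵇ ℬ)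
    (ha : FibCat.IsEquivOver a) (hb : FibCat.IsEquivOver b)
    (e : BasedFunctor.comp g' b ≅ BasedFunctor.comp a g) :
    AlgSt.RepByAlgSpWith Q (FibCat.diag g) ↔ AlgSt.RepByAlgSpWith Q (FibCat.diag g') := by
  obtain ⟨hbfull, hbfaith, -⟩ := IsEquivOver.isFFEssSurjOver hb
  refine repByAlgSpWith_iff_of_square Q (FibCat.diag g) (FibCat.diag g') a
    (fpMap g g g' g' a a b e e) ha (fpMap_isEquivOver g g g' g' a a b e e ha ha) ?_
  refine fpIsoMk (BasedNatIso.id _) (BasedNatIso.id _) ?_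
  intro w
  change g.map (𝟙 _) ≫ 𝟙 _ = (e.inv.toNatTrans.app w ≫ b.map (𝟙 _) ≫ e.hom.toNatTrans.app w) ≫ g.map (𝟙 _)
  have h1 : e.inv.toNatTrans.app w ≫ e.hom.toNatTrans.app w = 𝟙 _ := iso_inv_hom_app e w
  have h2 : b.map (𝟙 (g'.obj w)) = 𝟙 (b.obj (g'.obj w)) := CategoryTheory.Functor.map_id _ _
  have h3 : g.map (𝟙 (a.obj w)) = 𝟙 (g.obj (a.obj w)) := CategoryTheory.Functor.map_id _ _
  rw [h2, h3]
  erw [Category.comp_id, Category.comp_id, Category.id_comp]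
  exact h1.symm

/-- The diagonal of `g` has `Q` as soon as the diagonals of all base changes of `g` to schemes do. -/
theorem repByAlgSpWith_diag_of_forall_fpFst (Q : MorphismProperty (AlgSp.Sp S)) (g : 𝒜 ⥤ᵇ ℬ)
    (h : ∀ (T : Over S) (y : FibCat.overCat T ⥤ᵇ ℬ),
      AlgSt.RepByAlgSpWith Q (FibCat.diag (FibCat.fpFst y g))) :
    AlgSt.RepByAlgSpWith Q (FibCat.diag g) := by
  intro T t
  let t₁ := BasedFunctor.comp t (FibCat.fpFst g g)
  let t₂ := BasedFunctor.comp t (FibCat.fpSnd g g)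
  let y := BasedFunctor.comp t₁ g
  let π := FibCat.fpFst y g
  let t₁' : FibCat.overCat T ⥤ᵇ FibCat.fp y g :=
    FibCat.fpLift (BasedFunctor.id _) t₁
      (BasedNatIso.id _ : BasedFunctor.comp (BasedFunctor.id _) y ≅ BasedFunctor.comp t₁ g)
  let θ : BasedFunctor.comp (BasedFunctor.id _) y ≅ BasedFunctor.comp t₂ g :=
    whiskerLeftIso t (FibCat.fpIso g g)
  let t₂' : FibCat.overCat T ⥤ᵇ FibCat.fp y g := FibCat.fpLift (BasedFunctor.id _) t₂ θ
  let t' : FibCat.overCat T ⥤ᵇ FibCat.fp π π :=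
    FibCat.fpLift t₁' t₂' (BasedNatIso.id _ : BasedFunctor.comp t₁' π ≅ BasedFunctor.comp t₂' π)
  have i : t ≅ BasedFunctor.comp t' (diagBase y g) :=
    fpIsoMk (BasedNatIso.id _) (BasedNatIso.id _) (by
      intro w
      change g.map (𝟙 _) ≫ (𝟙 _ ≫ y.map (𝟙 _) ≫ (t.obj w).obj.iso.hom) =
        (t.obj w).obj.iso.hom ≫ g.map (𝟙 _)
      simp
      exact Category.id_comp _)
  have two : FibCat.IsEquivOver (FibCat.fpLift (FibCat.diag (FibCat.fpFst y g)) (FibCat.fpSnd y g)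
      (diagSqIso' y g)) := diag_fpFst_isTwoCartOver y g
  have h' : AlgSt.RepByAlgSpWith Q (FibCat.fpFst (diagBase y g) (FibCat.diag g)) :=
    (repByAlgSpWith_iff_of_square Q (FibCat.fpFst (diagBase y g) (FibCat.diag g))
      (FibCat.diag (FibCat.fpFst y g))
      (FibCat.fpLift (FibCat.diag (FibCat.fpFst y g)) (FibCat.fpSnd y g) (diagSqIso' y g))
      (BasedFunctor.id _) two isEquivOver_id (BasedNatIso.id _)).mpr (h T y)
  have h4 := h' T t'
  have e1 := fpMapLeft_isEquivOver (BasedFunctor.comp t' (diagBase y g)) (FibCat.diag g)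
    (BasedFunctor.id _) t i isEquivOver_id
  have e2 := fpPasteLeft_isEquivOver t' (diagBase y g) (FibCat.diag g)
  exact (repWith_transfer Q (FibCat.fpFst t (FibCat.diag g))
    (FibCat.fpFst (BasedFunctor.comp t' (diagBase y g)) (FibCat.diag g))
    (fpMapLeft (BasedFunctor.comp t' (diagBase y g)) (FibCat.diag g) (BasedFunctor.id _) t i) e1
    (BasedNatIso.id _)).mpr
    ((repWith_transfer Q (FibCat.fpFst (BasedFunctor.comp t' (diagBase y g)) (FibCat.diag g))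
      (FibCat.fpFst t' (FibCat.fpFst (diagBase y g) (FibCat.diag g)))
      (fpPasteLeft t' (diagBase y g) (FibCat.diag g)) e2 (BasedNatIso.id _)).mpr h4)

/-- The diagonal of the base change of `g` to a scheme, read on a representing algebraic space. -/
theorem repByAlgSpWith_diag_fpFst_iff' (Q : MorphismProperty (AlgSp.Sp S))
    (hiii : ∀ ⦃X Y : AlgSp.Sp S⦄, AlgSp.IsAlgSpace X → AlgSp.IsAlgSpace Y → ∀ (p : X ⟶ Y),
      AlgSp.IsAlgSpace (pullback p p) →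
      (AlgSt.RepByAlgSpWith Q (AlgSt.ofSpMap (pullback.diagonal p)) ↔ Q (pullback.diagonal p)))
    (g : 𝒜 ⥤ᵇ ℬ) {T : Over S} (y : FibCat.overCat T ⥤ᵇ ℬ)
    (E : AlgSp.Space S) (e : AlgSt.ofSp E.obj ⥤ᵇ FibCat.fp y g) (he : FibCat.IsEquivOver e) :
    AlgSt.RepByAlgSpWith Q (FibCat.diag (FibCat.fpFst y g)) ↔
      Q (pullback.diagonal (AlgSt.spMapOfOver (BasedFunctor.comp e (FibCat.fpFst y g)))) := by
  let p := AlgSt.spMapOfOver (BasedFunctor.comp e (FibCat.fpFst y g))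
  obtain ⟨i⟩ := ofSpMap_spMapOfOver_iso (BasedFunctor.comp e (FibCat.fpFst y g))
  have e' : BasedFunctor.comp (AlgSt.ofSpMap p) (AlgSt.toOverCat T) ≅
      BasedFunctor.comp e (FibCat.fpFst y g) :=
    (whiskerRightIso i.symm (AlgSt.toOverCat T) : _ ≅
      BasedFunctor.comp (BasedFunctor.comp (BasedFunctor.comp e (FibCat.fpFst y g)) (AlgSt.ofOverCat T))
        (AlgSt.toOverCat T))
  have hpull : AlgSp.IsAlgSpace (pullback p p) :=
    Groth.Agent.Lib.Helper78.AlgSpFibre.isAlgSpace_of_isPullback (IsPullback.of_hasPullback p p)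
      (AlgSp.IsAlgSpace.yon_obj T).diag E.property E.property
  rw [repByAlgSpWith_diag_iff_of_square Q (FibCat.fpFst y g) (AlgSt.ofSpMap p) e (AlgSt.toOverCat T) he
    (toOverCat_isEquivOver T) e', repByAlgSpWith_diag_ofSpMap_iff Q p]
  exact hiii E.property (AlgSp.IsAlgSpace.yon_obj T) p hpull

/-- **Bridge**: for `g` representable by algebraic spaces, the diagonal of `g` has `Q` if and only if the diagonals of
the base changes of `g` to schemes have `Q`. -/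
theorem repByAlgSpWith_diag_iff' (Q : MorphismProperty (AlgSp.Sp S))
    (hiii : ∀ ⦃X Y : AlgSp.Sp S⦄, AlgSp.IsAlgSpace X → AlgSp.IsAlgSpace Y → ∀ (p : X ⟶ Y),
      AlgSp.IsAlgSpace (pullback p p) →
      (AlgSt.RepByAlgSpWith Q (AlgSt.ofSpMap (pullback.diagonal p)) ↔ Q (pullback.diagonal p)))
    (g : 𝒜 ⥤ᵇ ℬ) (hg : AlgSt.RepByAlgSp1 g) :
    AlgSt.RepByAlgSpWith Q (FibCat.diag g) ↔ AlgSt.RepByAlgSpWith Q.diagonal g := by
  constructor
  · intro h T y
    obtain ⟨E, e, he⟩ := hg T y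
    exact ⟨E, e, he, (repByAlgSpWith_diag_fpFst_iff' Q hiii g y E e he).mp
      (repByAlgSpWith_diag_fpFst y g Q h)⟩
  · intro h
    apply repByAlgSpWith_diag_of_forall_fpFst
    intro T y
    obtain ⟨E, e, he, hΔ⟩ := h T y
    exact (repByAlgSpWith_diag_fpFst_iff' Q hiii g y E e he).mpr hΔ

/-- Bridge for a property stable under base change and atlas-local. -/
theorem repByAlgSpWith_diag_iff (Q : MorphismProperty (AlgSp.Sp S))
    (hQb : ∀ ⦃X₁ Y₁ X₂ Y₂ : AlgSp.Sp S⦄, AlgSp.IsAlgSpace X₁ → AlgSp.IsAlgSpace Y₁ → AlgSp.IsAlgSpace X₂ →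
      AlgSp.IsAlgSpace Y₂ → ∀ (a : X₁ ⟶ Y₁) (b : Y₂ ⟶ Y₁) (a' : X₂ ⟶ Y₂) (b' : X₂ ⟶ X₁),
      IsPullback b' a' a b → Q a → Q a')
    (hQ : AtlasLocal Q) (g : 𝒜 ⥤ᵇ ℬ) (hg : AlgSt.RepByAlgSp1 g) :
    AlgSt.RepByAlgSpWith Q (FibCat.diag g) ↔ AlgSt.RepByAlgSpWith Q.diagonal g :=
  repByAlgSpWith_diag_iff' Q
    (fun _ _ hX _ p hpull => repByAlgSpWith_ofSpMap_iff Q hQb hQ hX hpull (pullback.diagonal p)) g hg

/-- A variant of `repByAlgSpWith_congr` remembering that the representing sheaf is an algebraic space. -/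
theorem repByAlgSpWith_congr' (P P' : MorphismProperty (AlgSp.Sp S))
    (h : ∀ ⦃X : AlgSp.Sp S⦄ ⦃U : Over S⦄ (a : X ⟶ (AlgSp.yon S).obj U), AlgSp.IsAlgSpace X → P a → P' a)
    {f : 𝒜 ⥤ᵇ ℬ} (hf : AlgSt.RepByAlgSpWith P f) : AlgSt.RepByAlgSpWith P' f := by
  intro U y
  obtain ⟨F, e, he, hP⟩ := hf U y
  exact ⟨F, e, he, h _ F.property hP⟩

/-- Two properties of a morphism representable by algebraic spaces hold simultaneously. -/
theorem repByAlgSpWith_inf (P P' : MorphismProperty (AlgSp.Sp S))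
    (hPb' : ∀ ⦃X₁ Y₁ X₂ Y₂ : AlgSp.Sp S⦄, AlgSp.IsAlgSpace X₁ → AlgSp.IsAlgSpace Y₁ → AlgSp.IsAlgSpace X₂ →
      AlgSp.IsAlgSpace Y₂ → ∀ (a : X₁ ⟶ Y₁) (b : Y₂ ⟶ Y₁) (a' : X₂ ⟶ Y₂) (b' : X₂ ⟶ X₁),
      IsPullback b' a' a b → P' a → P' a')
    {f : 𝒜 ⥤ᵇ ℬ} (hf : AlgSt.RepByAlgSpWith P f) (hf' : AlgSt.RepByAlgSpWith P' f) :
    AlgSt.RepByAlgSpWith (P ⊓ P') f := by
  intro U y
  obtain ⟨F, e, he, hP⟩ := hf U y
  obtain ⟨F', e', he', hP'⟩ := hf' U y
  exact ⟨F, e, he, hP, prop_of_rep_over P' hPb' (FibCat.fpFst y f) F F' e e' he he' hP'⟩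

/-- The diagonal of the base change of `g` to a scheme is the functor of the diagonal of a representing morphism of
algebraic spaces. -/
theorem repByAlgSpWith_diag_fpFst_iff_ofSpMap (Q : MorphismProperty (AlgSp.Sp S))
    (g : 𝒜 ⥤ᵇ ℬ) {T : Over S} (y : FibCat.overCat T ⥤ᵇ ℬ)
    (E : AlgSp.Space S) (e : AlgSt.ofSp E.obj ⥤ᵇ FibCat.fp y g) (he : FibCat.IsEquivOver e) :
    AlgSt.RepByAlgSpWith Q (FibCat.diag (FibCat.fpFst y g)) ↔
      AlgSt.RepByAlgSpWith Q (AlgSt.ofSpMap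
        (pullback.diagonal (AlgSt.spMapOfOver (BasedFunctor.comp e (FibCat.fpFst y g))))) := by
  let p := AlgSt.spMapOfOver (BasedFunctor.comp e (FibCat.fpFst y g))
  obtain ⟨i⟩ := ofSpMap_spMapOfOver_iso (BasedFunctor.comp e (FibCat.fpFst y g))
  have e' : BasedFunctor.comp (AlgSt.ofSpMap p) (AlgSt.toOverCat T) ≅
      BasedFunctor.comp e (FibCat.fpFst y g) :=
    (whiskerRightIso i.symm (AlgSt.toOverCat T) : _ ≅
      BasedFunctor.comp (BasedFunctor.comp (BasedFunctor.comp e (FibCat.fpFst y g)) (AlgSt.ofOverCat T))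
        (AlgSt.toOverCat T))
  rw [repByAlgSpWith_diag_iff_of_square Q (FibCat.fpFst y g) (AlgSt.ofSpMap p) e (AlgSt.toOverCat T) he
    (toOverCat_isEquivOver T) e', repByAlgSpWith_diag_ofSpMap_iff Q p]

/-- Bridge, one direction: if the diagonals of the base changes of `g` to schemes have the base change stable `Q`, so
does the diagonal of `g`. -/
theorem repByAlgSpWith_diag_of_diagonal (Q : MorphismProperty (AlgSp.Sp S))
    (hQb : ∀ ⦃X₁ Y₁ X₂ Y₂ : AlgSp.Sp S⦄, AlgSp.IsAlgSpace X₁ → AlgSp.IsAlgSpace Y₁ → AlgSp.IsAlgSpace X₂ →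
      AlgSp.IsAlgSpace Y₂ → ∀ (a : X₁ ⟶ Y₁) (b : Y₂ ⟶ Y₁) (a' : X₂ ⟶ Y₂) (b' : X₂ ⟶ X₁),
      IsPullback b' a' a b → Q a → Q a')
    (g : 𝒜 ⥤ᵇ ℬ) (h : AlgSt.RepByAlgSpWith Q.diagonal g) : AlgSt.RepByAlgSpWith Q (FibCat.diag g) := by
  apply repByAlgSpWith_diag_of_forall_fpFst
  intro T y
  obtain ⟨E, e, he, hΔ⟩ := h T y
  have hpull : AlgSp.IsAlgSpace (pullback (AlgSt.spMapOfOver (BasedFunctor.comp e (FibCat.fpFst y g)))
      (AlgSt.spMapOfOver (BasedFunctor.comp e (FibCat.fpFst y g)))) :=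
    Groth.Agent.Lib.Helper78.AlgSpFibre.isAlgSpace_of_isPullback (IsPullback.of_hasPullback _ _)
      (AlgSp.IsAlgSpace.yon_obj T).diag E.property E.property
  exact (repByAlgSpWith_diag_fpFst_iff_ofSpMap Q g y E e he).mpr
    (repByAlgSpWith_ofSpMap Q hQb E.property hpull _ hΔ)

/-- Bridge, other direction. -/
theorem repByAlgSpWith_diagonal_of_diag (Q : MorphismProperty (AlgSp.Sp S))
    (hmp : ∀ ⦃X Y : AlgSp.Sp S⦄, AlgSp.IsAlgSpace X → AlgSp.IsAlgSpace Y → ∀ (p : X ⟶ Y),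
      AlgSp.IsAlgSpace (pullback p p) →
      AlgSt.RepByAlgSpWith Q (AlgSt.ofSpMap (pullback.diagonal p)) → Q (pullback.diagonal p))
    (g : 𝒜 ⥤ᵇ ℬ) (hg : AlgSt.RepByAlgSp1 g) (h : AlgSt.RepByAlgSpWith Q (FibCat.diag g)) :
    AlgSt.RepByAlgSpWith Q.diagonal g := by
  intro T y
  obtain ⟨E, e, he⟩ := hg T y
  have hpull : AlgSp.IsAlgSpace (pullback (AlgSt.spMapOfOver (BasedFunctor.comp e (FibCat.fpFst y g)))
      (AlgSt.spMapOfOver (BasedFunctor.comp e (FibCat.fpFst y g)))) :=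
    Groth.Agent.Lib.Helper78.AlgSpFibre.isAlgSpace_of_isPullback (IsPullback.of_hasPullback _ _)
      (AlgSp.IsAlgSpace.yon_obj T).diag E.property E.property
  exact ⟨E, e, he, hmp E.property (AlgSp.IsAlgSpace.yon_obj T) _ hpull
    ((repByAlgSpWith_diag_fpFst_iff_ofSpMap Q g y E e he).mp (repByAlgSpWith_diag_fpFst y g Q h))⟩

/-- For a representable morphism `a` of algebraic spaces and a base change stable property `P` of morphisms of
schemes: the functor of `a` is representable by algebraic spaces with `RepWith P` if and only if `a` has `RepWith P`. -/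
theorem repByAlgSpWith_ofSpMap_repWith_iff (P : MorphismProperty Scheme.{u}) [P.IsStableUnderBaseChange]
    {X Y : AlgSp.Sp S} (hX : AlgSp.IsAlgSpace X) (hY : AlgSp.IsAlgSpace Y) (a : X ⟶ Y)
    (ha : AlgSp.Representable a) :
    AlgSt.RepByAlgSpWith (AlgSp.RepWith P) (AlgSt.ofSpMap a) ↔ AlgSp.RepWith P a := by
  constructor
  · intro h
    have h1 : AlgSp.RepBySpWith (AlgSp.RepWith P) a.hom :=
      (repBySpWith_iff_repByAlgSpWith (AlgSp.RepWith P) a.hom).mpr h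
    rw [AlgSp.repBySpWith_hom_iff] at h1
    refine ⟨ha, ?_⟩
    intro U V g fst snd sq
    exact (AlgSp.repWith_yon_map_iff P snd).mp (h1 g fst ((AlgSp.yon S).map snd) sq).2
  · intro h
    exact repByAlgSpWith_ofSpMap (AlgSp.RepWith P)
      (fun _ _ _ _ _ _ _ _ a b a' b' sq ha => MorphismProperty.of_isPullback sq ha) hX hY a h

/-- Bridge for `RepWith P`. -/
theorem repByAlgSpWith_diag_repWith_iff (P : MorphismProperty Scheme.{u}) [P.IsStableUnderBaseChange]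
    (g : 𝒜 ⥤ᵇ ℬ) (hg : AlgSt.RepByAlgSp1 g) :
    AlgSt.RepByAlgSpWith (AlgSp.RepWith P) (FibCat.diag g) ↔
      AlgSt.RepByAlgSpWith (AlgSp.RepWith P).diagonal g :=
  repByAlgSpWith_diag_iff' (AlgSp.RepWith P)
    (fun _ _ hX _ p hpull => repByAlgSpWith_ofSpMap_repWith_iff P hX hpull (pullback.diagonal p)
      (Groth.Agent.Lib.Helper30.representable_diagonal hX.diag p)) g hg

end Groth.Agent.Lib.Helper80
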