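import Groth.Agent.Lib.Helper80.FibCat8

/-!
# The relative inertia as a 2-fibre product of diagonals (helper80)
-/

set_option autoImplicit false
set_option backward.isDefEq.respectTransparency false

universe v₃ u₃ v₂ u₂ v u

open CategoryTheory CategoryTheory.Functor CategoryTheory.Limits

namespace Groth.Agent.Lib.Helper80

open BasedFunctor

variable {C : Type u} [Category.{v} C]
  {𝒳 : BasedCategory.{v₂, u₂} C} {𝒴 : BasedCategory.{v₃, u₃} C} (F : 𝒳 ⥤ᵇ 𝒴)

/-- The automorphism `(α, 𝟙)` of `Δ x` attached to an object `(x, α)` of the inertia. -/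
def inertiaDiagIso (X : (FibCat.inertia F).obj) :
    (FibCat.diag F).obj X.pt ≅ (FibCat.diag F).obj X.pt :=
  ObjectProperty.isoMk _ (CategoricalPullback.mkIso X.aut (Iso.refl X.pt)
    (by simp [X.map_aut]))

@[simp] theorem inertiaDiagIso_hom_fst (X : (FibCat.inertia F).obj) :
    (inertiaDiagIso F X).hom.hom.fst = X.aut.hom := rfl

@[simp] theorem inertiaDiagIso_hom_snd (X : (FibCat.inertia F).obj) :
    (inertiaDiagIso F X).hom.hom.snd = 𝟙 X.pt := rfl

theorem inertiaDiagIso_prop (X : (FibCat.inertia F).obj) :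
    (FibCat.fp F F).p.IsHomLift (𝟙 (𝒳.p.obj X.pt)) (inertiaDiagIso F X).hom := by
  rw [fp_isHomLift_iff]
  exact inertia_aut_isHomLift F X rfl

/-- The object of `𝒳 ×_{𝒳 ×_𝒴 𝒳} 𝒳` attached to an object of the inertia. -/
def inertiaToFpObj (X : (FibCat.inertia F).obj) :
    (FibCat.fp (FibCat.diag F) (FibCat.diag F)).obj :=
  ⟨⟨X.pt, X.pt, inertiaDiagIso F X⟩, inertiaDiagIso_prop F X⟩

/-- The morphism of `𝒳 ×_{𝒳 ×_𝒴 𝒳} 𝒳` attached to a morphism of the inertia. -/
def inertiaToFpMap {X Y : (FibCat.inertia F).obj} (φ : X ⟶ Y) :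
    inertiaToFpObj F X ⟶ inertiaToFpObj F Y :=
  ObjectProperty.homMk ⟨φ.hom, φ.hom, by
    apply ObjectProperty.hom_ext
    apply CategoricalPullback.hom_ext
    · exact φ.comm.symm
    · change φ.hom ≫ 𝟙 _ = 𝟙 _ ≫ φ.hom
      simp⟩

/-- The comparison functor from the inertia to `𝒳 ×_{𝒳 ×_𝒴 𝒳} 𝒳`. -/
def inertiaToFp : FibCat.inertia F ⥤ᵇ FibCat.fp (FibCat.diag F) (FibCat.diag F) where
  toFunctor :=
    { obj := inertiaToFpObj F
      map := fun φ => inertiaToFpMap F φ
      map_id := fun X => by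
        apply ObjectProperty.hom_ext
        apply CategoricalPullback.hom_ext <;> rfl
      map_comp := fun φ ψ => by
        apply ObjectProperty.hom_ext
        apply CategoricalPullback.hom_ext <;> rfl }
  w := rfl

theorem inertiaToFp_comp_fpFst :
    BasedFunctor.comp (inertiaToFp F) (FibCat.fpFst _ _) = FibCat.inertiaToBase F := rfl

theorem inertiaToFp_comp_fpSnd :
    BasedFunctor.comp (inertiaToFp F) (FibCat.fpSnd _ _) = FibCat.inertiaToBase F := rfl


theorem inertiaToFp_isFFEssSurjOver : IsFFEssSurjOver (inertiaToFp F) where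
  faithful := ⟨fun {X Y} φ₁ φ₂ h => by
    apply FibCat.InertiaObj.hom_ext
    exact congrArg (fun m => m.hom.fst) h⟩
  full := ⟨fun {X Y} m => by
    have hw := m.hom.w
    have h1 : m.hom.fst ≫ Y.aut.hom = X.aut.hom ≫ m.hom.snd :=
      congrArg (fun k => k.hom.fst) hw
    have h2 : m.hom.fst ≫ 𝟙 Y.pt = 𝟙 X.pt ≫ m.hom.snd :=
      congrArg (fun k => k.hom.snd) hw
    have h3 : m.hom.fst = m.hom.snd :=
      (Category.comp_id _).symm.trans (h2.trans (Category.id_comp _))
    refine ⟨⟨m.hom.fst, ?_⟩, ?_⟩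
    · rw [h1, ← h3]
    · apply ObjectProperty.hom_ext
      apply CategoricalPullback.hom_ext
      · rfl
      · exact h3⟩
  essSurj := fun P => by
    -- the components of the isomorphism `Δ x ≅ Δ x'`
    let ι := P.obj.iso
    let a : P.obj.fst ⟶ P.obj.snd := ι.hom.hom.fst
    let b : P.obj.fst ⟶ P.obj.snd := ι.hom.hom.snd
    let a' : P.obj.snd ⟶ P.obj.fst := ι.inv.hom.fst
    let b' : P.obj.snd ⟶ P.obj.fst := ι.inv.hom.snd
    have haa' : a ≫ a' = 𝟙 _ := congrArg (fun k => k.hom.fst) ι.hom_inv_id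
    have ha'a : a' ≫ a = 𝟙 _ := congrArg (fun k => k.hom.fst) ι.inv_hom_id
    have hbb' : b ≫ b' = 𝟙 _ := congrArg (fun k => k.hom.snd) ι.hom_inv_id
    have hb'b : b' ≫ b = 𝟙 _ := congrArg (fun k => k.hom.snd) ι.inv_hom_id
    have hFab : F.map a = F.map b := by
      have := ι.hom.hom.w
      simpa using this
    let α : P.obj.fst ≅ P.obj.fst :=
      ⟨a ≫ b', b ≫ a', by rw [Category.assoc, ← Category.assoc b', hb'b, Category.id_comp, haa'],
        by rw [Category.assoc, ← Category.assoc a', ha'a, Category.id_comp, hbb']⟩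
    have hα : F.map α.hom = 𝟙 _ := by
      change F.map (a ≫ b') = 𝟙 _
      rw [Functor.map_comp, hFab, ← Functor.map_comp, hbb', Functor.map_id]
    let X : (FibCat.inertia F).obj := ⟨P.obj.fst, α, hα⟩
    let bIso : P.obj.fst ≅ P.obj.snd := ⟨b, b', hbb', hb'b⟩
    let θ : (inertiaToFp F).obj X ≅ P :=
      ObjectProperty.isoMk _ (CategoricalPullback.mkIso (Iso.refl _) bIso (by
        apply ObjectProperty.hom_ext
        apply CategoricalPullback.hom_ext
        · change 𝟙 _ ≫ a = (a ≫ b') ≫ b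
          rw [Category.assoc, hb'b, Category.comp_id, Category.id_comp]
        · change 𝟙 _ ≫ b = 𝟙 _ ≫ b
          rfl))
    refine ⟨X, θ, ?_⟩
    rw [fp_isHomLift_iff]
    change 𝒳.p.IsHomLift (𝟙 (𝒳.p.obj P.obj.fst)) (𝟙 P.obj.fst)
    infer_instance

theorem inertiaToFp_isEquivOver : FibCat.IsEquivOver (inertiaToFp F) :=
  (inertiaToFp_isFFEssSurjOver F).isEquivOver

end Groth.Agent.Lib.Helper80
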