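import Groth.Agent.Lib.Helper80.AlgStBridge
import Groth.Agent.Lib.Helper80.FibCat9
import Groth.Agent.S10277
import Groth.Agent.S10280
import Groth.Agent.S10521
import Groth.Agent.S10519

/-!
# Separatedness and quasi-separatedness of morphisms representable by algebraic spaces, via the diagonal;
the inertia as a fibre product of diagonals (helper80)
-/

set_option autoImplicit false
set_option backward.isDefEq.respectTransparency false

universe u

open CategoryTheory CategoryTheory.Functor CategoryTheory.Limits AlgebraicGeometry Opposite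

namespace Groth.Agent.Lib.Helper80

open BasedFunctor

variable {S : Scheme.{u}}

theorem isQuasiCompactMor_baseChange : ∀ ⦃X₁ Y₁ X₂ Y₂ : AlgSp.Sp S⦄, AlgSp.IsAlgSpace X₁ →
    AlgSp.IsAlgSpace Y₁ → AlgSp.IsAlgSpace X₂ →
    AlgSp.IsAlgSpace Y₂ → ∀ (a : X₁ ⟶ Y₁) (b : Y₂ ⟶ Y₁) (a' : X₂ ⟶ Y₂) (b' : X₂ ⟶ X₁),
    IsPullback b' a' a b → AlgSp.IsQuasiCompactMor a → AlgSp.IsQuasiCompactMor a' :=
  fun _ _ _ _ _ _ _ _ _ _ _ _ sq ha => Groth.Agent.Lib.Helper30.isQuasiCompactMor_snd_of_isPullback sq ha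

theorem isUnivClosedMor_baseChange : ∀ ⦃X₁ Y₁ X₂ Y₂ : AlgSp.Sp S⦄, AlgSp.IsAlgSpace X₁ →
    AlgSp.IsAlgSpace Y₁ → AlgSp.IsAlgSpace X₂ →
    AlgSp.IsAlgSpace Y₂ → ∀ (a : X₁ ⟶ Y₁) (b : Y₂ ⟶ Y₁) (a' : X₂ ⟶ Y₂) (b' : X₂ ⟶ X₁),
    IsPullback b' a' a b → AlgSp.IsUnivClosedMor a → AlgSp.IsUnivClosedMor a' :=
  fun _ _ _ _ _ _ _ _ _ _ _ _ sq ha => Groth.Agent.Lib.Helper30.isUnivClosedMor_snd_of_isPullback sq ha

theorem atlasLocal_isQuasiCompactMor : AtlasLocal (S := S) AlgSp.IsQuasiCompactMor :=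
  atlasLocal_of_isLocalOnBase_fppf _ (isLocalOnBase_fppf_of_fpqc (Groth.Agent.S10519.result S))

theorem atlasLocal_isUnivClosedMor : AtlasLocal (S := S) AlgSp.IsUnivClosedMor :=
  atlasLocal_of_isLocalOnBase_fppf _ (isLocalOnBase_fppf_of_fpqc (Groth.Agent.S10521.result S))

variable {𝒜 ℬ : AlgSt.Cat S}

/-- `g` (representable by algebraic spaces) is separated iff its diagonal is a closed immersion. -/
theorem sep_iff_isClosedImm_diag (g : 𝒜 ⥤ᵇ ℬ) (hg : AlgSt.RepByAlgSp1 g) :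
    AlgSt.RepByAlgSpWith AlgSp.IsSeparatedMor g ↔ AlgSt.IsClosedImm (FibCat.diag g) :=
  (repByAlgSpWith_diag_repWith_iff @IsClosedImmersion g hg).symm

/-- A closed immersion is proper. -/
theorem proper_of_isClosedImm (g : 𝒜 ⥤ᵇ ℬ) (h : AlgSt.IsClosedImm g) :
    AlgSt.RepByAlgSpWith AlgSp.IsProperMor g :=
  repByAlgSpWith_congr' _ _ (fun X U a hX ha =>
    Groth.Agent.S10277.result (X := ⟨X, hX⟩) (Y := ⟨(AlgSp.yon S).obj U, AlgSp.IsAlgSpace.yon_obj U⟩)
      (ObjectProperty.homMk a) ha) h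

/-- If the diagonal of `g` is universally closed, `g` is separated. -/
theorem sep_of_univClosed_diag (g : 𝒜 ⥤ᵇ ℬ) (hg : AlgSt.RepByAlgSp1 g)
    (h : AlgSt.RepByAlgSpWith AlgSp.IsUnivClosedMor (FibCat.diag g)) :
    AlgSt.RepByAlgSpWith AlgSp.IsSeparatedMor g := by
  have h1 := repByAlgSpWith_diagonal_of_diag AlgSp.IsUnivClosedMor
    (fun X Y hX hY p hpull hr =>
      (repByAlgSpWith_ofSpMap_iff AlgSp.IsUnivClosedMor isUnivClosedMor_baseChange
        atlasLocal_isUnivClosedMor hX hpull _).mp hr) g hg h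
  exact repByAlgSpWith_congr' (AlgSp.IsUnivClosedMor (S := S)).diagonal AlgSp.IsSeparatedMor
    (fun X U a hX ha =>
      ((Groth.Agent.S10280.result (X := ⟨X, hX⟩)
        (Y := ⟨(AlgSp.yon S).obj U, AlgSp.IsAlgSpace.yon_obj U⟩) (ObjectProperty.homMk a)).1).mpr ha) h1

/-- `g` is quasi-separated iff its diagonal is quasi-compact. -/
theorem qs_iff_qc_diag (g : 𝒜 ⥤ᵇ ℬ) (hg : AlgSt.RepByAlgSp1 g) :
    AlgSt.RepByAlgSpWith AlgSp.IsQuasiSeparatedMor g ↔
      AlgSt.RepByAlgSpWith AlgSp.IsQuasiCompactMor (FibCat.diag g) := by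
  have hA : AlgSt.RepByAlgSpWith AlgSp.IsQuasiSeparatedMor g ↔
      AlgSt.RepByAlgSpWith (AlgSp.RepWith @QuasiCompact) (FibCat.diag g) :=
    (repByAlgSpWith_diag_repWith_iff @QuasiCompact g hg).symm
  constructor
  · intro h
    exact repByAlgSpWith_congr _ _
      (fun X U a ha => Groth.Agent.Lib.Helper30.isQuasiCompactMor_of_repWith ha) (hA.mp h)
  · intro h
    have h1 := repByAlgSpWith_diagonal_of_diag AlgSp.IsQuasiCompactMor
      (fun X Y hX hY p hpull hr =>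
        (repByAlgSpWith_ofSpMap_iff AlgSp.IsQuasiCompactMor isQuasiCompactMor_baseChange
          atlasLocal_isQuasiCompactMor hX hpull _).mp hr) g hg h
    exact repByAlgSpWith_congr' (AlgSp.IsQuasiCompactMor (S := S)).diagonal
      AlgSp.IsQuasiSeparatedMor (fun X U a hX ha =>
      (⟨Groth.Agent.Lib.Helper30.representable_diagonal hX.diag a,
        fun U' V' g fst snd sq => Groth.Agent.Lib.Helper30.quasiCompact_of_isQuasiCompactMor ha g fst snd sq⟩ :
        AlgSp.RepWith @QuasiCompact (Limits.pullback.diagonal a))) h1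

section Inertia

variable (f : 𝒜 ⥤ᵇ ℬ)

/-- The inertia `I_{𝒜/ℬ} ⟶ 𝒜` is the base change of the diagonal along itself. -/
theorem repByAlgSpWith_inertiaToBase_iff (P : MorphismProperty (AlgSp.Sp S)) :
    AlgSt.RepByAlgSpWith P (FibCat.inertiaToBase f) ↔
      AlgSt.RepByAlgSpWith P (FibCat.fpFst (FibCat.diag f) (FibCat.diag f)) :=
  (repByAlgSpWith_iff_of_square P (FibCat.fpFst (FibCat.diag f) (FibCat.diag f))
    (FibCat.inertiaToBase f) (inertiaToFp f) (BasedFunctor.id _) (inertiaToFp_isEquivOver f)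
    isEquivOver_id (BasedNatIso.id _)).symm

/-- The neutral section of the inertia is the second diagonal. -/
theorem repByAlgSpWith_inertiaNeutral_iff (P : MorphismProperty (AlgSp.Sp S)) :
    AlgSt.RepByAlgSpWith P (FibCat.inertiaNeutral f) ↔
      AlgSt.RepByAlgSpWith P (FibCat.diag (FibCat.diag f)) := by
  refine (repByAlgSpWith_iff_of_square P (FibCat.diag (FibCat.diag f))
    (FibCat.inertiaNeutral f) (BasedFunctor.id _) (inertiaToFp f) isEquivOver_id
    (inertiaToFp_isEquivOver f) ?_).symm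
  refine fpIsoMk (BasedNatIso.id _) (BasedNatIso.id _) ?_
  intro x
  apply ObjectProperty.hom_ext
  apply CategoricalPullback.hom_ext
  · change (𝟙 x ≫ 𝟙 x : x ⟶ x) = 𝟙 x ≫ 𝟙 x
    rfl
  · change (𝟙 x ≫ 𝟙 x : x ⟶ x) = 𝟙 x ≫ 𝟙 x
    rfl

end Inertia

end Groth.Agent.Lib.Helper80
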