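import Groth.Agent.Lib.Helper80.AlgStBridge2
import Groth.Agent.Lib.Helper30.AlgSpUnram

/-!
# Unramified morphisms representable by algebraic spaces via the diagonal (helper80)
-/

set_option autoImplicit false
set_option backward.isDefEq.respectTransparency false

universe u

open CategoryTheory CategoryTheory.Functor CategoryTheory.Limits AlgebraicGeometry Opposite

namespace Groth.Agent.Lib.Helper80

open BasedFunctor

variable {S : Scheme.{u}} {𝒜 ℬ : AlgSt.Cat S}

/-- An unramified morphism of algebraic spaces is locally of finite type. -/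
theorem locP_loft_of_unram {X Y : AlgSp.Sp S} {a : X ⟶ Y}
    (ha : AlgSp.LocP (@LocallyOfFiniteType ⊓ @FormallyUnramified) a) :
    AlgSp.LocP @LocallyOfFiniteType a :=
  by
    intro U V p q h hp hq comm
    exact (ha p q h hp hq comm).1

/-- `g` (representable by algebraic spaces) is unramified iff it is locally of finite type and its diagonal is an
open immersion. -/
theorem unram_iff_loft_and_isOpenImm_diag (g : 𝒜 ⥤ᵇ ℬ) (hg : AlgSt.RepByAlgSp1 g) :
    AlgSt.RepByAlgSpWith (AlgSp.LocP (@LocallyOfFiniteType ⊓ @FormallyUnramified)) g ↔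
      AlgSt.RepByAlgSpWith (AlgSp.LocP @LocallyOfFiniteType) g ∧ AlgSt.IsOpenImm (FibCat.diag g) := by
  constructor
  · intro h
    refine ⟨repByAlgSpWith_congr _ _ (fun X U a ha => locP_loft_of_unram ha) h, ?_⟩
    refine (repByAlgSpWith_diag_repWith_iff @IsOpenImmersion g hg).mpr ?_
    exact repByAlgSpWith_congr' (AlgSp.LocP (@LocallyOfFiniteType ⊓ @FormallyUnramified))
      (AlgSp.RepWith (S := S) @IsOpenImmersion).diagonal (fun X U a hX ha =>
        Groth.Agent.Lib.Helper30.repWith_isOpenImmersion_diagonal_of_locP_unramified hX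
          (AlgSp.IsAlgSpace.yon_obj U) a ha) h
  · rintro ⟨h1, h2⟩
    have h3 := (repByAlgSpWith_diag_repWith_iff @IsOpenImmersion g hg).mp h2
    have h4 := repByAlgSpWith_inf _ _
      (locP_baseChange Groth.Agent.Lib.Helper78.AlgSpLocPLoft.etLocalST_loft) h3 h1
    exact repByAlgSpWith_congr' ((AlgSp.RepWith (S := S) @IsOpenImmersion).diagonal ⊓
      AlgSp.LocP @LocallyOfFiniteType) (AlgSp.LocP (@LocallyOfFiniteType ⊓ @FormallyUnramified))
      (fun X U a hX ha => by
        intro U' V' p q h hp hq comm
        exact ⟨ha.2 p q h hp hq comm,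
          Groth.Agent.Lib.Helper30.formallyUnramified_of_repWith_isOpenImmersion_diagonal hX
            (AlgSp.IsAlgSpace.yon_obj U) a ha.1 p q h hp hq comm⟩) h4

end Groth.Agent.Lib.Helper80
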