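import Groth.Agent.Lib.Helper80.AlgStT2

/-!
# Composition of morphisms representable by algebraic spaces: the formal part (helper80)
-/

set_option autoImplicit false
set_option backward.isDefEq.respectTransparency false

universe u

open CategoryTheory CategoryTheory.Functor CategoryTheory.Limits AlgebraicGeometry Opposite

namespace Groth.Agent.Lib.Helper80

open BasedFunctor

variable {S : Scheme.{u}}

/-- `spMapOfOver` of a composite with the functor of a map of sheaves. -/
theorem spMapOfOver_comp_ofSpMap {F G : AlgSp.Sp S} {U : Over S} (α : F ⟶ G)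
    (Φ : AlgSt.ofSp G ⥤ᵇ FibCat.overCat U) :
    AlgSt.spMapOfOver (BasedFunctor.comp (AlgSt.ofSpMap α) Φ) = α ≫ AlgSt.spMapOfOver Φ := by
  apply ObjectProperty.hom_ext
  ext T x
  induction T using Opposite.rec with
  | _ T =>
    rfl

variable {𝒳 𝒴 𝒵 : AlgSt.Cat S}

theorem repByAlgSp1_of_repByAlgSpWith (P : MorphismProperty (AlgSp.Sp S)) {f : 𝒳 ⥤ᵇ 𝒴}
    (hf : AlgSt.RepByAlgSpWith P f) : AlgSt.RepByAlgSp1 f := fun U y => by
  obtain ⟨F, e, he, -⟩ := hf U y
  exact ⟨F, e, he⟩

/-- The formal part of "composition of morphisms representable by algebraic spaces": if the base change of `f` to the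
algebraic space representing `(Sch/U) ×_𝒵 𝒴` is given by a morphism `a` of algebraic spaces, then `(Sch/U) ×_𝒵 𝒳` is
represented by the source of `a`, with structure map `a` followed by the structure map of the former. -/
theorem comp_transfer (P : MorphismProperty (AlgSp.Sp S)) (f : 𝒳 ⥤ᵇ 𝒴) (g : 𝒴 ⥤ᵇ 𝒵) {U : Over S}
    (y : FibCat.overCat U ⥤ᵇ 𝒵) (G : AlgSp.Space S) (eg : AlgSt.ofSp G.obj ⥤ᵇ FibCat.fp y g)
    (heg : FibCat.IsEquivOver eg) (V : AlgSp.Space S) (a : V ⟶ G)
    (e : AlgSt.ofSp V.obj ⥤ᵇ FibCat.fp (BasedFunctor.comp eg (FibCat.fpSnd y g)) f)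
    (he : FibCat.IsEquivOver e)
    (i : BasedFunctor.comp e (FibCat.fpFst (BasedFunctor.comp eg (FibCat.fpSnd y g)) f) ≅
      AlgSt.ofSpMap a.hom)
    (hP : P (a.hom ≫ AlgSt.spMapOfOver (BasedFunctor.comp eg (FibCat.fpFst y g)))) :
    ∃ (F : AlgSp.Space S) (e' : AlgSt.ofSp F.obj ⥤ᵇ FibCat.fp y (BasedFunctor.comp f g)),
      FibCat.IsEquivOver e' ∧
        P (AlgSt.spMapOfOver (BasedFunctor.comp e' (FibCat.fpFst y (BasedFunctor.comp f g)))) := by
  -- Step B: along `fpPasteRight`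
  refine (repWith_transfer P (FibCat.fpFst y (BasedFunctor.comp f g))
    (BasedFunctor.comp (FibCat.fpFst (FibCat.fpSnd y g) f) (FibCat.fpFst y g))
    (fpPasteRight y g f) (fpPasteRight_isEquivOver y g f) (BasedNatIso.id _)).mpr ?_
  -- Step A: along `fpMapLeft`
  refine (repWith_transfer P
    (BasedFunctor.comp (FibCat.fpFst (BasedFunctor.comp eg (FibCat.fpSnd y g)) f)
      (BasedFunctor.comp eg (FibCat.fpFst y g)))
    (BasedFunctor.comp (FibCat.fpFst (FibCat.fpSnd y g) f) (FibCat.fpFst y g))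
    (fpMapLeft (FibCat.fpSnd y g) f eg (BasedFunctor.comp eg (FibCat.fpSnd y g)) (BasedNatIso.id _))
    (fpMapLeft_isEquivOver (FibCat.fpSnd y g) f eg _ (BasedNatIso.id _) heg) (BasedNatIso.id _)).mp ?_
  refine ⟨V, e, he, ?_⟩
  have i' : BasedFunctor.comp e
      (BasedFunctor.comp (FibCat.fpFst (BasedFunctor.comp eg (FibCat.fpSnd y g)) f)
        (BasedFunctor.comp eg (FibCat.fpFst y g))) ≅
      BasedFunctor.comp (AlgSt.ofSpMap a.hom) (BasedFunctor.comp eg (FibCat.fpFst y g)) :=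
    (whiskerRightIso i (BasedFunctor.comp eg (FibCat.fpFst y g)) :
      BasedFunctor.comp (BasedFunctor.comp e
        (FibCat.fpFst (BasedFunctor.comp eg (FibCat.fpSnd y g)) f))
        (BasedFunctor.comp eg (FibCat.fpFst y g)) ≅ _)
  rw [spMapOfOver_eq_of_iso i', spMapOfOver_comp_ofSpMap]
  exact hP

end Groth.Agent.Lib.Helper80
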