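import Groth.Agent.Lib.Helper80.AlgStPsh4
import Groth.Agent.Lib.Helper80.AlgStTP1

/-!
# Cancellation for morphisms representable by algebraic spaces with a property (helper80)

`repByAlgSpWith_of_comp_cancel`: if `c` has `P'` and `Δ ⋙ c` has `P`, where `P` is stable under base change and
`P' b → P (a ≫ b) → P a`, then `Δ` has `P`.
-/

set_option autoImplicit false
set_option backward.isDefEq.respectTransparency false

universe u

open CategoryTheory CategoryTheory.Functor CategoryTheory.Limits AlgebraicGeometry Opposite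

namespace Groth.Agent.Lib.Helper80

open BasedFunctor

variable {S : Scheme.{u}}

/-- The easy direction of `psh_rep_iff`, valid for every `Q`. -/
theorem psh_rep_of (Q : MorphismProperty (AlgSp.Sp S)) {F' : AlgSp.PSp S} {U : Over S}
    (snd : F' ⟶ (AlgSp.pyon S).obj U)
    (h : ∃ h : Presheaf.IsSheaf (AlgSp.J S) F', AlgSp.IsAlgSpace (⟨F', h⟩ : AlgSp.Sp S) ∧
        Q (ObjectProperty.homMk snd : (⟨F', h⟩ : AlgSp.Sp S) ⟶ (AlgSp.yon S).obj U)) :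
    ∃ (A : AlgSp.Space S) (e : AlgSt.ofSp A.obj ⥤ᵇ Stk.ofPsh F'), FibCat.IsEquivOver e ∧
        Q (AlgSt.spMapOfOver (BasedFunctor.comp e
          (BasedFunctor.comp (Stk.ofPshMap snd) (AlgSt.toOverCat U)))) := by
  obtain ⟨h, halg, hQ⟩ := h
  refine ⟨⟨⟨F', h⟩, halg⟩, BasedFunctor.id _, isEquivOver_id, ?_⟩
  have key : AlgSt.spMapOfOver (BasedFunctor.comp (BasedFunctor.id (AlgSt.ofSp (⟨F', h⟩ : AlgSp.Sp S)))
      (BasedFunctor.comp (Stk.ofPshMap snd) (AlgSt.toOverCat U))) =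
      (ObjectProperty.homMk snd : (⟨F', h⟩ : AlgSp.Sp S) ⟶ (AlgSp.yon S).obj U) := by
    apply ObjectProperty.hom_ext
    rw [spMapOfOver_hom_eq]
    change pshMapOf (Stk.ofPshMap snd) = snd
    rw [pshMapOf_ofPshMap]
  rw [key]
  exact hQ

/-- The direction of `S12778` valid for every `Q`. -/
theorem repByAlgSpWith_of_repBySpWith (Q : MorphismProperty (AlgSp.Sp S))
    {F G : AlgSp.PSp S} (a : F ⟶ G) (h : AlgSp.RepBySpWith Q a) :
    AlgSt.RepByAlgSpWith Q (Stk.ofPshMap a) := by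
  intro U y
  have sq := IsPullback.of_hasPullback a (classMap y)
  have h1 := (psh_transfer Q sq).mpr (psh_rep_of Q _ (h (classMap y) _ _ sq))
  exact (repWith_transfer Q (FibCat.fpFst y (Stk.ofPshMap a))
    (FibCat.fpFst (ptFun (classMap y)) (Stk.ofPshMap a))
    (fpMapLeft (ptFun (classMap y)) (Stk.ofPshMap a) (BasedFunctor.id _) y (classIso y))
    (fpMapLeft_isEquivOver (ptFun (classMap y)) (Stk.ofPshMap a) (BasedFunctor.id _) y (classIso y)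
      isEquivOver_id) (BasedNatIso.id _)).mpr h1

/-- A morphism of algebraic spaces with a base-change-stable property `P` gives a functor representable by algebraic
spaces with `P`. -/
theorem repByAlgSpWith_ofSpMap (P : MorphismProperty (AlgSp.Sp S))
    (hPb : ∀ ⦃X₁ Y₁ X₂ Y₂ : AlgSp.Sp S⦄, AlgSp.IsAlgSpace X₁ → AlgSp.IsAlgSpace Y₁ → AlgSp.IsAlgSpace X₂ →
      AlgSp.IsAlgSpace Y₂ → ∀ (a : X₁ ⟶ Y₁) (b : Y₂ ⟶ Y₁) (a' : X₂ ⟶ Y₂) (b' : X₂ ⟶ X₁),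
      IsPullback b' a' a b → P a → P a')
    {X Y : AlgSp.Sp S} (hX : AlgSp.IsAlgSpace X) (hY : AlgSp.IsAlgSpace Y) (a : X ⟶ Y) (ha : P a) :
    AlgSt.RepByAlgSpWith P (AlgSt.ofSpMap a) := by
  apply repByAlgSpWith_of_repBySpWith
  rw [AlgSp.repBySpWith_hom_iff]
  intro U ξ F' fst snd sq
  have hF' : AlgSp.IsAlgSpace F' :=
    Groth.Agent.Lib.Helper78.AlgSpFibre.isAlgSpace_of_isPullback sq hY.diag hX
      (AlgSp.IsAlgSpace.yon_obj U)
  exact ⟨hF', hPb hX hY hF' (AlgSp.IsAlgSpace.yon_obj U) a ξ snd fst sq ha⟩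

variable {𝒳 𝒜 ℬ : AlgSt.Cat S}

/-- Cancellation. -/
theorem repByAlgSpWith_of_comp_cancel (P P' : MorphismProperty (AlgSp.Sp S))
    (hPb : ∀ ⦃X₁ Y₁ X₂ Y₂ : AlgSp.Sp S⦄, AlgSp.IsAlgSpace X₁ → AlgSp.IsAlgSpace Y₁ → AlgSp.IsAlgSpace X₂ →
      AlgSp.IsAlgSpace Y₂ → ∀ (a : X₁ ⟶ Y₁) (b : Y₂ ⟶ Y₁) (a' : X₂ ⟶ Y₂) (b' : X₂ ⟶ X₁),
      IsPullback b' a' a b → P a → P a')
    (hcancel : ∀ ⦃X Y Z : AlgSp.Sp S⦄, AlgSp.IsAlgSpace X → AlgSp.IsAlgSpace Y → AlgSp.IsAlgSpace Z →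
      ∀ (a : X ⟶ Y) (b : Y ⟶ Z), P' b → P (a ≫ b) → P a)
    (Δ : 𝒳 ⥤ᵇ 𝒜) (c : 𝒜 ⥤ᵇ ℬ)
    (hc : AlgSt.RepByAlgSpWith P' c) (hΔc : AlgSt.RepByAlgSpWith P (BasedFunctor.comp Δ c)) :
    AlgSt.RepByAlgSpWith P Δ := by
  intro T t
  let tc : FibCat.overCat T ⥤ᵇ ℬ := BasedFunctor.comp t c
  obtain ⟨B, eB, heB, hb⟩ := hc T tc
  obtain ⟨E, eE, heE, he₀⟩ := hΔc T tc
  obtain ⟨dB, hdB, ⟨η⟩, ⟨ε⟩⟩ := IsEquivOver.symm heB
  let pr₂ : FibCat.fp tc c ⥤ᵇ 𝒜 := FibCat.fpSnd tc c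
  let R : FibCat.fp tc (BasedFunctor.comp Δ c) ⥤ᵇ FibCat.fp pr₂ Δ := fpPasteRight tc c Δ
  have hR : FibCat.IsEquivOver R := fpPasteRight_isEquivOver tc c Δ
  let q : FibCat.fp pr₂ Δ ⥤ᵇ FibCat.fp tc c := FibCat.fpFst pr₂ Δ
  let Ψ : FibCat.fp tc (BasedFunctor.comp Δ c) ⥤ᵇ FibCat.fp tc c := fpPasteRightFst tc c Δ
  let Φ : AlgSt.ofSp E.obj ⥤ᵇ AlgSt.ofSp B.obj := BasedFunctor.comp (BasedFunctor.comp eE Ψ) dB
  let a : E.obj ⟶ B.obj := ⟨pshMapOf Φ⟩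
  have j : AlgSt.ofSpMap a ≅ Φ := ofPshMapIso Φ
  have iso1 : BasedFunctor.comp (AlgSt.ofSpMap a) eB ≅ BasedFunctor.comp eE Ψ :=
    whiskerRightIso j eB ≪≫
      (whiskerLeftIso (BasedFunctor.comp eE Ψ) ε :
        BasedFunctor.comp (BasedFunctor.comp (BasedFunctor.comp eE Ψ) dB) eB ≅ BasedFunctor.comp eE Ψ)
  have h1 : a ≫ AlgSt.spMapOfOver (BasedFunctor.comp eB (FibCat.fpFst tc c)) =
      AlgSt.spMapOfOver (BasedFunctor.comp eE (FibCat.fpFst tc (BasedFunctor.comp Δ c))) := by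
    rw [← spMapOfOver_comp_ofSpMap]
    exact spMapOfOver_eq_of_iso
      (whiskerRightIso iso1 (FibCat.fpFst tc c) :
        BasedFunctor.comp (AlgSt.ofSpMap a) (BasedFunctor.comp eB (FibCat.fpFst tc c)) ≅
          BasedFunctor.comp eE (FibCat.fpFst tc (BasedFunctor.comp Δ c)))
  have ha : P a := by
    refine hcancel E.property B.property (AlgSp.IsAlgSpace.yon_obj T) a _ hb ?_
    rw [h1]
    exact he₀
  have h2 : AlgSt.RepByAlgSpWith P (AlgSt.ofSpMap a) :=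
    repByAlgSpWith_ofSpMap P hPb E.property B.property a ha
  have h3 : AlgSt.RepByAlgSpWith P q :=
    (repByAlgSpWith_iff_of_square P q (AlgSt.ofSpMap a) (BasedFunctor.comp eE R) eB
      (IsEquivOver.comp heE hR) heB
      (iso1 : BasedFunctor.comp (AlgSt.ofSpMap a) eB ≅
        BasedFunctor.comp (BasedFunctor.comp eE R) q)).mpr h2
  let σ : FibCat.overCat T ⥤ᵇ FibCat.fp tc c :=
    FibCat.fpLift (BasedFunctor.id _) t
      (BasedNatIso.id _ : BasedFunctor.comp (BasedFunctor.id _) tc ≅ BasedFunctor.comp t c)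
  have h4 := h3 T σ
  exact (repWith_transfer P (FibCat.fpFst t Δ) (FibCat.fpFst σ q) (fpPasteLeft σ pr₂ Δ)
    (fpPasteLeft_isEquivOver σ pr₂ Δ) (BasedNatIso.id _)).mpr h4

end Groth.Agent.Lib.Helper80
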