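import Groth.Agent.Lib.Helper80.AlgStCancel
import Groth.Agent.Lib.Helper80.AlgStDiag
import Groth.Agent.Lib.Helper80.AlgStTP3
import Groth.Agent.Lib.Helper78.AlgSpLocP3
import Groth.Agent.Lib.Helper78.AlgSpLocP4

/-!
# Cancellation for diagonals (helper80)
-/

set_option autoImplicit false
set_option backward.isDefEq.respectTransparency false

universe u

open CategoryTheory CategoryTheory.Functor CategoryTheory.Limits AlgebraicGeometry Opposite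

namespace Groth.Agent.Lib.Helper80

open BasedFunctor

variable {S : Scheme.{u}} {𝒳 𝒴 𝒵 : AlgSt.Cat S}

/-- `S17272`, abstract form. -/
theorem repByAlgSpWith_diag_of_diag_comp (P P' : MorphismProperty (AlgSp.Sp S))
    (hPb : ∀ ⦃X₁ Y₁ X₂ Y₂ : AlgSp.Sp S⦄, AlgSp.IsAlgSpace X₁ → AlgSp.IsAlgSpace Y₁ → AlgSp.IsAlgSpace X₂ →
      AlgSp.IsAlgSpace Y₂ → ∀ (a : X₁ ⟶ Y₁) (b : Y₂ ⟶ Y₁) (a' : X₂ ⟶ Y₂) (b' : X₂ ⟶ X₁),
      IsPullback b' a' a b → P a → P a')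
    (hcancel : ∀ ⦃X Y Z : AlgSp.Sp S⦄, AlgSp.IsAlgSpace X → AlgSp.IsAlgSpace Y → AlgSp.IsAlgSpace Z →
      ∀ (a : X ⟶ Y) (b : Y ⟶ Z), P' b → P (a ≫ b) → P a)
    (f : 𝒳 ⥤ᵇ 𝒴) (g : 𝒴 ⥤ᵇ 𝒵)
    (hg : AlgSt.RepByAlgSpWith P' (FibCat.diag g))
    (hgf : AlgSt.RepByAlgSpWith P (FibCat.diag (BasedFunctor.comp f g))) :
    AlgSt.RepByAlgSpWith P (FibCat.diag f) := by
  have hc : AlgSt.RepByAlgSpWith P' (diagComparison f g) :=
    repByAlgSpWith_fpComparison P' f f g _ (fun x => rfl) hg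
  have hΔc : AlgSt.RepByAlgSpWith P (BasedFunctor.comp (FibCat.diag f) (diagComparison f g)) :=
    repByAlgSpWith_of_iso P (diagCompIso f g).symm hgf
  exact repByAlgSpWith_of_comp_cancel P P' hPb hcancel (FibCat.diag f) (diagComparison f g) hc hΔc

open Groth.Agent.Lib.Helper78.AlgSpLocP in
/-- If the diagonal of `f ⋙ g` has `LocP Q`, for `Q` with `Q (u ≫ v) → Q u`, so does the diagonal of `f`. -/
theorem repByAlgSpWith_locP_diag_of_comp {Q : MorphismProperty Scheme.{u}} (hQ : EtLocalST Q)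
    [Q.IsStableUnderBaseChange]
    (hQc : ∀ {A B C : Scheme.{u}} (u : A ⟶ B) (v : B ⟶ C), Q (u ≫ v) → Q u)
    (h𝒴 : AlgSt.RepByAlgSp1 (FibCat.diag (FibCat.toSelf 𝒴)))
    (h𝒵 : AlgSt.RepByAlgSp1 (FibCat.diag (FibCat.toSelf 𝒵)))
    (f : 𝒳 ⥤ᵇ 𝒴) (g : 𝒴 ⥤ᵇ 𝒵)
    (h : AlgSt.RepByAlgSpWith (AlgSp.LocP Q) (FibCat.diag (BasedFunctor.comp f g))) :
    AlgSt.RepByAlgSpWith (AlgSp.LocP Q) (FibCat.diag f) := by
  have hΔg : AlgSt.RepByAlgSp1 (FibCat.diag g) := repByAlgSp1_diag_of_diag g h𝒴 h𝒵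
  refine repByAlgSpWith_diag_of_diag_comp (AlgSp.LocP Q) ⊤ ?_ ?_ f g
    ((repByAlgSp1_iff_repByAlgSpWith_top _).mp hΔg) h
  · intro X₁ Y₁ X₂ Y₂ h1 h2 h3 h4 a b a' b' sq ha
    exact locP_of_isPullback hQ sq
      (Groth.Agent.Lib.Helper78.AlgSpFibre.repAll_of_isAlgSpace h2) h1.atlas h2.atlas ha
  · intro X Y Z hX hY hZ a b _ hab
    exact locP_of_comp_cancel hQ hQc a b hX.atlas hY.atlas hZ.atlas hab

end Groth.Agent.Lib.Helper80
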