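import Groth.Agent.Lib.Helper80.AlgStBridge
import Groth.Agent.Lib.Helper80.AlgStAtlas5

/-!
# Scheme charts of 2-fibre products over a stack (helper80)
-/

set_option autoImplicit false
set_option backward.isDefEq.respectTransparency false

universe u

open CategoryTheory CategoryTheory.Functor CategoryTheory.Limits AlgebraicGeometry Opposite

namespace Groth.Agent.Lib.Helper80

open BasedFunctor

variable {S : Scheme.{u}}

/-- A functor from (the category of) an algebraic space to `(Sch/U)` is representable by algebraic spaces with `Q`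
iff the corresponding morphism of algebraic spaces has `Q`. -/
theorem repByAlgSpWith_ofSp_overCat_iff (Q : MorphismProperty (AlgSp.Sp S))
    (hQb : ∀ ⦃X₁ Y₁ X₂ Y₂ : AlgSp.Sp S⦄, AlgSp.IsAlgSpace X₁ → AlgSp.IsAlgSpace Y₁ → AlgSp.IsAlgSpace X₂ →
      AlgSp.IsAlgSpace Y₂ → ∀ (a : X₁ ⟶ Y₁) (b : Y₂ ⟶ Y₁) (a' : X₂ ⟶ Y₂) (b' : X₂ ⟶ X₁),
      IsPullback b' a' a b → Q a → Q a')
    (hQ : AtlasLocal Q) {E : AlgSp.Sp S} (hE : AlgSp.IsAlgSpace E) {U : Over S}
    (Φ : AlgSt.ofSp E ⥤ᵇ FibCat.overCat U) :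
    AlgSt.RepByAlgSpWith Q Φ ↔ Q (AlgSt.spMapOfOver Φ) := by
  obtain ⟨i⟩ := ofSpMap_spMapOfOver_iso Φ
  have e' : BasedFunctor.comp (AlgSt.ofSpMap (AlgSt.spMapOfOver Φ)) (AlgSt.toOverCat U) ≅
      BasedFunctor.comp (BasedFunctor.id _) Φ :=
    (whiskerRightIso i.symm (AlgSt.toOverCat U) : _ ≅
      BasedFunctor.comp (BasedFunctor.comp Φ (AlgSt.ofOverCat U)) (AlgSt.toOverCat U))
  rw [repByAlgSpWith_iff_of_square Q Φ (AlgSt.ofSpMap (AlgSt.spMapOfOver Φ)) (BasedFunctor.id _)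
    (AlgSt.toOverCat U) isEquivOver_id (toOverCat_isEquivOver U) e']
  exact repByAlgSpWith_ofSpMap_iff Q hQb hQ hE (AlgSp.IsAlgSpace.yon_obj U) _

variable {𝒜 𝒜' ℬ : AlgSt.Cat S}

/-- Precomposition with an equivalence. -/
theorem repByAlgSpWith_precomp_equiv (Q : MorphismProperty (AlgSp.Sp S)) (e : 𝒜' ⥤ᵇ 𝒜)
    (he : FibCat.IsEquivOver e) (g : 𝒜 ⥤ᵇ ℬ) :
    AlgSt.RepByAlgSpWith Q g ↔ AlgSt.RepByAlgSpWith Q (BasedFunctor.comp e g) :=
  repByAlgSpWith_iff_of_square Q g (BasedFunctor.comp e g) e (BasedFunctor.id _) he isEquivOver_id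
    (BasedNatIso.id _)

/-- A morphism from an algebraic space to a scheme, read on an etale scheme chart of the source. -/
theorem exists_scheme_chart {E : AlgSp.Sp S} (hE : AlgSp.IsAlgSpace E) {V : Over S}
    (a : E ⟶ (AlgSp.yon S).obj V) :
    ∃ (W : Over S) (c : (AlgSp.yon S).obj W ⟶ E) (h : W ⟶ V), AlgSp.RepWith @Etale c ∧
      AlgSp.RepWith @Surjective c ∧ c ≫ a = (AlgSp.yon S).map h := by
  obtain ⟨W, c, hc1, hc2⟩ := hE.atlas
  obtain ⟨h, hh⟩ := (AlgSp.yon S).map_surjective (c ≫ a)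
  exact ⟨W, c, h, hc1, hc2, hh.symm⟩

theorem locP_chart {Q : MorphismProperty Scheme.{u}} {E : AlgSp.Sp S} {V W : Over S}
    (a : E ⟶ (AlgSp.yon S).obj V) (c : (AlgSp.yon S).obj W ⟶ E) (h : W ⟶ V)
    (hc : AlgSp.RepWith @Etale c) (hh : c ≫ a = (AlgSp.yon S).map h) (ha : AlgSp.LocP Q a) :
    Q h.left :=
  ha c (𝟙 _) h hc (AlgSp.repWith_id _ V) (by rw [hh, Category.comp_id])

theorem surjective_chart {E : AlgSp.Sp S} {V W : Over S}
    (a : E ⟶ (AlgSp.yon S).obj V) (c : (AlgSp.yon S).obj W ⟶ E) (h : W ⟶ V)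
    (hc : AlgSp.RepWith @Surjective c) (hh : c ≫ a = (AlgSp.yon S).map h)
    (ha : AlgSp.IsSurjectiveMor a) : Surjective h.left := by
  have h1 : AlgSp.IsSurjectiveMor ((AlgSp.yon S).map h) := by
    rw [← hh]
    exact isSurjectiveMor_comp c a (Groth.Agent.Lib.Helper51.surjective_map_of_repWith_surjective hc) ha
  have h2 : AlgSp.RepWith @Surjective ((AlgSp.yon S).map h) :=
    Groth.Agent.Lib.Helper51.repWith_surjective_of_surjective_map (AlgSp.representable_yon_map h) h1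
  exact (AlgSp.repWith_yon_map_iff _ h).mp h2

end Groth.Agent.Lib.Helper80
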