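import Groth.Agent.Lib.Helper80.AlgStDesc
import Groth.Agent.Lib.Helper78.AlgSpFppfFpqc

/-!
# Fppf descent for properties of the diagonal (helper80)
-/

set_option autoImplicit false
set_option backward.isDefEq.respectTransparency false

universe u

open CategoryTheory CategoryTheory.Functor CategoryTheory.Limits AlgebraicGeometry Opposite

namespace Groth.Agent.Lib.Helper80

open BasedFunctor

variable {S : Scheme.{u}}

/-- A property fpqc local on the base is fppf local on the base. -/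
theorem isLocalOnBase_fppf_of_fpqc {P : MorphismProperty (AlgSp.Sp S)}
    (hP : AlgSp.IsLocalOnBase AlgSp.IsFpqcCover P) : AlgSp.IsLocalOnBase AlgSp.IsFppfCover P := by
  intro ι Y Yi g hY hYi hcov X f hX Xi p q hXi sq
  exact hP Yi g hY hYi (Groth.Agent.Lib.Helper78.AlgSpFppfFpqc.isFpqcCover_of_isFppfCover Yi g hY hYi hcov)
    f hX Xi p q hXi sq

variable {𝒳 𝒴 𝒴' : AlgSt.Cat S}

/-- `(𝒴' ×_𝒴 𝒳) ×_{𝒴'} (𝒴' ×_𝒴 𝒳) ⟶ 𝒳 ×_𝒴 𝒳` is a base change of `g : 𝒴' ⟶ 𝒴`. -/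
theorem repByAlgSpWith_diagBase (Q : MorphismProperty (AlgSp.Sp S)) (g : 𝒴' ⥤ᵇ 𝒴) (f : 𝒳 ⥤ᵇ 𝒴)
    (h : AlgSt.RepByAlgSpWith Q g) : AlgSt.RepByAlgSpWith Q (diagBase g f) := by
  let π := FibCat.fpFst g f
  let ρ := FibCat.fpSnd g f
  have hρ : AlgSt.RepByAlgSpWith Q ρ := repByAlgSpWith_fpSnd Q g f h
  let t := FibCat.fpSnd ρ (FibCat.fpFst f f)
  have ht : AlgSt.RepByAlgSpWith Q t := repByAlgSpWith_fpSnd Q ρ (FibCat.fpFst f f) hρ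
  let E₁ := fpPasteLeft π g f
  have hE₁ : FibCat.IsEquivOver E₁ := fpPasteLeft_isEquivOver π g f
  let ι : BasedFunctor.comp π g ≅ BasedFunctor.comp (BasedFunctor.id _) (BasedFunctor.comp ρ f) :=
    FibCat.fpIso g f
  let E₂ := fpMapLeft (BasedFunctor.comp ρ f) f (BasedFunctor.id _) (BasedFunctor.comp π g) ι
  have hE₂ : FibCat.IsEquivOver E₂ :=
    fpMapLeft_isEquivOver (BasedFunctor.comp ρ f) f (BasedFunctor.id _) (BasedFunctor.comp π g) ι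
      isEquivOver_id
  let E₃ := fpPasteLeft ρ f f
  have hE₃ : FibCat.IsEquivOver E₃ := fpPasteLeft_isEquivOver ρ f f
  let E₂₃ := BasedFunctor.comp E₂ E₃
  have hE₂₃ : FibCat.IsEquivOver E₂₃ := IsEquivOver.comp hE₂ hE₃
  have key : BasedFunctor.comp E₁ (diagBase g f) ≅ BasedFunctor.comp E₂₃ t :=
    fpIsoMk (BasedNatIso.id _) (BasedNatIso.id _) (by
      intro w
      change f.map (𝟙 _) ≫ (w.obj.fst.obj.iso.inv ≫ w.obj.iso.hom ≫ 𝟙 _) =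
        (w.obj.fst.obj.iso.inv ≫ g.map (𝟙 _) ≫ w.obj.iso.hom) ≫ f.map (𝟙 _)
      simp)
  have h1 : AlgSt.RepByAlgSpWith Q (BasedFunctor.comp E₂₃ t) :=
    (repByAlgSpWith_iff_of_square Q t (BasedFunctor.comp E₂₃ t) E₂₃ (BasedFunctor.id _) hE₂₃
      isEquivOver_id (BasedNatIso.id _)).mp ht
  have h2 : AlgSt.RepByAlgSpWith Q (BasedFunctor.comp E₁ (diagBase g f)) :=
    repByAlgSpWith_of_iso Q key.symm h1
  exact (repByAlgSpWith_iff_of_square Q (diagBase g f) (BasedFunctor.comp E₁ (diagBase g f)) E₁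
    (BasedFunctor.id _) hE₁ isEquivOver_id (BasedNatIso.id _)).mpr h2

/-- **Fppf descent of properties of the diagonal.** -/
theorem repByAlgSpWith_diag_of_fppf_cover (h𝒳 : FibCat.IsFibGrpd 𝒳.p) (h𝒴 : FibCat.IsFibGrpd 𝒴.p)
    (h𝒴' : FibCat.IsFibGrpd 𝒴'.p) (P : MorphismProperty (AlgSp.Sp S))
    (hPb : ∀ ⦃X₁ Y₁ X₂ Y₂ : AlgSp.Sp S⦄, AlgSp.IsAlgSpace X₁ → AlgSp.IsAlgSpace Y₁ → AlgSp.IsAlgSpace X₂ →
      AlgSp.IsAlgSpace Y₂ → ∀ (a : X₁ ⟶ Y₁) (b : Y₂ ⟶ Y₁) (a' : X₂ ⟶ Y₂) (b' : X₂ ⟶ X₁),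
      IsPullback b' a' a b → P a → P a')
    (hP : AlgSp.IsLocalOnBase AlgSp.IsFppfCover P)
    (f : 𝒳 ⥤ᵇ 𝒴) (hΔ : AlgSt.RepByAlgSp1 (FibCat.diag f)) (g : 𝒴' ⥤ᵇ 𝒴)
    (hg₁ : AlgSt.RepByAlgSpWith (AlgSp.LocP @Flat) g)
    (hg₂ : AlgSt.RepByAlgSpWith (AlgSp.LocP @LocallyOfFinitePresentation) g)
    (hg₃ : AlgSt.RepByAlgSpWith AlgSp.IsSurjectiveMor g)
    (h : AlgSt.RepByAlgSpWith P (FibCat.diag (FibCat.fpFst g f))) :
    AlgSt.RepByAlgSpWith P (FibCat.diag f) := by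
  have h𝒲 : FibCat.IsFibGrpd (FibCat.fp g f).p := fp_isFibGrpd g f h𝒴' h𝒳 h𝒴
  have two : FibCat.IsEquivOver (FibCat.fpLift (FibCat.diag (FibCat.fpFst g f)) (FibCat.fpSnd g f)
      (diagSqIso' g f)) := diag_fpFst_isTwoCartOver g f
  have h' : AlgSt.RepByAlgSpWith P (FibCat.fpFst (diagBase g f) (FibCat.diag f)) :=
    (repByAlgSpWith_iff_of_square P (FibCat.fpFst (diagBase g f) (FibCat.diag f))
      (FibCat.diag (FibCat.fpFst g f))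
      (FibCat.fpLift (FibCat.diag (FibCat.fpFst g f)) (FibCat.fpSnd g f) (diagSqIso' g f))
      (BasedFunctor.id _) two isEquivOver_id (BasedNatIso.id _)).mpr h
  exact repByAlgSpWith_of_fppf_cover h𝒳 (fp_isFibGrpd f f h𝒳 h𝒳 h𝒴)
    (fp_isFibGrpd (FibCat.fpFst g f) (FibCat.fpFst g f) h𝒲 h𝒲 h𝒴') P hPb hP (FibCat.diag f) hΔ
    (diagBase g f) (repByAlgSpWith_diagBase _ g f hg₁) (repByAlgSpWith_diagBase _ g f hg₂)
    (repByAlgSpWith_diagBase _ g f hg₃) h'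

end Groth.Agent.Lib.Helper80
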