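import Groth.Agent.Lib.Helper80.AlgStSmLoc

/-!
# `LocQ` from representability: one chart square (helper80)
-/

set_option autoImplicit false
set_option backward.isDefEq.respectTransparency false

universe u

open CategoryTheory CategoryTheory.Functor CategoryTheory.Limits AlgebraicGeometry Opposite

namespace Groth.Agent.Lib.Helper80

open BasedFunctor

variable {S : Scheme.{u}}

/-- The morphism of sheaves attached to `(Sch/U) ⟶ (Sch/V)`, `t ↦ t ≫ a`, is `h_a`. -/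
theorem spMapOfOver_toOverCat_overMap {U V : Over S} (a : U ⟶ V) :
    AlgSt.spMapOfOver (BasedFunctor.comp (AlgSt.toOverCat U) (AlgSt.overMap a)) = (AlgSp.yon S).map a := by
  apply ObjectProperty.hom_ext
  ext T x
  induction T using Opposite.rec with
  | _ T =>
    change (AlgSt.spMapOfOver (BasedFunctor.comp (AlgSt.toOverCat U) (AlgSt.overMap a))).hom.app (op T) x =
      ((AlgSp.yon S).map a).hom.app (op T) x
    rw [AlgSt.spMapOfOver_app]
    apply ULift.ext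
    change eqToHom _ ≫ (x.down ≫ a) = x.down ≫ a
    simp

/-- A functor `(Sch/U) ⟶ (Sch/V)` composition with `a` is representable by algebraic spaces with `Q` iff `h_a` has
`Q`. -/
theorem repByAlgSpWith_overMap_iff (Q : MorphismProperty (AlgSp.Sp S))
    (hQb : ∀ ⦃X₁ Y₁ X₂ Y₂ : AlgSp.Sp S⦄, AlgSp.IsAlgSpace X₁ → AlgSp.IsAlgSpace Y₁ → AlgSp.IsAlgSpace X₂ →
      AlgSp.IsAlgSpace Y₂ → ∀ (a : X₁ ⟶ Y₁) (b : Y₂ ⟶ Y₁) (a' : X₂ ⟶ Y₂) (b' : X₂ ⟶ X₁),
      IsPullback b' a' a b → Q a → Q a')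
    (hQ : AtlasLocal Q) {U V : Over S} (a : U ⟶ V) :
    AlgSt.RepByAlgSpWith Q (AlgSt.overMap a) ↔ Q ((AlgSp.yon S).map a) := by
  rw [repByAlgSpWith_precomp_equiv Q (AlgSt.toOverCat U) (toOverCat_isEquivOver U) (AlgSt.overMap a),
    repByAlgSpWith_ofSp_overCat_iff Q hQb hQ (AlgSp.IsAlgSpace.yon_obj U), spMapOfOver_toOverCat_overMap]

variable {𝒳 𝒴 : AlgSt.Cat S}

open Groth.Agent.Lib.Helper78.AlgSpLocP in
/-- A morphism of algebraic stacks representable by algebraic spaces with `LocP Q` has `LocP Q` on one chart square,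
for `Q` containing smooth morphisms. -/
theorem locQ_of_repByAlgSpWith_locP {Q : MorphismProperty Scheme.{u}} (hQ : EtLocalST Q)
    [Q.IsStableUnderComposition] [Q.IsStableUnderBaseChange]
    (hsm : ∀ {A B : Scheme.{u}} (k : A ⟶ B), Smooth k → Q k)
    (h𝒳 : AlgSt.IsAlgStack Scheme.fppfPrecoverage 𝒳) (h𝒴 : AlgSt.IsAlgStack Scheme.fppfPrecoverage 𝒴)
    (f : 𝒳 ⥤ᵇ 𝒴) (hf : AlgSt.RepByAlgSpWith (AlgSp.LocP Q) f) : AlgSt.LocQ (AlgSp.LocP Q) f := by
  obtain ⟨V, y, hy, hy'⟩ := h𝒴.atlas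
  have hV : AlgSt.IsAlgStack Scheme.fppfPrecoverage (FibCat.overCat V) :=
    (isDM_of_repByAlgSp (repByAlgSp_overCat V)).1
  have hfp := isAlgStack_fp' _ h𝒴.isStack h𝒴.diag hV h𝒳 y f
  obtain ⟨U, x', hx1, hx2⟩ := hfp.atlas
  have hQs := Groth.Agent.Lib.Helper78.AlgSpLocPSmooth.etLocalST_smooth
  have g1 := overCat_isFibGrpd U
  have g2 : FibCat.IsFibGrpd (FibCat.fp y f).p := hfp.isStack.1
  let G : FibCat.overCat U ⥤ᵇ FibCat.overCat V := BasedFunctor.comp x' (FibCat.fpFst y f)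
  have i1 : BasedFunctor.comp (BasedFunctor.comp x' (FibCat.fpSnd y f)) f ≅
      BasedFunctor.comp G y := (whiskerLeftIso x' (FibCat.fpIso y f)).symm
  have i2 : G ≅ AlgSt.overMap (overClassify G) := isoOverMap G
  have hG : AlgSt.RepByAlgSpWith (AlgSp.LocP Q) G :=
    repByAlgSpWith_locP_comp hQ g1 g2 x' _
      (repByAlgSpWith_locP_mono (fun _ _ k hk => hsm k hk) hx1) (repByAlgSpWith_fpFst _ y f hf)
  have hG' : AlgSt.RepByAlgSpWith (AlgSp.LocP Q) (AlgSt.overMap (overClassify G)) :=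
    repByAlgSpWith_of_iso _ i2 hG
  refine ⟨U, V, BasedFunctor.comp x' (FibCat.fpSnd y f), y, overClassify G,
    i1 ≪≫ whiskerRightIso i2 y,
    repByAlgSpWith_locP_comp hQs g1 g2 x' _ hx1 (repByAlgSpWith_fpSnd _ y f hy),
    repByAlgSpWith_isSurjectiveMor_comp g1 g2 x' _ hx2 (repByAlgSpWith_fpSnd _ y f hy'), hy, ?_⟩
  exact (repByAlgSpWith_overMap_iff _ (locP_baseChange hQ) (atlasLocal_locP hQ) _).mp hG'

end Groth.Agent.Lib.Helper80
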