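import Groth.Agent.Lib.Helper80.AlgStDesc
import Groth.Agent.Lib.Helper80.AlgStDesc2
import Groth.Agent.Lib.Helper80.AlgStLocQ
import Groth.Agent.Lib.Helper30.AlgSpAffCover

/-!
# Fppf descent of properties of representable morphisms along covering sieves (helper80)
-/

set_option autoImplicit false
set_option backward.isDefEq.respectTransparency false

universe u

open CategoryTheory CategoryTheory.Functor CategoryTheory.Limits AlgebraicGeometry Opposite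

namespace Groth.Agent.Lib.Helper80

open BasedFunctor

variable {S : Scheme.{u}}

/-- A covering sieve of the big fppf site contains, around every point, a flat morphism locally of finite
presentation. -/
theorem exists_fppf_member_of_mem_J {U : Over S} (R : Sieve U)
    (hR : R ∈ (QuotSh.J Scheme.fppfPrecoverage S) U) (x : ↥U.left) :
    ∃ (V : Over S) (h : V ⟶ U), R.arrows h ∧ Flat h.left ∧ LocallyOfFinitePresentation h.left ∧
      x ∈ Set.range h.left := by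
  have : Scheme.fppfPrecoverage.{u}.HasIsos := by
    unfold Scheme.fppfPrecoverage
    infer_instance
  have : Scheme.fppfPrecoverage.{u}.HasPullbacks := by
    unfold Scheme.fppfPrecoverage
    infer_instance
  rw [GrothendieckTopology.mem_over_iff,
    Precoverage.mem_toGrothendieck_iff_of_isStableUnderComposition] at hR
  obtain ⟨R₀, hR₀, hle⟩ := hR
  obtain ⟨h1, h2⟩ := hR₀
  rw [Presieve.mem_comap_jointlySurjectivePrecoverage_iff] at h1
  obtain ⟨Y, f, hf, hx⟩ := h1 x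
  have hP : (@Flat ⊓ @LocallyOfFinitePresentation : MorphismProperty Scheme.{u}) f := h2 hf
  refine ⟨Over.mk (f ≫ U.hom), Over.homMk f rfl, ?_, hP.1, hP.2, hx⟩
  exact (Sieve.overEquiv_iff _ _).1 (hle _ _ hf)

variable {𝒳 𝒴 𝒵 : AlgSt.Cat S}

/-- If `h_B ⟶ h_U ⟶ 𝒴` lifts to `𝒵` and the base change of `f` to `𝒵` has `P`, then the base change of `f` to `B` has
`P` (as a projection of the fibre product of sheaves). -/
theorem prop_pullback_fst_of_lift (h𝒳 : FibCat.IsFibGrpd 𝒳.p) (h𝒴 : FibCat.IsFibGrpd 𝒴.p)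
    (h𝒵 : FibCat.IsFibGrpd 𝒵.p) (P : MorphismProperty (AlgSp.Sp S))
    (hPb : ∀ ⦃X₁ Y₁ X₂ Y₂ : AlgSp.Sp S⦄, AlgSp.IsAlgSpace X₁ → AlgSp.IsAlgSpace Y₁ → AlgSp.IsAlgSpace X₂ →
      AlgSp.IsAlgSpace Y₂ → ∀ (a : X₁ ⟶ Y₁) (b : Y₂ ⟶ Y₁) (a' : X₂ ⟶ Y₂) (b' : X₂ ⟶ X₁),
      IsPullback b' a' a b → P a → P a')
    (hPa : AtlasLocal P)
    (f : 𝒳 ⥤ᵇ 𝒴) (z : 𝒵 ⥤ᵇ 𝒴) (h : AlgSt.RepByAlgSpWith P (FibCat.fpFst z f))
    {U : Over S} (y : FibCat.overCat U ⥤ᵇ 𝒴) (E : AlgSp.Space S)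
    (eE : AlgSt.ofSp E.obj ⥤ᵇ FibCat.fp y f) (heE : FibCat.IsEquivOver eE)
    (B : AlgSp.Space S) (g' : AlgSt.ofSp B.obj ⥤ᵇ FibCat.overCat U) (zB : AlgSt.ofSp B.obj ⥤ᵇ 𝒵)
    (ι : BasedFunctor.comp zB z ≅ BasedFunctor.comp (BasedFunctor.id _) (BasedFunctor.comp g' y)) :
    P (pullback.fst (AlgSt.spMapOfOver g')
      (AlgSt.spMapOfOver (BasedFunctor.comp eE (FibCat.fpFst y f)))) := by
  let pE' : AlgSt.ofSp E.obj ⥤ᵇ FibCat.overCat U := BasedFunctor.comp eE (FibCat.fpFst y f)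
  obtain ⟨V', a', e', he', ⟨i'⟩, hPa'⟩ := exists_space_fp_with' (fp_isFibGrpd z f h𝒵 h𝒳 h𝒴) h𝒵 P
    hPa (FibCat.fpFst z f) h B zB
  have r0 : RepOverSp P (FibCat.fpFst zB (FibCat.fpFst z f)) := ⟨V', a', e', he', ⟨i'⟩, hPa'⟩
  have r1 : RepOverSp P (FibCat.fpFst (BasedFunctor.comp zB z) f) :=
    (repOverSp_transfer P (FibCat.fpFst (BasedFunctor.comp zB z) f) (FibCat.fpFst zB (FibCat.fpFst z f))
      (fpPasteLeft zB z f) (fpPasteLeft_isEquivOver zB z f) (BasedNatIso.id _)).mpr r0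
  have r2 : RepOverSp P (FibCat.fpFst (BasedFunctor.comp g' y) f) :=
    (repOverSp_transfer P (FibCat.fpFst (BasedFunctor.comp zB z) f)
      (FibCat.fpFst (BasedFunctor.comp g' y) f)
      (fpMapLeft (BasedFunctor.comp g' y) f (BasedFunctor.id _) (BasedFunctor.comp zB z) ι)
      (fpMapLeft_isEquivOver (BasedFunctor.comp g' y) f (BasedFunctor.id _) (BasedFunctor.comp zB z) ι
        isEquivOver_id) (BasedNatIso.id _)).mp r1
  have r3 : RepOverSp P (FibCat.fpFst g' (FibCat.fpFst y f)) :=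
    (repOverSp_transfer P (FibCat.fpFst (BasedFunctor.comp g' y) f) (FibCat.fpFst g' (FibCat.fpFst y f))
      (fpPasteLeft g' y f) (fpPasteLeft_isEquivOver g' y f) (BasedNatIso.id _)).mp r2
  have r4 : RepOverSp P (FibCat.fpFst g' pE') :=
    (repOverSp_transfer P (FibCat.fpFst g' pE') (FibCat.fpFst g' (FibCat.fpFst y f))
      (fpMapRight g' (FibCat.fpFst y f) eE pE' (BasedNatIso.id _))
      (fpMapRight_isEquivOver g' (FibCat.fpFst y f) eE pE' (BasedNatIso.id _) heE)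
      (BasedNatIso.id _)).mpr r3
  let g : B.obj ⟶ (AlgSp.yon S).obj U := AlgSt.spMapOfOver g'
  let pE : E.obj ⟶ (AlgSp.yon S).obj U := AlgSt.spMapOfOver pE'
  obtain ⟨iF⟩ := ofSpMap_spMapOfOver_iso g'
  obtain ⟨iG⟩ := ofSpMap_spMapOfOver_iso pE'
  obtain ⟨hfull, hfaith, -⟩ := IsEquivOver.isFFEssSurjOver (ofOverCat_isEquivOver U)
  have r5 : RepOverSp P (FibCat.fpFst (AlgSt.ofSpMap g) (AlgSt.ofSpMap pE)) :=
    (repOverSp_transfer P (FibCat.fpFst g' pE') (FibCat.fpFst (AlgSt.ofSpMap g) (AlgSt.ofSpMap pE))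
      (fpMap (AlgSt.ofSpMap g) (AlgSt.ofSpMap pE) g' pE' (BasedFunctor.id _) (BasedFunctor.id _)
        (AlgSt.ofOverCat U) iF iG)
      (fpMap_isEquivOver (AlgSt.ofSpMap g) (AlgSt.ofSpMap pE) g' pE' (BasedFunctor.id _)
        (BasedFunctor.id _) (AlgSt.ofOverCat U) iF iG isEquivOver_id isEquivOver_id)
      (BasedNatIso.id _)).mp r4
  have sq : IsPullback (pullback.fst g pE) (pullback.snd g pE) g pE := IsPullback.of_hasPullback g pE
  have hV : AlgSp.IsAlgSpace (pullback g pE) :=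
    Groth.Agent.Lib.Helper78.AlgSpFibre.isAlgSpace_of_isPullback sq
      (AlgSp.IsAlgSpace.yon_obj U).diag B.property E.property
  have sq' := sq.map (sheafToPresheaf (AlgSp.J S) (Type (u + 1)))
  exact repOverSp_unique P hPb (FibCat.fpFst (AlgSt.ofSpMap g) (AlgSt.ofSpMap pE)) r5 hV
      (pullback.fst g pE) (ofPshFp sq'.w) (ofPshFp_isEquivOver sq') (BasedNatIso.id _)

open Groth.Agent.Lib.Helper78.AlgSpLocP in
/-- `S12781`: fppf descent of a property of a representable morphism along a morphism through which every object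
lifts fppf locally. -/
theorem repByAlgSpWith_of_sieve_lift (h𝒳 : FibCat.IsFibGrpd 𝒳.p) (h𝒴 : FibCat.IsFibGrpd 𝒴.p)
    (h𝒵 : FibCat.IsFibGrpd 𝒵.p) (P : MorphismProperty (AlgSp.Sp S))
    (hPb : ∀ ⦃X₁ Y₁ X₂ Y₂ : AlgSp.Sp S⦄, AlgSp.IsAlgSpace X₁ → AlgSp.IsAlgSpace Y₁ → AlgSp.IsAlgSpace X₂ →
      AlgSp.IsAlgSpace Y₂ → ∀ (a : X₁ ⟶ Y₁) (b : Y₂ ⟶ Y₁) (a' : X₂ ⟶ Y₂) (b' : X₂ ⟶ X₁),
      IsPullback b' a' a b → P a → P a')
    (hP : AlgSp.IsLocalOnBase AlgSp.IsFppfCover P)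
    (f : 𝒳 ⥤ᵇ 𝒴) (hf : AlgSt.RepByAlgSp1 f) (g : 𝒵 ⥤ᵇ 𝒴)
    (hg : ∀ (U : Over S) (y : FibCat.overCat U ⥤ᵇ 𝒴), ∃ R ∈ (QuotSh.J Scheme.fppfPrecoverage S) U,
      ∀ ⦃V : Over S⦄ (h : V ⟶ U), R.arrows h →
        ∃ z : FibCat.overCat V ⥤ᵇ 𝒵, Nonempty (BasedFunctor.comp z g ≅ BasedFunctor.comp (AlgSt.overMap h) y))
    (h' : AlgSt.RepByAlgSpWith P (FibCat.fpFst g f)) : AlgSt.RepByAlgSpWith P f := by
  intro U y
  obtain ⟨E, eE, heE⟩ := hf U y
  refine ⟨E, eE, heE, ?_⟩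
  obtain ⟨R, hR, hlift⟩ := hg U y
  choose V hV hRV hfl hfp hx using fun x : ↥U.left => exists_fppf_member_of_mem_J R hR x
  choose zV hzV using fun x : ↥U.left => hlift (hV x) (hRV x)
  let pE' : AlgSt.ofSp E.obj ⥤ᵇ FibCat.overCat U := BasedFunctor.comp eE (FibCat.fpFst y f)
  let pE : E.obj ⟶ (AlgSp.yon S).obj U := AlgSt.spMapOfOver pE'
  change P pE
  let gx' : ∀ x : ↥U.left, AlgSt.ofSp ((AlgSp.yon S).obj (V x)) ⥤ᵇ FibCat.overCat U := fun x =>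
    BasedFunctor.comp (AlgSt.toOverCat (V x)) (AlgSt.overMap (hV x))
  have hgx : ∀ x, AlgSt.spMapOfOver (gx' x) = (AlgSp.yon S).map (hV x) := fun x =>
    spMapOfOver_toOverCat_overMap (hV x)
  have key : ∀ x, P (pullback.fst (AlgSt.spMapOfOver (gx' x)) pE) := fun x => by
    obtain ⟨i⟩ := hzV x
    exact prop_pullback_fst_of_lift h𝒳 h𝒴 h𝒵 P hPb (atlasLocal_of_isLocalOnBase_fppf P hP) f g h' y E eE heE
      ⟨(AlgSp.yon S).obj (V x), AlgSp.IsAlgSpace.yon_obj (V x)⟩ (gx' x)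
      (BasedFunctor.comp (AlgSt.toOverCat (V x)) (zV x))
      (whiskerLeftIso (AlgSt.toOverCat (V x)) i)
  have hcov : AlgSp.IsFppfCover (fun x : ↥U.left => (AlgSp.yon S).obj (V x))
      (fun x => AlgSt.spMapOfOver (gx' x)) := by
    refine ⟨fun x => ?_, fun p => ?_⟩
    · show AlgSp.LocP @Flat (AlgSt.spMapOfOver (gx' x)) ∧
        AlgSp.LocP @LocallyOfFinitePresentation (AlgSt.spMapOfOver (gx' x))
      rw [hgx]
      exact ⟨(locP_yon_map_iff Groth.Agent.Lib.Helper78.AlgSpLocPFlat.etLocalST_flat (hV x)).mpr (hfl x),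
        (locP_yon_map_iff Groth.Agent.Lib.Helper78.AlgSpLocPLofp.etLocalST_lofp (hV x)).mpr (hfp x)⟩
    · obtain ⟨t, rfl⟩ := (AlgSp.Points.schemeHomeo U).surjective p
      obtain ⟨v, hv⟩ := hx t
      refine ⟨t, AlgSp.Points.schemeHomeo (V t) v, ?_⟩
      show AlgSp.Points.map (AlgSt.spMapOfOver (gx' t)) (AlgSp.Points.schemeHomeo (V t) v) = _
      rw [hgx, AlgSp.Points.map_yon_map_apply, hv]
  have sq : ∀ x, IsPullback (pullback.fst (AlgSt.spMapOfOver (gx' x)) pE)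
      (pullback.snd (AlgSt.spMapOfOver (gx' x)) pE) (AlgSt.spMapOfOver (gx' x)) pE :=
    fun x => IsPullback.of_hasPullback _ _
  have hVx : ∀ x, AlgSp.IsAlgSpace (pullback (AlgSt.spMapOfOver (gx' x)) pE) := fun x =>
    Groth.Agent.Lib.Helper78.AlgSpFibre.isAlgSpace_of_isPullback (sq x)
      (AlgSp.IsAlgSpace.yon_obj U).diag (AlgSp.IsAlgSpace.yon_obj (V x)) E.property
  exact (hP (fun x : ↥U.left => (AlgSp.yon S).obj (V x)) (fun x => AlgSt.spMapOfOver (gx' x))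
    (AlgSp.IsAlgSpace.yon_obj U) (fun x => AlgSp.IsAlgSpace.yon_obj (V x)) hcov pE E.property
    (fun x => pullback (AlgSt.spMapOfOver (gx' x)) pE) (fun x => pullback.fst (AlgSt.spMapOfOver (gx' x)) pE)
    (fun x => pullback.snd (AlgSt.spMapOfOver (gx' x)) pE) hVx (fun x => (sq x).flip)).mpr key

end Groth.Agent.Lib.Helper80
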