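import Groth.Agent.Lib.Helper80.AlgStGeomPt
import Groth.Agent.Lib.Helper80.AlgStSieve
import Groth.Agent.Lib.Helper40.QuotShEff

/-!
# Membership in a substack: pullbacks, fppf descent, reduced atlases (helper80)
-/

set_option autoImplicit false
set_option backward.isDefEq.respectTransparency false

universe u

open CategoryTheory CategoryTheory.Functor CategoryTheory.Limits AlgebraicGeometry Opposite

namespace Groth.Agent.Lib.Helper80

open BasedFunctor Groth.Agent.Lib.Helper43.FPtRel Groth.Agent.Lib.Helper43.GerbComp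

variable {S : Scheme.{u}} {𝒳 𝒴 : AlgSt.Cat S}

/-- A substack (full subcategory fibred in groupoids, closed under isomorphisms) is closed under pullbacks. -/
theorem sub_of_hom (Q : 𝒳.obj → Prop) (hQi : ObjectProperty.IsClosedUnderIsomorphisms Q)
    (gX : FibCat.IsFibGrpd 𝒳.p) (gQ : FibCat.IsFibGrpd (AlgSt.fullSub 𝒳 Q).p) {y' y : 𝒳.obj} (m : y' ⟶ y)
    (hy : Q y) : Q y' := by
  obtain ⟨y'', φ, hφ⟩ := exists_lift' (AlgSt.fullSub 𝒳 Q).p gQ
    (rfl : (AlgSt.fullSub 𝒳 Q).p.obj ⟨y, hy⟩ = 𝒳.p.obj y) (𝒳.p.map m)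
  have h1 : 𝒳.p.IsHomLift (𝒳.p.map m) ((AlgSt.subIncl 𝒳 Q).map φ) := inferInstance
  have h2 : 𝒳.p.IsHomLift (𝒳.p.map m) m := inferInstance
  obtain ⟨χ, hχ, -⟩ := exists_factor_id 𝒳.p gX (𝒳.p.map m) ((AlgSt.subIncl 𝒳 Q).map φ) m
  have : IsIso χ := IsFibGrpd.isIso_of_base_isIso 𝒳.p gX (𝟙 (𝒳.p.obj y')) χ
  exact hQi.of_iso (asIso χ).symm y''.property

/-- Descent along a covering sieve for membership in a substack. -/
theorem sub_of_sieve (J : GrothendieckTopology (Over S)) (Q : 𝒳.obj → Prop)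
    (hQi : ObjectProperty.IsClosedUnderIsomorphisms Q)
    (h𝒳 : Stk.IsStack J 𝒳) (hQs : Stk.IsStack J (AlgSt.fullSub 𝒳 Q))
    {T : Over S} (R : Sieve T) (hR : R ∈ J T) (y : FibCat.overCat T ⥤ᵇ 𝒳)
    (hy : ∀ a : (Stk.sieveCat R).obj, Q (y.obj a.obj)) : Q (y.obj (Over.mk (𝟙 T))) := by
  let z : Stk.sieveCat R ⥤ᵇ AlgSt.fullSub 𝒳 Q :=
    { toFunctor := ObjectProperty.lift Q (BasedFunctor.comp (Stk.sieveIncl R) y).toFunctor hy
      w := (BasedFunctor.comp (Stk.sieveIncl R) y).w }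
  have hE : (Stk.resSieve R (AlgSt.fullSub 𝒳 Q)).IsEquivalence := hQs.2 R hR
  have hE' : (Stk.resSieve R 𝒳).IsEquivalence := h𝒳.2 R hR
  let y' : FibCat.overCat T ⥤ᵇ AlgSt.fullSub 𝒳 Q := (Stk.resSieve R (AlgSt.fullSub 𝒳 Q)).objPreimage z
  let i : BasedFunctor.comp (Stk.sieveIncl R) y' ≅ z :=
    (Stk.resSieve R (AlgSt.fullSub 𝒳 Q)).objObjPreimageIso z
  let i₂ : BasedFunctor.comp (BasedFunctor.comp (Stk.sieveIncl R) y') (AlgSt.subIncl 𝒳 Q) ≅
      BasedFunctor.comp z (AlgSt.subIncl 𝒳 Q) := whiskerRightIso i (AlgSt.subIncl 𝒳 Q)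
  let i₃ : (Stk.resSieve R 𝒳).obj (BasedFunctor.comp y' (AlgSt.subIncl 𝒳 Q)) ≅ (Stk.resSieve R 𝒳).obj y :=
    (BasedNatIso.id _ : (Stk.resSieve R 𝒳).obj (BasedFunctor.comp y' (AlgSt.subIncl 𝒳 Q)) ≅
      BasedFunctor.comp (BasedFunctor.comp (Stk.sieveIncl R) y') (AlgSt.subIncl 𝒳 Q)) ≪≫ i₂ ≪≫
    (BasedNatIso.id _ : BasedFunctor.comp z (AlgSt.subIncl 𝒳 Q) ≅ (Stk.resSieve R 𝒳).obj y)
  let j : BasedFunctor.comp y' (AlgSt.subIncl 𝒳 Q) ≅ y := (Stk.resSieve R 𝒳).preimageIso i₃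
  let j₀ : (y'.obj (Over.mk (𝟙 T))).obj ≅ y.obj (Over.mk (𝟙 T)) :=
    ((BasedNatTrans.forgetful _ _).mapIso j).app (Over.mk (𝟙 T))
  exact hQi.of_iso j₀ (y'.obj (Over.mk (𝟙 T))).property

/-- Every object of `𝒳` maps, fppf locally, to an object coming from a smooth surjective atlas. -/
theorem exists_sieve_hom_of_atlas {U : Over S} (x : FibCat.overCat U ⥤ᵇ 𝒳)
    (hx1 : AlgSt.RepByAlgSpWith (AlgSp.LocP @Smooth) x)
    (hx2 : AlgSt.RepByAlgSpWith AlgSp.IsSurjectiveMor x)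
    {T : Over S} (y : FibCat.overCat T ⥤ᵇ 𝒳) :
    ∃ R ∈ (QuotSh.J Scheme.fppfPrecoverage S) T, ∀ ⦃V : Over S⦄ (h : V ⟶ T), R.arrows h →
      ∃ w : Over U, Nonempty (y.obj (Over.mk h) ⟶ x.obj w) := by
  obtain ⟨E, e, he, hsm⟩ := hx1 T y
  have hsurj : AlgSp.IsSurjectiveMor (AlgSt.spMapOfOver (BasedFunctor.comp e (FibCat.fpFst y x))) := by
    obtain ⟨E₃, e₃, he₃, h₃⟩ := hx2 T y
    exact prop_of_rep_over _ (fun _ _ _ _ _ _ _ _ a b a' b' sq ha => isSurjectiveMor_baseChange sq ha)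
      (FibCat.fpFst y x) E E₃ e e₃ he he₃ h₃
  let Φ := BasedFunctor.comp e (FibCat.fpFst y x)
  obtain ⟨W, c, hW, hc1, hc2, hh⟩ := exists_scheme_chart E.property (AlgSt.spMapOfOver Φ)
  have hWsm : Smooth hW.left := locP_chart (AlgSt.spMapOfOver Φ) c hW hc1 hh hsm
  have hWs : Surjective hW.left := surjective_chart (AlgSt.spMapOfOver Φ) c hW hc2 hh hsurj
  let G : FibCat.overCat W ⥤ᵇ FibCat.overCat T := BasedFunctor.comp (ptFun c.hom) Φ
  have hcl : overClassify G = hW := by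
    apply (AlgSp.yon S).map_injective
    rw [← hh]
    exact yon_map_overClassify c Φ
  refine ⟨Sieve.generate (Presieve.singleton hW), ?_, ?_⟩
  · exact Groth.Agent.Lib.Helper40.QuotShApi.mem_J_of_singleton Scheme.fppfPrecoverage _ hW
      (Sieve.le_generate _ _ _ Presieve.singleton.mk) hW.left.singleton_mem_fppfPrecoverage
  · intro V h hh'
    obtain ⟨W', k, g, hg, rfl⟩ := hh'
    cases hg
    let O : (FibCat.fp y x).obj := e.obj ((ptFun c.hom).obj (Over.mk k))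
    have h3 := overClassify_spec G (Over.mk k)
    rw [hcl] at h3
    let μ : Over.mk (k ≫ hW) ⟶ O.obj.fst := Over.homMk (eqToHom (G.w_obj (Over.mk k)).symm) (by
      change eqToHom _ ≫ (G.obj (Over.mk k)).hom = k ≫ hW
      rw [h3]
      simp)
    exact ⟨O.obj.snd, ⟨y.map μ ≫ O.obj.iso.hom⟩⟩

/-- A chart from a reduced scheme whose points land in a closed substack factors through it. -/
theorem sub_of_reduced_chart (h𝒳 : AlgSt.IsAlgStack Scheme.fppfPrecoverage 𝒳) (Q : 𝒳.obj → Prop)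
    (hQ : AlgSt.IsClosedSubstack 𝒳 Q Scheme.fppfPrecoverage)
    {U : Over S} [IsReduced U.left] (x : FibCat.overCat U ⥤ᵇ 𝒳)
    (hx : Set.range (AlgSt.Points.map x) ⊆ Set.range (AlgSt.Points.map (AlgSt.subIncl 𝒳 Q))) :
    Q (x.obj (Over.mk (𝟙 U))) := by
  obtain ⟨hQi, hQalg, hQcl⟩ := hQ
  have gX := h𝒳.isStack.1
  have gQ := hQalg.isStack.1
  obtain ⟨F, e, he, hcl⟩ := hQcl U x
  let Φ := BasedFunctor.comp e (FibCat.fpFst x (AlgSt.subIncl 𝒳 Q))
  have hsurj : AlgSp.IsSurjectiveMor (AlgSt.spMapOfOver Φ) := by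
    apply isSurjectiveMor_spMapOfOver_of_surjective
    intro ζ
    obtain ⟨ξ, hξ⟩ := hx ⟨ζ, rfl⟩
    obtain ⟨w, hw1, -⟩ := exists_point_fp gQ gX (overCat_isFibGrpd U) (AlgSt.subIncl 𝒳 Q) x ζ ξ hξ.symm
    obtain ⟨w', rfl⟩ := points_map_surjective_of_isEquivOver e he w
    exact ⟨w', by rw [points_map_comp]; exact hw1⟩
  have hrep : AlgSp.Representable (AlgSt.spMapOfOver Φ) := hcl.1
  have sq := hrep.isPullback (𝟙 ((AlgSp.yon S).obj U))
  have hci : IsClosedImmersion (hrep.snd (𝟙 ((AlgSp.yon S).obj U))).left := hcl.2 _ _ _ sq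
  have hfst : IsIso (hrep.fst (𝟙 ((AlgSp.yon S).obj U))) := sq.isIso_fst_of_isIso
  have h1 : AlgSp.IsSurjectiveMor ((AlgSp.yon S).map (hrep.snd (𝟙 ((AlgSp.yon S).obj U)))) :=
    isSurjectiveMor_baseChange sq hsurj
  have h2 : AlgSp.RepWith @Surjective ((AlgSp.yon S).map (hrep.snd (𝟙 ((AlgSp.yon S).obj U)))) :=
    Groth.Agent.Lib.Helper51.repWith_surjective_of_surjective_map (AlgSp.representable_yon_map _) h1
  have hsj : Surjective (hrep.snd (𝟙 ((AlgSp.yon S).obj U))).left := (AlgSp.repWith_yon_map_iff _ _).mp h2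
  have hiso : IsIso (hrep.snd (𝟙 ((AlgSp.yon S).obj U))).left :=
    isIso_of_isClosedImmersion_of_surjective _
  have hiso' : IsIso ((Over.forget S).map (hrep.snd (𝟙 ((AlgSp.yon S).obj U)))) := hiso
  have hsnd : IsIso (hrep.snd (𝟙 ((AlgSp.yon S).obj U))) := isIso_of_reflects_iso _ (Over.forget S)
  let σ : (AlgSp.yon S).obj U ⟶ F.obj :=
    (AlgSp.yon S).map (inv (hrep.snd (𝟙 ((AlgSp.yon S).obj U)))) ≫ hrep.fst (𝟙 ((AlgSp.yon S).obj U))
  have hσ : σ ≫ AlgSt.spMapOfOver Φ = (AlgSp.yon S).map (𝟙 U) := by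
    change ((AlgSp.yon S).map _ ≫ _) ≫ _ = _
    rw [Category.assoc, sq.w, Category.comp_id, ← Functor.map_comp, IsIso.inv_hom_id]
  let G : FibCat.overCat U ⥤ᵇ FibCat.overCat U := BasedFunctor.comp (ptFun σ.hom) Φ
  have hclG : overClassify G = 𝟙 U := by
    apply (AlgSp.yon S).map_injective
    rw [← hσ]
    exact yon_map_overClassify σ Φ
  let O : (FibCat.fp x (AlgSt.subIncl 𝒳 Q)).obj := e.obj ((ptFun σ.hom).obj (Over.mk (𝟙 U)))
  have h3 := overClassify_spec G (Over.mk (𝟙 U))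
  rw [hclG] at h3
  let μ : Over.mk (𝟙 U) ⟶ O.obj.fst := Over.homMk (eqToHom (G.w_obj (Over.mk (𝟙 U))).symm) (by
    change eqToHom _ ≫ (G.obj (Over.mk (𝟙 U))).hom = 𝟙 U
    rw [h3]
    simp)
  have hQ0 : Q (x.obj O.obj.fst) := hQi.of_iso O.obj.iso.symm O.obj.snd.property
  exact sub_of_hom Q hQi gX gQ (x.map μ) hQ0

/-- `S12866`: a morphism from a reduced algebraic stack factors through a closed substack iff it does so on points. -/
theorem forall_sub_iff_points (h𝒳 : AlgSt.IsAlgStack Scheme.fppfPrecoverage 𝒳)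
    (h𝒴 : AlgSt.IsAlgStack Scheme.fppfPrecoverage 𝒴)
    (hred : AlgSt.SmoothLocally (fun X => IsReduced X) 𝒴)
    (Q : 𝒳.obj → Prop) (hQ : AlgSt.IsClosedSubstack 𝒳 Q Scheme.fppfPrecoverage) (f : 𝒴 ⥤ᵇ 𝒳) :
    (∀ y : 𝒴.obj, Q (f.obj y)) ↔
      Set.range (AlgSt.Points.map f) ⊆ Set.range (AlgSt.Points.map (AlgSt.subIncl 𝒳 Q)) := by
  constructor
  · rintro h _ ⟨w, rfl⟩
    obtain ⟨p, rfl⟩ := AlgSt.Points.mk_surjective w
    let p' : AlgSt.FPt (AlgSt.fullSub 𝒳 Q) :=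
      { K := p.K, str := p.str, obj := ⟨f.obj p.obj, h p.obj⟩, lies := (p.map f).lies }
    exact ⟨AlgSt.Points.mk p', rfl⟩
  · intro hsub y
    have hQ' := hQ
    obtain ⟨hQi, hQalg, hQcl⟩ := hQ
    have gX := h𝒳.isStack.1
    have gY := h𝒴.isStack.1
    have gQ := hQalg.isStack.1
    have := IsFibGrpd.isFibered 𝒴.p gY
    let T : Over S := 𝒴.p.obj y
    let y' : FibCat.overCat T ⥤ᵇ 𝒴 := yonedaFunctor y (rfl : 𝒴.p.obj y = T)
    obtain ⟨U, u, hu1, hu2⟩ := h𝒴.atlas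
    have hUred : IsReduced U.left := hred U u hu1
    have hQU : Q ((BasedFunctor.comp u f).obj (Over.mk (𝟙 U))) := by
      apply sub_of_reduced_chart h𝒳 Q hQ' (BasedFunctor.comp u f)
      rw [points_map_comp]
      exact (Set.range_comp_subset_range _ _).trans hsub
    obtain ⟨R, hR, hlift⟩ := exists_sieve_hom_of_atlas u hu1 hu2 y'
    have key : Q ((BasedFunctor.comp y' f).obj (Over.mk (𝟙 T))) := by
      apply sub_of_sieve _ Q hQi h𝒳.isStack hQalg.isStack R hR (BasedFunctor.comp y' f)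
      intro a
      obtain ⟨w, ⟨ν⟩⟩ := hlift a.obj.hom a.property
      have hw : Q (f.obj (u.obj w)) := sub_of_hom Q hQi gX gQ ((BasedFunctor.comp u f).map (toId U w)) hQU
      exact sub_of_hom Q hQi gX gQ (f.map ν) hw
    let pm : y'.obj (Over.mk (𝟙 T)) ⟶ y := IsPreFibered.pullbackMap (rfl : 𝒴.p.obj y = T) (𝟙 T)
    have hpm : 𝒴.p.IsHomLift (𝟙 T) pm := inferInstance
    have : IsIso pm := IsFibGrpd.isIso_of_base_isIso 𝒴.p gY (𝟙 T) pm
    exact sub_of_hom Q hQi gX gQ (f.map (inv pm)) key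

end Groth.Agent.Lib.Helper80
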