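import Groth.Agent.Lib.Helper80.AlgStTP3

/-!
# Composition of morphisms representable by algebraic spaces for properties tested on schemes (helper80)
-/

set_option autoImplicit false
set_option backward.isDefEq.respectTransparency false

universe u

open CategoryTheory CategoryTheory.Functor CategoryTheory.Limits AlgebraicGeometry Opposite

namespace Groth.Agent.Lib.Helper80

open BasedFunctor

variable {S : Scheme.{u}}

/-- Every base change of `b` to a scheme has `P` (witnessed by some pullback square with algebraic corner). -/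
def SchTest (P : MorphismProperty (AlgSp.Sp S)) {V G : AlgSp.Sp S} (b : V ⟶ G) : Prop :=
  ∀ (W : Over S) (p : (AlgSp.yon S).obj W ⟶ G),
    ∃ (A : AlgSp.Sp S) (q : A ⟶ V) (r : A ⟶ (AlgSp.yon S).obj W),
      AlgSp.IsAlgSpace A ∧ IsPullback q r b p ∧ P r

variable {𝒳 𝒴 𝒵 : AlgSt.Cat S}

/-- Space-test theorem, keeping only the scheme-tested form of the property. -/
theorem exists_space_fp_sch (h𝒳 : FibCat.IsFibGrpd 𝒳.p) (h𝒴 : FibCat.IsFibGrpd 𝒴.p)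
    (P : MorphismProperty (AlgSp.Sp S))
    (f : 𝒳 ⥤ᵇ 𝒴) (hf : AlgSt.RepByAlgSpWith P f) (Z : AlgSp.Space S) (z : AlgSt.ofSp Z.obj ⥤ᵇ 𝒴) :
    ∃ (V : AlgSp.Space S) (a : V ⟶ Z) (e : AlgSt.ofSp V.obj ⥤ᵇ FibCat.fp z f),
      FibCat.IsEquivOver e ∧
      Nonempty (BasedFunctor.comp e (FibCat.fpFst z f) ≅ AlgSt.ofSpMap a.hom) ∧ SchTest P a.hom := by
  obtain ⟨V, a, e, he, i, hsq⟩ :=
    exists_space_fp h𝒳 h𝒴 f (repByAlgSp1_of_repByAlgSpWith P hf) Z z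
  refine ⟨V, a, e, he, i, ?_⟩
  intro W p
  obtain ⟨FU, eU, heU, hPU⟩ := hf W (BasedFunctor.comp (ptFun p.hom) z)
  obtain ⟨q, sq⟩ := hsq W p FU.obj eU heU
  exact ⟨FU.obj, q, _, FU.property, sq, hPU⟩

/-- Composition for a property whose composites can be tested on schemes. -/
theorem repByAlgSpWith_comp_sch (h𝒳 : FibCat.IsFibGrpd 𝒳.p) (h𝒴 : FibCat.IsFibGrpd 𝒴.p)
    (P : MorphismProperty (AlgSp.Sp S))
    (hPc : ∀ ⦃V G : AlgSp.Sp S⦄ ⦃U : Over S⦄, AlgSp.IsAlgSpace V → AlgSp.IsAlgSpace G →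
      ∀ (b : V ⟶ G) (c : G ⟶ (AlgSp.yon S).obj U), SchTest P b → P c → P (b ≫ c))
    (f : 𝒳 ⥤ᵇ 𝒴) (g : 𝒴 ⥤ᵇ 𝒵) (hf : AlgSt.RepByAlgSpWith P f) (hg : AlgSt.RepByAlgSpWith P g) :
    AlgSt.RepByAlgSpWith P (BasedFunctor.comp f g) := by
  intro U y
  obtain ⟨G, eg, heg, hPg⟩ := hg U y
  obtain ⟨V, a, e, he, ⟨i⟩, hPa⟩ := exists_space_fp_sch h𝒳 h𝒴 P f hf G
    (BasedFunctor.comp eg (FibCat.fpSnd y g))
  exact comp_transfer P f g y G eg heg V a e he i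
    (hPc V.property G.property a.hom _ hPa hPg)

section Sheaves

variable {V G H : AlgSp.Sp S}

theorem isAffineMor_comp_sch (b : V ⟶ G) (c : G ⟶ H) (hb : SchTest AlgSp.IsAffineMor b)
    (hc : AlgSp.IsAffineMor c) : AlgSp.IsAffineMor (b ≫ c) := by
  intro Z hZ k
  obtain ⟨W, i, fst₁, sq₁, hW⟩ := hc hZ k
  obtain ⟨A, q, r, -, sq₂, hr⟩ := hb W fst₁
  obtain ⟨W', i', fst₂, sq₃, hW'⟩ := hr hW (𝟙 _)
  refine ⟨W', i' ≫ i, fst₂ ≫ q, ?_, hW'⟩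
  have h1 : IsPullback (fst₂ ≫ q) ((AlgSp.yon S).map i') b fst₁ := by
    have := sq₃.paste_horiz sq₂
    rwa [Category.id_comp] at this
  rw [CategoryTheory.Functor.map_comp]
  exact h1.paste_vert sq₁

theorem isIntegralMor_comp_sch (b : V ⟶ G) (c : G ⟶ H) (hb : SchTest AlgSp.IsIntegralMor b)
    (hc : AlgSp.IsIntegralMor c) : AlgSp.IsIntegralMor (b ≫ c) := by
  intro Z hZ k
  obtain ⟨W, i, fst₁, sq₁, hW, hi⟩ := hc hZ k
  obtain ⟨A, q, r, -, sq₂, hr⟩ := hb W fst₁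
  obtain ⟨W', i', fst₂, sq₃, hW', hi'⟩ := hr hW (𝟙 _)
  refine ⟨W', i' ≫ i, fst₂ ≫ q, ?_, hW', ?_⟩
  · have h1 : IsPullback (fst₂ ≫ q) ((AlgSp.yon S).map i') b fst₁ := by
      have := sq₃.paste_horiz sq₂
      rwa [Category.id_comp] at this
    rw [CategoryTheory.Functor.map_comp]
    exact h1.paste_vert sq₁
  · change IsIntegralHom (i'.left ≫ i.left)
    infer_instance

theorem isFiniteMor_comp_sch (b : V ⟶ G) (c : G ⟶ H) (hb : SchTest AlgSp.IsFiniteMor b)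
    (hc : AlgSp.IsFiniteMor c) : AlgSp.IsFiniteMor (b ≫ c) := by
  intro Z hZ k
  obtain ⟨W, i, fst₁, sq₁, hW, hi⟩ := hc hZ k
  obtain ⟨A, q, r, -, sq₂, hr⟩ := hb W fst₁
  obtain ⟨W', i', fst₂, sq₃, hW', hi'⟩ := hr hW (𝟙 _)
  refine ⟨W', i' ≫ i, fst₂ ≫ q, ?_, hW', ?_⟩
  · have h1 : IsPullback (fst₂ ≫ q) ((AlgSp.yon S).map i') b fst₁ := by
      have := sq₃.paste_horiz sq₂
      rwa [Category.id_comp] at this
    rw [CategoryTheory.Functor.map_comp]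
    exact h1.paste_vert sq₁
  · change IsFinite (i'.left ≫ i.left)
    infer_instance

end Sheaves

theorem repByAlgSpWith_isAffineMor_comp (h𝒳 : FibCat.IsFibGrpd 𝒳.p) (h𝒴 : FibCat.IsFibGrpd 𝒴.p)
    (f : 𝒳 ⥤ᵇ 𝒴) (g : 𝒴 ⥤ᵇ 𝒵) (hf : AlgSt.RepByAlgSpWith AlgSp.IsAffineMor f)
    (hg : AlgSt.RepByAlgSpWith AlgSp.IsAffineMor g) :
    AlgSt.RepByAlgSpWith AlgSp.IsAffineMor (BasedFunctor.comp f g) :=
  repByAlgSpWith_comp_sch h𝒳 h𝒴 _ (fun _ _ _ _ _ b c hb hc => isAffineMor_comp_sch b c hb hc) f g hf hg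

theorem repByAlgSpWith_isIntegralMor_comp (h𝒳 : FibCat.IsFibGrpd 𝒳.p) (h𝒴 : FibCat.IsFibGrpd 𝒴.p)
    (f : 𝒳 ⥤ᵇ 𝒴) (g : 𝒴 ⥤ᵇ 𝒵) (hf : AlgSt.RepByAlgSpWith AlgSp.IsIntegralMor f)
    (hg : AlgSt.RepByAlgSpWith AlgSp.IsIntegralMor g) :
    AlgSt.RepByAlgSpWith AlgSp.IsIntegralMor (BasedFunctor.comp f g) :=
  repByAlgSpWith_comp_sch h𝒳 h𝒴 _ (fun _ _ _ _ _ b c hb hc => isIntegralMor_comp_sch b c hb hc) f g hf hg

theorem repByAlgSpWith_isFiniteMor_comp (h𝒳 : FibCat.IsFibGrpd 𝒳.p) (h𝒴 : FibCat.IsFibGrpd 𝒴.p)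
    (f : 𝒳 ⥤ᵇ 𝒴) (g : 𝒴 ⥤ᵇ 𝒵) (hf : AlgSt.RepByAlgSpWith AlgSp.IsFiniteMor f)
    (hg : AlgSt.RepByAlgSpWith AlgSp.IsFiniteMor g) :
    AlgSt.RepByAlgSpWith AlgSp.IsFiniteMor (BasedFunctor.comp f g) :=
  repByAlgSpWith_comp_sch h𝒳 h𝒴 _ (fun _ _ _ _ _ b c hb hc => isFiniteMor_comp_sch b c hb hc) f g hf hg

end Groth.Agent.Lib.Helper80
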