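import Groth.Agent.Lib.Helper80.AlgStComp
import Groth.Agent.Lib.Helper78.AlgSpBasic

/-!
# Composition of immersions and monomorphisms of stacks (helper80)
-/

set_option autoImplicit false
set_option backward.isDefEq.respectTransparency false

universe u

open CategoryTheory CategoryTheory.Functor CategoryTheory.Limits AlgebraicGeometry Opposite

namespace Groth.Agent.Lib.Helper80

open BasedFunctor

variable {S : Scheme.{u}}

/-- A morphism of sheaves all of whose base changes to schemes are (witnessed by) `RepWith Q` is `RepWith Q`. -/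
theorem repWith_of_schTest (Q : MorphismProperty Scheme.{u}) {V G : AlgSp.Sp S} (b : V ⟶ G)
    (hb : SchTest (AlgSp.RepWith Q) b) : AlgSp.RepWith Q b := by
  rw [AlgSp.repWith_iff]
  constructor
  · intro W p
    obtain ⟨A, q, r, -, sq, hr⟩ := hb W p
    obtain ⟨A₀, snd, fst', sq'⟩ := ((AlgSp.repWith_iff Q r).mp hr).1 (𝟙 ((AlgSp.yon S).obj W))
    refine ⟨A₀, snd, fst' ≫ q, ?_⟩
    have := sq'.paste_horiz sq
    rwa [Category.id_comp] at this
  · intro U V' g fst snd sq'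
    obtain ⟨A, q, r, -, sq, hr⟩ := hb U g
    let i := IsPullback.isoIsPullback _ _ sq' sq
    have h1 : i.hom ≫ r = (AlgSp.yon S).map snd := IsPullback.isoIsPullback_hom_snd _ _ sq' sq
    have sq'' : IsPullback i.hom ((AlgSp.yon S).map snd) r (𝟙 ((AlgSp.yon S).obj U)) :=
      IsPullback.of_horiz_isIso ⟨by rw [h1, Category.comp_id]⟩
    exact ((AlgSp.repWith_iff Q r).mp hr).2 _ _ snd sq''

/-- A morphism of sheaves all of whose base changes to schemes are monomorphisms is a monomorphism. -/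
theorem mono_of_schTest {V G : AlgSp.Sp S} (b : V ⟶ G)
    (hb : SchTest (MorphismProperty.monomorphisms (AlgSp.Sp S)) b) : Mono b := by
  constructor
  intro Z s t hst
  apply Groth.Agent.Lib.Helper78.AlgSpBasic.hom_ext_yon
  intro X p
  obtain ⟨A, q, r, -, sq, hr⟩ := hb X (p ≫ s ≫ b)
  have hr' : Mono r := hr
  let l₁ := sq.lift (p ≫ s) (𝟙 _) (by rw [Category.id_comp, Category.assoc])
  let l₂ := sq.lift (p ≫ t) (𝟙 _) (by rw [Category.id_comp, Category.assoc, hst])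
  have e : l₁ = l₂ := by
    rw [← cancel_mono r]
    rw [sq.lift_snd, sq.lift_snd]
  have h1 : l₁ ≫ q = p ≫ s := sq.lift_fst _ _ _
  have h2 : l₂ ≫ q = p ≫ t := sq.lift_fst _ _ _
  rw [← h1, ← h2, e]

variable {𝒳 𝒴 𝒵 : AlgSt.Cat S}

/-- Composition of morphisms representable by algebraic spaces with a scheme-representable property. -/
theorem repByAlgSpWith_repWith_comp (Q : MorphismProperty Scheme.{u}) [Q.IsStableUnderBaseChange]
    [Q.IsMultiplicative] (h𝒳 : FibCat.IsFibGrpd 𝒳.p) (h𝒴 : FibCat.IsFibGrpd 𝒴.p)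
    (f : 𝒳 ⥤ᵇ 𝒴) (g : 𝒴 ⥤ᵇ 𝒵) (hf : AlgSt.RepByAlgSpWith (AlgSp.RepWith Q) f)
    (hg : AlgSt.RepByAlgSpWith (AlgSp.RepWith Q) g) :
    AlgSt.RepByAlgSpWith (AlgSp.RepWith Q) (BasedFunctor.comp f g) :=
  repByAlgSpWith_comp_sch h𝒳 h𝒴 _
    (fun _ _ _ _ _ b c hb hc => (AlgSp.RepWith Q).comp_mem b c (repWith_of_schTest Q b hb) hc) f g hf hg

/-- Composition of monomorphisms of stacks. -/
theorem repByAlgSpWith_mono_comp (h𝒳 : FibCat.IsFibGrpd 𝒳.p) (h𝒴 : FibCat.IsFibGrpd 𝒴.p)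
    (f : 𝒳 ⥤ᵇ 𝒴) (g : 𝒴 ⥤ᵇ 𝒵) (hf : AlgSt.IsMono f) (hg : AlgSt.IsMono g) :
    AlgSt.IsMono (BasedFunctor.comp f g) :=
  repByAlgSpWith_comp_sch h𝒳 h𝒴 _
    (fun _ _ _ _ _ b c hb hc => by
      have h1 : Mono b := mono_of_schTest b hb
      have h2 : Mono c := hc
      exact (inferInstance : Mono (b ≫ c))) f g hf hg

end Groth.Agent.Lib.Helper80
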