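import Groth.Agent.Lib.Helper80.AlgStAtlas5

/-!
# Uniqueness of representing morphisms of algebraic spaces, and fppf descent of properties (helper80)
-/

set_option autoImplicit false
set_option backward.isDefEq.respectTransparency false

universe u

open CategoryTheory CategoryTheory.Functor CategoryTheory.Limits AlgebraicGeometry Opposite

namespace Groth.Agent.Lib.Helper80

open BasedFunctor

variable {S : Scheme.{u}}

/-- A property of morphisms of algebraic spaces stable under base change is invariant under isomorphisms of the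
source over the target. -/
theorem prop_of_iso_over (P : MorphismProperty (AlgSp.Sp S))
    (hPb : ∀ ⦃X₁ Y₁ X₂ Y₂ : AlgSp.Sp S⦄, AlgSp.IsAlgSpace X₁ → AlgSp.IsAlgSpace Y₁ → AlgSp.IsAlgSpace X₂ →
      AlgSp.IsAlgSpace Y₂ → ∀ (a : X₁ ⟶ Y₁) (b : Y₂ ⟶ Y₁) (a' : X₂ ⟶ Y₂) (b' : X₂ ⟶ X₁),
      IsPullback b' a' a b → P a → P a')
    {V V' B : AlgSp.Sp S} (hV : AlgSp.IsAlgSpace V) (hV' : AlgSp.IsAlgSpace V') (hB : AlgSp.IsAlgSpace B)
    (a : V ⟶ B) (a' : V' ⟶ B) (j : V ≅ V') (hj : j.hom ≫ a' = a) (h : P a') : P a := by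
  refine hPb hV' hB hV hB a' (𝟙 B) a j.hom ?_ h
  exact IsPullback.of_horiz_isIso ⟨by rw [hj, Category.comp_id]⟩

/-- Two morphisms of sheaves representing the same functor to `ofSp B` differ by an isomorphism of the sources. -/
theorem exists_iso_of_rep {𝒜 : AlgSt.Cat S} {B V V' : AlgSp.Sp S} (pA : 𝒜 ⥤ᵇ AlgSt.ofSp B)
    (a : V ⟶ B) (a' : V' ⟶ B) (e : AlgSt.ofSp V ⥤ᵇ 𝒜) (e' : AlgSt.ofSp V' ⥤ᵇ 𝒜)
    (he : FibCat.IsEquivOver e) (he' : FibCat.IsEquivOver e')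
    (i : BasedFunctor.comp e pA ≅ AlgSt.ofSpMap a) (i' : BasedFunctor.comp e' pA ≅ AlgSt.ofSpMap a') :
    ∃ j : V ≅ V', j.hom ≫ a' = a := by
  obtain ⟨d', hd', -, ⟨ε⟩⟩ := IsEquivOver.symm he'
  let Φ : AlgSt.ofSp V ⥤ᵇ AlgSt.ofSp V' := BasedFunctor.comp e d'
  have hΦ : FibCat.IsEquivOver Φ := IsEquivOver.comp he hd'
  obtain ⟨k, hk⟩ := exists_pshIso_of_isEquivOver Φ hΦ
  let j : V ≅ V' :=
    (fullyFaithfulSheafToPresheaf (AlgSp.J S) _).preimageIso (X := V) (Y := V') k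
  refine ⟨j, ?_⟩
  apply ObjectProperty.hom_ext
  change k.hom ≫ a'.hom = a.hom
  have iso1 : BasedFunctor.comp Φ (AlgSt.ofSpMap a') ≅ AlgSt.ofSpMap a :=
    (whiskerLeftIso Φ i'.symm : _ ≅ BasedFunctor.comp (BasedFunctor.comp e (BasedFunctor.comp d' e')) pA) ≪≫
      whiskerRightIso (whiskerLeftIso e ε) pA ≪≫ i
  rw [hk, ← pshMapOf_ofPshMap a'.hom, ← pshMapOf_comp, pshMapOf_eq_of_iso iso1, pshMapOf_ofPshMap]

/-- `pA : 𝒜 ⟶ ofSp B` is represented by a morphism of algebraic spaces `a : V ⟶ B` with `P`. -/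
def RepOverSp (P : MorphismProperty (AlgSp.Sp S)) {𝒜 : AlgSt.Cat S} {B : AlgSp.Space S}
    (pA : 𝒜 ⥤ᵇ AlgSt.ofSp B.obj) : Prop :=
  ∃ (V : AlgSp.Space S) (a : V ⟶ B) (e : AlgSt.ofSp V.obj ⥤ᵇ 𝒜), FibCat.IsEquivOver e ∧
    Nonempty (BasedFunctor.comp e pA ≅ AlgSt.ofSpMap a.hom) ∧ P a.hom

theorem repOverSp_transfer (P : MorphismProperty (AlgSp.Sp S)) {𝒜 ℬ : AlgSt.Cat S} {B : AlgSp.Space S}
    (pA : 𝒜 ⥤ᵇ AlgSt.ofSp B.obj) (pB : ℬ ⥤ᵇ AlgSt.ofSp B.obj) (E : 𝒜 ⥤ᵇ ℬ)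
    (hE : FibCat.IsEquivOver E) (j : BasedFunctor.comp E pB ≅ pA) :
    RepOverSp P pA ↔ RepOverSp P pB := by
  constructor
  · rintro ⟨V, a, e, he, ⟨i⟩, hP⟩
    refine ⟨V, a, BasedFunctor.comp e E, IsEquivOver.comp he hE, ⟨?_⟩, hP⟩
    exact (whiskerLeftIso e j : BasedFunctor.comp (BasedFunctor.comp e E) pB ≅ BasedFunctor.comp e pA) ≪≫ i
  · rintro ⟨V, a, e, he, ⟨i⟩, hP⟩
    obtain ⟨E', hE', -, ⟨ε⟩⟩ := IsEquivOver.symm hE
    refine ⟨V, a, BasedFunctor.comp e E', IsEquivOver.comp he hE', ⟨?_⟩, hP⟩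
    exact (whiskerLeftIso (BasedFunctor.comp e E') j.symm : _ ≅
        BasedFunctor.comp (BasedFunctor.comp e (BasedFunctor.comp E' E)) pB) ≪≫
      whiskerRightIso (whiskerLeftIso e ε) pB ≪≫ i

/-- Uniqueness: any representing morphism has `P` as soon as one does (for `P` stable under base change). -/
theorem repOverSp_unique (P : MorphismProperty (AlgSp.Sp S))
    (hPb : ∀ ⦃X₁ Y₁ X₂ Y₂ : AlgSp.Sp S⦄, AlgSp.IsAlgSpace X₁ → AlgSp.IsAlgSpace Y₁ → AlgSp.IsAlgSpace X₂ →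
      AlgSp.IsAlgSpace Y₂ → ∀ (a : X₁ ⟶ Y₁) (b : Y₂ ⟶ Y₁) (a' : X₂ ⟶ Y₂) (b' : X₂ ⟶ X₁),
      IsPullback b' a' a b → P a → P a')
    {𝒜 : AlgSt.Cat S} {B : AlgSp.Space S} (pA : 𝒜 ⥤ᵇ AlgSt.ofSp B.obj) (h : RepOverSp P pA)
    {V : AlgSp.Sp S} (hV : AlgSp.IsAlgSpace V) (a : V ⟶ B.obj) (e : AlgSt.ofSp V ⥤ᵇ 𝒜)
    (he : FibCat.IsEquivOver e) (i : BasedFunctor.comp e pA ≅ AlgSt.ofSpMap a) : P a := by
  obtain ⟨V', a', e', he', ⟨i'⟩, hP⟩ := h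
  obtain ⟨j, hj⟩ := exists_iso_of_rep pA a a'.hom e e' he he' i i'
  exact prop_of_iso_over P hPb hV V'.property B.property a a'.hom j hj hP

/-- The functor of `spMapOfOver Φ` is `Φ` followed by the identification of `(Sch/U)` with the category of `h_U`. -/
theorem ofSpMap_spMapOfOver_iso {F : AlgSp.Sp S} {U : Over S} (Φ : AlgSt.ofSp F ⥤ᵇ FibCat.overCat U) :
    Nonempty (BasedFunctor.comp Φ (AlgSt.ofOverCat U) ≅ AlgSt.ofSpMap (AlgSt.spMapOfOver Φ)) := by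
  change Nonempty (_ ≅ Stk.ofPshMap (AlgSt.spMapOfOver Φ).hom)
  rw [spMapOfOver_hom_eq]
  exact ⟨(ofPshMapIso _).symm⟩

/-- Uniqueness over a scheme: the structure map of any representing space has `P` as soon as one does. -/
theorem prop_of_rep_over (P : MorphismProperty (AlgSp.Sp S))
    (hPb : ∀ ⦃X₁ Y₁ X₂ Y₂ : AlgSp.Sp S⦄, AlgSp.IsAlgSpace X₁ → AlgSp.IsAlgSpace Y₁ → AlgSp.IsAlgSpace X₂ →
      AlgSp.IsAlgSpace Y₂ → ∀ (a : X₁ ⟶ Y₁) (b : Y₂ ⟶ Y₁) (a' : X₂ ⟶ Y₂) (b' : X₂ ⟶ X₁),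
      IsPullback b' a' a b → P a → P a')
    {𝒜 : AlgSt.Cat S} {U : Over S} (pA : 𝒜 ⥤ᵇ FibCat.overCat U) (F F' : AlgSp.Space S)
    (e : AlgSt.ofSp F.obj ⥤ᵇ 𝒜) (e' : AlgSt.ofSp F'.obj ⥤ᵇ 𝒜)
    (he : FibCat.IsEquivOver e) (he' : FibCat.IsEquivOver e')
    (h : P (AlgSt.spMapOfOver (BasedFunctor.comp e' pA))) :
    P (AlgSt.spMapOfOver (BasedFunctor.comp e pA)) := by
  obtain ⟨i⟩ := ofSpMap_spMapOfOver_iso (BasedFunctor.comp e pA)
  obtain ⟨i'⟩ := ofSpMap_spMapOfOver_iso (BasedFunctor.comp e' pA)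
  obtain ⟨j, hj⟩ := exists_iso_of_rep (BasedFunctor.comp pA (AlgSt.ofOverCat U))
    (AlgSt.spMapOfOver (BasedFunctor.comp e pA)) (AlgSt.spMapOfOver (BasedFunctor.comp e' pA))
    e e' he he' i i'
  exact prop_of_iso_over P hPb F.property F'.property (AlgSp.IsAlgSpace.yon_obj U) _ _ j hj h

variable {𝒳 𝒴 𝒵 : AlgSt.Cat S}

open Groth.Agent.Lib.Helper78.AlgSpLocP in
/-- **Fppf descent of properties of representable morphisms.** -/
theorem repByAlgSpWith_of_fppf_cover (h𝒳 : FibCat.IsFibGrpd 𝒳.p) (h𝒴 : FibCat.IsFibGrpd 𝒴.p)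
    (h𝒵 : FibCat.IsFibGrpd 𝒵.p) (P : MorphismProperty (AlgSp.Sp S))
    (hPb : ∀ ⦃X₁ Y₁ X₂ Y₂ : AlgSp.Sp S⦄, AlgSp.IsAlgSpace X₁ → AlgSp.IsAlgSpace Y₁ → AlgSp.IsAlgSpace X₂ →
      AlgSp.IsAlgSpace Y₂ → ∀ (a : X₁ ⟶ Y₁) (b : Y₂ ⟶ Y₁) (a' : X₂ ⟶ Y₂) (b' : X₂ ⟶ X₁),
      IsPullback b' a' a b → P a → P a')
    (hP : AlgSp.IsLocalOnBase AlgSp.IsFppfCover P)
    (f : 𝒳 ⥤ᵇ 𝒴) (hf : AlgSt.RepByAlgSp1 f) (z : 𝒵 ⥤ᵇ 𝒴)
    (hz₁ : AlgSt.RepByAlgSpWith (AlgSp.LocP @Flat) z)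
    (hz₂ : AlgSt.RepByAlgSpWith (AlgSp.LocP @LocallyOfFinitePresentation) z)
    (hz₃ : AlgSt.RepByAlgSpWith AlgSp.IsSurjectiveMor z)
    (h : AlgSt.RepByAlgSpWith P (FibCat.fpFst z f)) : AlgSt.RepByAlgSpWith P f := by
  intro U y
  obtain ⟨E, eE, heE⟩ := hf U y
  refine ⟨E, eE, heE, ?_⟩
  obtain ⟨B, eB, heB, hfl⟩ := hz₁ U y
  have hlfp : AlgSp.LocP @LocallyOfFinitePresentation
      (AlgSt.spMapOfOver (BasedFunctor.comp eB (FibCat.fpFst y z))) := by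
    obtain ⟨B₂, e₂, he₂, h₂⟩ := hz₂ U y
    exact prop_of_rep_over _ (locP_baseChange Groth.Agent.Lib.Helper78.AlgSpLocPLofp.etLocalST_lofp)
      (FibCat.fpFst y z) B B₂ eB e₂ heB he₂ h₂
  have hsurj : AlgSp.IsSurjectiveMor
      (AlgSt.spMapOfOver (BasedFunctor.comp eB (FibCat.fpFst y z))) := by
    obtain ⟨B₃, e₃, he₃, h₃⟩ := hz₃ U y
    exact prop_of_rep_over _ (fun _ _ _ _ _ _ _ _ a b a' b' sq ha => isSurjectiveMor_baseChange sq ha)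
      (FibCat.fpFst y z) B B₃ eB e₃ heB he₃ h₃
  -- notation
  let g' : AlgSt.ofSp B.obj ⥤ᵇ FibCat.overCat U := BasedFunctor.comp eB (FibCat.fpFst y z)
  let pE' : AlgSt.ofSp E.obj ⥤ᵇ FibCat.overCat U := BasedFunctor.comp eE (FibCat.fpFst y f)
  let zB : AlgSt.ofSp B.obj ⥤ᵇ 𝒵 := BasedFunctor.comp eB (FibCat.fpSnd y z)
  change P (AlgSt.spMapOfOver pE')
  -- the base change of `f` to `B` has `P`
  obtain ⟨V', a', e', he', ⟨i'⟩, hPa'⟩ := exists_space_fp_with' (fp_isFibGrpd z f h𝒵 h𝒳 h𝒴) h𝒵 P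
    (atlasLocal_of_isLocalOnBase_fppf P hP) (FibCat.fpFst z f) h B zB
  have r0 : RepOverSp P (FibCat.fpFst zB (FibCat.fpFst z f)) := ⟨V', a', e', he', ⟨i'⟩, hPa'⟩
  have r1 : RepOverSp P (FibCat.fpFst (BasedFunctor.comp zB z) f) :=
    (repOverSp_transfer P (FibCat.fpFst (BasedFunctor.comp zB z) f) (FibCat.fpFst zB (FibCat.fpFst z f))
      (fpPasteLeft zB z f) (fpPasteLeft_isEquivOver zB z f) (BasedNatIso.id _)).mpr r0
  let ι : BasedFunctor.comp zB z ≅ BasedFunctor.comp (BasedFunctor.id _) (BasedFunctor.comp g' y) :=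
    (whiskerLeftIso eB (FibCat.fpIso y z)).symm
  have r2 : RepOverSp P (FibCat.fpFst (BasedFunctor.comp g' y) f) :=
    (repOverSp_transfer P (FibCat.fpFst (BasedFunctor.comp zB z) f)
      (FibCat.fpFst (BasedFunctor.comp g' y) f)
      (fpMapLeft (BasedFunctor.comp g' y) f (BasedFunctor.id _) (BasedFunctor.comp zB z) ι)
      (fpMapLeft_isEquivOver (BasedFunctor.comp g' y) f (BasedFunctor.id _) (BasedFunctor.comp zB z) ι
        isEquivOver_id) (BasedNatIso.id _)).mp r1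
  have r3 : RepOverSp P (FibCat.fpFst g' (FibCat.fpFst y f)) :=
    (repOverSp_transfer P (FibCat.fpFst (BasedFunctor.comp g' y) f) (FibCat.fpFst g' (FibCat.fpFst y f))
      (fpPasteLeft g' y f) (fpPasteLeft_isEquivOver g' y f) (BasedNatIso.id _)).mp r2
  have r4 : RepOverSp P (FibCat.fpFst g' pE') :=
    (repOverSp_transfer P (FibCat.fpFst g' pE') (FibCat.fpFst g' (FibCat.fpFst y f))
      (fpMapRight g' (FibCat.fpFst y f) eE pE' (BasedNatIso.id _))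
      (fpMapRight_isEquivOver g' (FibCat.fpFst y f) eE pE' (BasedNatIso.id _) heE)
      (BasedNatIso.id _)).mpr r3
  let g : B.obj ⟶ (AlgSp.yon S).obj U := AlgSt.spMapOfOver g'
  let pE : E.obj ⟶ (AlgSp.yon S).obj U := AlgSt.spMapOfOver pE'
  obtain ⟨iF⟩ := ofSpMap_spMapOfOver_iso g'
  obtain ⟨iG⟩ := ofSpMap_spMapOfOver_iso pE'
  obtain ⟨hfull, hfaith, -⟩ := IsEquivOver.isFFEssSurjOver (ofOverCat_isEquivOver U)
  have r5 : RepOverSp P (FibCat.fpFst (AlgSt.ofSpMap g) (AlgSt.ofSpMap pE)) :=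
    (repOverSp_transfer P (FibCat.fpFst g' pE') (FibCat.fpFst (AlgSt.ofSpMap g) (AlgSt.ofSpMap pE))
      (fpMap (AlgSt.ofSpMap g) (AlgSt.ofSpMap pE) g' pE' (BasedFunctor.id _) (BasedFunctor.id _)
        (AlgSt.ofOverCat U) iF iG)
      (fpMap_isEquivOver (AlgSt.ofSpMap g) (AlgSt.ofSpMap pE) g' pE' (BasedFunctor.id _)
        (BasedFunctor.id _) (AlgSt.ofOverCat U) iF iG isEquivOver_id isEquivOver_id)
      (BasedNatIso.id _)).mp r4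
  -- the fibre product of sheaves
  have sq : IsPullback (pullback.fst g pE) (pullback.snd g pE) g pE := IsPullback.of_hasPullback g pE
  have hV : AlgSp.IsAlgSpace (pullback g pE) :=
    Groth.Agent.Lib.Helper78.AlgSpFibre.isAlgSpace_of_isPullback sq
      (AlgSp.IsAlgSpace.yon_obj U).diag B.property E.property
  have sq' := sq.map (sheafToPresheaf (AlgSp.J S) (Type (u + 1)))
  have hsnd : P (pullback.fst g pE) :=
    repOverSp_unique P hPb (FibCat.fpFst (AlgSt.ofSpMap g) (AlgSt.ofSpMap pE)) r5 hV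
      (pullback.fst g pE) (ofPshFp sq'.w) (ofPshFp_isEquivOver sq') (BasedNatIso.id _)
  refine (hP (fun _ : PUnit.{u + 1} => B.obj) (fun _ => g) (AlgSp.IsAlgSpace.yon_obj U)
    (fun _ => B.property) ⟨fun _ => ⟨hfl, hlfp⟩, fun x => ⟨PUnit.unit, hsurj x⟩⟩ pE E.property
    (fun _ => pullback g pE) (fun _ => pullback.fst g pE) (fun _ => pullback.snd g pE)
    (fun _ => hV) (fun _ => sq.flip)).mpr (fun _ => hsnd)

end Groth.Agent.Lib.Helper80
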