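import Groth.Agent.Lib.Helper80.AlgStDiag
import Groth.Agent.Lib.Helper80.FibCat24
import Groth.Prelude.Def_AlgSt3

/-!
# The diagonal of a morphism representable by algebraic spaces is a monomorphism (helper80)
-/

set_option autoImplicit false
set_option backward.isDefEq.respectTransparency false

universe v₄ u₄ v₃ u₃ v₂ u₂ v u

open CategoryTheory CategoryTheory.Functor CategoryTheory.Limits AlgebraicGeometry Opposite

namespace Groth.Agent.Lib.Helper80

open BasedFunctor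

section General

variable {C : Type u} [Category.{v} C] {𝒳 : BasedCategory.{v₂, u₂} C} {𝒴 : BasedCategory.{v₃, u₃} C}

/-- The diagonal of a faithful functor is full. -/
theorem diag_full_of_faithful (f : 𝒳 ⥤ᵇ 𝒴) [f.toFunctor.Faithful] : (FibCat.diag f).toFunctor.Full where
  map_surjective {x x'} φ := by
    have w : f.map φ.hom.fst ≫ 𝟙 _ = 𝟙 _ ≫ f.map φ.hom.snd := φ.hom.w
    rw [Category.comp_id, Category.id_comp] at w
    have h : φ.hom.fst = φ.hom.snd := f.toFunctor.map_injective w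
    refine ⟨φ.hom.fst, ?_⟩
    apply ObjectProperty.hom_ext
    apply CategoricalPullback.hom_ext
    · rfl
    · exact h

end General

variable {S : Scheme.{u}}

/-- A full functor over `(Sch/S)` from the category of a sheaf to a slice induces a monomorphism of sheaves. -/
theorem mono_spMapOfOver_of_full {F : AlgSp.Sp S} {U : Over S} (Φ : AlgSt.ofSp F ⥤ᵇ FibCat.overCat U)
    [Φ.toFunctor.Full] : Mono (AlgSt.spMapOfOver Φ) := by
  have hinj : ∀ T : (Over S)ᵒᵖ, Function.Injective ((AlgSt.spMapOfOver Φ).hom.app T) := by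
    intro T
    induction T using Opposite.rec with
    | _ T =>
    intro s s' hss
    rw [AlgSt.spMapOfOver_app, AlgSt.spMapOfOver_app] at hss
    have h0 : AlgSt.secHom Φ ⟨T, s⟩ = AlgSt.secHom Φ ⟨T, s'⟩ := congrArg ULift.down hss
    let a : (AlgSt.ofSp F).obj := ⟨T, s⟩
    let a' : (AlgSt.ofSp F).obj := ⟨T, s'⟩
    have h1 : (eqToHom (Φ.w_obj a) ≫ eqToHom (Φ.w_obj a').symm) ≫ (Φ.obj a').hom = (Φ.obj a).hom := by
      unfold AlgSt.secHom at h0
      have := congrArg (fun k => eqToHom (Φ.w_obj a) ≫ k) h0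
      simpa using this.symm
    let ψ : Φ.obj a ⟶ Φ.obj a' := Over.homMk (eqToHom (Φ.w_obj a) ≫ eqToHom (Φ.w_obj a').symm) h1
    obtain ⟨m, hm⟩ := Φ.toFunctor.map_surjective ψ
    have hm' : Φ.map m = ψ := hm
    have h2 : (Φ.map m).left = eqToHom (Φ.w_obj a) ≫ m.hom ≫ eqToHom (Φ.w_obj a').symm :=
      IsHomLift.fac' (FibCat.overCat U).p ((AlgSt.ofSp F).p.map m) (Φ.map m)
    have h3 : m.hom = 𝟙 T := by
      rw [hm'] at h2
      have h4 : eqToHom (Φ.w_obj a) ≫ eqToHom (Φ.w_obj a').symm =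
          eqToHom (Φ.w_obj a) ≫ m.hom ≫ eqToHom (Φ.w_obj a').symm := h2
      have h5 := congrArg (fun k => eqToHom (Φ.w_obj a).symm ≫ k ≫ eqToHom (Φ.w_obj a')) h4
      simpa using h5.symm
    have h6 : F.obj.map m.hom.op s' = s := m.map_sec
    rw [h3, op_id, F.obj.map_id] at h6
    exact h6.symm
  have h1 : ∀ T, Mono ((AlgSt.spMapOfOver Φ).hom.app T) := fun T =>
    (mono_iff_injective _).mpr (hinj T)
  have h2 : Mono (AlgSt.spMapOfOver Φ).hom := NatTrans.mono_of_mono_app _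
  exact Sheaf.Hom.mono_of_presheaf_mono _ _ _

/-- `S12941`, with the hypotheses actually used. -/
theorem isMono_diag_of_repByAlgSp1 {𝒳 𝒴 : AlgSt.Cat S} (h𝒳g : FibCat.IsFibGrpd 𝒳.p)
    (h𝒴g : FibCat.IsFibGrpd 𝒴.p)
    (h𝒳 : AlgSt.RepByAlgSp1 (FibCat.diag (FibCat.toSelf 𝒳)))
    (h𝒴 : AlgSt.RepByAlgSp1 (FibCat.diag (FibCat.toSelf 𝒴)))
    (f : 𝒳 ⥤ᵇ 𝒴) (hf : AlgSt.RepByAlgSp1 f) : AlgSt.IsMono (FibCat.diag f) := by
  intro T t
  obtain ⟨F, e, he⟩ := repByAlgSp1_diag_of_diag f h𝒳 h𝒴 T t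
  refine ⟨F, e, he, ?_⟩
  have : f.toFunctor.Faithful := faithful_of_repByAlgSp1 h𝒳g h𝒴g f hf
  have : (FibCat.diag f).toFunctor.Full := diag_full_of_faithful f
  have : (FibCat.fpFst t (FibCat.diag f)).toFunctor.Full := fpFst_full_of_full t (FibCat.diag f)
  have : e.toFunctor.IsEquivalence := IsEquivOver.isEquivalence he
  have : (BasedFunctor.comp e (FibCat.fpFst t (FibCat.diag f))).toFunctor.Full :=
    inferInstanceAs (e.toFunctor ⋙ (FibCat.fpFst t (FibCat.diag f)).toFunctor).Full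
  have hm : Mono (AlgSt.spMapOfOver (BasedFunctor.comp e (FibCat.fpFst t (FibCat.diag f)))) :=
    mono_spMapOfOver_of_full _
  exact hm

end Groth.Agent.Lib.Helper80
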