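import Groth.Agent.Lib.Helper80.AlgStEquiv
import Groth.Agent.Lib.Helper78.AlgSpLocP2
import Groth.Agent.Lib.Helper78.AlgSpLocPUnram
import Groth.Agent.Lib.Helper78.AlgSpLocPLoft
import Groth.Agent.Lib.Helper30.AlgSpMor
import Groth.Agent.Lib.Helper78.AlgSpBasic

/-!
# Identities of `h_U` are proper and unramified; monomorphisms of stacks are separated and DM
(helper80)
-/

set_option autoImplicit false
set_option backward.isDefEq.respectTransparency false

universe u

open CategoryTheory CategoryTheory.Functor CategoryTheory.Limits AlgebraicGeometry Opposite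

namespace Groth.Agent.Lib.Helper80

open BasedFunctor

variable {S : Scheme.{u}}

theorem locP_id_of_etLocalST {P : MorphismProperty Scheme.{u}}
    (hP : Groth.Agent.Lib.Helper78.AlgSpLocP.EtLocalST P) [P.ContainsIdentities] (U : Over S) :
    AlgSp.LocP P (𝟙 ((AlgSp.yon S).obj U)) := by
  rw [← (AlgSp.yon S).map_id]
  exact (Groth.Agent.Lib.Helper78.AlgSpLocP.locP_yon_map_iff hP (𝟙 U)).mpr (P.id_mem U.left)

theorem locP_unramified_id (U : Over S) :
    AlgSp.LocP (@LocallyOfFiniteType ⊓ @FormallyUnramified) (𝟙 ((AlgSp.yon S).obj U)) := by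
  rw [← (AlgSp.yon S).map_id]
  refine (Groth.Agent.Lib.Helper78.AlgSpLocP.locP_yon_map_iff
    (Groth.Agent.Lib.Helper78.AlgSpLocPUnram.etLocalST_inf
      Groth.Agent.Lib.Helper78.AlgSpLocPLoft.etLocalST_loft
      Groth.Agent.Lib.Helper78.AlgSpLocPUnram.etLocalST_fu) (𝟙 U)).mpr ⟨?_, ?_⟩
  · change LocallyOfFiniteType (𝟙 U.left)
    infer_instance
  · change FormallyUnramified (𝟙 U.left)
    infer_instance

theorem isProperMor_id (U : Over S) : AlgSp.IsProperMor (𝟙 ((AlgSp.yon S).obj U)) := by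
  refine ⟨?_, ⟨?_, ?_⟩, ?_⟩
  · -- separated: the diagonal of an identity is an isomorphism
    change AlgSp.RepWith @IsClosedImmersion (pullback.diagonal (𝟙 ((AlgSp.yon S).obj U)))
    have : IsIso (pullback.diagonal (𝟙 ((AlgSp.yon S).obj U))) := inferInstance
    exact Groth.Agent.Lib.Helper78.AlgSpBasic.repWith_of_isIso _ _
  · exact locP_id_of_etLocalST Groth.Agent.Lib.Helper78.AlgSpLocPLoft.etLocalST_loft U
  · exact Groth.Agent.Lib.Helper30.isQuasiCompactMor_of_repWith (AlgSp.repWith_id _ U)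
  · exact Groth.Agent.Lib.Helper30.isUnivClosedMor_of_repWith (AlgSp.repWith_id _ U)

/-- A monomorphism between categories fibred in groupoids is separated and DM: its diagonal is an
equivalence. -/
theorem isSeparatedMor_and_isDMMor_of_isMono {𝒳 𝒴 : AlgSt.Cat S}
    (h𝒳 : FibCat.IsFibGrpd 𝒳.p) (h𝒴 : FibCat.IsFibGrpd 𝒴.p) (f : 𝒳 ⥤ᵇ 𝒴) (hf : AlgSt.IsMono f) :
    AlgSt.IsSeparatedMor f ∧ AlgSt.IsDMMor f := by
  obtain ⟨hfull, hfaith⟩ := full_faithful_of_isMono h𝒳 h𝒴 f hf
  have hd := diag_isEquivOver_of_full_faithful f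
  exact ⟨repByAlgSpWith_of_isEquivOver _ isProperMor_id _ hd,
    repByAlgSpWith_of_isEquivOver _ locP_unramified_id _ hd⟩

end Groth.Agent.Lib.Helper80
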