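import Groth.Agent.Lib.Helper80.AlgStLocQ8
import Groth.Agent.Lib.Helper80.AlgStEquiv
import Groth.Agent.Lib.Helper78.AlgSpSmLocal
import Mathlib.AlgebraicGeometry.Sites.Fpqc

/-!
# Objects of an algebraic stack lift fppf locally along jointly surjective fppf families (helper80)
-/

set_option autoImplicit false
set_option backward.isDefEq.respectTransparency false

universe u

open CategoryTheory CategoryTheory.Functor CategoryTheory.Limits AlgebraicGeometry Opposite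

namespace Groth.Agent.Lib.Helper80

open BasedFunctor

variable {S : Scheme.{u}} {𝒳 𝒴 : AlgSt.Cat S}

theorem repByAlgSpWith_smooth_id (𝒳 : AlgSt.Cat S) :
    AlgSt.RepByAlgSpWith (AlgSp.LocP @Smooth) (BasedFunctor.id 𝒳) :=
  repByAlgSpWith_of_isEquivOver _
    (fun U => Groth.Agent.Lib.Helper78.AlgSpSmLocal.locP_smooth_id (AlgSp.IsAlgSpace.yon_obj U))
    (BasedFunctor.id 𝒳) isEquivOver_id

theorem repByAlgSpWith_surjective_id (𝒳 : AlgSt.Cat S) :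
    AlgSt.RepByAlgSpWith AlgSp.IsSurjectiveMor (BasedFunctor.id 𝒳) :=
  repByAlgSpWith_of_isEquivOver _ (fun _ x => ⟨x, AlgSp.Points.map_id x⟩) (BasedFunctor.id 𝒳) isEquivOver_id

/-- A flat, locally finitely presented morphism to an algebraic stack lifts a scheme-valued object fppf locally on the
part of the scheme lying over its image. -/
theorem exists_fppf_lift (h𝒳 : AlgSt.IsAlgStack Scheme.fppfPrecoverage 𝒳)
    (h𝒴 : AlgSt.IsAlgStack Scheme.fppfPrecoverage 𝒴) (f : 𝒴 ⥤ᵇ 𝒳)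
    (hf₁ : AlgSt.LocQ (AlgSp.LocP @Flat) f) (hf₂ : AlgSt.LocQ (AlgSp.LocP @LocallyOfFinitePresentation) f)
    (U : Over S) (x : FibCat.overCat U ⥤ᵇ 𝒳) :
    ∃ (V : Over S) (g : V ⟶ U) (x' : FibCat.overCat V ⥤ᵇ 𝒴), Flat g.left ∧ LocallyOfFinitePresentation g.left ∧
      Nonempty (BasedFunctor.comp x' f ≅ BasedFunctor.comp (AlgSt.overMap g) x) ∧
      ∀ u : ↥U.left, AlgSt.Points.ofChart x u ∈ Set.range (AlgSt.Points.map f) → u ∈ Set.range g.left := by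
  have hQe := Groth.Agent.Lib.Helper78.AlgSpLocPFlat.etLocalST_flat
  have hQe' := Groth.Agent.Lib.Helper78.AlgSpLocPLofp.etLocalST_lofp
  have hU := isAlgStack_overCat U
  have gU := overCat_isFibGrpd U
  have h𝒲 := isAlgStack_fp h𝒳.isStack h𝒳.diag hU h𝒴 x f
  have g𝒲 := h𝒲.isStack.1
  have l1 : AlgSt.LocQ (AlgSp.LocP @Flat) (FibCat.fpFst x f) :=
    locQ_baseChange _ isSmoothLocalST_flat (locP_baseChange_alg hQe) h𝒴 h𝒳 hU f x hf₁
  have l2 : AlgSt.LocQ (AlgSp.LocP @LocallyOfFinitePresentation) (FibCat.fpFst x f) :=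
    locQ_baseChange _ isSmoothLocalST_lofp (locP_baseChange_alg hQe') h𝒴 h𝒳 hU f x hf₂
  have hid1 := repByAlgSpWith_smooth_id (FibCat.overCat U)
  have hid2 := repByAlgSpWith_surjective_id (FibCat.overCat U)
  obtain ⟨V, x₁, g, α, hx1, hΓ, -, hxs⟩ :=
    exists_chart_over h𝒲 hU (FibCat.fpFst x f) U (BasedFunctor.id _) hid1
  have hx2 := hxs hid2
  obtain ⟨U₁, V₁, a₁, y₁, k₁, β₁, b1, b2, b3, b4⟩ := l1
  obtain ⟨U₂, V₂, a₂, y₂, k₂, β₂, c1, c2, c3, c4⟩ := l2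
  have p1 : AlgSp.LocP @Flat ((AlgSp.yon S).map g) :=
    locQ_all_charts _ isSmoothLocalST_flat (FibCat.fpFst x f) a₁ y₁ k₁ β₁ b1 b2 b3 b4 x₁ (BasedFunctor.id _) g α
      hx1 hid1 hΓ
  have p2 : AlgSp.LocP @LocallyOfFinitePresentation ((AlgSp.yon S).map g) :=
    locQ_all_charts _ isSmoothLocalST_lofp (FibCat.fpFst x f) a₂ y₂ k₂ β₂ c1 c2 c3 c4 x₁ (BasedFunctor.id _) g α
      hx1 hid1 hΓ
  refine ⟨V, g, BasedFunctor.comp x₁ (FibCat.fpSnd x f),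
    (Groth.Agent.Lib.Helper78.AlgSpLocP.locP_yon_map_iff hQe _).mp p1,
    (Groth.Agent.Lib.Helper78.AlgSpLocP.locP_yon_map_iff hQe' _).mp p2, ⟨?_⟩, ?_⟩
  · exact (whiskerLeftIso x₁ (FibCat.fpIso x f).symm : _ ≅
        BasedFunctor.comp (BasedFunctor.comp x₁ (FibCat.fpFst x f)) x) ≪≫
      (whiskerRightIso α x : _ ≅ BasedFunctor.comp (AlgSt.overMap g) x)
  · rintro u ⟨ζ, hζ⟩
    obtain ⟨w, hw1, -⟩ := exists_point_fp h𝒴.isStack.1 h𝒳.isStack.1 gU f x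
      (AlgSt.Points.mk (chartPt U u)) ζ hζ.symm
    obtain ⟨t, rfl⟩ := surjective_ofChart g𝒲 x₁ hx2 w
    refine ⟨t, ?_⟩
    rw [← ofChart_comp, ofChart_congr α, ofChart_overMap] at hw1
    exact chartPt_injective U hw1

/-- `S13022`. -/
theorem exists_fppf_cover_lifting_objects (h𝒳 : AlgSt.IsAlgStack Scheme.fppfPrecoverage 𝒳)
    (J : Type u) (𝒳' : J → AlgSt.Cat S) (h𝒳' : ∀ j, AlgSt.IsAlgStack Scheme.fppfPrecoverage (𝒳' j))
    (f : ∀ j, 𝒳' j ⥤ᵇ 𝒳)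
    (hf₁ : ∀ j, AlgSt.LocQ (AlgSp.LocP @Flat) (f j))
    (hf₂ : ∀ j, AlgSt.LocQ (AlgSp.LocP @LocallyOfFinitePresentation) (f j))
    (hf₃ : ∀ p : AlgSt.Points 𝒳, ∃ j, p ∈ Set.range (AlgSt.Points.map (f j)))
    (U : Over S) (x : FibCat.overCat U ⥤ᵇ 𝒳) :
    ∃ (ι : Type u) (V : ι → Over S) (g : ∀ i, V i ⟶ U) (c : ι → J),
      (Presieve.ofArrows (fun i ↦ (V i).left) fun i ↦ (g i).left) ∈ Scheme.fppfPrecoverage U.left ∧
      ∀ i, ∃ x' : FibCat.overCat (V i) ⥤ᵇ 𝒳' (c i),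
        Nonempty (BasedFunctor.comp x' (f (c i)) ≅ BasedFunctor.comp (AlgSt.overMap (g i)) x) := by
  choose V g x' hfl hfp hiso hsurj using fun j => exists_fppf_lift h𝒳 (h𝒳' j) (f j) (hf₁ j) (hf₂ j) U x
  refine ⟨J, V, g, id, ?_, fun j => ⟨x' j, hiso j⟩⟩
  change _ ∈ Scheme.precoverage (@Flat ⊓ @LocallyOfFinitePresentation) U.left
  rw [Scheme.ofArrows_mem_precoverage_iff]
  refine ⟨fun u => ?_, fun j => ⟨hfl j, hfp j⟩⟩
  obtain ⟨j, hj⟩ := hf₃ (AlgSt.Points.ofChart x u)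
  exact ⟨j, hsurj j u hj⟩

end Groth.Agent.Lib.Helper80
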