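import Groth.Agent.Lib.Helper80.AlgStLocQ5

/-!
# `LocQ P` for morphisms representable by algebraic spaces (helper80)
-/

set_option autoImplicit false
set_option backward.isDefEq.respectTransparency false

universe u

open CategoryTheory CategoryTheory.Functor CategoryTheory.Limits AlgebraicGeometry Opposite

namespace Groth.Agent.Lib.Helper80

open BasedFunctor

variable {S : Scheme.{u}} {𝒳 𝒴 : AlgSt.Cat S}

/-- `RepByAlgSpWith P f` gives `LocQ P f` on an atlas of the target. -/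
theorem locQ_of_repByAlgSpWith (P : MorphismProperty (AlgSp.Sp S)) (hP : AlgSp.IsSmoothLocalST P)
    (h𝒴 : AlgSt.HasAtlas (AlgSp.LocP @Smooth) 𝒴) (f : 𝒳 ⥤ᵇ 𝒴) (hf : AlgSt.RepByAlgSpWith P f) :
    AlgSt.LocQ P f := by
  obtain ⟨V, y, hy1, hy2⟩ := h𝒴
  obtain ⟨E, e, he, hπ⟩ := hf V y
  let π := AlgSt.spMapOfOver (BasedFunctor.comp e (FibCat.fpFst y f))
  obtain ⟨i⟩ := ofSpMap_spMapOfOver_iso (BasedFunctor.comp e (FibCat.fpFst y f))
  have eG : BasedFunctor.comp (AlgSt.ofSpMap π) (AlgSt.toOverCat V) ≅ BasedFunctor.comp e (FibCat.fpFst y f) :=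
    (whiskerRightIso i.symm (AlgSt.toOverCat V) : _ ≅
      BasedFunctor.comp (BasedFunctor.comp (BasedFunctor.comp e (FibCat.fpFst y f)) (AlgSt.ofOverCat V))
        (AlgSt.toOverCat V))
  let x : AlgSt.ofSp E.obj ⥤ᵇ 𝒳 := BasedFunctor.comp e (FibCat.fpSnd y f)
  let y' : AlgSt.ofSp ((AlgSp.yon S).obj V) ⥤ᵇ 𝒴 := BasedFunctor.comp (AlgSt.toOverCat V) y
  let α : BasedFunctor.comp x f ≅ BasedFunctor.comp (AlgSt.ofSpMap π) y' :=
    (whiskerLeftIso e (FibCat.fpIso y f).symm : BasedFunctor.comp x f ≅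
      BasedFunctor.comp (BasedFunctor.comp e (FibCat.fpFst y f)) y) ≪≫ whiskerRightIso eG.symm y
  have hx1 : AlgSt.RepByAlgSpWith (AlgSp.LocP @Smooth) x :=
    (repByAlgSpWith_precomp_equiv _ e he _).mp (repByAlgSpWith_fpSnd _ y f hy1)
  have hx2 : AlgSt.RepByAlgSpWith AlgSp.IsSurjectiveMor x :=
    (repByAlgSpWith_precomp_equiv _ e he _).mp (repByAlgSpWith_fpSnd _ y f hy2)
  exact locQ_of_space_charts P hP f E ⟨(AlgSp.yon S).obj V, AlgSp.IsAlgSpace.yon_obj V⟩ x y'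
    (ObjectProperty.homMk π) α hx1 hx2 (repByAlgSpWith_toOverCat_comp _ y hy1) hπ

/-- `LocQ P f` for representable `f` gives `P` on every base change to a scheme. -/
theorem repByAlgSpWith_of_locQ (P : MorphismProperty (AlgSp.Sp S)) (hP : AlgSp.IsSmoothLocalST P)
    (hPb : ∀ ⦃X₁ Y₁ X₂ Y₂ : AlgSp.Sp S⦄, AlgSp.IsAlgSpace X₁ → AlgSp.IsAlgSpace Y₁ → AlgSp.IsAlgSpace X₂ →
      AlgSp.IsAlgSpace Y₂ → ∀ (a : X₁ ⟶ Y₁) (b : Y₂ ⟶ Y₁) (a' : X₂ ⟶ Y₂) (b' : X₂ ⟶ X₁),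
      IsPullback b' a' a b → P a → P a')
    (f : 𝒳 ⥤ᵇ 𝒴) (hf : AlgSt.RepByAlgSp1 f) (hfQ : AlgSt.LocQ P f) : AlgSt.RepByAlgSpWith P f := by
  have hQ := Groth.Agent.Lib.Helper78.AlgSpLocPSmooth.etLocalST_smooth
  intro T t
  obtain ⟨E, e, he⟩ := hf T t
  refine ⟨E, e, he, ?_⟩
  let π := AlgSt.spMapOfOver (BasedFunctor.comp e (FibCat.fpFst t f))
  obtain ⟨A, c, hc1, hc2⟩ := E.property.atlas
  have hcs : AlgSp.LocP @Smooth c := locP_of_repWith_etale (fun k hk => smooth_of_etale k hk) hc1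
  let pe : FibCat.overCat A ⥤ᵇ FibCat.fp t f := BasedFunctor.comp (ptFun c.hom) e
  let G : FibCat.overCat A ⥤ᵇ FibCat.overCat T := BasedFunctor.comp pe (FibCat.fpFst t f)
  let k : A ⟶ T := overClassify G
  let j : G ≅ AlgSt.overMap k := isoOverMap G
  have hk : (AlgSp.yon S).map k = c ≫ π := by
    rw [← spMapOfOver_toOverCat_overMap, ← spMapOfOver_comp_ofSpMap]
    exact spMapOfOver_eq_of_iso
      ((whiskerLeftIso (AlgSt.toOverCat A) j.symm : BasedFunctor.comp (AlgSt.toOverCat A) (AlgSt.overMap k) ≅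
        BasedFunctor.comp (AlgSt.toOverCat A) G) ≪≫
        (BasedNatIso.id _ : BasedFunctor.comp (AlgSt.toOverCat A) G ≅
          BasedFunctor.comp (AlgSt.ofSpMap c) (BasedFunctor.comp e (FibCat.fpFst t f))))
  let x : FibCat.overCat A ⥤ᵇ 𝒳 := BasedFunctor.comp pe (FibCat.fpSnd t f)
  let α : BasedFunctor.comp x f ≅ BasedFunctor.comp (AlgSt.overMap k) t :=
    (whiskerLeftIso pe (FibCat.fpIso t f).symm : BasedFunctor.comp x f ≅ BasedFunctor.comp G t) ≪≫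
      whiskerRightIso j t
  let Γ := FibCat.fpLift x (AlgSt.overMap k) α
  have iΓ : BasedFunctor.comp Γ (fpSwap f t) ≅ pe :=
    fpIsoMk
      (j.symm : BasedFunctor.comp (BasedFunctor.comp Γ (fpSwap f t)) (FibCat.fpFst t f) ≅
        BasedFunctor.comp pe (FibCat.fpFst t f))
      (BasedNatIso.id _ : BasedFunctor.comp (BasedFunctor.comp Γ (fpSwap f t)) (FibCat.fpSnd t f) ≅
        BasedFunctor.comp pe (FibCat.fpSnd t f))
      (by
        intro u
        have e1 : ((BasedFunctor.comp Γ (fpSwap f t)).obj u).obj.iso.hom =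
            t.map (j.inv.toNatTrans.app u) ≫ (pe.obj u).obj.iso.hom := rfl
        have e2 : t.map (j.symm.hom.toNatTrans.app u) = t.map (j.inv.toNatTrans.app u) := rfl
        rw [e1, e2]
        exact (comp_comp_map_id_aux f.toFunctor _ _).symm.trans (Category.assoc _ _ _).symm)
  have hpe : AlgSt.RepByAlgSpWith (AlgSp.LocP @Smooth) pe :=
    repByAlgSpWith_chart _ (locP_baseChange hQ) E.property c hcs e he
  have hΓs : AlgSt.RepByAlgSpWith (AlgSp.LocP @Smooth) (BasedFunctor.comp Γ (fpSwap f t)) :=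
    repByAlgSpWith_of_iso _ iΓ.symm hpe
  have hΓ : AlgSt.RepByAlgSpWith (AlgSp.LocP @Smooth) Γ :=
    (repByAlgSpWith_iff_of_square _ (BasedFunctor.comp Γ (fpSwap f t)) Γ
      (BasedFunctor.id _) (fpSwap f t) isEquivOver_id (fpSwap_isEquivOver _ _) (BasedNatIso.id _)).mp hΓs
  obtain ⟨U₀, V₀, x₀, y₀, h₀, α₀, hx₀, hx₀', hy₀, hP₀⟩ := hfQ
  have hPk : P ((AlgSp.yon S).map k) :=
    locQ_all_squares P hP hPb f x₀ y₀ h₀ α₀ hx₀ hx₀' hy₀ hP₀ x t k α hΓ
  refine (hP.locality E.property (AlgSp.IsAlgSpace.yon_obj T) π).mpr ?_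
  intro pt
  obtain ⟨w, hw⟩ := Groth.Agent.Lib.Helper51.surjective_map_of_repWith_surjective hc2 pt
  exact ⟨(AlgSp.yon S).obj A, (AlgSp.yon S).obj T, c, 𝟙 _, (AlgSp.yon S).map k, w, AlgSp.IsAlgSpace.yon_obj A,
    AlgSp.IsAlgSpace.yon_obj T, hcs,
    Groth.Agent.Lib.Helper78.AlgSpSmLocal.locP_smooth_id (AlgSp.IsAlgSpace.yon_obj T),
    by rw [Category.comp_id, hk], hw, hPk⟩

end Groth.Agent.Lib.Helper80
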