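import Groth.Agent.Lib.Helper80.AlgStPts9
import Groth.Agent.Lib.Helper80.AlgStAtlas3
import Groth.Agent.Lib.Helper78.AlgSpLargestOpen

/-!
# Open morphisms on points, open substacks, quasi-compact morphisms (helper80)
-/

set_option autoImplicit false
set_option backward.isDefEq.respectTransparency false

universe u w

open CategoryTheory CategoryTheory.Functor CategoryTheory.Limits AlgebraicGeometry Opposite

namespace Groth.Agent.Lib.Helper80

open BasedFunctor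

variable {S : Scheme.{u}} {𝒳 𝒴 𝒵 : AlgSt.Cat S}

/-- A flat, locally finitely presented morphism (representable by algebraic spaces) from a category with a smooth
surjective scheme chart is open on points. -/
theorem isOpenMap_points_map (h𝒳 : FibCat.IsFibGrpd 𝒳.p) (h𝒴 : FibCat.IsFibGrpd 𝒴.p)
    (hat : AlgSt.HasAtlas (AlgSp.LocP @Smooth) 𝒴) (f : 𝒴 ⥤ᵇ 𝒳)
    (hf₁ : AlgSt.RepByAlgSpWith (AlgSp.LocP @Flat) f)
    (hf₂ : AlgSt.RepByAlgSpWith (AlgSp.LocP @LocallyOfFinitePresentation) f) :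
    IsOpenMap (AlgSt.Points.map f) := by
  intro W hW
  obtain ⟨U, a, ha1, ha2⟩ := hat
  have hfl : AlgSt.RepByAlgSpWith (AlgSp.LocP @Flat) a :=
    repByAlgSpWith_locP_mono (fun _ _ k hk => by
      have : Smooth k := hk
      exact (inferInstance : Flat k)) ha1
  have hfp : AlgSt.RepByAlgSpWith (AlgSp.LocP @LocallyOfFinitePresentation) a :=
    repByAlgSpWith_locP_mono (fun _ _ k hk => by
      have : Smooth k := hk
      exact (inferInstance : LocallyOfFinitePresentation k)) ha1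
  have h1 : AlgSt.RepByAlgSpWith (AlgSp.LocP @Flat) (BasedFunctor.comp a f) :=
    repByAlgSpWith_locP_comp Groth.Agent.Lib.Helper78.AlgSpLocPFlat.etLocalST_flat
      (overCat_isFibGrpd U) h𝒴 a f hfl hf₁
  have h2 : AlgSt.RepByAlgSpWith (AlgSp.LocP @LocallyOfFinitePresentation) (BasedFunctor.comp a f) :=
    repByAlgSpWith_locP_comp Groth.Agent.Lib.Helper78.AlgSpLocPLofp.etLocalST_lofp
      (overCat_isFibGrpd U) h𝒴 a f hfp hf₂
  have e : AlgSt.Points.map f '' W =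
      AlgSt.Points.ofChart (BasedFunctor.comp a f) '' (AlgSt.Points.ofChart a ⁻¹' W) := by
    ext ζ
    constructor
    · rintro ⟨ξ, hξ, rfl⟩
      obtain ⟨s, rfl⟩ := surjective_ofChart h𝒴 a ha2 ξ
      exact ⟨s, hξ, ofChart_comp a f s⟩
    · rintro ⟨s, hs, rfl⟩
      exact ⟨AlgSt.Points.ofChart a s, hs, (ofChart_comp a f s).symm⟩
  rw [e]
  exact isOpenMap_ofChart h𝒳 _ h1 h2 _ (hW U a ha1)

/-- An open immersion is flat. -/
theorem repByAlgSpWith_flat_of_isOpenImm {f : 𝒴 ⥤ᵇ 𝒳} (hf : AlgSt.IsOpenImm f) :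
    AlgSt.RepByAlgSpWith (AlgSp.LocP @Flat) f :=
  repByAlgSpWith_congr _ _ (fun _ _ a ha =>
    locP_of_repWith_etale (fun k hk => by have : Etale k := hk; infer_instance)
      (Groth.Agent.Lib.Helper78.AlgSpLargestOpen.repWith_mono' (fun _ _ k hk => by
        have : IsOpenImmersion k := hk
        exact (inferInstance : Etale k)) ha)) hf

/-- An open immersion is locally of finite presentation. -/
theorem repByAlgSpWith_lofp_of_isOpenImm {f : 𝒴 ⥤ᵇ 𝒳} (hf : AlgSt.IsOpenImm f) :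
    AlgSt.RepByAlgSpWith (AlgSp.LocP @LocallyOfFinitePresentation) f :=
  repByAlgSpWith_congr _ _ (fun _ _ a ha =>
    locP_of_repWith_etale (fun k hk => by have : Etale k := hk; infer_instance)
      (Groth.Agent.Lib.Helper78.AlgSpLargestOpen.repWith_mono' (fun _ _ k hk => by
        have : IsOpenImmersion k := hk
        exact (inferInstance : Etale k)) ha)) hf

/-- The points of an open substack form an open subset. -/
theorem isOpen_range_points_map_of_isOpenImm (h𝒳 : FibCat.IsFibGrpd 𝒳.p) (h𝒴 : FibCat.IsFibGrpd 𝒴.p)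
    (hat : AlgSt.HasAtlas (AlgSp.LocP @Smooth) 𝒴) (f : 𝒴 ⥤ᵇ 𝒳) (hf : AlgSt.IsOpenImm f) :
    IsOpen (Set.range (AlgSt.Points.map f)) :=
  (isOpenMap_points_map h𝒳 h𝒴 hat f (repByAlgSpWith_flat_of_isOpenImm hf)
    (repByAlgSpWith_lofp_of_isOpenImm hf)).isOpen_range

/-- `S12862`. -/
theorem exists_finite_subcover_openSubstacks (h𝒳 : AlgSt.IsAlgStack Scheme.fppfPrecoverage 𝒳)
    (Q' : 𝒳.obj → Prop) (hQ' : AlgSt.IsOpenSubstack 𝒳 Q' Scheme.fppfPrecoverage)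
    (hqc : AlgSt.IsQuasiCompact (AlgSt.fullSub 𝒳 Q'))
    {ι : Type w} (Q : ι → 𝒳.obj → Prop) (hQ : ∀ i, AlgSt.IsOpenSubstack 𝒳 (Q i) Scheme.fppfPrecoverage)
    (hcov : Set.range (AlgSt.Points.map (AlgSt.subIncl 𝒳 Q')) ⊆
      ⋃ i, Set.range (AlgSt.Points.map (AlgSt.subIncl 𝒳 (Q i)))) :
    ∃ I' : Finset ι, Set.range (AlgSt.Points.map (AlgSt.subIncl 𝒳 Q')) ⊆
      ⋃ i ∈ I', Set.range (AlgSt.Points.map (AlgSt.subIncl 𝒳 (Q i))) := by
  have := compactSpace_points_of_isQuasiCompact hQ'.2.1.isStack.1 hQ'.2.1.atlas hqc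
  have hc : IsCompact (Set.range (AlgSt.Points.map (AlgSt.subIncl 𝒳 Q'))) :=
    isCompact_range (continuous_points_map h𝒳.atlas _)
  exact hc.elim_finite_subcover _
    (fun i => isOpen_range_points_map_of_isOpenImm h𝒳.isStack.1 (hQ i).2.1.isStack.1 (hQ i).2.1.atlas _
      (hQ i).2.2) hcov

/-- The base change of a morphism surjective on points is surjective on points. -/
theorem isSurjective_fpFst (h𝒳 : FibCat.IsFibGrpd 𝒳.p) (h𝒴 : FibCat.IsFibGrpd 𝒴.p)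
    (h𝒵 : FibCat.IsFibGrpd 𝒵.p) (g : 𝒵 ⥤ᵇ 𝒴) (f : 𝒳 ⥤ᵇ 𝒴) (hf : AlgSt.IsSurjective f) :
    AlgSt.IsSurjective (FibCat.fpFst g f) := by
  intro ζ
  obtain ⟨ξ, hξ⟩ := hf (AlgSt.Points.map g ζ)
  obtain ⟨w, hw1, -⟩ := exists_point_fp h𝒳 h𝒴 h𝒵 f g ζ ξ hξ.symm
  exact ⟨w, hw1⟩

/-- `S12985`. -/
theorem isQuasiCompactMor_of_surjective_comp
    (h𝒳 : AlgSt.IsAlgStack Scheme.fppfPrecoverage 𝒳) (h𝒴 : AlgSt.IsAlgStack Scheme.fppfPrecoverage 𝒴)
    (h𝒵 : AlgSt.IsAlgStack Scheme.fppfPrecoverage 𝒵)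
    (f : 𝒳 ⥤ᵇ 𝒴) (p : 𝒳 ⥤ᵇ 𝒵) (q : 𝒴 ⥤ᵇ 𝒵) (e : BasedFunctor.comp f q ≅ p)
    (hf : AlgSt.IsSurjective f) (hp : AlgSt.IsQuasiCompactMor Scheme.fppfPrecoverage p) :
    AlgSt.IsQuasiCompactMor Scheme.fppfPrecoverage q := by
  intro 𝒲 h𝒲 hqc z
  have h1 : AlgSt.IsQuasiCompact (FibCat.fp z p) := hp 𝒲 h𝒲 hqc z
  -- transfer along `p ≅ f ⋙ q`
  have h2 : AlgSt.IsQuasiCompact (FibCat.fp z (BasedFunctor.comp f q)) := by
    obtain ⟨d, hd, -, -⟩ := IsEquivOver.symm (fpMapRight_isEquivOver z p (BasedFunctor.id _)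
      (BasedFunctor.comp f q)
      (e : BasedFunctor.comp f q ≅ BasedFunctor.comp (BasedFunctor.id _) p) isEquivOver_id)
    exact isQuasiCompact_of_isEquivOver d hd h1
  have a1 : AlgSt.IsAlgStack Scheme.fppfPrecoverage (FibCat.fp z (BasedFunctor.comp f q)) :=
    isAlgStack_fp h𝒵.isStack h𝒵.diag h𝒲 h𝒳 z (BasedFunctor.comp f q)
  have a2 : AlgSt.IsAlgStack Scheme.fppfPrecoverage (FibCat.fp z q) :=
    isAlgStack_fp h𝒵.isStack h𝒵.diag h𝒲 h𝒴 z q
  -- `𝒲 ×_𝒵 𝒳 ⟶ 𝒲 ×_𝒵 𝒴` is surjective on points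
  have hs : AlgSt.IsSurjective (fpPasteRightFst z q f) := by
    have hfst := isSurjective_fpFst h𝒳.isStack.1 h𝒴.isStack.1 a2.isStack.1 (FibCat.fpSnd z q) f hf
    have heq := points_map_surjective_of_isEquivOver (fpPasteRight z q f) (fpPasteRight_isEquivOver z q f)
    have hcomp : AlgSt.Points.map (fpPasteRightFst z q f) =
        AlgSt.Points.map (FibCat.fpFst (FibCat.fpSnd z q) f) ∘ AlgSt.Points.map (fpPasteRight z q f) := by
      rw [← points_map_comp]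
      exact points_map_eq_of_iso (BasedNatIso.id _ : fpPasteRightFst z q f ≅
        BasedFunctor.comp (fpPasteRight z q f) (FibCat.fpFst (FibCat.fpSnd z q) f))
    change Function.Surjective (AlgSt.Points.map (fpPasteRightFst z q f))
    rw [hcomp]
    exact Function.Surjective.comp hfst heq
  exact isQuasiCompact_of_isSurjective a1.isStack.1 a1.atlas a2.isStack.1 a2.atlas _ hs h2

end Groth.Agent.Lib.Helper80
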