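import Groth.Agent.Lib.Helper80.AlgStPts10
import Groth.Agent.Lib.Helper80.AlgStStack

/-!
# Points of an algebraic space and points of its category (helper80)

`AlgSp.Points F ≃ₜ AlgSt.Points (ofSp F)` for an algebraic space `F`.
-/

set_option autoImplicit false
set_option backward.isDefEq.respectTransparency false

universe u

open CategoryTheory CategoryTheory.Functor CategoryTheory.Limits AlgebraicGeometry Opposite

namespace Groth.Agent.Lib.Helper80

open BasedFunctor

variable {S : Scheme.{u}} {F G : AlgSp.Sp S}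

/-- A field-valued point of a sheaf as a field-valued point of its category. -/
noncomputable def ofFieldPt (p : AlgSp.FieldPt F) : AlgSt.FPt (AlgSt.ofSp F) :=
  { K := p.K, str := p.str, obj := ⟨Over.mk p.str, p.val⟩, lies := rfl }

theorem rel_ofFieldPt {p q : AlgSp.FieldPt F} (h : AlgSp.FieldPt.Rel p q) :
    AlgSt.FPt.Rel (ofFieldPt p) (ofFieldPt q) := by
  obtain ⟨Ω, _, w, a, b, hab⟩ := h
  let r : AlgSt.FPt (AlgSt.ofSp F) :=
    { K := Ω, str := w, obj := ⟨Over.mk w, F.obj.map a.op p.val⟩, lies := rfl }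
  exact ⟨r, ⟨a, rfl⟩, ⟨b, hab.symm⟩, trivial⟩

/-- The comparison map from the points of a sheaf to the points of its category. -/
noncomputable def spToSt : AlgSp.Points F → AlgSt.Points (AlgSt.ofSp F) :=
  Quotient.lift (fun p => AlgSt.Points.mk (ofFieldPt p)) (fun _ _ h => AlgSt.Points.sound (rel_ofFieldPt h))

theorem spToSt_mk (p : AlgSp.FieldPt F) : spToSt (AlgSp.Points.mk p) = AlgSt.Points.mk (ofFieldPt p) := rfl

theorem spToSt_surjective : Function.Surjective (spToSt (F := F)) := by
  intro ξ
  obtain ⟨ω, rfl⟩ := AlgSt.Points.mk_surjective ξ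
  obtain ⟨K, str, ⟨T, σ⟩, lies⟩ := ω
  change T = Over.mk str at lies
  subst lies
  exact ⟨AlgSp.Points.mk ⟨K, str, σ⟩, rfl⟩

theorem spToSt_injective : Function.Injective (spToSt (F := F)) := by
  intro x y h
  induction x using AlgSp.Points.ind with
  | h p =>
    induction y using AlgSp.Points.ind with
    | h q =>
      rw [spToSt_mk, spToSt_mk] at h
      obtain ⟨r, m₁, m₂, -⟩ := (points_mk_eq_iff (ofPsh_isFibSetoid _).1 _ _).mp h
      obtain ⟨Ω, w, ⟨T, σ⟩, lies⟩ := r
      change T = Over.mk w at lies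
      subst lies
      apply AlgSp.Points.sound
      exact ⟨Ω, inferInstance, w, m₁.hom, m₂.hom, m₁.map_sec.trans m₂.map_sec.symm⟩

theorem spToSt_bijective : Function.Bijective (spToSt (F := F)) := ⟨spToSt_injective, spToSt_surjective⟩

theorem spToSt_ofPt {T : Over S} (g : (AlgSp.yon S).obj T ⟶ F) (t : ↥T.left) :
    spToSt (AlgSp.Points.ofPt g t) = AlgSt.Points.ofChart (ptFun g.hom) t := rfl

theorem spToSt_map (α : F ⟶ G) (x : AlgSp.Points F) :
    spToSt (AlgSp.Points.map α x) = AlgSt.Points.map (AlgSt.ofSpMap α) (spToSt x) := by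
  induction x using AlgSp.Points.ind with
  | h p => rfl

/-- The category of an algebraic space has a smooth surjective scheme chart. -/
theorem hasAtlas_ofSp (hF : AlgSp.IsAlgSpace F) : AlgSt.HasAtlas (AlgSp.LocP @Smooth) (AlgSt.ofSp F) := by
  obtain ⟨A, c, hc1, hc2⟩ := hF.atlas
  exact ⟨A, _, repByAlgSpWith_smooth_chart hF c hc1, repByAlgSpWith_surjective_chart hF c hc2⟩

/-- The two topologies on the points of an algebraic space agree. -/
theorem isOpen_preimage_spToSt_iff (hF : AlgSp.IsAlgSpace F) (W : Set (AlgSt.Points (AlgSt.ofSp F))) :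
    IsOpen (spToSt ⁻¹' W) ↔ IsOpen W := by
  constructor
  · intro h U x _
    rw [AlgSp.Points.isOpen_iff] at h
    let g : (AlgSp.yon S).obj U ⟶ F := ObjectProperty.homMk (classMap x)
    have e : AlgSt.Points.ofChart x = AlgSt.Points.ofChart (ptFun g.hom) := ofChart_congr (classIso x)
    rw [e]
    exact h U g
  · intro hW
    rw [AlgSp.Points.isOpen_iff]
    intro T g
    exact isOpen_preimage_ofChart (hasAtlas_ofSp hF) (ptFun g.hom) W hW

theorem isHomeomorph_spToSt (hF : AlgSp.IsAlgSpace F) : IsHomeomorph (spToSt (F := F)) where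
  continuous := continuous_def.mpr fun W hW => (isOpen_preimage_spToSt_iff hF W).mpr hW
  isOpenMap := fun V hV => by
    rw [← isOpen_preimage_spToSt_iff hF, Set.preimage_image_eq _ spToSt_injective]
    exact hV
  bijective := spToSt_bijective

/-- The homeomorphism between the points of an algebraic space and the points of its category. -/
noncomputable def spHomeo (hF : AlgSp.IsAlgSpace F) : AlgSp.Points F ≃ₜ AlgSt.Points (AlgSt.ofSp F) :=
  (isHomeomorph_spToSt hF).homeomorph

theorem spHomeo_apply (hF : AlgSp.IsAlgSpace F) (x : AlgSp.Points F) : spHomeo hF x = spToSt x := rfl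

/-- The category of an algebraic space is an algebraic stack. -/
theorem isAlgStack_ofSp (hF : AlgSp.IsAlgSpace F) :
    AlgSt.IsAlgStack Scheme.fppfPrecoverage (AlgSt.ofSp F) where
  isStack := isStack_ofSp F
  diag := repByAlgSp1_diag_of_forall (fun U x =>
    repByAlgSp1_of_repByAlgSp (repByAlgSp_overCat U) ⟨⟨F, hF⟩, BasedFunctor.id _, isEquivOver_id⟩ x)
  atlas := hasAtlas_ofSp hF

end Groth.Agent.Lib.Helper80
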