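import Groth.Agent.Lib.Helper80.AlgStQcMor4
import Groth.Agent.Lib.Helper80.AlgStSpPts
import Groth.Agent.Lib.Helper80.AlgStPts10

/-!
# Quasi-compactness of a morphism of algebraic stacks descends along fppf covers by algebraic spaces (helper80)
-/

set_option autoImplicit false
set_option backward.isDefEq.respectTransparency false

universe u

open CategoryTheory CategoryTheory.Functor CategoryTheory.Limits AlgebraicGeometry Opposite

namespace Groth.Agent.Lib.Helper80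

open BasedFunctor

variable {S : Scheme.{u}} {𝒳 𝒴 : AlgSt.Cat S}

/-- `S12989`. -/
theorem isQuasiCompactMor_of_fpFst_fppf_cover
    (h𝒳 : AlgSt.IsAlgStack Scheme.fppfPrecoverage 𝒳)
    (h𝒴 : AlgSt.IsAlgStack Scheme.fppfPrecoverage 𝒴)
    (f : 𝒳 ⥤ᵇ 𝒴)
    (W : AlgSp.Space S) (w : AlgSt.ofSp W.obj ⥤ᵇ 𝒴)
    (hw₁ : AlgSt.RepByAlgSpWith (AlgSp.LocP @Flat) w)
    (hw₂ : AlgSt.RepByAlgSpWith (AlgSp.LocP @LocallyOfFinitePresentation) w)
    (hw₃ : AlgSt.RepByAlgSpWith AlgSp.IsSurjectiveMor w)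
    (H : AlgSt.IsQuasiCompactMor Scheme.fppfPrecoverage (FibCat.fpFst w f)) :
    AlgSt.IsQuasiCompactMor Scheme.fppfPrecoverage f := by
  intro 𝒯 h𝒯 hqc z
  have gX := h𝒳.isStack.1
  have gY := h𝒴.isStack.1
  have gT := h𝒯.isStack.1
  have hW : AlgSt.IsAlgStack Scheme.fppfPrecoverage (AlgSt.ofSp W.obj) := isAlgStack_ofSp W.property
  have gW := hW.isStack.1
  have h𝒯' : AlgSt.IsAlgStack Scheme.fppfPrecoverage (FibCat.fp z w) :=
    isAlgStack_fp h𝒴.isStack h𝒴.diag h𝒯 hW z w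
  have gT' := h𝒯'.isStack.1
  obtain ⟨V, v, hv1, hv2⟩ := h𝒯'.atlas
  have hvfl : AlgSt.RepByAlgSpWith (AlgSp.LocP @Flat) v :=
    repByAlgSpWith_locP_mono (fun _ _ k hk => by
      have : Smooth k := hk
      exact (inferInstance : Flat k)) hv1
  have hvfp : AlgSt.RepByAlgSpWith (AlgSp.LocP @LocallyOfFinitePresentation) v :=
    repByAlgSpWith_locP_mono (fun _ _ k hk => by
      have : Smooth k := hk
      exact (inferInstance : LocallyOfFinitePresentation k)) hv1
  have hvopen : IsOpenMap (AlgSt.Points.ofChart v) := isOpenMap_ofChart gT' v hvfl hvfp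
  have hvsurj : Function.Surjective (AlgSt.Points.ofChart v) := surjective_ofChart gT' v hv2
  have hpopen : IsOpenMap (AlgSt.Points.map (FibCat.fpFst z w)) :=
    isOpenMap_points_map gT gT' h𝒯'.atlas (FibCat.fpFst z w)
      (repByAlgSpWith_fpFst _ z w hw₁) (repByAlgSpWith_fpFst _ z w hw₂)
  have hpsurj : Function.Surjective (AlgSt.Points.map (FibCat.fpFst z w)) :=
    isSurjective_fpFst gW gY gT z w (isSurjective_of_repByAlgSpWith gY w hw₃)
  let c : FibCat.overCat V ⥤ᵇ 𝒯 := BasedFunctor.comp v (FibCat.fpFst z w)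
  have hc : AlgSt.Points.ofChart c = AlgSt.Points.map (FibCat.fpFst z w) ∘ AlgSt.Points.ofChart v := by
    funext t
    exact ofChart_comp v (FibCat.fpFst z w) t
  have hcopen : IsOpenMap (AlgSt.Points.ofChart c) := by
    rw [hc]
    exact hpopen.comp hvopen
  have hcsurj : Function.Surjective (AlgSt.Points.ofChart c) := by
    rw [hc]
    exact hpsurj.comp hvsurj
  have := compactSpace_points_of_isQuasiCompact gT h𝒯.atlas hqc
  obtain ⟨V₀, j, hV₀, hj⟩ := exists_affine_surjective_refinement c hcopen hcsurj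
  let c₀ : FibCat.overCat V₀ ⥤ᵇ 𝒯 := BasedFunctor.comp (AlgSt.overMap j) c
  have hc₀ : AlgSt.IsSurjective c₀ := by
    intro ξ
    obtain ⟨t, ht⟩ := hj ξ
    exact ⟨AlgSt.Points.mk (chartPt V₀ t), ht⟩
  let u : FibCat.overCat V₀ ⥤ᵇ AlgSt.ofSp W.obj :=
    BasedFunctor.comp (BasedFunctor.comp (AlgSt.overMap j) v) (FibCat.fpSnd z w)
  have hV₀alg := isAlgStack_overCat V₀
  have h1 : AlgSt.IsQuasiCompact (FibCat.fp u (FibCat.fpFst w f)) :=
    H (FibCat.overCat V₀) hV₀alg (isQuasiCompact_overCat V₀) u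
  obtain ⟨d, hd, -, -⟩ := IsEquivOver.symm (fpPasteLeft_isEquivOver u w f)
  have h2 : AlgSt.IsQuasiCompact (FibCat.fp (BasedFunctor.comp u w) f) :=
    isQuasiCompact_of_isEquivOver d hd h1
  let i : BasedFunctor.comp u w ≅ BasedFunctor.comp (BasedFunctor.id _) (BasedFunctor.comp c₀ z) :=
    (whiskerLeftIso (BasedFunctor.comp (AlgSt.overMap j) v) (FibCat.fpIso z w)).symm
  have h3 : AlgSt.IsQuasiCompact (FibCat.fp (BasedFunctor.comp c₀ z) f) :=
    isQuasiCompact_of_isEquivOver _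
      (fpMapLeft_isEquivOver (BasedFunctor.comp c₀ z) f (BasedFunctor.id _) (BasedFunctor.comp u w) i
        isEquivOver_id) h2
  have hA := isAlgStack_fp h𝒴.isStack h𝒴.diag hV₀alg h𝒳 (BasedFunctor.comp c₀ z) f
  have hB := isAlgStack_fp h𝒴.isStack h𝒴.diag h𝒯 h𝒳 z f
  exact isQuasiCompact_of_isSurjective hA.isStack.1 hA.atlas hB.isStack.1 hB.atlas
    (fpPasteLeftSnd c₀ z f)
    (isSurjective_fpPasteLeftSnd gX gY gT (overCat_isFibGrpd V₀) c₀ z f hc₀) h3

end Groth.Agent.Lib.Helper80
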