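import Groth.Agent.Lib.Helper80.AlgStLocQ2

/-!
# Composition of chart squares of morphisms of stacks (helper80)
-/

set_option autoImplicit false
set_option backward.isDefEq.respectTransparency false

universe u

open CategoryTheory CategoryTheory.Functor CategoryTheory.Limits AlgebraicGeometry Opposite

namespace Groth.Agent.Lib.Helper80

open BasedFunctor

variable {S : Scheme.{u}} {𝒳 𝒴 𝒵 : AlgSt.Cat S}

/-- `overMap (h₁ ≫ h₂) ≅ overMap h₁ ⋙ overMap h₂`. -/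
def overMapCompIso {U V W : Over S} (h₁ : U ⟶ V) (h₂ : V ⟶ W) :
    AlgSt.overMap (h₁ ≫ h₂) ≅ BasedFunctor.comp (AlgSt.overMap h₁) (AlgSt.overMap h₂) :=
  BasedNatIso.mkNatIso
    (NatIso.ofComponents
      (fun x => Over.isoMk (Iso.refl _) (by
        change 𝟙 _ ≫ (x.hom ≫ h₁) ≫ h₂ = x.hom ≫ h₁ ≫ h₂
        rw [Category.id_comp, Category.assoc]))
      (by
        intro x y m
        apply Over.OverMorphism.ext
        change m.left ≫ 𝟙 _ = 𝟙 _ ≫ m.left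
        rw [Category.comp_id, Category.id_comp]))
    (fun x => by
      apply IsHomLift.of_fac (Over.forget W) _ _ rfl rfl
      change 𝟙 _ = eqToHom rfl ≫ 𝟙 _ ≫ eqToHom rfl
      simp)

theorem comp_comp_map_id_aux {C D : Type*} [Category C] [Category D] (F : D ⥤ C) {X Y : C} {d : D}
    (a : X ⟶ Y) (b : Y ⟶ F.obj d) : a ≫ b ≫ F.map (𝟙 d) = a ≫ b := by simp

variable {U V W : Over S} {x : FibCat.overCat U ⥤ᵇ 𝒳} {y : FibCat.overCat V ⥤ᵇ 𝒴}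
  {z : FibCat.overCat W ⥤ᵇ 𝒵} {f : 𝒳 ⥤ᵇ 𝒴} {g : 𝒴 ⥤ᵇ 𝒵} {h₁ : U ⟶ V} {h₂ : V ⟶ W}

/-- The 2-isomorphism of the composite of two chart squares. -/
def chartCompIso (α₁ : BasedFunctor.comp x f ≅ BasedFunctor.comp (AlgSt.overMap h₁) y)
    (α₂ : BasedFunctor.comp y g ≅ BasedFunctor.comp (AlgSt.overMap h₂) z) :
    BasedFunctor.comp x (BasedFunctor.comp f g) ≅ BasedFunctor.comp (AlgSt.overMap (h₁ ≫ h₂)) z :=
  (whiskerRightIso α₁ g : BasedFunctor.comp x (BasedFunctor.comp f g) ≅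
      BasedFunctor.comp (AlgSt.overMap h₁) (BasedFunctor.comp y g)) ≪≫
    (whiskerLeftIso (AlgSt.overMap h₁) α₂ : BasedFunctor.comp (AlgSt.overMap h₁) (BasedFunctor.comp y g) ≅
      BasedFunctor.comp (BasedFunctor.comp (AlgSt.overMap h₁) (AlgSt.overMap h₂)) z) ≪≫
    whiskerRightIso (overMapCompIso h₁ h₂).symm z

theorem chartCompIso_hom_app (α₁ : BasedFunctor.comp x f ≅ BasedFunctor.comp (AlgSt.overMap h₁) y)
    (α₂ : BasedFunctor.comp y g ≅ BasedFunctor.comp (AlgSt.overMap h₂) z) (u : (FibCat.overCat U).obj) :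
    (chartCompIso α₁ α₂).hom.toNatTrans.app u =
      g.map (α₁.hom.toNatTrans.app u) ≫ α₂.hom.toNatTrans.app ((AlgSt.overMap h₁).obj u) ≫
        z.map ((overMapCompIso h₁ h₂).inv.toNatTrans.app u) := rfl

/-- The composite chart `U ⟶ 𝒳 ×_𝒵 W` factors, up to the pasting equivalence, through `U ⟶ 𝒳 ×_𝒴 V` and a base
change of `V ⟶ 𝒴 ×_𝒵 W`. -/
def chartCompFactor (α₁ : BasedFunctor.comp x f ≅ BasedFunctor.comp (AlgSt.overMap h₁) y)
    (α₂ : BasedFunctor.comp y g ≅ BasedFunctor.comp (AlgSt.overMap h₂) z) :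
    BasedFunctor.comp (FibCat.fpLift x (AlgSt.overMap (h₁ ≫ h₂)) (chartCompIso α₁ α₂)) (fpPasteLeft f g z) ≅
      BasedFunctor.comp (FibCat.fpLift x (AlgSt.overMap h₁) α₁)
        (fpMapRight f (FibCat.fpFst g z) (FibCat.fpLift y (AlgSt.overMap h₂) α₂) y
          (BasedNatIso.id y : y ≅ BasedFunctor.comp (FibCat.fpLift y (AlgSt.overMap h₂) α₂) (FibCat.fpFst g z))) := by
  let Γc := FibCat.fpLift x (AlgSt.overMap (h₁ ≫ h₂)) (chartCompIso α₁ α₂)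
  let Γ₁ := FibCat.fpLift x (AlgSt.overMap h₁) α₁
  let Γ₂ := FibCat.fpLift y (AlgSt.overMap h₂) α₂
  let m := fpMapRight f (FibCat.fpFst g z) Γ₂ y
    (BasedNatIso.id y : y ≅ BasedFunctor.comp Γ₂ (FibCat.fpFst g z))
  let A := BasedFunctor.comp Γc (fpPasteLeft f g z)
  let B := BasedFunctor.comp Γ₁ m
  -- second components: functors into `𝒴 ×_𝒵 W`
  let i₂ : BasedFunctor.comp A (FibCat.fpSnd f (FibCat.fpFst g z)) ≅
      BasedFunctor.comp B (FibCat.fpSnd f (FibCat.fpFst g z)) :=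
    fpIsoMk
      (α₁ : BasedFunctor.comp (BasedFunctor.comp A (FibCat.fpSnd f (FibCat.fpFst g z))) (FibCat.fpFst g z) ≅
        BasedFunctor.comp (BasedFunctor.comp B (FibCat.fpSnd f (FibCat.fpFst g z))) (FibCat.fpFst g z))
      (overMapCompIso h₁ h₂ :
        BasedFunctor.comp (BasedFunctor.comp A (FibCat.fpSnd f (FibCat.fpFst g z))) (FibCat.fpSnd g z) ≅
        BasedFunctor.comp (BasedFunctor.comp B (FibCat.fpSnd f (FibCat.fpFst g z))) (FibCat.fpSnd g z))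
      (by
        intro u
        have e3 : (overMapCompIso h₁ h₂).inv.toNatTrans.app u ≫ (overMapCompIso h₁ h₂).hom.toNatTrans.app u =
            𝟙 _ := by
          have := congrArg (fun t => t.toNatTrans.app u) (overMapCompIso h₁ h₂).inv_hom_id
          exact this
        change g.map (α₁.hom.toNatTrans.app u) ≫ α₂.hom.toNatTrans.app ((AlgSt.overMap h₁).obj u) =
          (chartCompIso α₁ α₂).hom.toNatTrans.app u ≫ z.map ((overMapCompIso h₁ h₂).hom.toNatTrans.app u)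
        rw [chartCompIso_hom_app, Category.assoc, Category.assoc, ← z.toFunctor.map_comp, e3]
        exact (comp_comp_map_id_aux z.toFunctor _ _).symm)
  exact fpIsoMk
    (BasedNatIso.id _ : BasedFunctor.comp A (FibCat.fpFst f (FibCat.fpFst g z)) ≅
      BasedFunctor.comp B (FibCat.fpFst f (FibCat.fpFst g z)))
    i₂
    (by
      intro u
      have e1 : (B.obj u).obj.iso.hom = 𝟙 _ ≫ α₁.hom.toNatTrans.app u ≫ 𝟙 _ := rfl
      have e2 : (A.obj u).obj.iso.hom = 𝟙 _ := rfl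
      have e3 : (FibCat.fpFst g z).map (i₂.hom.toNatTrans.app u) = α₁.hom.toNatTrans.app u := rfl
      have e4 : f.map ((BasedNatIso.id (BasedFunctor.comp A (FibCat.fpFst f (FibCat.fpFst g z)))).hom.toNatTrans.app u) =
          𝟙 _ := f.toFunctor.map_id _
      rw [e1, e2, e3, e4]
      simp
      rfl)

/-- If `U ⟶ 𝒳 ×_𝒴 V` and `V ⟶ 𝒴 ×_𝒵 W` are smooth, so is `U ⟶ 𝒳 ×_𝒵 W` for the composite chart square. -/
theorem chartComp_smooth (h𝒳 : FibCat.IsFibGrpd 𝒳.p) (h𝒴 : FibCat.IsFibGrpd 𝒴.p)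
    (α₁ : BasedFunctor.comp x f ≅ BasedFunctor.comp (AlgSt.overMap h₁) y)
    (α₂ : BasedFunctor.comp y g ≅ BasedFunctor.comp (AlgSt.overMap h₂) z)
    (hΓ₁ : AlgSt.RepByAlgSpWith (AlgSp.LocP @Smooth) (FibCat.fpLift x (AlgSt.overMap h₁) α₁))
    (hΓ₂ : AlgSt.RepByAlgSpWith (AlgSp.LocP @Smooth) (FibCat.fpLift y (AlgSt.overMap h₂) α₂)) :
    AlgSt.RepByAlgSpWith (AlgSp.LocP @Smooth)
      (FibCat.fpLift x (AlgSt.overMap (h₁ ≫ h₂)) (chartCompIso α₁ α₂)) := by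
  have hQ := Groth.Agent.Lib.Helper78.AlgSpLocPSmooth.etLocalST_smooth
  have hm := repByAlgSpWith_fpMapRight (AlgSp.LocP @Smooth) f (FibCat.fpFst g z)
    (FibCat.fpLift y (AlgSt.overMap h₂) α₂) y
    (BasedNatIso.id y : y ≅ BasedFunctor.comp (FibCat.fpLift y (AlgSt.overMap h₂) α₂) (FibCat.fpFst g z)) hΓ₂
  have hB := repByAlgSpWith_locP_comp hQ (overCat_isFibGrpd U)
    (fp_isFibGrpd f y h𝒳 (overCat_isFibGrpd V) h𝒴) _ _ hΓ₁ hm
  exact (repByAlgSpWith_iff_of_square _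
    (BasedFunctor.comp (FibCat.fpLift x (AlgSt.overMap h₁) α₁)
      (fpMapRight f (FibCat.fpFst g z) (FibCat.fpLift y (AlgSt.overMap h₂) α₂) y
        (BasedNatIso.id y : y ≅ BasedFunctor.comp (FibCat.fpLift y (AlgSt.overMap h₂) α₂) (FibCat.fpFst g z))))
    (FibCat.fpLift x (AlgSt.overMap (h₁ ≫ h₂)) (chartCompIso α₁ α₂))
    (BasedFunctor.id _) (fpPasteLeft f g z) isEquivOver_id (fpPasteLeft_isEquivOver f g z)
    (chartCompFactor α₁ α₂ : _ ≅ BasedFunctor.comp (BasedFunctor.id _)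
      (BasedFunctor.comp (FibCat.fpLift x (AlgSt.overMap h₁) α₁)
      (fpMapRight f (FibCat.fpFst g z) (FibCat.fpLift y (AlgSt.overMap h₂) α₂) y
        (BasedNatIso.id y : y ≅ BasedFunctor.comp (FibCat.fpLift y (AlgSt.overMap h₂) α₂) (FibCat.fpFst g z)))))).mp hB

/-- Surjective version of `chartComp_smooth`. -/
theorem chartComp_surjective (h𝒳 : FibCat.IsFibGrpd 𝒳.p) (h𝒴 : FibCat.IsFibGrpd 𝒴.p)
    (α₁ : BasedFunctor.comp x f ≅ BasedFunctor.comp (AlgSt.overMap h₁) y)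
    (α₂ : BasedFunctor.comp y g ≅ BasedFunctor.comp (AlgSt.overMap h₂) z)
    (hΓ₁ : AlgSt.RepByAlgSpWith AlgSp.IsSurjectiveMor (FibCat.fpLift x (AlgSt.overMap h₁) α₁))
    (hΓ₂ : AlgSt.RepByAlgSpWith AlgSp.IsSurjectiveMor (FibCat.fpLift y (AlgSt.overMap h₂) α₂)) :
    AlgSt.RepByAlgSpWith AlgSp.IsSurjectiveMor
      (FibCat.fpLift x (AlgSt.overMap (h₁ ≫ h₂)) (chartCompIso α₁ α₂)) := by
  have hm := repByAlgSpWith_fpMapRight AlgSp.IsSurjectiveMor f (FibCat.fpFst g z)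
    (FibCat.fpLift y (AlgSt.overMap h₂) α₂) y
    (BasedNatIso.id y : y ≅ BasedFunctor.comp (FibCat.fpLift y (AlgSt.overMap h₂) α₂) (FibCat.fpFst g z)) hΓ₂
  have hB := repByAlgSpWith_isSurjectiveMor_comp (overCat_isFibGrpd U)
    (fp_isFibGrpd f y h𝒳 (overCat_isFibGrpd V) h𝒴) _ _ hΓ₁ hm
  exact (repByAlgSpWith_iff_of_square _
    (BasedFunctor.comp (FibCat.fpLift x (AlgSt.overMap h₁) α₁)
      (fpMapRight f (FibCat.fpFst g z) (FibCat.fpLift y (AlgSt.overMap h₂) α₂) y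
        (BasedNatIso.id y : y ≅ BasedFunctor.comp (FibCat.fpLift y (AlgSt.overMap h₂) α₂) (FibCat.fpFst g z))))
    (FibCat.fpLift x (AlgSt.overMap (h₁ ≫ h₂)) (chartCompIso α₁ α₂))
    (BasedFunctor.id _) (fpPasteLeft f g z) isEquivOver_id (fpPasteLeft_isEquivOver f g z)
    (chartCompFactor α₁ α₂ : _ ≅ BasedFunctor.comp (BasedFunctor.id _)
      (BasedFunctor.comp (FibCat.fpLift x (AlgSt.overMap h₁) α₁)
      (fpMapRight f (FibCat.fpFst g z) (FibCat.fpLift y (AlgSt.overMap h₂) α₂) y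
        (BasedNatIso.id y : y ≅ BasedFunctor.comp (FibCat.fpLift y (AlgSt.overMap h₂) α₂) (FibCat.fpFst g z)))))).mp hB

/-- A tower of smooth chart squares for a composable pair of morphisms of algebraic stacks. -/
theorem exists_chart_tower (h𝒳 : AlgSt.IsAlgStack Scheme.fppfPrecoverage 𝒳)
    (h𝒴 : AlgSt.IsAlgStack Scheme.fppfPrecoverage 𝒴) (h𝒵 : AlgSt.IsAlgStack Scheme.fppfPrecoverage 𝒵)
    (f : 𝒳 ⥤ᵇ 𝒴) (g : 𝒴 ⥤ᵇ 𝒵) :
    ∃ (U V W : Over S) (x : FibCat.overCat U ⥤ᵇ 𝒳) (y : FibCat.overCat V ⥤ᵇ 𝒴)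
      (z : FibCat.overCat W ⥤ᵇ 𝒵) (h₁ : U ⟶ V) (h₂ : V ⟶ W)
      (α₁ : BasedFunctor.comp x f ≅ BasedFunctor.comp (AlgSt.overMap h₁) y)
      (α₂ : BasedFunctor.comp y g ≅ BasedFunctor.comp (AlgSt.overMap h₂) z),
      (AlgSt.RepByAlgSpWith (AlgSp.LocP @Smooth) x ∧ AlgSt.RepByAlgSpWith AlgSp.IsSurjectiveMor x) ∧
      (AlgSt.RepByAlgSpWith (AlgSp.LocP @Smooth) y ∧ AlgSt.RepByAlgSpWith AlgSp.IsSurjectiveMor y) ∧
      (AlgSt.RepByAlgSpWith (AlgSp.LocP @Smooth) z ∧ AlgSt.RepByAlgSpWith AlgSp.IsSurjectiveMor z) ∧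
      (AlgSt.RepByAlgSpWith (AlgSp.LocP @Smooth) (FibCat.fpLift x (AlgSt.overMap h₁) α₁) ∧
        AlgSt.RepByAlgSpWith AlgSp.IsSurjectiveMor (FibCat.fpLift x (AlgSt.overMap h₁) α₁)) ∧
      (AlgSt.RepByAlgSpWith (AlgSp.LocP @Smooth) (FibCat.fpLift y (AlgSt.overMap h₂) α₂) ∧
        AlgSt.RepByAlgSpWith AlgSp.IsSurjectiveMor (FibCat.fpLift y (AlgSt.overMap h₂) α₂)) ∧
      (AlgSt.RepByAlgSpWith (AlgSp.LocP @Smooth)
          (FibCat.fpLift x (AlgSt.overMap (h₁ ≫ h₂)) (chartCompIso α₁ α₂)) ∧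
        AlgSt.RepByAlgSpWith AlgSp.IsSurjectiveMor
          (FibCat.fpLift x (AlgSt.overMap (h₁ ≫ h₂)) (chartCompIso α₁ α₂))) := by
  obtain ⟨W, z, hz1, hz2⟩ := h𝒵.atlas
  obtain ⟨V, y, h₂, α₂, hy1, hΓ₂, hΓ₂', hy2⟩ := exists_chart_over h𝒴 h𝒵 g W z hz1
  obtain ⟨U, x, h₁, α₁, hx1, hΓ₁, hΓ₁', hx2⟩ := exists_chart_over h𝒳 h𝒴 f V y hy1
  exact ⟨U, V, W, x, y, z, h₁, h₂, α₁, α₂, ⟨hx1, hx2 (hy2 hz2)⟩, ⟨hy1, hy2 hz2⟩, ⟨hz1, hz2⟩, ⟨hΓ₁, hΓ₁'⟩,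
    ⟨hΓ₂, hΓ₂'⟩, chartComp_smooth h𝒳.isStack.1 h𝒴.isStack.1 α₁ α₂ hΓ₁ hΓ₂,
    chartComp_surjective h𝒳.isStack.1 h𝒴.isStack.1 α₁ α₂ hΓ₁' hΓ₂'⟩

end Groth.Agent.Lib.Helper80
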