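import Groth.Agent.Lib.Helper80.AlgStLocQ7
import Groth.Agent.Lib.Helper80.AlgStQcMor5
import Groth.Agent.Lib.Helper80.AlgStPsh4
import Groth.Agent.Lib.Helper80.AlgStBC
import Groth.Agent.Lib.Helper78.AlgSpLocP3
import Groth.Agent.S13038

/-!
# Flat / locally of finite type morphisms of algebraic stacks: descent along flat surjective base changes;
quasi-compactness descends along fppf covers by algebraic stacks (helper80)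
-/

set_option autoImplicit false
set_option backward.isDefEq.respectTransparency false

universe u

open CategoryTheory CategoryTheory.Functor CategoryTheory.Limits AlgebraicGeometry Opposite

namespace Groth.Agent.Lib.Helper80

open BasedFunctor

variable {S : Scheme.{u}} {𝒳 𝒴 𝒵 : AlgSt.Cat S}

/-- `LocQ P` is invariant under precomposition with an equivalence and under 2-isomorphism. -/
theorem locQ_of_equiv_comp (P : MorphismProperty (AlgSp.Sp S)) {𝒲 𝒲' : AlgSt.Cat S} (e : 𝒲 ⥤ᵇ 𝒲')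
    (he : FibCat.IsEquivOver e) (g : 𝒲' ⥤ᵇ 𝒴) (f : 𝒲 ⥤ᵇ 𝒴) (i : f ≅ BasedFunctor.comp e g)
    (hg : AlgSt.LocQ P g) : AlgSt.LocQ P f := by
  obtain ⟨U, V, x, y, h, α, hx1, hx2, hy1, hP⟩ := hg
  obtain ⟨d, hd, -, ⟨ε⟩⟩ := IsEquivOver.symm he
  refine ⟨U, V, BasedFunctor.comp x d, y, h, ?_, ?_, ?_, hy1, hP⟩
  · exact (whiskerLeftIso (BasedFunctor.comp x d) i : _ ≅
        BasedFunctor.comp x (BasedFunctor.comp (BasedFunctor.comp d e) g)) ≪≫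
      (whiskerLeftIso x (whiskerRightIso ε g) : _ ≅ BasedFunctor.comp x g) ≪≫ α
  · exact (repByAlgSpWith_iff_of_square _ (BasedFunctor.comp x d) x (BasedFunctor.id _) d
      isEquivOver_id hd (BasedNatIso.id _)).mpr hx1
  · exact (repByAlgSpWith_iff_of_square _ (BasedFunctor.comp x d) x (BasedFunctor.id _) d
      isEquivOver_id hd (BasedNatIso.id _)).mpr hx2

section LocP

variable {Q : MorphismProperty Scheme.{u}} (hQe : Groth.Agent.Lib.Helper78.AlgSpLocP.EtLocalST Q)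

include hQe in
theorem locP_comp_alg [Q.IsStableUnderComposition] :
    ∀ ⦃X₁ Y₁ Z₁ : AlgSp.Sp S⦄, AlgSp.IsAlgSpace X₁ → AlgSp.IsAlgSpace Y₁ → AlgSp.IsAlgSpace Z₁ →
      ∀ (a : X₁ ⟶ Y₁) (b : Y₁ ⟶ Z₁), AlgSp.LocP Q a → AlgSp.LocP Q b → AlgSp.LocP Q (a ≫ b) :=
  fun _ _ _ _ hY _ a b ha hb => Groth.Agent.Lib.Helper78.AlgSpLocP.locP_comp hQe a b hY.atlas ha hb

include hQe in
theorem locP_baseChange_alg [Q.IsStableUnderBaseChange] :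
    ∀ ⦃X₁ Y₁ X₂ Y₂ : AlgSp.Sp S⦄, AlgSp.IsAlgSpace X₁ → AlgSp.IsAlgSpace Y₁ → AlgSp.IsAlgSpace X₂ →
      AlgSp.IsAlgSpace Y₂ → ∀ (a : X₁ ⟶ Y₁) (b : Y₂ ⟶ Y₁) (a' : X₂ ⟶ Y₂) (b' : X₂ ⟶ X₁),
      IsPullback b' a' a b → AlgSp.LocP Q a → AlgSp.LocP Q a' :=
  fun _ _ _ _ hX hY _ _ _ _ _ _ sq ha =>
    Groth.Agent.Lib.Helper78.AlgSpLocP.locP_of_isPullback hQe sq
      (Groth.Agent.Lib.Helper78.AlgSpFibre.repAll_of_isAlgSpace hY) hX.atlas hY.atlas ha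

end LocP

/-- The hypothesis on `fpFst z f`, moved to the swapped fibre product and composed with `z`. -/
theorem locQ_fpFst_comp_of_locQ_fpFst (P : MorphismProperty (AlgSp.Sp S)) (hP : AlgSp.IsSmoothLocalST P)
    (hPc : ∀ ⦃X₁ Y₁ Z₁ : AlgSp.Sp S⦄, AlgSp.IsAlgSpace X₁ → AlgSp.IsAlgSpace Y₁ → AlgSp.IsAlgSpace Z₁ →
      ∀ (a : X₁ ⟶ Y₁) (b : Y₁ ⟶ Z₁), P a → P b → P (a ≫ b))
    (h𝒳 : AlgSt.IsAlgStack Scheme.fppfPrecoverage 𝒳) (h𝒴 : AlgSt.IsAlgStack Scheme.fppfPrecoverage 𝒴)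
    (h𝒵 : AlgSt.IsAlgStack Scheme.fppfPrecoverage 𝒵) (f : 𝒳 ⥤ᵇ 𝒴) (z : 𝒵 ⥤ᵇ 𝒴)
    (hz : AlgSt.LocQ P z) (hp : AlgSt.LocQ P (FibCat.fpFst z f)) :
    AlgSt.LocQ P (BasedFunctor.comp (FibCat.fpFst f z) f) := by
  have hfp := isAlgStack_fp h𝒴.isStack h𝒴.diag h𝒳 h𝒵 f z
  have h1 : AlgSt.LocQ P (FibCat.fpSnd f z) :=
    locQ_of_equiv_comp P (fpSwap f z) (fpSwap_isEquivOver f z) (FibCat.fpFst z f) (FibCat.fpSnd f z)
      (BasedNatIso.id _) hp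
  have h2 : AlgSt.LocQ P (BasedFunctor.comp (FibCat.fpSnd f z) z) :=
    Groth.Agent.S13038.result S P hP hPc _ _ _ hfp h𝒵 h𝒴 (FibCat.fpSnd f z) z h1 hz
  exact locQ_of_equiv_comp P (BasedFunctor.id _) isEquivOver_id
    (BasedFunctor.comp (FibCat.fpSnd f z) z) (BasedFunctor.comp (FibCat.fpFst f z) f)
    (FibCat.fpIso f z) h2

/-- `S13003`. -/
theorem locQ_flat_of_fpFst_of_surjective_flat (h𝒳 : AlgSt.IsAlgStack Scheme.fppfPrecoverage 𝒳)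
    (h𝒴 : AlgSt.IsAlgStack Scheme.fppfPrecoverage 𝒴) (h𝒵 : AlgSt.IsAlgStack Scheme.fppfPrecoverage 𝒵)
    (f : 𝒳 ⥤ᵇ 𝒴) (z : 𝒵 ⥤ᵇ 𝒴) (hz₁ : AlgSt.LocQ (AlgSp.LocP @Flat) z) (hz₂ : AlgSt.IsSurjective z)
    (hp : AlgSt.LocQ (AlgSp.LocP @Flat) (FibCat.fpFst z f)) : AlgSt.LocQ (AlgSp.LocP @Flat) f := by
  have hQe := Groth.Agent.Lib.Helper78.AlgSpLocPFlat.etLocalST_flat
  have hfp := isAlgStack_fp h𝒴.isStack h𝒴.diag h𝒳 h𝒵 f z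
  have h1 : AlgSt.LocQ (AlgSp.LocP @Flat) (BasedFunctor.comp (FibCat.fpFst f z) f) :=
    locQ_fpFst_comp_of_locQ_fpFst _ isSmoothLocalST_flat (locP_comp_alg hQe) h𝒳 h𝒴 h𝒵 f z hz₁ hp
  have h2 : AlgSt.LocQ (AlgSp.LocP @Flat) (FibCat.fpFst f z) :=
    locQ_baseChange _ isSmoothLocalST_flat (locP_baseChange_alg hQe) h𝒵 h𝒴 h𝒳 z f hz₁
  have h3 : AlgSt.IsSurjective (FibCat.fpFst f z) :=
    isSurjective_fpFst h𝒵.isStack.1 h𝒴.isStack.1 h𝒳.isStack.1 f z hz₂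
  exact locQ_flat_of_comp_of_surjective_flat hfp h𝒳 h𝒴 (FibCat.fpFst f z) f h2 h3 h1

/-- Locally of finite presentation implies locally of finite type, on chart squares. -/
theorem locQ_loft_of_locQ_lofp {f : 𝒳 ⥤ᵇ 𝒴} (hf : AlgSt.LocQ (AlgSp.LocP @LocallyOfFinitePresentation) f) :
    AlgSt.LocQ (AlgSp.LocP @LocallyOfFiniteType) f := by
  obtain ⟨U, V, x, y, h, α, hx1, hx2, hy1, hP⟩ := hf
  refine ⟨U, V, x, y, h, α, hx1, hx2, hy1, locP_mono' (fun k hk => ?_) hP⟩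
  have : LocallyOfFinitePresentation k := hk
  exact inferInstance

/-- `S13000` (for a cover by an algebraic stack, on chart squares). -/
theorem locQ_loft_of_fpFst_of_fppf (h𝒳 : AlgSt.IsAlgStack Scheme.fppfPrecoverage 𝒳)
    (h𝒴 : AlgSt.IsAlgStack Scheme.fppfPrecoverage 𝒴) (h𝒵 : AlgSt.IsAlgStack Scheme.fppfPrecoverage 𝒵)
    (f : 𝒳 ⥤ᵇ 𝒴) (z : 𝒵 ⥤ᵇ 𝒴) (hz₁ : AlgSt.LocQ (AlgSp.LocP @Flat) z)
    (hz₂ : AlgSt.LocQ (AlgSp.LocP @LocallyOfFinitePresentation) z) (hz₃ : AlgSt.IsSurjective z)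
    (hp : AlgSt.LocQ (AlgSp.LocP @LocallyOfFiniteType) (FibCat.fpFst z f)) :
    AlgSt.LocQ (AlgSp.LocP @LocallyOfFiniteType) f := by
  have hQe := Groth.Agent.Lib.Helper78.AlgSpLocPLoft.etLocalST_loft
  have hQe' := Groth.Agent.Lib.Helper78.AlgSpLocPFlat.etLocalST_flat
  have hQe'' := Groth.Agent.Lib.Helper78.AlgSpLocPLofp.etLocalST_lofp
  have hfp := isAlgStack_fp h𝒴.isStack h𝒴.diag h𝒳 h𝒵 f z
  have h1 : AlgSt.LocQ (AlgSp.LocP @LocallyOfFiniteType) (BasedFunctor.comp (FibCat.fpFst f z) f) :=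
    locQ_fpFst_comp_of_locQ_fpFst _ isSmoothLocalST_loft (locP_comp_alg hQe) h𝒳 h𝒴 h𝒵 f z
      (locQ_loft_of_locQ_lofp hz₂) hp
  have h2 : AlgSt.LocQ (AlgSp.LocP @Flat) (FibCat.fpFst f z) :=
    locQ_baseChange _ isSmoothLocalST_flat (locP_baseChange_alg hQe') h𝒵 h𝒴 h𝒳 z f hz₁
  have h2' : AlgSt.LocQ (AlgSp.LocP @LocallyOfFinitePresentation) (FibCat.fpFst f z) :=
    locQ_baseChange _ isSmoothLocalST_lofp (locP_baseChange_alg hQe'') h𝒵 h𝒴 h𝒳 z f hz₂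
  have h3 : AlgSt.IsSurjective (FibCat.fpFst f z) :=
    isSurjective_fpFst h𝒵.isStack.1 h𝒴.isStack.1 h𝒳.isStack.1 f z hz₃
  exact locQ_loft_of_comp_of_fppf hfp h𝒳 h𝒴 (FibCat.fpFst f z) f h2 h2' h3 h1

end Groth.Agent.Lib.Helper80
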