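import Groth.Agent.Lib.Helper80.AlgStFp
import Groth.Agent.Lib.Helper80.FibCat21

/-!
# Invariance of `RepByAlgSpWith`, `HasAtlas`, `IsAlgStack`, `IsDM` under equivalences over `(Sch/S)`
(helper80)
-/

set_option autoImplicit false
set_option backward.isDefEq.respectTransparency false

universe u

open CategoryTheory CategoryTheory.Functor CategoryTheory.Limits AlgebraicGeometry Opposite

namespace Groth.Agent.Lib.Helper80

open BasedFunctor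

variable {S : Scheme.{u}}

section Square

variable {𝒳 𝒴 𝒳' 𝒴' : AlgSt.Cat S}

theorem repWith_square_key (P : MorphismProperty (AlgSp.Sp S))
    (f : 𝒳 ⥤ᵇ 𝒴) (f' : 𝒳' ⥤ᵇ 𝒴') (a : 𝒳' ⥤ᵇ 𝒳) (b : 𝒴' ⥤ᵇ 𝒴)
    (ha : FibCat.IsEquivOver a) (hb : FibCat.IsEquivOver b)
    (e : BasedFunctor.comp f' b ≅ BasedFunctor.comp a f)
    {U : Over S} (y' : FibCat.overCat U ⥤ᵇ 𝒴') :
    (∃ (F : AlgSp.Space S) (e : AlgSt.ofSp F.obj ⥤ᵇ FibCat.fp y' f'), FibCat.IsEquivOver e ∧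
        P (AlgSt.spMapOfOver (BasedFunctor.comp e (FibCat.fpFst y' f')))) ↔
      (∃ (F : AlgSp.Space S) (e : AlgSt.ofSp F.obj ⥤ᵇ FibCat.fp (BasedFunctor.comp y' b) f),
        FibCat.IsEquivOver e ∧
        P (AlgSt.spMapOfOver (BasedFunctor.comp e (FibCat.fpFst (BasedFunctor.comp y' b) f)))) := by
  obtain ⟨hbfull, hbfaith, -⟩ := IsEquivOver.isFFEssSurjOver hb
  exact repWith_transfer P (FibCat.fpFst y' f') (FibCat.fpFst (BasedFunctor.comp y' b) f)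
    (fpMap (BasedFunctor.comp y' b) f y' f' (BasedFunctor.id _) a b (BasedNatIso.id _) e)
    (fpMap_isEquivOver (BasedFunctor.comp y' b) f y' f' (BasedFunctor.id _) a b
      (BasedNatIso.id _) e isEquivOver_id ha) (BasedNatIso.id _)

/-- Invariance of `RepByAlgSpWith P` under a 2-commutative square whose horizontal arrows are
equivalences over `(Sch/S)`. -/
theorem repByAlgSpWith_iff_of_square (P : MorphismProperty (AlgSp.Sp S))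
    (f : 𝒳 ⥤ᵇ 𝒴) (f' : 𝒳' ⥤ᵇ 𝒴') (a : 𝒳' ⥤ᵇ 𝒳) (b : 𝒴' ⥤ᵇ 𝒴)
    (ha : FibCat.IsEquivOver a) (hb : FibCat.IsEquivOver b)
    (e : BasedFunctor.comp f' b ≅ BasedFunctor.comp a f) :
    AlgSt.RepByAlgSpWith P f ↔ AlgSt.RepByAlgSpWith P f' := by
  constructor
  · intro hf U y'
    exact (repWith_square_key P f f' a b ha hb e y').mpr (hf U (BasedFunctor.comp y' b))
  · intro hf' U y
    obtain ⟨b', hb', -, ⟨ε⟩⟩ := IsEquivOver.symm hb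
    have h1 := (repWith_square_key P f f' a b ha hb e (BasedFunctor.comp y b')).mp
      (hf' U (BasedFunctor.comp y b'))
    exact (repWith_transfer P
      (FibCat.fpFst (BasedFunctor.comp (BasedFunctor.comp y b') b) f) (FibCat.fpFst y f)
      (fpMapLeft y f (BasedFunctor.id _) (BasedFunctor.comp (BasedFunctor.comp y b') b)
        (whiskerLeftIso y ε))
      (fpMapLeft_isEquivOver y f (BasedFunctor.id _)
        (BasedFunctor.comp (BasedFunctor.comp y b') b) (whiskerLeftIso y ε) isEquivOver_id)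
      (BasedNatIso.id _)).mp h1

theorem repByAlgSp1_iff_repByAlgSpWith_top (f : 𝒳 ⥤ᵇ 𝒴) :
    AlgSt.RepByAlgSp1 f ↔ AlgSt.RepByAlgSpWith ⊤ f := by
  constructor
  · intro h U y
    obtain ⟨F, e, he⟩ := h U y
    exact ⟨F, e, he, trivial⟩
  · intro h U y
    obtain ⟨F, e, he, -⟩ := h U y
    exact ⟨F, e, he⟩

theorem repByAlgSp1_iff_of_square
    (f : 𝒳 ⥤ᵇ 𝒴) (f' : 𝒳' ⥤ᵇ 𝒴') (a : 𝒳' ⥤ᵇ 𝒳) (b : 𝒴' ⥤ᵇ 𝒴)
    (ha : FibCat.IsEquivOver a) (hb : FibCat.IsEquivOver b)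
    (e : BasedFunctor.comp f' b ≅ BasedFunctor.comp a f) :
    AlgSt.RepByAlgSp1 f ↔ AlgSt.RepByAlgSp1 f' := by
  rw [repByAlgSp1_iff_repByAlgSpWith_top, repByAlgSp1_iff_repByAlgSpWith_top]
  exact repByAlgSpWith_iff_of_square ⊤ f f' a b ha hb e

end Square

section Invariance

variable {𝒳 𝒴 : AlgSt.Cat S}

theorem hasAtlas_of_isEquivOver (P : MorphismProperty (AlgSp.Sp S)) (e : 𝒳 ⥤ᵇ 𝒴)
    (he : FibCat.IsEquivOver e) (h : AlgSt.HasAtlas P 𝒳) : AlgSt.HasAtlas P 𝒴 := by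
  obtain ⟨U, x, h1, h2⟩ := h
  refine ⟨U, BasedFunctor.comp x e, ?_, ?_⟩
  · exact (repByAlgSpWith_iff_of_square P (BasedFunctor.comp x e) x (BasedFunctor.id _) e
      isEquivOver_id he (BasedNatIso.id _)).mpr h1
  · exact (repByAlgSpWith_iff_of_square _ (BasedFunctor.comp x e) x (BasedFunctor.id _) e
      isEquivOver_id he (BasedNatIso.id _)).mpr h2

theorem hasAtlas_iff_of_isEquivOver (P : MorphismProperty (AlgSp.Sp S)) (e : 𝒳 ⥤ᵇ 𝒴)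
    (he : FibCat.IsEquivOver e) : AlgSt.HasAtlas P 𝒳 ↔ AlgSt.HasAtlas P 𝒴 := by
  obtain ⟨e', he', -, -⟩ := IsEquivOver.symm he
  exact ⟨hasAtlas_of_isEquivOver P e he, hasAtlas_of_isEquivOver P e' he'⟩

/-- `e × e : 𝒳 ×_C 𝒳 ⟶ 𝒴 ×_C 𝒴`. -/
def sqMap (e : 𝒳 ⥤ᵇ 𝒴) : FibCat.fp (FibCat.toSelf 𝒳) (FibCat.toSelf 𝒳) ⥤ᵇ
    FibCat.fp (FibCat.toSelf 𝒴) (FibCat.toSelf 𝒴) :=
  fpMap (FibCat.toSelf 𝒴) (FibCat.toSelf 𝒴) (FibCat.toSelf 𝒳) (FibCat.toSelf 𝒳) e e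
    (BasedFunctor.id _) (selfOverIso _ _) (selfOverIso _ _)

theorem sqMap_isEquivOver (e : 𝒳 ⥤ᵇ 𝒴) (he : FibCat.IsEquivOver e) :
    FibCat.IsEquivOver (sqMap e) :=
  fpMap_isEquivOver _ _ _ _ e e (BasedFunctor.id _) (selfOverIso _ _) (selfOverIso _ _) he he

/-- The diagonal commutes with `e × e`. -/
def diagSqIso (e : 𝒳 ⥤ᵇ 𝒴) :
    BasedFunctor.comp (FibCat.diag (FibCat.toSelf 𝒳)) (sqMap e) ≅
      BasedFunctor.comp e (FibCat.diag (FibCat.toSelf 𝒴)) :=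
  sqIsoMk (BasedNatIso.id _) (BasedNatIso.id _)

theorem repByAlgSp1_diag_iff_of_isEquivOver (e : 𝒳 ⥤ᵇ 𝒴) (he : FibCat.IsEquivOver e) :
    AlgSt.RepByAlgSp1 (FibCat.diag (FibCat.toSelf 𝒳)) ↔
      AlgSt.RepByAlgSp1 (FibCat.diag (FibCat.toSelf 𝒴)) :=
  (repByAlgSp1_iff_of_square (FibCat.diag (FibCat.toSelf 𝒴)) (FibCat.diag (FibCat.toSelf 𝒳)) e
    (sqMap e) he (sqMap_isEquivOver e he) (diagSqIso e)).symm

theorem isAlgStack_iff_of_isEquivOver (K : Precoverage Scheme.{u}) (e : 𝒳 ⥤ᵇ 𝒴)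
    (he : FibCat.IsEquivOver e) : AlgSt.IsAlgStack K 𝒳 ↔ AlgSt.IsAlgStack K 𝒴 := by
  constructor
  · rintro ⟨h1, h2, h3⟩
    exact ⟨(isStack_iff_of_isEquivOver _ e he).mp h1,
      (repByAlgSp1_diag_iff_of_isEquivOver e he).mp h2,
      (hasAtlas_iff_of_isEquivOver _ e he).mp h3⟩
  · rintro ⟨h1, h2, h3⟩
    exact ⟨(isStack_iff_of_isEquivOver _ e he).mpr h1,
      (repByAlgSp1_diag_iff_of_isEquivOver e he).mpr h2,
      (hasAtlas_iff_of_isEquivOver _ e he).mpr h3⟩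

theorem isDM_iff_of_isEquivOver (K : Precoverage Scheme.{u}) (e : 𝒳 ⥤ᵇ 𝒴)
    (he : FibCat.IsEquivOver e) : AlgSt.IsDM K 𝒳 ↔ AlgSt.IsDM K 𝒴 := by
  unfold AlgSt.IsDM
  rw [isAlgStack_iff_of_isEquivOver K e he, hasAtlas_iff_of_isEquivOver _ e he]

end Invariance

end Groth.Agent.Lib.Helper80
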