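import Groth.Agent.Lib.Helper80.AlgStQcMor
import Groth.Agent.Lib.Helper80.FibCat20
import Groth.Agent.Lib.Helper80.AlgStFp2

/-!
# Quasi-compact morphisms of algebraic stacks: cancellation and quasi-separated targets (helper80)
-/

set_option autoImplicit false
set_option backward.isDefEq.respectTransparency false

universe u

open CategoryTheory CategoryTheory.Functor CategoryTheory.Limits AlgebraicGeometry Opposite

namespace Groth.Agent.Lib.Helper80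

open BasedFunctor

variable {S : Scheme.{u}} {𝒳 𝒴 𝒵 : AlgSt.Cat S}

/-- The slice `(Sch/U)` is an algebraic stack. -/
theorem isAlgStack_overCat (U : Over S) : AlgSt.IsAlgStack Scheme.fppfPrecoverage (FibCat.overCat U) :=
  (isAlgStack_iff_of_isEquivOver _ (AlgSt.toOverCat U) (toOverCat_isEquivOver U)).mp
    (isAlgStack_ofSp (AlgSp.IsAlgSpace.yon_obj U))

/-- The projection to the second factor is surjective on points when the first leg is. -/
theorem isSurjective_fpSnd (h𝒳 : FibCat.IsFibGrpd 𝒳.p) (h𝒴 : FibCat.IsFibGrpd 𝒴.p)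
    (h𝒵 : FibCat.IsFibGrpd 𝒵.p) (g : 𝒵 ⥤ᵇ 𝒴) (f : 𝒳 ⥤ᵇ 𝒴) (hg : AlgSt.IsSurjective g) :
    AlgSt.IsSurjective (FibCat.fpSnd g f) := by
  intro ξ
  obtain ⟨ζ, hζ⟩ := hg (AlgSt.Points.map f ξ)
  obtain ⟨w, -, hw2⟩ := exists_point_fp h𝒳 h𝒴 h𝒵 f g ζ ξ hζ
  exact ⟨w, hw2⟩

/-- `S12986`. -/
theorem isQuasiCompactMor_of_comp_of_isQuasiSeparatedMor
    (h𝒳 : AlgSt.IsAlgStack Scheme.fppfPrecoverage 𝒳) (h𝒴 : AlgSt.IsAlgStack Scheme.fppfPrecoverage 𝒴)
    (h𝒵 : AlgSt.IsAlgStack Scheme.fppfPrecoverage 𝒵) (f : 𝒳 ⥤ᵇ 𝒴) (g : 𝒴 ⥤ᵇ 𝒵)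
    (hfg : AlgSt.IsQuasiCompactMor Scheme.fppfPrecoverage (BasedFunctor.comp f g))
    (hg : AlgSt.IsQuasiSeparatedMor g) : AlgSt.IsQuasiCompactMor Scheme.fppfPrecoverage f := by
  intro 𝒲 h𝒲 hqc z
  have h1 : AlgSt.IsQuasiCompact (FibCat.fp (BasedFunctor.comp z g) (BasedFunctor.comp f g)) :=
    hfg 𝒲 h𝒲 hqc (BasedFunctor.comp z g)
  have a1 : AlgSt.IsAlgStack Scheme.fppfPrecoverage
      (FibCat.fp (BasedFunctor.comp z g) (BasedFunctor.comp f g)) :=
    isAlgStack_fp h𝒵.isStack h𝒵.diag h𝒲 h𝒳 _ _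
  have a2 : AlgSt.IsAlgStack Scheme.fppfPrecoverage (FibCat.fp g g) :=
    isAlgStack_fp h𝒵.isStack h𝒵.diag h𝒴 h𝒴 g g
  have hΔ : AlgSt.RepByAlgSpWith AlgSp.IsQuasiCompactMor (FibCat.diag g) :=
    repByAlgSpWith_congr _ _ (fun _ _ _ h => h.1) hg
  have hΔ' : AlgSt.IsQuasiCompactMor Scheme.fppfPrecoverage (FibCat.diag g) :=
    isQuasiCompactMor_of_repByAlgSpWith h𝒴 a2 (FibCat.diag g) hΔ
  have h2 := hΔ' _ a1 h1 (relPair z f g)
  exact isQuasiCompact_of_isEquivOver (relMagic z f g) (relMagic_isEquivOver z f g) h2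

/-- `S12987`. -/
theorem isQuasiCompactMor_of_isQuasiCompact_of_isQuasiSeparatedOver [QuasiSeparatedSpace ↥S]
    (h𝒳 : AlgSt.IsAlgStack Scheme.fppfPrecoverage 𝒳) (h𝒴 : AlgSt.IsAlgStack Scheme.fppfPrecoverage 𝒴)
    (f : 𝒳 ⥤ᵇ 𝒴) (hqc𝒳 : AlgSt.IsQuasiCompact 𝒳) (hqs : AlgSt.IsQuasiSeparatedOver 𝒴) :
    AlgSt.IsQuasiCompactMor Scheme.fppfPrecoverage f := by
  intro 𝒲 h𝒲 hqc z
  obtain ⟨U, x, hU, hx1, hx2⟩ := hqc𝒳
  obtain ⟨V, v, hV, hv1, hv2⟩ := hqc
  let vz := BasedFunctor.comp v z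
  let xf := BasedFunctor.comp x f
  have hΔ : AlgSt.RepByAlgSpWith AlgSp.IsQuasiCompactMor (FibCat.diag (FibCat.toSelf 𝒴)) :=
    repByAlgSpWith_congr _ _ (fun _ _ _ h => h.1) hqs
  let a := AlgSt.overMap (prod.fst : V ⨯ U ⟶ V)
  let b := AlgSt.overMap (prod.snd : V ⨯ U ⟶ U)
  let ε' : BasedFunctor.comp (BasedFunctor.comp a vz) (FibCat.toSelf 𝒴) ≅
    BasedFunctor.comp (BasedFunctor.comp b xf) (FibCat.toSelf 𝒴) := selfOverIso _ _
  have hm := magic_isEquivOver vz xf a b ε' (selfOverIso _ _) (overProd_isFFEssSurjOver V U _)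
  obtain ⟨E, e', he', hqcm⟩ := hΔ (V ⨯ U) (pairToSq vz xf a b ε')
  have hVc : CompactSpace ↥V.left := inferInstance
  have hUc : CompactSpace ↥U.left := inferInstance
  have := compactSpace_prod_left V U
  have hEqc : AlgSp.IsQuasiCompactSp E.obj := isQuasiCompactSp_of_isQuasiCompactMor _ hqcm
  have h1 : AlgSt.IsQuasiCompact (FibCat.fp vz xf) :=
    isQuasiCompact_of_isEquivOver _ (IsEquivOver.comp he' hm) (isQuasiCompact_ofSp E.property hEqc)
  -- `V ×_𝒴 U ⟶ V ×_𝒴 𝒳 ⟶ 𝒲 ×_𝒴 𝒳` is surjective on points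
  have aV := isAlgStack_overCat V
  have aU := isAlgStack_overCat U
  have a1 : AlgSt.IsAlgStack Scheme.fppfPrecoverage (FibCat.fp vz xf) :=
    isAlgStack_fp h𝒴.isStack h𝒴.diag aV aU vz xf
  have a2 : AlgSt.IsAlgStack Scheme.fppfPrecoverage (FibCat.fp vz f) :=
    isAlgStack_fp h𝒴.isStack h𝒴.diag aV h𝒳 vz f
  have a3 : AlgSt.IsAlgStack Scheme.fppfPrecoverage (FibCat.fp z f) :=
    isAlgStack_fp h𝒴.isStack h𝒴.diag h𝒲 h𝒳 z f
  have a4 : AlgSt.IsAlgStack Scheme.fppfPrecoverage (FibCat.fp v (FibCat.fpFst z f)) :=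
    isAlgStack_fp h𝒲.isStack h𝒲.diag aV a3 v (FibCat.fpFst z f)
  have hxs : AlgSt.IsSurjective x := isSurjective_of_repByAlgSpWith h𝒳.isStack.1 x hx2
  have hvs : AlgSt.IsSurjective v := isSurjective_of_repByAlgSpWith h𝒲.isStack.1 v hv2
  have hs2 : AlgSt.IsSurjective (fpPasteRightFst vz f x) := by
    have hfst := isSurjective_fpFst aU.isStack.1 h𝒳.isStack.1 a2.isStack.1 (FibCat.fpSnd vz f) x hxs
    have heq := points_map_surjective_of_isEquivOver (fpPasteRight vz f x) (fpPasteRight_isEquivOver vz f x)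
    have hcomp : AlgSt.Points.map (fpPasteRightFst vz f x) =
        AlgSt.Points.map (FibCat.fpFst (FibCat.fpSnd vz f) x) ∘ AlgSt.Points.map (fpPasteRight vz f x) := by
      rw [← points_map_comp]
      exact points_map_eq_of_iso (BasedNatIso.id _ : fpPasteRightFst vz f x ≅
        BasedFunctor.comp (fpPasteRight vz f x) (FibCat.fpFst (FibCat.fpSnd vz f) x))
    change Function.Surjective (AlgSt.Points.map (fpPasteRightFst vz f x))
    rw [hcomp]
    exact Function.Surjective.comp hfst heq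
  have hs1 : AlgSt.IsSurjective (fpPasteLeftSnd v z f) := by
    have hsnd := isSurjective_fpSnd a3.isStack.1 h𝒲.isStack.1 aV.isStack.1 v (FibCat.fpFst z f) hvs
    have heq := points_map_surjective_of_isEquivOver (fpPasteLeft v z f) (fpPasteLeft_isEquivOver v z f)
    have hcomp : AlgSt.Points.map (fpPasteLeftSnd v z f) =
        AlgSt.Points.map (FibCat.fpSnd v (FibCat.fpFst z f)) ∘ AlgSt.Points.map (fpPasteLeft v z f) := by
      rw [← points_map_comp]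
      exact points_map_eq_of_iso (BasedNatIso.id _ : fpPasteLeftSnd v z f ≅
        BasedFunctor.comp (fpPasteLeft v z f) (FibCat.fpSnd v (FibCat.fpFst z f)))
    change Function.Surjective (AlgSt.Points.map (fpPasteLeftSnd v z f))
    rw [hcomp]
    exact Function.Surjective.comp hsnd heq
  have h2 : AlgSt.IsQuasiCompact (FibCat.fp vz f) :=
    isQuasiCompact_of_isSurjective a1.isStack.1 a1.atlas a2.isStack.1 a2.atlas _ hs2 h1
  exact isQuasiCompact_of_isSurjective a2.isStack.1 a2.atlas a3.isStack.1 a3.atlas _ hs1 h2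

end Groth.Agent.Lib.Helper80
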