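import Groth.Agent.Lib.Helper80.AlgStLocQ7
import Groth.Agent.Lib.Helper80.AlgStLocQ6
import Groth.Agent.Lib.Helper80.AlgStLocQ8
import Groth.Agent.Lib.Helper80.AlgStLocQ10
import Groth.Agent.Lib.Helper80.AlgStPts10
import Groth.Agent.Lib.Helper80.AlgStPsh4
import Groth.Agent.Lib.Helper80.AlgStAtlas5
import Groth.Agent.Lib.Helper80.AlgStQcMor2
import Groth.Agent.Lib.Helper80.AlgSpSmLocalST
import Groth.Agent.S13038

/-!
# Field-valued points of a stack with a flat surjective field point (helper80)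
-/

set_option autoImplicit false
set_option backward.isDefEq.respectTransparency false

universe u

open CategoryTheory CategoryTheory.Functor CategoryTheory.Limits AlgebraicGeometry Opposite

namespace Groth.Agent.Lib.Helper80

open BasedFunctor Groth.Agent.Lib.Helper43.FPtRel Groth.Agent.Lib.Helper43.GerbComp

variable {S : Scheme.{u}} {𝒳 𝒴 𝒵 : AlgSt.Cat S}

/-- `LocQ` is invariant under isomorphism of functors. -/
theorem locQ_of_iso (P : MorphismProperty (AlgSp.Sp S)) {f f' : 𝒳 ⥤ᵇ 𝒴} (i : f ≅ f')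
    (hf : AlgSt.LocQ P f) : AlgSt.LocQ P f' := by
  obtain ⟨U, V, x, y, h, α, h1, h2, h3, h4⟩ := hf
  exact ⟨U, V, x, y, h, (whiskerLeftIso x i.symm : BasedFunctor.comp x f' ≅ BasedFunctor.comp x f) ≪≫ α,
    h1, h2, h3, h4⟩

/-- The spectrum of a field has a single point, as a category over `(Sch/S)`. -/
theorem points_overCat_field_subsingleton (k : Type u) [Field k] (a : Spec (CommRingCat.of k) ⟶ S) :
    Subsingleton (AlgSt.Points (FibCat.overCat (Over.mk a))) := by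
  have : Subsingleton ↥(Spec (CommRingCat.of k)) := inferInstanceAs (Subsingleton (PrimeSpectrum k))
  refine ⟨fun w₁ w₂ => ?_⟩
  obtain ⟨p, rfl⟩ := AlgSt.Points.mk_surjective w₁
  obtain ⟨q, rfl⟩ := AlgSt.Points.mk_surjective w₂
  rw [mk_eq_mk_chartPt p, mk_eq_mk_chartPt q]
  have e : fptPoint p = fptPoint q := Subsingleton.elim (α := ↥(Spec (CommRingCat.of k))) _ _
  rw [e]

/-- Every morphism from an algebraic stack to the spectrum of a field is flat. -/
theorem locQ_flat_to_field (h𝒳 : AlgSt.IsAlgStack Scheme.fppfPrecoverage 𝒳) (k : Type u) [Field k]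
    (a : Spec (CommRingCat.of k) ⟶ S) (g : 𝒳 ⥤ᵇ FibCat.overCat (Over.mk a)) :
    AlgSt.LocQ (AlgSp.LocP @Flat) g := by
  have hQe := Groth.Agent.Lib.Helper78.AlgSpLocPFlat.etLocalST_flat
  obtain ⟨U, x, hx1, hx2⟩ := h𝒳.atlas
  let G : FibCat.overCat U ⥤ᵇ FibCat.overCat (Over.mk a) := BasedFunctor.comp x g
  let h : U ⟶ Over.mk a := overClassify G
  let i : G ≅ AlgSt.overMap h := isoOverMap G
  refine ⟨U, Over.mk a, x, BasedFunctor.id _, h,
    (i : BasedFunctor.comp x g ≅ BasedFunctor.comp (AlgSt.overMap h) (BasedFunctor.id _)), hx1, hx2,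
    repByAlgSpWith_smooth_id _, ?_⟩
  rw [Groth.Agent.Lib.Helper78.AlgSpLocP.locP_yon_map_iff hQe]
  have : Subsingleton ↥(Spec (CommRingCat.of k)) := inferInstanceAs (Subsingleton (PrimeSpectrum k))
  exact (inferInstance : Flat (Y := Spec (CommRingCat.of k)) h.left)

/-- `S16804`. -/
theorem surjective_flat_fieldPt (h𝒵 : AlgSt.IsAlgStack Scheme.fppfPrecoverage 𝒵)
    (k : Type u) [Field k] (a : Spec (CommRingCat.of k) ⟶ S)
    (z : FibCat.overCat (Over.mk a) ⥤ᵇ 𝒵)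
    (hzs : AlgSt.RepByAlgSpWith AlgSp.IsSurjectiveMor z) (hzf : AlgSt.RepByAlgSpWith (AlgSp.LocP @Flat) z)
    (k' : Type u) [Field k'] (a' : Spec (CommRingCat.of k') ⟶ S)
    (z' : FibCat.overCat (Over.mk a') ⥤ᵇ 𝒵) :
    AlgSt.RepByAlgSpWith AlgSp.IsSurjectiveMor z' ∧ AlgSt.RepByAlgSpWith (AlgSp.LocP @Flat) z' := by
  have hQe := Groth.Agent.Lib.Helper78.AlgSpLocPFlat.etLocalST_flat
  have gZ := h𝒵.isStack.1
  have gK := overCat_isFibGrpd (Over.mk a)
  have gK' := overCat_isFibGrpd (Over.mk a')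
  have hK := isAlgStack_overCat (Over.mk a)
  have hK' := isAlgStack_overCat (Over.mk a')
  have hrep' : AlgSt.RepByAlgSp1 z' := repByAlgSp1_of_diag h𝒵.diag _ z'
  -- `|𝒵|` is a singleton
  have hsubK := points_overCat_field_subsingleton k a
  have hZsub : Subsingleton (AlgSt.Points 𝒵) := by
    refine ⟨fun ξ₁ ξ₂ => ?_⟩
    obtain ⟨t₁, rfl⟩ := surjective_ofChart gZ z hzs ξ₁
    obtain ⟨t₂, rfl⟩ := surjective_ofChart gZ z hzs ξ₂
    rw [ofChart_eq_map_chartPt, ofChart_eq_map_chartPt]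
    congr 1
    exact Subsingleton.elim _ _
  have hzsurj : AlgSt.IsSurjective z := fun ξ => by
    obtain ⟨t, rfl⟩ := surjective_ofChart gZ z hzs ξ
    exact ⟨_, (ofChart_eq_map_chartPt z t).symm⟩
  have hz'surj : AlgSt.IsSurjective z' := fun ξ => by
    have hne : Nonempty ↥(Spec (CommRingCat.of k')) := inferInstance
    obtain ⟨t'⟩ := hne
    exact ⟨AlgSt.Points.mk (chartPt (Over.mk a') t'), Subsingleton.elim _ _⟩
  refine ⟨repByAlgSpWith_surjective_of_isSurjective gK' gZ z' hrep' hz'surj, ?_⟩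
  -- flatness
  have hW : AlgSt.IsAlgStack Scheme.fppfPrecoverage (FibCat.fp z' z) :=
    isAlgStack_fp' _ h𝒵.isStack h𝒵.diag hK' hK z' z
  have h1 : AlgSt.LocQ (AlgSp.LocP @Flat) (FibCat.fpFst z' z) :=
    locQ_of_repByAlgSpWith _ isSmoothLocalST_flat hK'.atlas _ (repByAlgSpWith_fpFst _ z' z hzf)
  have h2 : AlgSt.IsSurjective (FibCat.fpFst z' z) := isSurjective_fpFst gK gZ gK' z' z hzsurj
  have h3 : AlgSt.LocQ (AlgSp.LocP @Flat) (FibCat.fpSnd z' z) := locQ_flat_to_field hW k a _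
  have h4 : AlgSt.LocQ (AlgSp.LocP @Flat) z :=
    locQ_of_repByAlgSpWith _ isSmoothLocalST_flat h𝒵.atlas _ hzf
  have h5 : AlgSt.LocQ (AlgSp.LocP @Flat) (BasedFunctor.comp (FibCat.fpSnd z' z) z) :=
    Groth.Agent.S13038.result S _ isSmoothLocalST_flat (locP_comp_alg hQe) _ _ _ hW hK h𝒵 _ _ h3 h4
  have h6 : AlgSt.LocQ (AlgSp.LocP @Flat) (BasedFunctor.comp (FibCat.fpFst z' z) z') :=
    locQ_of_iso _ (FibCat.fpIso z' z).symm h5
  have h7 : AlgSt.LocQ (AlgSp.LocP @Flat) z' :=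
    locQ_flat_of_comp_of_surjective_flat hW hK' h𝒵 _ z' h1 h2 h6
  exact repByAlgSpWith_of_locQ _ isSmoothLocalST_flat (locP_baseChange hQe) z' hrep' h7

end Groth.Agent.Lib.Helper80
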