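import Groth.Agent.Lib.Helper80.FibCat19
import Groth.Prelude.Def_AlgSt2

/-!
# `spMapOfOver` and representability by algebraic spaces (helper80)
-/

set_option autoImplicit false
set_option backward.isDefEq.respectTransparency false

universe u

open CategoryTheory CategoryTheory.Functor CategoryTheory.Limits AlgebraicGeometry Opposite

namespace Groth.Agent.Lib.Helper80

open BasedFunctor

variable {S : Scheme.{u}}

/-- `secHom` only depends on the isomorphism class of the functor. -/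
theorem secHom_eq_of_iso {F : AlgSp.Sp S} {U : Over S} {Φ Φ' : AlgSt.ofSp F ⥤ᵇ FibCat.overCat U}
    (i : Φ ≅ Φ') (a : (AlgSt.ofSp F).obj) : AlgSt.secHom Φ a = AlgSt.secHom Φ' a := by
  have h1 : (i.hom.toNatTrans.app a).left ≫ (Φ'.obj a).hom = (Φ.obj a).hom :=
    Over.w (i.hom.toNatTrans.app a)
  have hl : (FibCat.overCat U).p.IsHomLift (𝟙 ((AlgSt.ofSp F).p.obj a)) (i.hom.toNatTrans.app a) :=
    iso_hom_app_isHomLift i a rfl
  have h2 : (i.hom.toNatTrans.app a).left =
      eqToHom (Φ.w_obj a) ≫ 𝟙 _ ≫ eqToHom (Φ'.w_obj a).symm :=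
    IsHomLift.fac' (FibCat.overCat U).p (𝟙 ((AlgSt.ofSp F).p.obj a)) (i.hom.toNatTrans.app a)
  simp only [AlgSt.secHom, ← h1, h2, Category.assoc, Category.id_comp, eqToHom_trans_assoc]

/-- `spMapOfOver` only depends on the isomorphism class of the functor. -/
theorem spMapOfOver_eq_of_iso {F : AlgSp.Sp S} {U : Over S} {Φ Φ' : AlgSt.ofSp F ⥤ᵇ FibCat.overCat U}
    (i : Φ ≅ Φ') : AlgSt.spMapOfOver Φ = AlgSt.spMapOfOver Φ' := by
  apply ObjectProperty.hom_ext
  ext T x
  induction T using Opposite.rec with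
  | _ T =>
    change (AlgSt.spMapOfOver Φ).hom.app (op T) x = (AlgSt.spMapOfOver Φ').hom.app (op T) x
    rw [AlgSt.spMapOfOver_app, AlgSt.spMapOfOver_app, secHom_eq_of_iso i]

section Transfer

variable {𝒜 ℬ : AlgSt.Cat S} {U : Over S}

/-- Transfer of "representable by an algebraic space, with structure map to `h_U` having `P`"
along an equivalence over `C` compatible with the functors to `C/U`. -/
theorem repWith_transfer (P : MorphismProperty (AlgSp.Sp S))
    (pA : 𝒜 ⥤ᵇ FibCat.overCat U) (pB : ℬ ⥤ᵇ FibCat.overCat U) (E : 𝒜 ⥤ᵇ ℬ)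
    (hE : FibCat.IsEquivOver E) (j : BasedFunctor.comp E pB ≅ pA) :
    (∃ (F : AlgSp.Space S) (e : AlgSt.ofSp F.obj ⥤ᵇ 𝒜), FibCat.IsEquivOver e ∧
        P (AlgSt.spMapOfOver (BasedFunctor.comp e pA))) ↔
      (∃ (F : AlgSp.Space S) (e : AlgSt.ofSp F.obj ⥤ᵇ ℬ), FibCat.IsEquivOver e ∧
        P (AlgSt.spMapOfOver (BasedFunctor.comp e pB))) := by
  constructor
  · rintro ⟨F, e, he, hP⟩
    refine ⟨F, BasedFunctor.comp e E, IsEquivOver.comp he hE, ?_⟩
    have i : BasedFunctor.comp (BasedFunctor.comp e E) pB ≅ BasedFunctor.comp e pA :=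
      whiskerLeftIso e j
    rw [spMapOfOver_eq_of_iso i]
    exact hP
  · rintro ⟨F, e, he, hP⟩
    obtain ⟨E', hE', -, ⟨ε⟩⟩ := IsEquivOver.symm hE
    refine ⟨F, BasedFunctor.comp e E', IsEquivOver.comp he hE', ?_⟩
    have i : BasedFunctor.comp (BasedFunctor.comp e E') pA ≅ BasedFunctor.comp e pB :=
      (whiskerLeftIso (BasedFunctor.comp e E') j.symm : _ ≅
        BasedFunctor.comp (BasedFunctor.comp e (BasedFunctor.comp E' E)) pB) ≪≫
      whiskerRightIso (whiskerLeftIso e ε) pB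
    rw [spMapOfOver_eq_of_iso i]
    exact hP

end Transfer

end Groth.Agent.Lib.Helper80
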