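import Groth.Agent.Lib.Helper80.AlgStProd2
import Groth.Agent.Lib.Helper78.AlgSpLocP4
import Groth.Agent.Lib.Helper78.AlgSpLocPFpqc
import Groth.Agent.Lib.Helper78.AlgSpLocPLoft
import Groth.Agent.Lib.Helper80.AlgStCancel2

/-!
# The diagonal of an algebraic stack is locally of finite type (helper80)
-/

set_option autoImplicit false
set_option backward.isDefEq.respectTransparency false

universe u

open CategoryTheory CategoryTheory.Functor CategoryTheory.Limits AlgebraicGeometry Opposite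

namespace Groth.Agent.Lib.Helper80

open BasedFunctor

variable {S : Scheme.{u}}

theorem locP_mono {P Q : MorphismProperty Scheme.{u}} (h : P ≤ Q) {X Y : AlgSp.Sp S} {f : X ⟶ Y}
    (hf : AlgSp.LocP P f) : AlgSp.LocP Q f :=
  fun _ _ a b k ha hb comm => h _ (hf a b k ha hb comm)

variable {𝒳 𝒴 : AlgSt.Cat S}

theorem repByAlgSpWith_locP_mono {P Q : MorphismProperty Scheme.{u}} (h : P ≤ Q) {f : 𝒳 ⥤ᵇ 𝒴}
    (hf : AlgSt.RepByAlgSpWith (AlgSp.LocP P) f) : AlgSt.RepByAlgSpWith (AlgSp.LocP Q) f :=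
  repByAlgSpWith_congr _ _ (fun _ _ _ ha => locP_mono h ha) hf

/-- Precomposition with the identification of the category of `h_U` with `(Sch/U)`. -/
theorem repByAlgSpWith_toOverCat_comp (Q : MorphismProperty (AlgSp.Sp S)) {U : Over S}
    (x : FibCat.overCat U ⥤ᵇ 𝒳) (hx : AlgSt.RepByAlgSpWith Q x) :
    AlgSt.RepByAlgSpWith Q (BasedFunctor.comp (AlgSt.toOverCat U) x) :=
  (repByAlgSpWith_iff_of_square Q x (BasedFunctor.comp (AlgSt.toOverCat U) x) (AlgSt.toOverCat U)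
    (BasedFunctor.id _) (toOverCat_isEquivOver U) isEquivOver_id (BasedNatIso.id _)).mp hx

/-- The diagonal of an algebraic stack has every property `LocP Q` that smooth morphisms have, provided `Q` is
fppf local on the base and left-cancellable. -/
theorem repByAlgSpWith_diag_toSelf_of_atlas (h𝒳 : FibCat.IsFibGrpd 𝒳.p)
    (hΔ : AlgSt.RepByAlgSp1 (FibCat.diag (FibCat.toSelf 𝒳)))
    (hat : AlgSt.HasAtlas (AlgSp.LocP @Smooth) 𝒳)
    (P : MorphismProperty (AlgSp.Sp S))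
    (hPb : ∀ ⦃X₁ Y₁ X₂ Y₂ : AlgSp.Sp S⦄, AlgSp.IsAlgSpace X₁ → AlgSp.IsAlgSpace Y₁ → AlgSp.IsAlgSpace X₂ →
      AlgSp.IsAlgSpace Y₂ → ∀ (a : X₁ ⟶ Y₁) (b : Y₂ ⟶ Y₁) (a' : X₂ ⟶ Y₂) (b' : X₂ ⟶ X₁),
      IsPullback b' a' a b → P a → P a')
    (hP : AlgSp.IsLocalOnBase AlgSp.IsFppfCover P)
    (hcancel : ∀ ⦃X Y Z : AlgSp.Sp S⦄, AlgSp.IsAlgSpace X → AlgSp.IsAlgSpace Y → AlgSp.IsAlgSpace Z →
      ∀ (a : X ⟶ Y) (b : Y ⟶ Z), P (a ≫ b) → P a)
    (hsm : ∀ ⦃X : AlgSp.Sp S⦄ ⦃U : Over S⦄ (a : X ⟶ (AlgSp.yon S).obj U), AlgSp.LocP @Smooth a → P a) :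
    AlgSt.RepByAlgSpWith P (FibCat.diag (FibCat.toSelf 𝒳)) := by
  obtain ⟨U, x, hx1, hx2⟩ := hat
  have hfl : AlgSt.RepByAlgSpWith (AlgSp.LocP @Flat) x :=
    repByAlgSpWith_locP_mono (fun _ _ k hk => by
      have : Smooth k := hk
      exact (inferInstance : Flat k)) hx1
  have hfp : AlgSt.RepByAlgSpWith (AlgSp.LocP @LocallyOfFinitePresentation) x :=
    repByAlgSpWith_locP_mono (fun _ _ k hk => by
      have : Smooth k := hk
      exact (inferInstance : LocallyOfFinitePresentation k)) hx1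
  have hP' : AlgSt.RepByAlgSpWith P x := repByAlgSpWith_congr _ _ hsm hx1
  exact repByAlgSpWith_diag_toSelf_of_cover h𝒳 hΔ P hPb hP hcancel
    ⟨(AlgSp.yon S).obj U, AlgSp.IsAlgSpace.yon_obj U⟩ (BasedFunctor.comp (AlgSt.toOverCat U) x)
    (repByAlgSpWith_toOverCat_comp _ x hfl) (repByAlgSpWith_toOverCat_comp _ x hfp)
    (repByAlgSpWith_toOverCat_comp _ x hx2) (repByAlgSpWith_toOverCat_comp _ x hP')

/-- `S12938`: the diagonal of an algebraic stack is locally of finite type. -/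
theorem repByAlgSpWith_loft_diag_toSelf (h𝒳 : FibCat.IsFibGrpd 𝒳.p)
    (hΔ : AlgSt.RepByAlgSp1 (FibCat.diag (FibCat.toSelf 𝒳)))
    (hat : AlgSt.HasAtlas (AlgSp.LocP @Smooth) 𝒳) :
    AlgSt.RepByAlgSpWith (AlgSp.LocP @LocallyOfFiniteType) (FibCat.diag (FibCat.toSelf 𝒳)) := by
  have hQ := Groth.Agent.Lib.Helper78.AlgSpLocPLoft.etLocalST_loft
  refine repByAlgSpWith_diag_toSelf_of_atlas h𝒳 hΔ hat _ (locP_baseChange hQ)
    (isLocalOnBase_fppf_of_fpqc (Groth.Agent.Lib.Helper78.AlgSpLocPFpqc.isLocalOnBase_fpqc_locP hQ S))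
    ?_ ?_
  · intro X Y Z hX hY hZ a b hab
    exact Groth.Agent.Lib.Helper78.AlgSpLocP.locP_of_comp_cancel hQ
      (fun u v h => by
        have : LocallyOfFiniteType (u ≫ v) := h
        exact locallyOfFiniteType_of_comp u v) a b hX.atlas hY.atlas hZ.atlas hab
  · intro X U a ha
    exact locP_mono (fun _ _ k hk => by
      have : Smooth k := hk
      exact (inferInstance : LocallyOfFiniteType k)) ha

/-- `S12939`: the diagonal of a morphism of algebraic stacks is locally of finite type. -/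
theorem repByAlgSpWith_loft_diag (h𝒳 : FibCat.IsFibGrpd 𝒳.p)
    (hΔ𝒳 : AlgSt.RepByAlgSp1 (FibCat.diag (FibCat.toSelf 𝒳)))
    (hat : AlgSt.HasAtlas (AlgSp.LocP @Smooth) 𝒳)
    (hΔ𝒴 : AlgSt.RepByAlgSp1 (FibCat.diag (FibCat.toSelf 𝒴))) (f : 𝒳 ⥤ᵇ 𝒴) :
    AlgSt.RepByAlgSpWith (AlgSp.LocP @LocallyOfFiniteType) (FibCat.diag f) := by
  have hQ := Groth.Agent.Lib.Helper78.AlgSpLocPLoft.etLocalST_loft
  let σ := FibCat.toSelf 𝒴
  let fσ := BasedFunctor.comp f σ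
  let i : BasedFunctor.comp fσ (BasedFunctor.id _) ≅
      BasedFunctor.comp (BasedFunctor.id 𝒳) (FibCat.toSelf 𝒳) := selfOverIso _ _
  let b := fpMap (FibCat.toSelf 𝒳) (FibCat.toSelf 𝒳) fσ fσ (BasedFunctor.id _) (BasedFunctor.id _)
    (BasedFunctor.id _) i i
  have hb : FibCat.IsEquivOver b :=
    fpMap_isEquivOver (FibCat.toSelf 𝒳) (FibCat.toSelf 𝒳) fσ fσ (BasedFunctor.id _) (BasedFunctor.id _)
      (BasedFunctor.id _) i i isEquivOver_id isEquivOver_id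
  have e : BasedFunctor.comp (FibCat.diag fσ) b ≅
      BasedFunctor.comp (BasedFunctor.id 𝒳) (FibCat.diag (FibCat.toSelf 𝒳)) :=
    selfIsoMk (BasedNatIso.id _) (BasedNatIso.id _)
  have h1 : AlgSt.RepByAlgSpWith (AlgSp.LocP @LocallyOfFiniteType) (FibCat.diag fσ) :=
    (repByAlgSpWith_iff_of_square _ (FibCat.diag (FibCat.toSelf 𝒳)) (FibCat.diag fσ)
      (BasedFunctor.id 𝒳) b isEquivOver_id hb e).mp (repByAlgSpWith_loft_diag_toSelf h𝒳 hΔ𝒳 hat)
  exact repByAlgSpWith_locP_diag_of_comp hQ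
    (fun u v h => by
      have : LocallyOfFiniteType (u ≫ v) := h
      exact locallyOfFiniteType_of_comp u v) hΔ𝒴 repByAlgSp1_diag_selfOver f σ h1

end Groth.Agent.Lib.Helper80
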