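import Groth.Agent.Lib.Helper80.AlgStPts2
import Groth.Agent.Lib.Helper80.AlgStLocQ6
import Mathlib.AlgebraicGeometry.Morphisms.UniversallyOpen
import Mathlib.AlgebraicGeometry.Morphisms.Smooth

/-!
# Points of stacks and scheme charts: continuity (helper80)
-/

set_option autoImplicit false
set_option backward.isDefEq.respectTransparency false

universe u

open CategoryTheory CategoryTheory.Functor CategoryTheory.Limits AlgebraicGeometry Opposite

namespace Groth.Agent.Lib.Helper80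

open BasedFunctor

variable {S : Scheme.{u}} {𝒳 𝒴 : AlgSt.Cat S}

/-- The canonical field-valued point of `(Sch/U)` at a point `t` of `U`. -/
noncomputable def chartPt (U : Over S) (t : ↥U.left) : AlgSt.FPt (FibCat.overCat U) where
  K := ↥(U.left.residueField t)
  str := U.left.fromSpecResidueField t ≫ U.hom
  obj := Over.mk (Over.homMk (U.left.fromSpecResidueField t) rfl :
    Over.mk (U.left.fromSpecResidueField t ≫ U.hom) ⟶ U)
  lies := rfl

theorem ofChart_eq_map_chartPt {U : Over S} (x : FibCat.overCat U ⥤ᵇ 𝒳) (t : ↥U.left) :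
    AlgSt.Points.ofChart x t = AlgSt.Points.map x (AlgSt.Points.mk (chartPt U t)) := rfl

theorem ofChart_comp {U : Over S} (x : FibCat.overCat U ⥤ᵇ 𝒳) (f : 𝒳 ⥤ᵇ 𝒴) (t : ↥U.left) :
    AlgSt.Points.ofChart (BasedFunctor.comp x f) t = AlgSt.Points.map f (AlgSt.Points.ofChart x t) := rfl

theorem ofChart_congr {U : Over S} {x x' : FibCat.overCat U ⥤ᵇ 𝒳} (i : x ≅ x') :
    AlgSt.Points.ofChart x = AlgSt.Points.ofChart x' := by
  funext t
  rw [ofChart_eq_map_chartPt, ofChart_eq_map_chartPt, points_map_eq_of_iso i]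

/-- The canonical point of `U` at `t` maps to the canonical point of `V` at `h t`. -/
theorem map_overMap_chartPt {U V : Over S} (h : U ⟶ V) (t : ↥U.left) :
    AlgSt.Points.map (AlgSt.overMap h) (AlgSt.Points.mk (chartPt U t)) =
      AlgSt.Points.mk (chartPt V (h.left t)) := by
  rw [AlgSt.Points.map_mk]
  have w : Spec.map (h.left.residueFieldMap t) ≫ V.left.fromSpecResidueField (h.left t) =
      U.left.fromSpecResidueField t ≫ h.left :=
    Scheme.Hom.SpecMap_residueFieldMap_fromSpecResidueField h.left t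
  let m₀ : Over.mk (U.left.fromSpecResidueField t ≫ U.hom) ⟶
      Over.mk (V.left.fromSpecResidueField (h.left t) ≫ V.hom) :=
    Over.homMk (Spec.map (h.left.residueFieldMap t)) (by
      change Spec.map (h.left.residueFieldMap t) ≫ V.left.fromSpecResidueField (h.left t) ≫ V.hom = _
      rw [← Category.assoc, w, Category.assoc, Over.w h]
      rfl)
  let m : ((chartPt U t).map (AlgSt.overMap h)).obj ⟶ (chartPt V (h.left t)).obj :=
    Over.homMk m₀ (by
      apply Over.OverMorphism.ext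
      exact w)
  exact points_mk_eq_of_hom m

theorem ofChart_overMap {U V : Over S} (h : U ⟶ V) (y : FibCat.overCat V ⥤ᵇ 𝒴) (t : ↥U.left) :
    AlgSt.Points.ofChart (BasedFunctor.comp (AlgSt.overMap h) y) t = AlgSt.Points.ofChart y (h.left t) := by
  rw [ofChart_eq_map_chartPt, ofChart_eq_map_chartPt, points_map_comp, Function.comp_apply,
    map_overMap_chartPt]

/-- The morphism of schemes classifying `ptFun c ⋙ Φ` is `c ≫ spMapOfOver Φ`. -/
theorem yon_map_overClassify {E : AlgSp.Sp S} {A T : Over S} (c : (AlgSp.yon S).obj A ⟶ E)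
    (Φ : AlgSt.ofSp E ⥤ᵇ FibCat.overCat T) :
    (AlgSp.yon S).map (overClassify (BasedFunctor.comp (ptFun c.hom) Φ)) = c ≫ AlgSt.spMapOfOver Φ := by
  rw [← spMapOfOver_toOverCat_overMap, ← spMapOfOver_comp_ofSpMap]
  exact spMapOfOver_eq_of_iso
    ((whiskerLeftIso (AlgSt.toOverCat A) (isoOverMap (BasedFunctor.comp (ptFun c.hom) Φ)).symm :
      BasedFunctor.comp (AlgSt.toOverCat A)
        (AlgSt.overMap (overClassify (BasedFunctor.comp (ptFun c.hom) Φ))) ≅
      BasedFunctor.comp (AlgSt.toOverCat A) (BasedFunctor.comp (ptFun c.hom) Φ)) ≪≫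
      (BasedNatIso.id _ : BasedFunctor.comp (AlgSt.toOverCat A) (BasedFunctor.comp (ptFun c.hom) Φ) ≅
        BasedFunctor.comp (AlgSt.ofSpMap c) Φ))

/-- A scheme chart of the 2-fibre product of an arbitrary `x : U ⟶ 𝒳` and a smooth `y : V ⟶ 𝒳`. -/
theorem exists_chart_pair {U V : Over S} (x : FibCat.overCat U ⥤ᵇ 𝒳) (y : FibCat.overCat V ⥤ᵇ 𝒳)
    (hy : AlgSt.RepByAlgSpWith (AlgSp.LocP @Smooth) y) :
    ∃ (A : Over S) (a : A ⟶ U) (b : A ⟶ V)
      (_ : BasedFunctor.comp (AlgSt.overMap a) x ≅ BasedFunctor.comp (AlgSt.overMap b) y),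
      Smooth a.left ∧ (AlgSt.RepByAlgSpWith AlgSp.IsSurjectiveMor y → Surjective a.left) := by
  obtain ⟨E, e, he, ha₁⟩ := hy U x
  obtain ⟨A, c, hc1, hc2⟩ := E.property.atlas
  let pe : FibCat.overCat A ⥤ᵇ FibCat.fp x y := BasedFunctor.comp (ptFun c.hom) e
  let G₁ : FibCat.overCat A ⥤ᵇ FibCat.overCat U := BasedFunctor.comp pe (FibCat.fpFst x y)
  let G₂ : FibCat.overCat A ⥤ᵇ FibCat.overCat V := BasedFunctor.comp pe (FibCat.fpSnd x y)
  let a : A ⟶ U := overClassify G₁
  let b : A ⟶ V := overClassify G₂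
  let j₁ : G₁ ≅ AlgSt.overMap a := isoOverMap G₁
  let j₂ : G₂ ≅ AlgSt.overMap b := isoOverMap G₂
  have hk : (AlgSp.yon S).map a = c ≫ AlgSt.spMapOfOver (BasedFunctor.comp e (FibCat.fpFst x y)) :=
    yon_map_overClassify c (BasedFunctor.comp e (FibCat.fpFst x y))
  refine ⟨A, a, b, whiskerRightIso j₁.symm x ≪≫
    (whiskerLeftIso pe (FibCat.fpIso x y) : BasedFunctor.comp G₁ x ≅ BasedFunctor.comp G₂ y) ≪≫
    whiskerRightIso j₂ y, ?_, ?_⟩
  · exact locP_chart _ c a hc1 hk.symm ha₁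
  · intro hy2
    obtain ⟨E', e', he', h'⟩ := hy2 U x
    have ha₁' : AlgSp.IsSurjectiveMor (AlgSt.spMapOfOver (BasedFunctor.comp e (FibCat.fpFst x y))) :=
      prop_of_rep_over AlgSp.IsSurjectiveMor
        (fun _ _ _ _ _ _ _ _ _ _ _ _ sq ha => isSurjectiveMor_baseChange sq ha)
        (FibCat.fpFst x y) E E' e e' he he' h'
    exact surjective_chart _ c a hc2 hk.symm ha₁'

/-- For a category with a smooth surjective scheme chart, the preimage of an open set of points under an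
arbitrary functor from a scheme is open. -/
theorem isOpen_preimage_ofChart (h𝒴 : AlgSt.HasAtlas (AlgSp.LocP @Smooth) 𝒴) {U : Over S}
    (g : FibCat.overCat U ⥤ᵇ 𝒴) (W : Set (AlgSt.Points 𝒴)) (hW : IsOpen W) :
    IsOpen (AlgSt.Points.ofChart g ⁻¹' W) := by
  obtain ⟨V, y, hy1, hy2⟩ := h𝒴
  obtain ⟨A, a, b, i, ha1, ha2⟩ := exists_chart_pair g y hy1
  have hsm : Smooth a.left := ha1
  have hsurj : Surjective a.left := ha2 hy2
  have e : a.left ⁻¹' (AlgSt.Points.ofChart g ⁻¹' W) = b.left ⁻¹' (AlgSt.Points.ofChart y ⁻¹' W) := by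
    ext s
    change AlgSt.Points.ofChart g (a.left s) ∈ W ↔ AlgSt.Points.ofChart y (b.left s) ∈ W
    rw [← ofChart_overMap a g s, ← ofChart_overMap b y s, ofChart_congr i]
  have h1 : IsOpen (b.left ⁻¹' (AlgSt.Points.ofChart y ⁻¹' W)) :=
    (hW V y hy1).preimage b.left.continuous
  have h2 : AlgSt.Points.ofChart g ⁻¹' W = a.left '' (a.left ⁻¹' (AlgSt.Points.ofChart g ⁻¹' W)) :=
    (Set.image_preimage_eq _ hsurj.surj).symm
  rw [h2, e]
  exact a.left.isOpenMap _ h1

/-- `S12820`: `|f|` is continuous. -/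
theorem continuous_points_map (h𝒴 : AlgSt.HasAtlas (AlgSp.LocP @Smooth) 𝒴) (f : 𝒳 ⥤ᵇ 𝒴) :
    Continuous (AlgSt.Points.map f) := by
  refine ⟨fun W hW => ?_⟩
  intro U x _
  have : AlgSt.Points.ofChart x ⁻¹' (AlgSt.Points.map f ⁻¹' W) =
      AlgSt.Points.ofChart (BasedFunctor.comp x f) ⁻¹' W := rfl
  rw [this]
  exact isOpen_preimage_ofChart h𝒴 _ W hW

/-- Every functor from a scheme induces a continuous map to the space of points. -/
theorem continuous_ofChart (h𝒴 : AlgSt.HasAtlas (AlgSp.LocP @Smooth) 𝒴) {U : Over S}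
    (g : FibCat.overCat U ⥤ᵇ 𝒴) : Continuous (AlgSt.Points.ofChart g) :=
  ⟨fun W hW => isOpen_preimage_ofChart h𝒴 g W hW⟩

end Groth.Agent.Lib.Helper80
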