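import Groth.Agent.Lib.Helper80.AlgStPts6

/-!
# Surjectivity on points and representable surjections (helper80)
-/

set_option autoImplicit false
set_option backward.isDefEq.respectTransparency false

universe u

open CategoryTheory CategoryTheory.Functor CategoryTheory.Limits AlgebraicGeometry Opposite

namespace Groth.Agent.Lib.Helper80

open BasedFunctor

variable {S : Scheme.{u}} {𝒳 𝒴 : AlgSt.Cat S}

/-- A morphism which is representable by algebraic spaces and surjective is surjective on points. -/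
theorem isSurjective_of_repByAlgSpWith (h𝒴 : FibCat.IsFibGrpd 𝒴.p) (f : 𝒳 ⥤ᵇ 𝒴)
    (hf : AlgSt.RepByAlgSpWith AlgSp.IsSurjectiveMor f) : AlgSt.IsSurjective f := by
  intro ξ
  obtain ⟨q, rfl⟩ := AlgSt.Points.mk_surjective ξ
  have := IsFibGrpd.isFibered 𝒴.p h𝒴
  let T : Over S := Over.mk q.str
  let yq : FibCat.overCat T ⥤ᵇ 𝒴 := yonedaFunctor q.obj q.lies
  obtain ⟨E, e, he, hsurj⟩ := hf T yq
  let p₀ : AlgSp.FieldPt ((AlgSp.yon S).obj T) := ⟨q.K, q.str, ⟨𝟙 _⟩⟩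
  obtain ⟨η, -⟩ := hsurj (AlgSp.Points.mk p₀)
  obtain ⟨p', -⟩ := AlgSp.Points.mk_surjective η
  let a₀ : (AlgSt.ofSp E.obj).obj := ⟨Over.mk p'.str, p'.val⟩
  let o : (FibCat.fp yq f).obj := e.obj a₀
  let r : AlgSt.FPt 𝒳 :=
    { K := p'.K, str := p'.str, obj := o.obj.snd
      lies := (BasedFunctor.comp e (FibCat.fpSnd yq f)).w_obj a₀ }
  refine ⟨AlgSt.Points.mk r, ?_⟩
  rw [AlgSt.Points.map_mk]
  let m : f.obj o.obj.snd ⟶ q.obj := o.obj.iso.inv ≫ IsPreFibered.pullbackMap q.lies o.obj.fst.hom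
  exact points_mk_eq_of_hom (p := r.map f) (q := q) m

/-- If a functor from the category of a sheaf to a slice is surjective on points, then the induced map of sheaves is
surjective. -/
theorem isSurjectiveMor_spMapOfOver_of_surjective {F : AlgSp.Sp S} {U : Over S}
    (Φ : AlgSt.ofSp F ⥤ᵇ FibCat.overCat U) (h : Function.Surjective (AlgSt.Points.map Φ)) :
    AlgSp.IsSurjectiveMor (AlgSt.spMapOfOver Φ) := by
  intro η
  obtain ⟨p, rfl⟩ := AlgSp.Points.mk_surjective η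
  obtain ⟨K, str, ⟨g⟩⟩ := p
  let z : AlgSt.FPt (FibCat.overCat U) := { K := K, str := str, obj := Over.mk g, lies := rfl }
  obtain ⟨w', hw'⟩ := h (AlgSt.Points.mk z)
  obtain ⟨r, rfl⟩ := AlgSt.Points.mk_surjective w'
  rw [AlgSt.Points.map_mk] at hw'
  obtain ⟨r₂, m₁, m₂, -⟩ := (points_mk_eq_iff (overCat_isFibGrpd U) _ _).mp hw'
  obtain ⟨K', str', ⟨T, σ⟩, lies⟩ := r
  change T = Over.mk str' at lies
  subst lies
  obtain ⟨Ω, w, ⟨left, right, hom⟩, lies₂⟩ := r₂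
  change left = Over.mk w at lies₂
  subst lies₂
  refine ⟨AlgSp.Points.mk ⟨K', str', σ⟩, ?_⟩
  rw [AlgSp.Points.map_mk]
  apply AlgSp.Points.sound
  let a₀ : (AlgSt.ofSp F).obj := ⟨Over.mk str', σ⟩
  refine ⟨Ω, inferInstance, w, m₁.left ≫ eqToHom (Φ.w_obj a₀), m₂.left, ?_⟩
  apply ULift.ext
  have h1 : m₁.left ≫ (Φ.obj a₀).hom = hom := Over.w m₁
  have h2 : m₂.left ≫ g = hom := Over.w m₂
  have h3 : (m₁.left ≫ eqToHom (Φ.w_obj a₀)) ≫ AlgSt.secHom Φ a₀ = m₁.left ≫ (Φ.obj a₀).hom := by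
    simp [AlgSt.secHom]
  exact h3.trans (h1.trans h2.symm)

/-- For a morphism representable by algebraic spaces between categories fibred in groupoids, surjectivity on points gives
surjectivity of every base change to a scheme. -/
theorem repByAlgSpWith_surjective_of_isSurjective (h𝒳 : FibCat.IsFibGrpd 𝒳.p) (h𝒴 : FibCat.IsFibGrpd 𝒴.p)
    (f : 𝒳 ⥤ᵇ 𝒴) (hf : AlgSt.RepByAlgSp1 f) (hs : AlgSt.IsSurjective f) :
    AlgSt.RepByAlgSpWith AlgSp.IsSurjectiveMor f := by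
  intro U y
  obtain ⟨F, e, he⟩ := hf U y
  refine ⟨F, e, he, isSurjectiveMor_spMapOfOver_of_surjective _ ?_⟩
  intro ζ
  obtain ⟨ξ, hξ⟩ := hs (AlgSt.Points.map y ζ)
  obtain ⟨w, hw1, -⟩ := exists_point_fp h𝒳 h𝒴 (overCat_isFibGrpd U) f y ζ ξ hξ.symm
  obtain ⟨w', rfl⟩ := points_map_surjective_of_isEquivOver e he w
  exact ⟨w', by rw [points_map_comp]; exact hw1⟩

end Groth.Agent.Lib.Helper80
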