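import Groth.Agent.Lib.Helper80.AlgStUnivInj2
import Groth.Agent.Lib.Helper80.AlgStLoft
import Groth.Agent.Lib.Helper80.AlgStChart
import Groth.Agent.Lib.Helper80.AlgStPts3
import Groth.Agent.Lib.Helper80.AlgStPts7
import Groth.Agent.Lib.Helper80.AlgStDesc
import Groth.Agent.S9954

/-!
# Surjectivity of the diagonal and lifting of 2-arrows at geometric points (helper80)
-/

set_option autoImplicit false
set_option backward.isDefEq.respectTransparency false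

universe u

open CategoryTheory CategoryTheory.Functor CategoryTheory.Limits AlgebraicGeometry Opposite

namespace Groth.Agent.Lib.Helper80

open BasedFunctor Groth.Agent.Lib.Helper43.FPtRel Groth.Agent.Lib.Helper43.GerbComp

variable {S : Scheme.{u}} {𝒳 𝒴 : AlgSt.Cat S}

/-- Lifting of 2-arrows at geometric points gives surjectivity of the diagonal on points. -/
theorem isSurjective_diag_of_lift (gX : FibCat.IsFibGrpd 𝒳.p) (gY : FibCat.IsFibGrpd 𝒴.p) (f : 𝒳 ⥤ᵇ 𝒴)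
    (H : ∀ (k : Type u) [Field k] [IsAlgClosed k] (s : Spec (CommRingCat.of k) ⟶ S) (a₁ a₂ : 𝒳.obj)
        (_ : 𝒳.p.obj a₁ = Over.mk s) (_ : 𝒳.p.obj a₂ = Over.mk s) (β : f.obj a₁ ⟶ f.obj a₂),
        𝒴.p.IsHomLift (𝟙 (Over.mk s)) β →
          ∃ α : a₁ ⟶ a₂, 𝒳.p.IsHomLift (𝟙 (Over.mk s)) α ∧ f.map α = β) :
    AlgSt.IsSurjective (FibCat.diag f) := by
  intro v
  obtain ⟨q, rfl⟩ := AlgSt.Points.mk_surjective v
  have gff : FibCat.IsFibGrpd (FibCat.fp f f).p := fp_isFibGrpd f f gX gX gY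
  let k := AlgebraicClosure q.K
  let φ : Spec (CommRingCat.of k) ⟶ Spec (CommRingCat.of q.K) :=
    Spec.map (CommRingCat.ofHom (algebraMap q.K k))
  let s : Spec (CommRingCat.of k) ⟶ S := φ ≫ q.str
  let b : Over.mk s ⟶ Over.mk q.str := Over.homMk φ rfl
  obtain ⟨Q', ψ, hψ⟩ := exists_lift' (FibCat.fp f f).p gff q.lies b
  have hQ' : (FibCat.fp f f).p.obj Q' = Over.mk s := IsHomLift.domain_eq _ b ψ
  have h1 : 𝒳.p.obj Q'.obj.fst = Over.mk s := hQ'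
  have h2 : 𝒳.p.obj Q'.obj.snd = Over.mk s := ((FibCat.fpSnd f f).w_obj Q').trans hQ'
  have hβ : 𝒴.p.IsHomLift (𝟙 (Over.mk s)) Q'.obj.iso.hom := h1 ▸ Q'.property
  obtain ⟨α, hα, hfα⟩ := H k s Q'.obj.fst Q'.obj.snd h1 h2 Q'.obj.iso.hom hβ
  let w : AlgSt.FPt 𝒳 := { K := k, str := s, obj := Q'.obj.fst, lies := h1 }
  refine ⟨AlgSt.Points.mk w, ?_⟩
  rw [AlgSt.Points.map_mk]
  let m : (FibCat.diag f).obj Q'.obj.fst ⟶ Q' :=
    ObjectProperty.homMk ⟨𝟙 _, α, by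
      change f.map (𝟙 _) ≫ Q'.obj.iso.hom = 𝟙 _ ≫ f.map α
      rw [hfα]; simp⟩
  exact points_mk_eq_of_hom (p := w.map (FibCat.diag f)) (q := q) (m ≫ ψ)

/-- Surjectivity of the diagonal on points gives lifting of 2-arrows at geometric points. -/
theorem lift_of_isSurjective_diag (h𝒳 : AlgSt.IsAlgStack Scheme.fppfPrecoverage 𝒳)
    (h𝒴 : AlgSt.IsAlgStack Scheme.fppfPrecoverage 𝒴) (f : 𝒳 ⥤ᵇ 𝒴)
    (hΔ : AlgSt.IsSurjective (FibCat.diag f))
    (k : Type u) [Field k] [IsAlgClosed k] (s : Spec (CommRingCat.of k) ⟶ S) (a₁ a₂ : 𝒳.obj)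
    (h₁ : 𝒳.p.obj a₁ = Over.mk s) (h₂ : 𝒳.p.obj a₂ = Over.mk s) (β : f.obj a₁ ⟶ f.obj a₂)
    (hβ : 𝒴.p.IsHomLift (𝟙 (Over.mk s)) β) :
    ∃ α : a₁ ⟶ a₂, 𝒳.p.IsHomLift (𝟙 (Over.mk s)) α ∧ f.map α = β := by
  have gX := h𝒳.isStack.1
  have gY := h𝒴.isStack.1
  have gff : FibCat.IsFibGrpd (FibCat.fp f f).p := fp_isFibGrpd f f gX gX gY
  have := IsFibGrpd.isFibered (FibCat.fp f f).p gff
  have hβiso : IsIso β := IsFibGrpd.isIso_of_base_isIso 𝒴.p gY (𝟙 (Over.mk s)) β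
  let T : Over S := Over.mk s
  let o : (FibCat.fp f f).obj := ⟨⟨a₁, a₂, asIso β⟩, by
    change 𝒴.p.IsHomLift (𝟙 (𝒳.p.obj a₁)) β
    rw [h₁]; exact hβ⟩
  have lies : (FibCat.fp f f).p.obj o = T := h₁
  let t : FibCat.overCat T ⥤ᵇ FibCat.fp f f := yonedaFunctor o lies
  have hrep : AlgSt.RepByAlgSp1 (FibCat.diag f) := repByAlgSp1_diag_of_diag f h𝒳.diag h𝒴.diag
  have hΔs : AlgSt.RepByAlgSpWith AlgSp.IsSurjectiveMor (FibCat.diag f) :=
    repByAlgSpWith_surjective_of_isSurjective gX gff (FibCat.diag f) hrep hΔ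
  have hloft : AlgSt.RepByAlgSpWith (AlgSp.LocP @LocallyOfFiniteType) (FibCat.diag f) :=
    repByAlgSpWith_loft_diag gX h𝒳.diag h𝒳.atlas h𝒴.diag f
  obtain ⟨E, e, he, hsurj⟩ := hΔs T t
  obtain ⟨E₂, e₂, he₂, hl₂⟩ := hloft T t
  have hl : AlgSp.LocP @LocallyOfFiniteType
      (AlgSt.spMapOfOver (BasedFunctor.comp e (FibCat.fpFst t (FibCat.diag f)))) :=
    prop_of_rep_over _ (locP_baseChange Groth.Agent.Lib.Helper78.AlgSpLocPLoft.etLocalST_loft)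
      (FibCat.fpFst t (FibCat.diag f)) E E₂ e e₂ he he₂ hl₂
  let Φ := BasedFunctor.comp e (FibCat.fpFst t (FibCat.diag f))
  obtain ⟨W, c, hW, hc1, hc2, hh⟩ := exists_scheme_chart E.property (AlgSt.spMapOfOver Φ)
  have hWl : LocallyOfFiniteType hW.left := locP_chart (AlgSt.spMapOfOver Φ) c hW hc1 hh hl
  have hWs : Surjective hW.left := surjective_chart (AlgSt.spMapOfOver Φ) c hW hc2 hh hsurj
  have hne : Nonempty ↥W.left := by
    obtain ⟨w, -⟩ := hWs.surj (Classical.arbitrary ↥(Spec (CommRingCat.of k)))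
    exact ⟨w⟩
  have hWl' : LocallyOfFiniteType (hW.left : W.left ⟶ Spec (CommRingCat.of k)) := hWl
  obtain ⟨σ, hσ⟩ := Groth.Agent.S9954.exists_section_of_isAlgClosed
    (hW.left : W.left ⟶ Spec (CommRingCat.of k))
  let σ' : T ⟶ W := Over.homMk σ (by
    have := Over.w hW
    change σ ≫ W.hom = s
    rw [← this, ← Category.assoc, hσ]
    exact Category.id_comp _)
  have hσ' : σ' ≫ hW = 𝟙 T := by
    apply Over.OverMorphism.ext
    exact hσ
  let G : FibCat.overCat W ⥤ᵇ FibCat.overCat T := BasedFunctor.comp (ptFun c.hom) Φ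
  have hcl : overClassify G = hW := by
    apply (AlgSp.yon S).map_injective
    rw [← hh]
    exact yon_map_overClassify c Φ
  let O : (FibCat.fp t (FibCat.diag f)).obj := e.obj ((ptFun c.hom).obj (Over.mk σ'))
  let c₀ : Over T := O.obj.fst
  have hc₀ : IsIso c₀.hom := by
    have h3 := overClassify_spec G (Over.mk σ')
    rw [hcl] at h3
    change c₀.hom = _ at h3
    rw [h3]
    change IsIso (eqToHom _ ≫ σ' ≫ hW)
    rw [hσ']
    infer_instance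
  let x : 𝒳.obj := O.obj.snd
  let θ : t.obj c₀ ≅ (FibCat.diag f).obj x := O.obj.iso
  have hθ : (FibCat.fp f f).p.IsHomLift (𝟙 c₀.left) θ.hom := O.property
  have hθi : (FibCat.fp f f).p.IsHomLift (𝟙 c₀.left) θ.inv := by
    have : (FibCat.fp f f).p.IsHomLift (inv (𝟙 c₀.left)) (inv θ.hom) := inferInstance
    simpa using this
  have hpm : (FibCat.fp f f).p.IsHomLift c₀.hom (IsPreFibered.pullbackMap lies c₀.hom) := inferInstance
  let ν : (FibCat.diag f).obj x ⟶ o := θ.inv ≫ IsPreFibered.pullbackMap lies c₀.hom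
  have hν : (FibCat.fp f f).p.IsHomLift c₀.hom ν := by
    have : (FibCat.fp f f).p.IsHomLift (𝟙 c₀.left ≫ c₀.hom) ν := inferInstance
    simpa using this
  have hνiso : IsIso ν := IsFibGrpd.isIso_of_base_isIso (FibCat.fp f f).p gff c₀.hom ν
  let ν₁ : x ⟶ a₁ := ν.hom.fst
  let ν₂ : x ⟶ a₂ := ν.hom.snd
  have hν₁ : 𝒳.p.IsHomLift c₀.hom ν₁ :=
    (inferInstance : 𝒳.p.IsHomLift c₀.hom ((FibCat.fpFst f f).map ν))
  have hν₂ : 𝒳.p.IsHomLift c₀.hom ν₂ :=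
    (inferInstance : 𝒳.p.IsHomLift c₀.hom ((FibCat.fpSnd f f).map ν))
  have hν₁iso : IsIso ν₁ := (inferInstance : IsIso ((FibCat.fpFst f f).map ν))
  have hw : f.map ν₁ ≫ β = f.map ν₂ := by
    have h4 := ν.hom.w
    change f.map ν₁ ≫ β = 𝟙 _ ≫ f.map ν₂ at h4
    rw [h4, Category.id_comp]
  refine ⟨inv ν₁ ≫ ν₂, ?_, ?_⟩
  · have h5 : 𝒳.p.IsHomLift (inv c₀.hom ≫ c₀.hom) (inv ν₁ ≫ ν₂) := inferInstance
    rw [IsIso.inv_hom_id] at h5
    exact h5
  · rw [Functor.map_comp, Functor.map_inv, IsIso.inv_comp_eq]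
    exact hw.symm

end Groth.Agent.Lib.Helper80
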