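import Groth.Agent.Lib.Helper80.AlgStBC
import Groth.Prelude.Def_AlgSt4

/-!
# Points of categories over `(Sch/S)`: functoriality, equivalences; quasi-compactness (helper80)
-/

set_option autoImplicit false
set_option backward.isDefEq.respectTransparency false

universe u

open CategoryTheory CategoryTheory.Functor CategoryTheory.Limits AlgebraicGeometry Opposite

namespace Groth.Agent.Lib.Helper80

open BasedFunctor

variable {S : Scheme.{u}}

section Points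

variable {𝒜 ℬ 𝒞 : AlgSt.Cat S}

theorem points_map_comp (F : 𝒜 ⥤ᵇ ℬ) (G : ℬ ⥤ᵇ 𝒞) :
    AlgSt.Points.map (BasedFunctor.comp F G) = AlgSt.Points.map G ∘ AlgSt.Points.map F := by
  funext x
  obtain ⟨p, rfl⟩ := AlgSt.Points.mk_surjective x
  rfl

/-- A functor over the base which is essentially surjective over the base is surjective on
points. -/
theorem points_map_surjective_of_essSurjOver (E : 𝒜 ⥤ᵇ ℬ)
    (hE : ∀ b : ℬ.obj, ∃ (a : 𝒜.obj) (θ : E.obj a ≅ b), ℬ.p.IsHomLift (𝟙 (ℬ.p.obj b)) θ.hom) :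
    Function.Surjective (AlgSt.Points.map E) := by
  intro y
  obtain ⟨q, rfl⟩ := AlgSt.Points.mk_surjective y
  obtain ⟨a, θ, hθ⟩ := hE q.obj
  have ha : 𝒜.p.obj a = Over.mk q.str :=
    ((E.w_obj a).symm.trans (IsHomLift.domain_eq ℬ.p (𝟙 (ℬ.p.obj q.obj)) θ.hom)).trans q.lies
  let p : AlgSt.FPt 𝒜 := { K := q.K, str := q.str, obj := a, lies := ha }
  refine ⟨AlgSt.Points.mk p, ?_⟩
  rw [AlgSt.Points.map_mk]
  exact AlgSt.Points.sound ⟨p.map E, 𝟙 _, θ.hom, trivial⟩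

theorem points_map_surjective_of_isEquivOver (E : 𝒜 ⥤ᵇ ℬ) (hE : FibCat.IsEquivOver E) :
    Function.Surjective (AlgSt.Points.map E) :=
  points_map_surjective_of_essSurjOver E (IsEquivOver.isFFEssSurjOver hE).essSurj

/-- Points of isomorphic functors agree. -/
theorem points_map_eq_of_iso {F G : 𝒜 ⥤ᵇ ℬ} (i : F ≅ G) :
    AlgSt.Points.map F = AlgSt.Points.map G := by
  funext x
  obtain ⟨p, rfl⟩ := AlgSt.Points.mk_surjective x
  rw [AlgSt.Points.map_mk, AlgSt.Points.map_mk]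
  exact AlgSt.Points.sound ⟨p.map F, 𝟙 _, i.hom.toNatTrans.app p.obj, trivial⟩

end Points

section QC

variable {𝒳 𝒴 𝒴' : AlgSt.Cat S}

theorem isQuasiCompact_of_isEquivOver (e : 𝒳 ⥤ᵇ 𝒴) (he : FibCat.IsEquivOver e)
    (h : AlgSt.IsQuasiCompact 𝒳) : AlgSt.IsQuasiCompact 𝒴 := by
  obtain ⟨U, x, hU, h1, h2⟩ := h
  refine ⟨U, BasedFunctor.comp x e, hU, ?_, ?_⟩
  · exact (repByAlgSpWith_iff_of_square _ (BasedFunctor.comp x e) x (BasedFunctor.id _) e
      isEquivOver_id he (BasedNatIso.id _)).mpr h1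
  · exact (repByAlgSpWith_iff_of_square _ (BasedFunctor.comp x e) x (BasedFunctor.id _) e
      isEquivOver_id he (BasedNatIso.id _)).mpr h2

theorem isQuasiCompactMor_fpFst (K : Precoverage Scheme.{u}) (f : 𝒳 ⥤ᵇ 𝒴) (g : 𝒴' ⥤ᵇ 𝒴)
    (h : AlgSt.IsQuasiCompactMor K f) : AlgSt.IsQuasiCompactMor K (FibCat.fpFst g f) := by
  intro 𝒵 h𝒵 hqc z
  exact isQuasiCompact_of_isEquivOver (fpPasteLeft z g f) (fpPasteLeft_isEquivOver z g f)
    (h 𝒵 h𝒵 hqc (BasedFunctor.comp z g))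

theorem isUnivInjective_fpFst (K : Precoverage Scheme.{u}) (f : 𝒳 ⥤ᵇ 𝒴) (g : 𝒴' ⥤ᵇ 𝒴)
    (h : AlgSt.IsUnivInjective K f) : AlgSt.IsUnivInjective K (FibCat.fpFst g f) := by
  intro 𝒵 h𝒵 z
  have h1 := h 𝒵 h𝒵 (BasedFunctor.comp z g)
  have h2 : AlgSt.Points.map (FibCat.fpFst (BasedFunctor.comp z g) f) =
      AlgSt.Points.map (FibCat.fpFst z (FibCat.fpFst g f)) ∘
        AlgSt.Points.map (fpPasteLeft z g f) := by
    rw [← points_map_comp]
    rfl
  rw [h2] at h1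
  exact Function.Injective.of_comp_right h1
    (points_map_surjective_of_isEquivOver _ (fpPasteLeft_isEquivOver z g f))

end QC

end Groth.Agent.Lib.Helper80
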