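import Groth.Agent.Lib.Helper80.AlgStQcMor2
import Groth.Agent.Lib.Helper80.AlgStCancel2
import Groth.Agent.Lib.Helper80.AlgStDesc2
import Groth.Agent.Lib.Helper80.AlgStBC
import Groth.Agent.Lib.Helper78.AlgSpLqfDesc
import Groth.Agent.Lib.Helper30.AlgSpSep
import Groth.Agent.Lib.Helper30.AlgSpQC
import Groth.Agent.S10519
import Groth.Agent.S10520
import Groth.Agent.S10276
import Groth.Agent.S9901

/-!
# Quasi-compact and quasi-separated algebraic stacks: fibre products (helper80)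
-/

set_option autoImplicit false
set_option backward.isDefEq.respectTransparency false

universe u

open CategoryTheory CategoryTheory.Functor CategoryTheory.Limits AlgebraicGeometry Opposite

namespace Groth.Agent.Lib.Helper80

open BasedFunctor

variable {S : Scheme.{u}} {𝒳 𝒴 𝒵 : AlgSt.Cat S}

/-- Quasi-separatedness is invariant under isomorphism of functors. -/
theorem isQuasiSeparatedMor_of_iso {f f' : 𝒳 ⥤ᵇ 𝒴} (i : f ≅ f') (hf : AlgSt.IsQuasiSeparatedMor f) :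
    AlgSt.IsQuasiSeparatedMor f' :=
  (repByAlgSpWith_diag_iff_of_square _ f f' (BasedFunctor.id _) (BasedFunctor.id _) isEquivOver_id
    isEquivOver_id (i.symm : BasedFunctor.comp f' (BasedFunctor.id _) ≅
      BasedFunctor.comp (BasedFunctor.id _) f)).mp hf

/-- Composition of quasi-separated morphisms (the proof of `S12955`, for categories fibred in groupoids). -/
theorem isQuasiSeparatedMor_comp (h𝒳 : FibCat.IsFibGrpd 𝒳.p) (h𝒴 : FibCat.IsFibGrpd 𝒴.p)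
    (f : 𝒳 ⥤ᵇ 𝒴) (g : 𝒴 ⥤ᵇ 𝒵) (hf : AlgSt.IsQuasiSeparatedMor f) (hg : AlgSt.IsQuasiSeparatedMor g) :
    AlgSt.IsQuasiSeparatedMor (BasedFunctor.comp f g) := by
  have hP : AlgSp.IsLocalOnBase (AlgSp.IsFpqcCover (S := S))
      (AlgSp.IsQuasiCompactMor ⊓ AlgSp.IsQuasiSeparatedMor) :=
    Groth.Agent.Lib.Helper78.AlgSpLqfDesc.isLocalOnBase_and (Groth.Agent.S10519.result S)
      (Groth.Agent.S10520.result S)
  refine repByAlgSpWith_diag_comp h𝒳 h𝒴 _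
    (atlasLocal_of_isLocalOnBase_fppf _ (isLocalOnBase_fppf_of_fpqc hP)) ?_ f g hf hg
  intro X Y Z hX hY hZ a b ha hb
  refine ⟨Groth.Agent.Lib.Helper30.isQuasiCompactMor_comp hY hZ ha.1 hb.1, ?_⟩
  show AlgSp.RepWith @QuasiCompact (Limits.pullback.diagonal (a ≫ b))
  rw [Groth.Agent.S10276.diagonal_comp_mapDesc]
  exact (AlgSp.RepWith @QuasiCompact).comp_mem _ _ ha.2
    ((Groth.Agent.S9901.result (X := ⟨X, hX⟩) (Y := ⟨X, hX⟩) (Z := ⟨Y, hY⟩) (T := ⟨Z, hZ⟩)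
      (ObjectProperty.homMk a) (ObjectProperty.homMk a) (ObjectProperty.homMk b)).2.2.2.2.2.2 hb.2)

/-- Cancellation for quasi-separated morphisms (the proof of `S12959`). -/
theorem isQuasiSeparatedMor_of_comp (f : 𝒳 ⥤ᵇ 𝒴) (g : 𝒴 ⥤ᵇ 𝒵)
    (hgf : AlgSt.IsQuasiSeparatedMor (BasedFunctor.comp f g))
    (hg : AlgSt.RepByAlgSpWith AlgSp.IsQuasiSeparatedMor (FibCat.diag g)) :
    AlgSt.IsQuasiSeparatedMor f := by
  refine repByAlgSpWith_diag_of_diag_comp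
    (AlgSp.IsQuasiCompactMor ⊓ AlgSp.IsQuasiSeparatedMor) AlgSp.IsQuasiSeparatedMor ?_ ?_ f g hg hgf
  · intro X₁ Y₁ X₂ Y₂ h1 h2 h3 h4 a b a' b' sq ha
    exact ⟨Groth.Agent.Lib.Helper30.isQuasiCompactMor_snd_of_isPullback sq ha.1,
      Groth.Agent.Lib.Helper30.diagonal_of_isPullback (AlgSp.RepWith @QuasiCompact) sq ha.2⟩
  · intro X Y Z hX hY hZ a b hb hab
    refine ⟨Groth.Agent.Lib.Helper30.isQuasiCompactMor_of_comp_of_isQuasiSeparatedMor hX hY hZ a b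
      hab.1 hb, ?_⟩
    have h2 : AlgSp.RepWith @QuasiCompact (Limits.pullback.diagonal (a ≫ b)) := hab.2
    rw [Groth.Agent.S10276.diagonal_comp_mapDesc] at h2
    have : Mono (Limits.pullback.mapDesc a a b) := ⟨fun u v h => by
      apply Limits.pullback.hom_ext
      · simpa using congrArg (· ≫ Limits.pullback.fst _ _) h
      · simpa using congrArg (· ≫ Limits.pullback.snd _ _) h⟩
    exact Groth.Agent.Lib.Helper30.repWith_of_comp_mono @QuasiCompact _ _ h2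

/-- `S12988`. -/
theorem isQuasiCompact_and_isQuasiSeparatedOver_fp [QuasiSeparatedSpace ↥S]
    (h𝒳 : AlgSt.IsAlgStack Scheme.fppfPrecoverage 𝒳) (h𝒴 : AlgSt.IsAlgStack Scheme.fppfPrecoverage 𝒴)
    (h𝒵 : AlgSt.IsAlgStack Scheme.fppfPrecoverage 𝒵) (a : 𝒳 ⥤ᵇ 𝒴) (b : 𝒵 ⥤ᵇ 𝒴)
    (hqc𝒳 : AlgSt.IsQuasiCompact 𝒳) (hqs𝒳 : AlgSt.IsQuasiSeparatedOver 𝒳)
    (hqs𝒴 : AlgSt.IsQuasiSeparatedOver 𝒴)
    (hqc𝒵 : AlgSt.IsQuasiCompact 𝒵) (hqs𝒵 : AlgSt.IsQuasiSeparatedOver 𝒵) :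
    AlgSt.IsQuasiCompact (FibCat.fp a b) ∧ AlgSt.IsQuasiSeparatedOver (FibCat.fp a b) := by
  have hb : AlgSt.IsQuasiCompactMor Scheme.fppfPrecoverage b :=
    isQuasiCompactMor_of_isQuasiCompact_of_isQuasiSeparatedOver h𝒵 h𝒴 b hqc𝒵 hqs𝒴
  refine ⟨hb 𝒳 h𝒳 hqc𝒳 a, ?_⟩
  have hΔ𝒴 : AlgSt.RepByAlgSpWith AlgSp.IsQuasiSeparatedMor (FibCat.diag (FibCat.toSelf 𝒴)) :=
    repByAlgSpWith_congr _ _ (fun _ _ _ h => h.2) hqs𝒴
  have hb_qs : AlgSt.IsQuasiSeparatedMor b :=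
    isQuasiSeparatedMor_of_comp b (FibCat.toSelf 𝒴)
      (isQuasiSeparatedMor_of_iso (selfOverIso (FibCat.toSelf 𝒵) (BasedFunctor.comp b (FibCat.toSelf 𝒴)))
        hqs𝒵) hΔ𝒴
  have h1 : AlgSt.IsQuasiSeparatedMor (FibCat.fpFst a b) := repByAlgSpWith_diag_fpFst a b _ hb_qs
  have g1 : FibCat.IsFibGrpd (FibCat.fp a b).p :=
    fp_isFibGrpd _ _ h𝒳.isStack.1 h𝒵.isStack.1 h𝒴.isStack.1
  have h2 : AlgSt.IsQuasiSeparatedMor (BasedFunctor.comp (FibCat.fpFst a b) (FibCat.toSelf 𝒳)) :=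
    isQuasiSeparatedMor_comp g1 h𝒳.isStack.1 _ _ h1 hqs𝒳
  exact isQuasiSeparatedMor_of_iso (selfOverIso _ _) h2

end Groth.Agent.Lib.Helper80
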