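import Groth.Agent.Lib.Helper80.AlgStSmLoc
import Groth.Agent.Lib.Helper78.AlgSpNoethDesc
import Groth.Agent.Lib.Helper78.AlgSpMisc3

/-!
# Locally Noetherian algebraic stacks (helper80)
-/

set_option autoImplicit false
set_option backward.isDefEq.respectTransparency false

universe u

open CategoryTheory CategoryTheory.Functor CategoryTheory.Limits AlgebraicGeometry Opposite

namespace Groth.Agent.Lib.Helper80

open BasedFunctor

variable {S : Scheme.{u}} {𝒳 𝒴 : AlgSt.Cat S}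

/-- The scheme charts of the fibre product of a smooth surjective scheme chart `x` and a smooth scheme chart `y`. -/
theorem exists_smooth_charts (U : Over S) (x : FibCat.overCat U ⥤ᵇ 𝒳)
    (hx₁ : AlgSt.RepByAlgSpWith (AlgSp.LocP @Smooth) x)
    (hx₂ : AlgSt.RepByAlgSpWith AlgSp.IsSurjectiveMor x) (V : Over S) (y : FibCat.overCat V ⥤ᵇ 𝒳)
    (hy : AlgSt.RepByAlgSpWith (AlgSp.LocP @Smooth) y) :
    ∃ (W : Over S) (h₁ : W ⟶ V) (h₂ : W ⟶ U), Smooth h₁.left ∧ Surjective h₁.left ∧ Smooth h₂.left := by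
  have hQ := Groth.Agent.Lib.Helper78.AlgSpLocPSmooth.etLocalST_smooth
  obtain ⟨E, e, he, ha₁⟩ := hx₁ V y
  have ha₁' : AlgSp.IsSurjectiveMor (AlgSt.spMapOfOver (BasedFunctor.comp e (FibCat.fpFst y x))) := by
    obtain ⟨E', e', he', h'⟩ := hx₂ V y
    exact prop_of_rep_over AlgSp.IsSurjectiveMor
      (fun _ _ _ _ _ _ _ _ _ _ _ _ sq ha => isSurjectiveMor_baseChange sq ha)
      (FibCat.fpFst y x) E E' e e' he he' h'
  have h2 : AlgSt.RepByAlgSpWith (AlgSp.LocP @Smooth) (FibCat.fpSnd y x) :=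
    repByAlgSpWith_fpSnd _ y x hy
  have h3 := (repByAlgSpWith_precomp_equiv _ e he (FibCat.fpSnd y x)).mp h2
  have ha₂ : AlgSp.LocP @Smooth (AlgSt.spMapOfOver (BasedFunctor.comp e (FibCat.fpSnd y x))) :=
    (repByAlgSpWith_ofSp_overCat_iff _ (locP_baseChange hQ) (atlasLocal_locP hQ) E.property _).mp h3
  obtain ⟨W, c, hc1, hc2⟩ := E.property.atlas
  obtain ⟨h₁, hh₁⟩ := (AlgSp.yon S).map_surjective
    (c ≫ AlgSt.spMapOfOver (BasedFunctor.comp e (FibCat.fpFst y x)))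
  obtain ⟨h₂, hh₂⟩ := (AlgSp.yon S).map_surjective
    (c ≫ AlgSt.spMapOfOver (BasedFunctor.comp e (FibCat.fpSnd y x)))
  exact ⟨W, h₁, h₂, locP_chart _ c h₁ hc1 hh₁.symm ha₁, surjective_chart _ c h₁ hc2 hh₁.symm ha₁',
    locP_chart _ c h₂ hc1 hh₂.symm ha₂⟩

/-- A smooth surjective scheme chart which is locally Noetherian makes the stack locally Noetherian. -/
theorem locNoeth_of_chart (U : Over S) (x : FibCat.overCat U ⥤ᵇ 𝒳)
    (hx₁ : AlgSt.RepByAlgSpWith (AlgSp.LocP @Smooth) x)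
    (hx₂ : AlgSt.RepByAlgSpWith AlgSp.IsSurjectiveMor x) (hU : IsLocallyNoetherian U.left) :
    AlgSt.SmoothLocally (fun T ↦ IsLocallyNoetherian T) 𝒳 := by
  intro V y hy
  obtain ⟨W, h₁, h₂, s1, s1', s2⟩ := exists_smooth_charts U x hx₁ hx₂ V y hy
  have : IsLocallyNoetherian W.left := LocallyOfFiniteType.isLocallyNoetherian h₂.left
  exact Groth.Agent.Lib.Helper78.AlgSpNoethDesc.isLocallyNoetherian_of_fppf_surjective h₁.left

/-- `S12998`. -/
theorem locNoeth_of_locQ_loft (f : 𝒳 ⥤ᵇ 𝒴)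
    (hf : AlgSt.LocQ (AlgSp.LocP @LocallyOfFiniteType) f)
    (h𝒴 : AlgSt.SmoothLocally (fun T ↦ IsLocallyNoetherian T) 𝒴) :
    AlgSt.SmoothLocally (fun T ↦ IsLocallyNoetherian T) 𝒳 := by
  obtain ⟨U, V, x, y, h, α, hx1, hx2, hy, hh⟩ := hf
  have : IsLocallyNoetherian V.left := h𝒴 V y hy
  have : LocallyOfFiniteType h.left := AlgSp.locP_yon_map hh
  exact locNoeth_of_chart U x hx1 hx2 (LocallyOfFiniteType.isLocallyNoetherian h.left)

/-- `S12999`. -/
theorem locQ_lofp_of_locQ_loft (f : 𝒳 ⥤ᵇ 𝒴)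
    (h𝒴 : AlgSt.SmoothLocally (fun T ↦ IsLocallyNoetherian T) 𝒴)
    (hf : AlgSt.LocQ (AlgSp.LocP @LocallyOfFiniteType) f) :
    AlgSt.LocQ (AlgSp.LocP @LocallyOfFinitePresentation) f := by
  obtain ⟨U, V, x, y, h, α, hx1, hx2, hy, hh⟩ := hf
  have : IsLocallyNoetherian V.left := h𝒴 V y hy
  have h1 : LocallyOfFiniteType h.left := AlgSp.locP_yon_map hh
  refine ⟨U, V, x, y, h, α, hx1, hx2, hy, ?_⟩
  exact (Groth.Agent.Lib.Helper78.AlgSpLocP.locP_yon_map_iff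
    Groth.Agent.Lib.Helper78.AlgSpLocPLofp.etLocalST_lofp h).mpr
    (Groth.Agent.Lib.Helper78.AlgSpMisc.lofp_of_loft_of_isLocallyNoetherian h.left h1)

end Groth.Agent.Lib.Helper80
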