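import Groth.Agent.Lib.Helper80.AlgStQcMor
import Groth.Agent.Lib.Helper80.AlgStQcMor3
import Groth.Agent.Lib.Helper80.AlgStDesc
import Groth.Agent.Lib.Helper80.AlgStDesc2
import Groth.Agent.Lib.Helper80.AlgStBridge2
import Groth.Agent.Lib.Helper80.AlgStChart
import Groth.Agent.Lib.Helper80.AlgStSmLoc2
import Groth.Agent.Lib.Helper80.AlgStLocQ
import Groth.Agent.Lib.Helper80.AlgSpSmLocalST
import Groth.Agent.Lib.Helper30.AlgSpMor
import Groth.Agent.Lib.Helper30.AlgSpLoc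
import Groth.Agent.S10519
import Groth.Agent.Lib.Helper80.AlgStEquiv2
import Groth.Agent.Lib.Helper80.AlgStBC
import Groth.Agent.Lib.Helper80.AlgStPts
import Groth.Agent.Lib.Helper51.AlgSpPoints2
import Mathlib.AlgebraicGeometry.Noetherian
import Mathlib.AlgebraicGeometry.Morphisms.Immersion

/-!
# Immersions into locally Noetherian algebraic stacks
-/

set_option autoImplicit false
universe u
open CategoryTheory AlgebraicGeometry Limits

namespace Groth.Agent.Lib.Helper80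

open BasedFunctor

variable {S : Scheme.{u}}

/-- An immersion into a locally Noetherian scheme is quasi-compact. -/
theorem quasiCompact_of_isImmersion_of_isLocallyNoetherian {X Y : Scheme.{u}} (f : X ⟶ Y)
    [IsImmersion f] [IsLocallyNoetherian Y] : QuasiCompact f := by
  rw [← f.liftCoborder_ι]
  infer_instance

/-- A representable immersion into a locally Noetherian scheme is quasi-compact. -/
theorem isQuasiCompactMor_of_repWith_isImmersion {E : AlgSp.Sp S} {V : Over S}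
    [IsLocallyNoetherian V.left] (m : E ⟶ (AlgSp.yon S).obj V) (hm : AlgSp.RepWith @IsImmersion m) :
    AlgSp.IsQuasiCompactMor m := by
  apply Groth.Agent.Lib.Helper30.isQuasiCompactMor_of_repWith
  have hr := hm.1
  have sq := hr.isPullback (𝟙 _)
  have hiso : IsIso (hr.fst (𝟙 _)) := sq.isIso_fst_of_isIso
  have himm : IsImmersion (hr.snd (𝟙 _)).left := hm.2 _ _ _ sq
  have hqc : QuasiCompact (hr.snd (𝟙 _)).left :=
    quasiCompact_of_isImmersion_of_isLocallyNoetherian _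
  have h1 : AlgSp.RepWith @QuasiCompact ((AlgSp.yon S).map (hr.snd (𝟙 _))) :=
    (AlgSp.repWith_yon_map_iff @QuasiCompact _).2 hqc
  have hw : m = inv (hr.fst (𝟙 _)) ≫ (AlgSp.yon S).map (hr.snd (𝟙 _)) := by
    rw [IsIso.eq_inv_comp, sq.w, Category.comp_id]
  rw [hw]
  exact (MorphismProperty.cancel_left_of_respectsIso (AlgSp.RepWith @QuasiCompact) _ _).2 h1

variable {𝒳 𝒴 : AlgSt.Cat S}

/-- An immersion is locally of finite type. -/
theorem repByAlgSpWith_loft_of_isImm (j : 𝒳 ⥤ᵇ 𝒴) (hj : AlgSt.IsImm j) :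
    AlgSt.RepByAlgSpWith (AlgSp.LocP @LocallyOfFiniteType) j :=
  repByAlgSpWith_congr' _ _ (fun _ _ a _ ha =>
    Groth.Agent.Lib.Helper30.locP_of_repWith @IsImmersion @LocallyOfFiniteType
      (fun k i hk hi => by
        have : Etale k := hk
        have : IsImmersion i := hi
        infer_instance) ha) hj

/-- `S13017`, first half. -/
theorem locNoeth_of_isImm (h𝒳 : AlgSt.IsAlgStack Scheme.fppfPrecoverage 𝒳)
    (h𝒴 : AlgSt.IsAlgStack Scheme.fppfPrecoverage 𝒴) (j : 𝒳 ⥤ᵇ 𝒴) (hj : AlgSt.IsImm j)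
    (hN : AlgSt.SmoothLocally (fun T ↦ IsLocallyNoetherian T) 𝒴) :
    AlgSt.SmoothLocally (fun T ↦ IsLocallyNoetherian T) 𝒳 :=
  locNoeth_of_locQ_loft j
    (locQ_of_repByAlgSpWith_locP Groth.Agent.Lib.Helper78.AlgSpLocPLoft.etLocalST_loft
      (fun k hk => smooth_loft k hk) h𝒳 h𝒴 j (repByAlgSpWith_loft_of_isImm j hj)) hN

/-- An immersion into a locally Noetherian algebraic stack is representable by algebraic spaces and
quasi-compact. -/
theorem repByAlgSpWith_isQuasiCompactMor_of_isImm (h𝒳 : AlgSt.IsAlgStack Scheme.fppfPrecoverage 𝒳)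
    (h𝒴 : AlgSt.IsAlgStack Scheme.fppfPrecoverage 𝒴) (j : 𝒳 ⥤ᵇ 𝒴) (hj : AlgSt.IsImm j)
    (hN : AlgSt.SmoothLocally (fun T ↦ IsLocallyNoetherian T) 𝒴) :
    AlgSt.RepByAlgSpWith AlgSp.IsQuasiCompactMor j := by
  have gX := h𝒳.isStack.1
  have gY := h𝒴.isStack.1
  obtain ⟨V, y, hy1, hy2⟩ := h𝒴.atlas
  have gV := overCat_isFibGrpd V
  have : IsLocallyNoetherian V.left := hN V y hy1
  have hrep : AlgSt.RepByAlgSp1 j := fun U t => by
    obtain ⟨E, e, he, -⟩ := hj U t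
    exact ⟨E, e, he⟩
  refine repByAlgSpWith_of_fppf_cover gX gY gV AlgSp.IsQuasiCompactMor isQuasiCompactMor_baseChange
    (isLocalOnBase_fppf_of_fpqc (Groth.Agent.S10519.result S)) j hrep y
    (repByAlgSpWith_locP_mono (fun _ _ k hk => smooth_flat k hk) hy1)
    (repByAlgSpWith_locP_mono (fun _ _ k hk => smooth_lofp k hk) hy1) hy2 ?_
  obtain ⟨E, e, he, hm⟩ := hj V y
  rw [repByAlgSpWith_precomp_equiv _ e he (FibCat.fpFst y j),
    repByAlgSpWith_ofSp_overCat_iff _ isQuasiCompactMor_baseChange atlasLocal_isQuasiCompactMor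
      E.property]
  exact isQuasiCompactMor_of_repWith_isImmersion _ hm

/-- `S13017`, second half. -/
theorem isQuasiCompactMor_of_isImm (h𝒳 : AlgSt.IsAlgStack Scheme.fppfPrecoverage 𝒳)
    (h𝒴 : AlgSt.IsAlgStack Scheme.fppfPrecoverage 𝒴) (j : 𝒳 ⥤ᵇ 𝒴) (hj : AlgSt.IsImm j)
    (hN : AlgSt.SmoothLocally (fun T ↦ IsLocallyNoetherian T) 𝒴) :
    AlgSt.IsQuasiCompactMor Scheme.fppfPrecoverage j :=
  isQuasiCompactMor_of_repByAlgSpWith h𝒳 h𝒴 j
    (repByAlgSpWith_isQuasiCompactMor_of_isImm h𝒳 h𝒴 j hj hN)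

/-- An immersion is a monomorphism. -/
theorem isMono_of_isImm (j : 𝒳 ⥤ᵇ 𝒴) (hj : AlgSt.IsImm j) : AlgSt.IsMono j :=
  repByAlgSpWith_congr' _ _ (fun _ _ _ _ ha =>
    Groth.Agent.Lib.Helper51.mono_of_repWith_isImmersion ha) hj

theorem isQuasiCompactMor_inf_isQuasiSeparatedMor_id (U : Over S) :
    (AlgSp.IsQuasiCompactMor ⊓ AlgSp.IsQuasiSeparatedMor) (𝟙 ((AlgSp.yon S).obj U)) := by
  refine ⟨Groth.Agent.Lib.Helper30.isQuasiCompactMor_of_repWith (AlgSp.repWith_id @QuasiCompact U), ?_⟩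
  show AlgSp.RepWith @QuasiCompact (pullback.diagonal (𝟙 ((AlgSp.yon S).obj U)))
  have hiso : IsIso (pullback.diagonal (𝟙 ((AlgSp.yon S).obj U))) := inferInstance
  have h1 : AlgSp.RepWith @QuasiCompact
      (𝟙 ((AlgSp.yon S).obj U) ≫ pullback.diagonal (𝟙 ((AlgSp.yon S).obj U))) :=
    (MorphismProperty.cancel_right_of_respectsIso (AlgSp.RepWith @QuasiCompact) _ _).2
      (AlgSp.repWith_id @QuasiCompact U)
  rwa [Category.id_comp] at h1

/-- A monomorphism of categories fibred in groupoids is quasi-separated. -/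
theorem isQuasiSeparatedMor_of_isMono (h𝒳 : FibCat.IsFibGrpd 𝒳.p) (h𝒴 : FibCat.IsFibGrpd 𝒴.p)
    (j : 𝒳 ⥤ᵇ 𝒴) (hj : AlgSt.IsMono j) : AlgSt.IsQuasiSeparatedMor j := by
  obtain ⟨hfull, hfaith⟩ := full_faithful_of_isMono h𝒳 h𝒴 j hj
  have hd := diag_isEquivOver_of_full_faithful j
  exact repByAlgSpWith_of_isEquivOver _ isQuasiCompactMor_inf_isQuasiSeparatedMor_id _ hd

/-- `S13018`. -/
theorem noetherian_of_isImm (h𝒳 : AlgSt.IsAlgStack Scheme.fppfPrecoverage 𝒳)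
    (h𝒴 : AlgSt.IsAlgStack Scheme.fppfPrecoverage 𝒴) (j : 𝒳 ⥤ᵇ 𝒴) (hj : AlgSt.IsImm j)
    (hqc : AlgSt.IsQuasiCompact 𝒴) (hqs : AlgSt.IsQuasiSeparatedOver 𝒴)
    (hN : AlgSt.SmoothLocally (fun T ↦ IsLocallyNoetherian T) 𝒴) :
    AlgSt.IsQuasiCompact 𝒳 ∧ AlgSt.IsQuasiSeparatedOver 𝒳 ∧
      AlgSt.SmoothLocally (fun T ↦ IsLocallyNoetherian T) 𝒳 := by
  have gX := h𝒳.isStack.1
  have gY := h𝒴.isStack.1
  refine ⟨?_, ?_, locNoeth_of_isImm h𝒳 h𝒴 j hj hN⟩
  · have h1 := isQuasiCompactMor_of_isImm h𝒳 h𝒴 j hj hN 𝒴 h𝒴 hqc (BasedFunctor.id 𝒴)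
    obtain ⟨d, hd, -, -⟩ := IsEquivOver.symm (fpIdLeftInv_isEquivOver j)
    exact isQuasiCompact_of_isEquivOver d hd h1
  · have h1 : AlgSt.IsQuasiSeparatedMor j :=
      isQuasiSeparatedMor_of_isMono gX gY j (isMono_of_isImm j hj)
    have h2 : AlgSt.IsQuasiSeparatedMor (BasedFunctor.comp j (FibCat.toSelf 𝒴)) :=
      isQuasiSeparatedMor_comp gX gY j (FibCat.toSelf 𝒴) h1 hqs
    exact isQuasiSeparatedMor_of_iso (selfOverIso (BasedFunctor.comp j (FibCat.toSelf 𝒴)) (FibCat.toSelf 𝒳)) h2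

end Groth.Agent.Lib.Helper80
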