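import Groth.Agent.Lib.Helper80.AlgStFp3
import Groth.Agent.Lib.Helper80.AlgStBC
import Groth.Prelude.Def_AlgSt3
import Mathlib.CategoryTheory.Sites.ConcreteSheafification
import Mathlib.CategoryTheory.Adjunction.Evaluation

/-!
# Monomorphisms of categories over `(Sch/S)` are fully faithful (helper80)
-/

set_option autoImplicit false
set_option backward.isDefEq.respectTransparency false

universe v u

open CategoryTheory CategoryTheory.Functor CategoryTheory.Limits AlgebraicGeometry Opposite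

namespace Groth.Agent.Lib.Helper80

open BasedFunctor

variable {S : Scheme.{u}}

section Sections

/-- A monomorphism of fppf sheaves is injective on sections. -/
theorem sp_injective_of_mono {F G : AlgSp.Sp S} (m : F ⟶ G) [Mono m] (T : (Over S)ᵒᵖ) :
    Function.Injective (m.hom.app T) := by
  have h1 : Mono m.hom := inferInstanceAs (Mono m.1)
  have h2 : Mono (m.hom.app T) := (NatTrans.mono_iff_mono_app m.hom).mp h1 T
  exact (mono_iff_injective (m.hom.app T)).mp h2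

/-- A functor over `(Sch/S)` from the category of a sheaf `F` to a slice whose associated map
`F ⟶ h_U` is injective on sections is full. -/
theorem ofSp_full_of_injective {F : AlgSp.Sp S} {U : Over S}
    (Φ : AlgSt.ofSp F ⥤ᵇ FibCat.overCat U)
    (hinj : ∀ T : (Over S)ᵒᵖ, Function.Injective ((AlgSt.spMapOfOver Φ).hom.app T)) :
    Φ.toFunctor.Full where
  map_surjective {a a'} ψ := by
    let g : a.base ⟶ a'.base := eqToHom (Φ.w_obj a).symm ≫ ψ.left ≫ eqToHom (Φ.w_obj a')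
    have hg : g ≫ AlgSt.secHom Φ a' = AlgSt.secHom Φ a := by
      have h1 : ψ.left ≫ (Φ.obj a').hom = (Φ.obj a).hom := Over.w ψ
      simp only [g, AlgSt.secHom, Category.assoc, eqToHom_trans_assoc, eqToHom_refl,
        Category.id_comp, h1]
    let b : (AlgSt.ofSp F).obj := ⟨a.base, F.obj.map g.op a'.sec⟩
    let μ₀ : b ⟶ a' := ⟨g, rfl⟩
    have hb : AlgSt.secHom Φ b = AlgSt.secHom Φ a := by
      rw [← AlgSt.secHom_comp Φ μ₀]
      exact hg
    have hsec : F.obj.map g.op a'.sec = a.sec := by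
      apply hinj (op a.base)
      rw [AlgSt.spMapOfOver_app, AlgSt.spMapOfOver_app]
      exact congrArg ULift.up hb
    let μ : a ⟶ a' := ⟨g, hsec⟩
    refine ⟨μ, ?_⟩
    have l0 : (AlgSt.ofSp F).p.IsHomLift g μ := IsHomLift.map (AlgSt.ofSp F).p μ
    have l1 : (Over.forget U).IsHomLift g (Φ.map μ) :=
      BasedFunctor.preserves_isHomLift Φ g μ
    have l2 : (Over.forget U).IsHomLift g ψ :=
      IsHomLift.of_fac (Over.forget U) g ψ (Φ.w_obj a) (Φ.w_obj a') rfl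
    exact eq_of_isHomLift_of_faithful (Over.forget U) g (Φ.map μ) ψ

end Sections

section General

variable {C : Type*} [Category C]

/-- If `E` is essentially surjective and `E ⋙ P` is full, then `P` is full. -/
theorem full_of_essSurj_comp_full {A B D : Type*} [Category A] [Category B] [Category D]
    (E : A ⥤ B) (P : B ⥤ D) [E.EssSurj] [(E ⋙ P).Full] : P.Full where
  map_surjective {X Y} ψ := by
    let θ : E.obj (E.objPreimage X) ≅ X := E.objObjPreimageIso X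
    let θ' : E.obj (E.objPreimage Y) ≅ Y := E.objObjPreimageIso Y
    obtain ⟨m, hm⟩ := (E ⋙ P).map_surjective (P.map θ.hom ≫ ψ ≫ P.map θ'.inv)
    refine ⟨θ.inv ≫ E.map m ≫ θ'.hom, ?_⟩
    have hm' : P.map (E.map m) = P.map θ.hom ≫ ψ ≫ P.map θ'.inv := hm
    rw [Functor.map_comp, Functor.map_comp, hm']
    simp only [Category.assoc, ← Functor.map_comp, Iso.inv_hom_id, CategoryTheory.Functor.map_id,
      Category.comp_id]
    rw [← Category.assoc, ← Functor.map_comp, Iso.inv_hom_id, CategoryTheory.Functor.map_id,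
      Category.id_comp]

end General

section FullFp

variable {C : Type u} [Category.{v} C] {𝒳 𝒴 : BasedCategory.{v, max u v} C}

/-- If every base change of `f` to a slice is full (as a functor to the slice), `f` is full. -/
theorem full_of_full_fpFst (h𝒳 : FibCat.IsFibGrpd 𝒳.p) (h𝒴 : FibCat.IsFibGrpd 𝒴.p)
    (f : 𝒳 ⥤ᵇ 𝒴)
    (hf : ∀ (U : C) (y : FibCat.overCat U ⥤ᵇ 𝒴), (FibCat.fpFst y f).toFunctor.Full) :
    f.toFunctor.Full := by
  have := IsFibGrpd.isFibered 𝒴.p h𝒴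
  apply full_of_fiberFunctor_full f h𝒳 h𝒴
  intro U
  refine ⟨fun {x x'} ψ₀ => ?_⟩
  have hψl : 𝒴.p.IsHomLift (𝟙 U) ψ₀.1 := ψ₀.2
  have hfx' : 𝒴.p.obj (f.obj x'.1) = U := (f.w_obj x'.1).trans x'.2
  obtain ⟨Y, ζ, hζ⟩ := exists_yoneda (f.obj x'.1) hfx'
  let u₀ : Over U := Over.mk (𝟙 U)
  have : IsIso ψ₀.1 := IsFibGrpd.isIso_of_base_isIso 𝒴.p h𝒴 (𝟙 U) ψ₀.1
  let ψ : f.obj x.1 ≅ f.obj x'.1 := asIso ψ₀.1
  have hψh : 𝒴.p.IsHomLift (𝟙 U) ψ.hom := hψl
  have hψi : 𝒴.p.IsHomLift (𝟙 U) ψ.inv := IsHomLift.lift_id_inv 𝒴.p U ψ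
  have hQ : 𝒴.p.IsHomLift (𝟙 ((FibCat.overCat U).p.obj u₀)) (ζ ≪≫ ψ.symm).hom :=
    comp_isHomLift_id 𝒴.p ζ.hom ψ.inv (S := U)
  let Q : (FibCat.fp Y f).obj := ⟨⟨u₀, x.1, ζ ≪≫ ψ.symm⟩, hQ⟩
  let Q' : (FibCat.fp Y f).obj := ⟨⟨u₀, x'.1, ζ⟩, hζ⟩
  have := hf U Y
  obtain ⟨m, hm⟩ := (FibCat.fpFst Y f).toFunctor.map_surjective
    (X := Q) (Y := Q') (𝟙 u₀)
  have hm1 : m.hom.fst = 𝟙 u₀ := hm
  have hw : Y.map m.hom.fst ≫ ζ.hom = (ζ.hom ≫ ψ.inv) ≫ f.map m.hom.snd := m.hom.w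
  rw [hm1, CategoryTheory.Functor.map_id, Category.id_comp, Category.assoc] at hw
  have hfm : f.map m.hom.snd = ψ₀.1 := by
    have h2 : ψ.inv ≫ f.map m.hom.snd = 𝟙 _ := (cancel_epi ζ.hom).mp (by rw [← hw, Category.comp_id])
    have h3 : ψ.hom ≫ ψ.inv ≫ f.map m.hom.snd = ψ.hom ≫ 𝟙 _ := by rw [h2]
    rw [Iso.hom_inv_id_assoc, Category.comp_id] at h3
    exact h3
  have hl : 𝒴.p.IsHomLift (𝟙 U) (f.map m.hom.snd) := by rw [hfm]; exact hψl
  have hl' : 𝒳.p.IsHomLift (𝟙 U) m.hom.snd := BasedFunctor.isHomLift_map f (𝟙 U) m.hom.snd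
  exact ⟨⟨m.hom.snd, hl'⟩, Subtype.ext hfm⟩

end FullFp

section Mono

variable {𝒳 𝒴 : AlgSt.Cat S}

/-- The base change of a monomorphism to a slice is full (as a functor to the slice). -/
theorem fpFst_full_of_isMono (j : 𝒳 ⥤ᵇ 𝒴) (hj : AlgSt.IsMono j) (U : Over S)
    (y : FibCat.overCat U ⥤ᵇ 𝒴) : (FibCat.fpFst y j).toFunctor.Full := by
  obtain ⟨F, e, he, hm⟩ := hj U y
  have hm' : Mono (AlgSt.spMapOfOver (BasedFunctor.comp e (FibCat.fpFst y j))) := hm
  have h1 : (e.toFunctor ⋙ (FibCat.fpFst y j).toFunctor).Full :=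
    ofSp_full_of_injective (BasedFunctor.comp e (FibCat.fpFst y j))
      (fun T => sp_injective_of_mono _ T)
  have h2 : e.toFunctor.IsEquivalence := IsEquivOver.isEquivalence he
  exact full_of_essSurj_comp_full e.toFunctor (FibCat.fpFst y j).toFunctor

/-- A monomorphism (representable by algebraic spaces, with monomorphic base changes) between
categories fibred in groupoids is fully faithful. -/
theorem full_faithful_of_isMono (h𝒳 : FibCat.IsFibGrpd 𝒳.p) (h𝒴 : FibCat.IsFibGrpd 𝒴.p)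
    (j : 𝒳 ⥤ᵇ 𝒴) (hj : AlgSt.IsMono j) : j.toFunctor.Full ∧ j.toFunctor.Faithful := by
  refine ⟨full_of_full_fpFst h𝒳 h𝒴 j (fpFst_full_of_isMono j hj), ?_⟩
  apply faithful_of_repByAlgSp1 h𝒳 h𝒴 j
  intro U y
  obtain ⟨F, e, he, -⟩ := hj U y
  exact ⟨F, e, he⟩

end Mono

section DiagSq

variable {𝒳 𝒳' 𝒴 : AlgSt.Cat S}

/-- For `i` fully faithful, the square of the diagonals of `i ⋙ g` and `g` is 2-cartesian. -/
theorem diag_sq_isTwoCartOver_of_full_faithful (i : 𝒳 ⥤ᵇ 𝒳') (g : 𝒳' ⥤ᵇ 𝒴)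
    [i.toFunctor.Full] [i.toFunctor.Faithful] :
    FibCat.IsTwoCartOver
      (F := (FibCat.fpLift (BasedFunctor.comp (FibCat.fpFst (BasedFunctor.comp i g)
          (BasedFunctor.comp i g)) i)
        (BasedFunctor.comp (FibCat.fpSnd (BasedFunctor.comp i g) (BasedFunctor.comp i g)) i)
        (FibCat.fpIso (BasedFunctor.comp i g) (BasedFunctor.comp i g))))
      (G := FibCat.diag g) (FibCat.diag (BasedFunctor.comp i g)) i (Iso.refl _) := by
  apply fpLift_isEquivOver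
  · intro x x' m m' h1 _
    exact congrArg (fun k => k.hom.fst) h1
  · intro x x' φ ψ hw
    have hw1 : i.map φ.hom.fst ≫ 𝟙 _ = 𝟙 _ ≫ ψ := congrArg (fun k => k.hom.fst) hw
    have hw2 : i.map φ.hom.snd ≫ 𝟙 _ = 𝟙 _ ≫ ψ := congrArg (fun k => k.hom.snd) hw
    rw [Category.comp_id, Category.id_comp] at hw1 hw2
    have heq : φ.hom.fst = φ.hom.snd := i.toFunctor.map_injective (hw1.trans hw2.symm)
    refine ⟨φ.hom.fst, ?_, hw1⟩
    apply ObjectProperty.hom_ext
    apply CategoricalPullback.hom_ext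
    · rfl
    · exact heq
  · intro R
    let x₁ := R.obj.fst.obj.fst
    let x₂ := R.obj.fst.obj.snd
    let ι₁ : i.obj x₁ ≅ R.obj.snd := (FibCat.fpFst g g).toFunctor.mapIso R.obj.iso
    let ι₂ : i.obj x₂ ≅ R.obj.snd := (FibCat.fpSnd g g).toFunctor.mapIso R.obj.iso
    have hc : g.map ι₁.hom ≫ 𝟙 _ = R.obj.fst.obj.iso.hom ≫ g.map ι₂.hom :=
      R.obj.iso.hom.hom.w
    rw [Category.comp_id] at hc
    let κ : x₁ ≅ x₂ := i.toFunctor.preimageIso (ι₁ ≪≫ ι₂.symm)
    have hκ : i.map κ.hom = ι₁.hom ≫ ι₂.inv := i.toFunctor.map_preimage _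
    have compatα : (BasedFunctor.comp i g).map (Iso.refl x₁).hom ≫ R.obj.fst.obj.iso.hom =
        ((FibCat.diag (BasedFunctor.comp i g)).obj x₁).obj.iso.hom ≫
          (BasedFunctor.comp i g).map κ.hom := by
      have e1 : g.map ι₂.hom ≫ g.map ι₂.inv = 𝟙 _ := by
        rw [← Functor.map_comp, Iso.hom_inv_id, CategoryTheory.Functor.map_id]
      change (BasedFunctor.comp i g).map (𝟙 x₁) ≫ R.obj.fst.obj.iso.hom =
        𝟙 _ ≫ g.map (i.map κ.hom)
      rw [CategoryTheory.Functor.map_id, Category.id_comp, Category.id_comp, hκ,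
        Functor.map_comp, hc, Category.assoc, e1]
      exact (Category.comp_id _).symm
    let α : (FibCat.diag (BasedFunctor.comp i g)).obj x₁ ≅ R.obj.fst :=
      ObjectProperty.isoMk _ (CategoricalPullback.mkIso (Iso.refl x₁) κ compatα)
    refine ⟨x₁, α, ι₁, ?_, ?_⟩
    · rw [fp_isHomLift_iff]
      exact IsHomLift.id rfl
    · apply ObjectProperty.hom_ext
      apply CategoricalPullback.hom_ext
      · change i.map (𝟙 x₁) ≫ ι₁.hom = 𝟙 _ ≫ ι₁.hom
        rw [CategoryTheory.Functor.map_id]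
      · change i.map κ.hom ≫ ι₂.hom = 𝟙 _ ≫ ι₁.hom
        rw [hκ]
        simp

end DiagSq

end Groth.Agent.Lib.Helper80
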