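import Groth.Agent.Lib.Helper80.AlgStOpenSub2
import Groth.Agent.Lib.Helper80.AlgStImm
import Groth.Agent.Lib.Helper80.AlgStMono
import Groth.Agent.Lib.Helper80.AlgStFp2

/-!
# The locally closed substack attached to an immersion (helper80)
-/

set_option autoImplicit false
set_option backward.isDefEq.respectTransparency false

universe u

open CategoryTheory CategoryTheory.Functor CategoryTheory.Limits AlgebraicGeometry Opposite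

namespace Groth.Agent.Lib.Helper80

open BasedFunctor Groth.Agent.Lib.Helper43.FPtRel Groth.Agent.Lib.Helper43.GerbComp

variable {S : Scheme.{u}} {𝒵 𝒳 : AlgSt.Cat S}

/-- The essential image of a functor. -/
def essIm (i : 𝒵 ⥤ᵇ 𝒳) : 𝒳.obj → Prop := fun y => ∃ z : 𝒵.obj, Nonempty (i.obj z ≅ y)

theorem essIm_isClosedUnderIsomorphisms (i : 𝒵 ⥤ᵇ 𝒳) :
    ObjectProperty.IsClosedUnderIsomorphisms (essIm i) :=
  ⟨fun e ⟨z, ⟨a⟩⟩ => ⟨z, ⟨a ≪≫ e⟩⟩⟩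

/-- The functor to the essential image. -/
def toEssIm (i : 𝒵 ⥤ᵇ 𝒳) : 𝒵 ⥤ᵇ AlgSt.fullSub 𝒳 (essIm i) :=
  liftSub i (essIm i) (fun z => ⟨z, ⟨Iso.refl _⟩⟩)

theorem toEssIm_isEquivOver (gZ : FibCat.IsFibGrpd 𝒵.p) (gX : FibCat.IsFibGrpd 𝒳.p) (i : 𝒵 ⥤ᵇ 𝒳)
    [i.toFunctor.Full] [i.toFunctor.Faithful] : FibCat.IsEquivOver (toEssIm i) := by
  apply IsFFEssSurjOver.isEquivOver
  refine ⟨?_, ?_, ?_⟩
  · refine ⟨fun {a b} φ => ⟨i.toFunctor.preimage φ.hom, ?_⟩⟩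
    apply ObjectProperty.hom_ext
    exact i.toFunctor.map_preimage φ.hom
  · refine ⟨fun {a b} m m' h => ?_⟩
    apply i.toFunctor.map_injective
    exact congrArg (fun φ => φ.hom) h
  · rintro ⟨y, z, ⟨e⟩⟩
    let b : 𝒵.p.obj z ⟶ 𝒳.p.obj y := eqToHom (i.w_obj z).symm ≫ 𝒳.p.map e.hom
    have hb : 𝒳.p.IsHomLift b e.hom := IsHomLift.of_fac 𝒳.p b e.hom (i.w_obj z) rfl (by simp [b])
    have hbi : IsIso b := by
      change IsIso (eqToHom _ ≫ 𝒳.p.map e.hom)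
      infer_instance
    obtain ⟨z', ψ, hψ⟩ := exists_lift' 𝒵.p gZ (rfl : 𝒵.p.obj z = 𝒵.p.obj z) (inv b)
    have h1 : 𝒳.p.IsHomLift (inv b) (i.map ψ) := inferInstance
    have h2 : 𝒳.p.IsHomLift (inv b ≫ b) (i.map ψ ≫ e.hom) := inferInstance
    rw [IsIso.inv_hom_id] at h2
    have hiso : IsIso (i.map ψ ≫ e.hom) := IsFibGrpd.isIso_of_base_isIso 𝒳.p gX (𝟙 (𝒳.p.obj y)) (i.map ψ ≫ e.hom)
    refine ⟨z', ObjectProperty.isoMk _ (asIso (i.map ψ ≫ e.hom)), ?_⟩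
    exact (Groth.Agent.Lib.Helper43.FibGrpdComp.isHomLift_comp_iff (ObjectProperty.ι (essIm i)) 𝒳.p _ _).mpr h2

/-- `S12878`. -/
theorem exists_unique_locClosedSubstack (h𝒵 : AlgSt.IsAlgStack Scheme.fppfPrecoverage 𝒵)
    (h𝒳 : AlgSt.IsAlgStack Scheme.fppfPrecoverage 𝒳) (i : 𝒵 ⥤ᵇ 𝒳) (hi : AlgSt.IsImm i) :
    ∃ Q : 𝒳.obj → Prop,
      (AlgSt.IsLocClosedSubstack 𝒳 Q Scheme.fppfPrecoverage ∧
        (∃ i' : 𝒵 ⥤ᵇ AlgSt.fullSub 𝒳 Q, FibCat.IsEquivOver i' ∧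
          Nonempty (BasedFunctor.comp i' (AlgSt.subIncl 𝒳 Q) ≅ i)) ∧
        (AlgSt.IsClosedImm i → AlgSt.IsClosedSubstack 𝒳 Q Scheme.fppfPrecoverage) ∧
        (AlgSt.IsOpenImm i → AlgSt.IsOpenSubstack 𝒳 Q Scheme.fppfPrecoverage)) ∧
      ∀ Q' : 𝒳.obj → Prop, AlgSt.IsLocClosedSubstack 𝒳 Q' Scheme.fppfPrecoverage →
        (∃ i' : 𝒵 ⥤ᵇ AlgSt.fullSub 𝒳 Q', FibCat.IsEquivOver i' ∧
          Nonempty (BasedFunctor.comp i' (AlgSt.subIncl 𝒳 Q') ≅ i)) → Q' = Q := by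
  have gZ := h𝒵.isStack.1
  have gX := h𝒳.isStack.1
  obtain ⟨hfull, hfaith⟩ := full_faithful_of_isMono gZ gX i (isMono_of_isImm i hi)
  have heq := toEssIm_isEquivOver gZ gX i
  have hQi := essIm_isClosedUnderIsomorphisms i
  have hQalg : AlgSt.IsAlgStack Scheme.fppfPrecoverage (AlgSt.fullSub 𝒳 (essIm i)) :=
    (isAlgStack_iff_of_isEquivOver _ (toEssIm i) heq).mp h𝒵
  have transfer : ∀ P : MorphismProperty (AlgSp.Sp S), AlgSt.RepByAlgSpWith P i →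
      AlgSt.RepByAlgSpWith P (AlgSt.subIncl 𝒳 (essIm i)) := fun P h =>
    (repByAlgSpWith_iff_of_square P (AlgSt.subIncl 𝒳 (essIm i)) i (toEssIm i) (BasedFunctor.id 𝒳) heq
      isEquivOver_id (BasedNatIso.id _ : BasedFunctor.comp i (BasedFunctor.id 𝒳) ≅
        BasedFunctor.comp (toEssIm i) (AlgSt.subIncl 𝒳 (essIm i)))).mpr h
  refine ⟨essIm i, ⟨⟨hQi, hQalg, transfer _ hi⟩, ⟨toEssIm i, heq, ⟨BasedNatIso.id _⟩⟩,
    fun hc => ⟨hQi, hQalg, transfer _ hc⟩, fun ho => ⟨hQi, hQalg, transfer _ ho⟩⟩, ?_⟩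
  rintro Q' ⟨hQ'i, -, -⟩ ⟨i'', hi'', ⟨ε⟩⟩
  funext y
  apply propext
  constructor
  · intro hy
    obtain ⟨z, θ, -⟩ := (IsEquivOver.isFFEssSurjOver hi'').essSurj ⟨y, hy⟩
    let e1 : (i''.obj z).obj ≅ y := (ObjectProperty.ι Q').mapIso θ
    let e2 : (i''.obj z).obj ≅ i.obj z := ((BasedNatTrans.forgetful _ _).mapIso ε).app z
    exact ⟨z, ⟨e2.symm ≪≫ e1⟩⟩
  · rintro ⟨z, ⟨e⟩⟩
    let e2 : (i''.obj z).obj ≅ i.obj z := ((BasedNatTrans.forgetful _ _).mapIso ε).app z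
    exact hQ'i.of_iso (e2 ≪≫ e) (i''.obj z).property

end Groth.Agent.Lib.Helper80
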