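import Groth.Agent.Lib.Helper80.FibCat8
import Groth.Prelude.Def_AlgSt

/-!
# The presheaf of isomorphism classes of a category fibred in groupoids (helper80)

For `𝒲` fibred in groupoids over `C`, `isoPsh 𝒲 h𝒲 : Cᵒᵖ ⥤ Type _` sends `T` to the set of isomorphism classes (over `𝟙 T`) of
objects over `T`; `toIso 𝒲 h𝒲 : 𝒲 ⥤ᵇ Stk.ofPsh (isoPsh 𝒲 h𝒲)`; it is an equivalence over `C` when `𝒲` is fibred in setoids.
-/

set_option autoImplicit false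
set_option backward.isDefEq.respectTransparency false

universe w v₃ u₃ v₂ u₂ v u

open CategoryTheory CategoryTheory.Functor CategoryTheory.Limits Opposite

namespace Groth.Agent.Lib.Helper80

open BasedFunctor

variable {C : Type u} [Category.{v} C] (𝒲 : BasedCategory.{v₂, u₂} C)

/-- Objects of `𝒲` over `T`. -/
def FibObj (T : C) : Type u₂ := {w : 𝒲.obj // 𝒲.p.obj w = T}

/-- Two objects over `T` are related when there is a morphism between them over `𝟙 T`. -/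
def fibRel (T : C) (a b : FibObj 𝒲 T) : Prop := ∃ φ : a.1 ⟶ b.1, 𝒲.p.IsHomLift (𝟙 T) φ

variable {𝒲}

theorem fibRel_refl (T : C) (a : FibObj 𝒲 T) : fibRel 𝒲 T a a :=
  ⟨𝟙 a.1, IsHomLift.id a.2⟩

theorem fibRel_symm (h𝒲 : FibCat.IsFibGrpd 𝒲.p) {T : C} {a b : FibObj 𝒲 T} (h : fibRel 𝒲 T a b) :
    fibRel 𝒲 T b a := by
  obtain ⟨φ, hφ⟩ := h
  have : IsIso φ := IsFibGrpd.isIso_of_base_isIso 𝒲.p h𝒲 (𝟙 T) φ
  exact ⟨inv φ, inferInstance⟩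

theorem fibRel_trans {T : C} {a b c : FibObj 𝒲 T} (h : fibRel 𝒲 T a b) (h' : fibRel 𝒲 T b c) :
    fibRel 𝒲 T a c := by
  obtain ⟨φ, hφ⟩ := h
  obtain ⟨ψ, hψ⟩ := h'
  exact ⟨φ ≫ ψ, inferInstance⟩

variable (𝒲)

/-- The setoid of objects over `T` up to isomorphism over `𝟙 T`. -/
def fibSetoid (h𝒲 : FibCat.IsFibGrpd 𝒲.p) (T : C) : Setoid (FibObj 𝒲 T) where
  r := fibRel 𝒲 T
  iseqv := ⟨fibRel_refl T, fibRel_symm h𝒲, fibRel_trans⟩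

variable {𝒲}

/-- Any two lifts of `g` with the same target have related sources. -/
theorem fibRel_of_lifts (h𝒲 : FibCat.IsFibGrpd 𝒲.p) {T' T : C} (g : T' ⟶ T) {a a' : FibObj 𝒲 T'} {b : 𝒲.obj}
    (φ : a.1 ⟶ b) (φ' : a'.1 ⟶ b) [𝒲.p.IsHomLift g φ] [𝒲.p.IsHomLift g φ'] : fibRel 𝒲 T' a a' := by
  have := IsFibGrpd.isStronglyCartesian' 𝒲.p h𝒲 g φ'
  exact ⟨IsCartesian.map 𝒲.p g φ' φ, inferInstance⟩

/-- A chosen pullback of an object over `T` along `g : T' ⟶ T`. -/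
noncomputable def pull (h𝒲 : FibCat.IsFibGrpd 𝒲.p) {T' T : C} (g : T' ⟶ T) (b : FibObj 𝒲 T) : FibObj 𝒲 T' :=
  haveI := IsFibGrpd.isFibered 𝒲.p h𝒲
  ⟨IsPreFibered.pullbackObj b.2 g, IsPreFibered.pullbackObj_proj b.2 g⟩

/-- The chosen morphism over `g` from the chosen pullback. -/
noncomputable def pullMap (h𝒲 : FibCat.IsFibGrpd 𝒲.p) {T' T : C} (g : T' ⟶ T) (b : FibObj 𝒲 T) :
    (pull h𝒲 g b).1 ⟶ b.1 :=
  haveI := IsFibGrpd.isFibered 𝒲.p h𝒲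
  IsPreFibered.pullbackMap b.2 g

instance pullMap_isHomLift (h𝒲 : FibCat.IsFibGrpd 𝒲.p) {T' T : C} (g : T' ⟶ T) (b : FibObj 𝒲 T) :
    𝒲.p.IsHomLift g (pullMap h𝒲 g b) := by
  have := IsFibGrpd.isFibered 𝒲.p h𝒲
  have : IsCartesian 𝒲.p g (IsPreFibered.pullbackMap b.2 g) := inferInstance
  exact this.toIsHomLift

theorem pull_rel (h𝒲 : FibCat.IsFibGrpd 𝒲.p) {T' T : C} (g : T' ⟶ T) {b b' : FibObj 𝒲 T}
    (h : fibRel 𝒲 T b b') : fibRel 𝒲 T' (pull h𝒲 g b) (pull h𝒲 g b') := by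
  obtain ⟨ψ, hψ⟩ := h
  exact fibRel_of_lifts h𝒲 g (pullMap h𝒲 g b ≫ ψ) (pullMap h𝒲 g b')

variable (𝒲)

/-- The presheaf of isomorphism classes. -/
noncomputable def isoPsh (h𝒲 : FibCat.IsFibGrpd 𝒲.p) : Cᵒᵖ ⥤ Type u₂ where
  obj T := Quotient (fibSetoid 𝒲 h𝒲 T.unop)
  map {T T'} g := ↾(Quotient.map (sa := fibSetoid 𝒲 h𝒲 T.unop) (sb := fibSetoid 𝒲 h𝒲 T'.unop)
    (pull h𝒲 g.unop) (fun _ _ h => (pull_rel h𝒲 g.unop h : fibRel 𝒲 T'.unop _ _)))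
  map_id T := by
    ext x
    induction x using Quotient.inductionOn with
    | h b =>
      apply Quotient.sound
      have : 𝒲.p.IsHomLift (𝟙 T.unop) (𝟙 b.1) := IsHomLift.id b.2
      exact fibRel_of_lifts h𝒲 (𝟙 T.unop) (a' := b) (pullMap h𝒲 (𝟙 T.unop) b) (𝟙 b.1)
  map_comp {T T' T''} g g' := by
    ext x
    induction x using Quotient.inductionOn with
    | h b =>
      apply Quotient.sound
      exact fibRel_of_lifts h𝒲 (g'.unop ≫ g.unop) (pullMap h𝒲 (g'.unop ≫ g.unop) b)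
        (pullMap h𝒲 g'.unop (pull h𝒲 g.unop b) ≫ pullMap h𝒲 g.unop b)

variable {𝒲}

/-- The class of an object over `T`. -/
def isoCls (h𝒲 : FibCat.IsFibGrpd 𝒲.p) {T : C} (b : FibObj 𝒲 T) : (isoPsh 𝒲 h𝒲).obj (op T) :=
  Quotient.mk (fibSetoid 𝒲 h𝒲 T) b

theorem isoCls_surjective (h𝒲 : FibCat.IsFibGrpd 𝒲.p) {T : C} (q : (isoPsh 𝒲 h𝒲).obj (op T)) :
    ∃ b : FibObj 𝒲 T, isoCls h𝒲 b = q :=
  Quotient.exists_rep q

theorem isoCls_eq_iff (h𝒲 : FibCat.IsFibGrpd 𝒲.p) {T : C} (a b : FibObj 𝒲 T) :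
    isoCls h𝒲 a = isoCls h𝒲 b ↔ fibRel 𝒲 T a b :=
  ⟨fun h => Quotient.exact (s := fibSetoid 𝒲 h𝒲 T) h, fun h => Quotient.sound (s := fibSetoid 𝒲 h𝒲 T) h⟩

theorem isoPsh_map_isoCls (h𝒲 : FibCat.IsFibGrpd 𝒲.p) {T' T : C} (g : T' ⟶ T) (b : FibObj 𝒲 T) :
    (isoPsh 𝒲 h𝒲).map g.op (isoCls h𝒲 b) = isoCls h𝒲 (pull h𝒲 g b) := rfl

/-- The restriction of the class of `b` along `g` is the class of `a` exactly when there is a morphism `a ⟶ b` over `g`. -/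
theorem isoPsh_map_eq_iff (h𝒲 : FibCat.IsFibGrpd 𝒲.p) {T' T : C} (g : T' ⟶ T) (a : FibObj 𝒲 T')
    (b : FibObj 𝒲 T) :
    (isoPsh 𝒲 h𝒲).map g.op (isoCls h𝒲 b) = isoCls h𝒲 a ↔ ∃ φ : a.1 ⟶ b.1, 𝒲.p.IsHomLift g φ := by
  rw [isoPsh_map_isoCls, isoCls_eq_iff]
  constructor
  · intro h
    obtain ⟨χ, hχ⟩ := fibRel_symm h𝒲 h
    exact ⟨χ ≫ pullMap h𝒲 g b, inferInstance⟩
  · rintro ⟨φ, hφ⟩
    exact fibRel_of_lifts h𝒲 g (pullMap h𝒲 g b) φ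

variable (𝒲)

/-- The functor from `𝒲` to the category of its presheaf of isomorphism classes. -/
noncomputable def toIso (h𝒲 : FibCat.IsFibGrpd 𝒲.p) : 𝒲 ⥤ᵇ Stk.ofPsh (isoPsh 𝒲 h𝒲) where
  toFunctor :=
    { obj := fun w => ⟨𝒲.p.obj w, isoCls h𝒲 ⟨w, rfl⟩⟩
      map := fun {w' w} φ => ⟨𝒲.p.map φ,
        (isoPsh_map_eq_iff h𝒲 (𝒲.p.map φ) ⟨w', rfl⟩ ⟨w, rfl⟩).2 ⟨φ, inferInstance⟩⟩
      map_id := fun w => Stk.EltObj.hom_ext (𝒲.p.map_id w)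
      map_comp := fun f g => Stk.EltObj.hom_ext (𝒲.p.map_comp f g) }
  w := rfl

theorem toIso_isFFEssSurjOver (h𝒲 : FibCat.IsFibSetoid 𝒲.p) : IsFFEssSurjOver (toIso 𝒲 h𝒲.1) where
  full := ⟨fun {w' w} m => by
    obtain ⟨φ, hφ⟩ := (isoPsh_map_eq_iff h𝒲.1 m.hom ⟨w', rfl⟩ ⟨w, rfl⟩).1 m.map_sec
    refine ⟨φ, Stk.EltObj.hom_ext ?_⟩
    exact (IsHomLift.eq_of_isHomLift 𝒲.p m.hom φ).symm⟩
  faithful := ⟨fun {w' w} φ₁ φ₂ h => by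
    have h1 : 𝒲.p.map φ₁ = 𝒲.p.map φ₂ := congrArg Stk.EltObj.Hom.hom h
    have : 𝒲.p.IsHomLift (𝒲.p.map φ₁) φ₂ := by rw [h1]; infer_instance
    exact IsFibSetoid.hom_ext h𝒲 (𝒲.p.map φ₁) φ₁ φ₂⟩
  essSurj := fun y => by
    obtain ⟨T, q⟩ := y
    obtain ⟨⟨w, rfl⟩, rfl⟩ := isoCls_surjective h𝒲.1 q
    exact ⟨w, Iso.refl _, IsHomLift.id rfl⟩

theorem toIso_isEquivOver (h𝒲 : FibCat.IsFibSetoid 𝒲.p) : FibCat.IsEquivOver (toIso 𝒲 h𝒲.1) :=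
  (toIso_isFFEssSurjOver 𝒲 h𝒲).isEquivOver

end Groth.Agent.Lib.Helper80
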