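import Groth.Agent.Lib.Helper80.FibCat22

/-!
# Restriction of functors into a 2-fibre product; the 2-fibre product of stacks (helper80)
-/

set_option autoImplicit false
set_option backward.isDefEq.respectTransparency false

universe v₆ u₆ v₅ u₅ v₄ u₄ v₃ u₃ v₂ u₂ v u

open CategoryTheory CategoryTheory.Functor CategoryTheory.Limits

namespace Groth.Agent.Lib.Helper80

open BasedFunctor

variable {C : Type u} [Category.{v} C]

section FpHom

variable {𝒳 : BasedCategory.{v₂, u₂} C} {𝒴 : BasedCategory.{v₃, u₃} C} {𝒮 : BasedCategory.{v₄, u₄} C}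
  {𝒲 : BasedCategory.{v₅, u₅} C} {F : 𝒳 ⥤ᵇ 𝒮} {G : 𝒴 ⥤ᵇ 𝒮}

/-- A morphism between two functors over `C` into a 2-fibre product, from compatible morphisms
between their two components. -/
def fpHomMk {A B : 𝒲 ⥤ᵇ FibCat.fp F G}
    (α₁ : BasedFunctor.comp A (FibCat.fpFst F G) ⟶ BasedFunctor.comp B (FibCat.fpFst F G))
    (α₂ : BasedFunctor.comp A (FibCat.fpSnd F G) ⟶ BasedFunctor.comp B (FibCat.fpSnd F G))
    (compat : ∀ w : 𝒲.obj, F.map (α₁.toNatTrans.app w) ≫ (B.obj w).obj.iso.hom =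
      (A.obj w).obj.iso.hom ≫ G.map (α₂.toNatTrans.app w)) : A ⟶ B where
  toNatTrans :=
    { app := fun w => ObjectProperty.homMk ⟨α₁.toNatTrans.app w, α₂.toNatTrans.app w, compat w⟩
      naturality := by
        intro w w' m
        apply ObjectProperty.hom_ext
        apply CategoricalPullback.hom_ext
        · exact α₁.toNatTrans.naturality m
        · exact α₂.toNatTrans.naturality m }
  isHomLift' := fun w => by
    rw [fp_isHomLift_iff]
    exact BasedNatTrans.isHomLift α₁ rfl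

@[simp] theorem fpHomMk_app_fst {A B : 𝒲 ⥤ᵇ FibCat.fp F G}
    (α₁ : BasedFunctor.comp A (FibCat.fpFst F G) ⟶ BasedFunctor.comp B (FibCat.fpFst F G))
    (α₂ : BasedFunctor.comp A (FibCat.fpSnd F G) ⟶ BasedFunctor.comp B (FibCat.fpSnd F G))
    (compat) (w : 𝒲.obj) :
    ((fpHomMk α₁ α₂ compat).toNatTrans.app w).hom.fst = α₁.toNatTrans.app w := rfl

@[simp] theorem fpHomMk_app_snd {A B : 𝒲 ⥤ᵇ FibCat.fp F G}
    (α₁ : BasedFunctor.comp A (FibCat.fpFst F G) ⟶ BasedFunctor.comp B (FibCat.fpFst F G))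
    (α₂ : BasedFunctor.comp A (FibCat.fpSnd F G) ⟶ BasedFunctor.comp B (FibCat.fpSnd F G))
    (compat) (w : 𝒲.obj) :
    ((fpHomMk α₁ α₂ compat).toNatTrans.app w).hom.snd = α₂.toNatTrans.app w := rfl

theorem fpHom_ext {A B : 𝒲 ⥤ᵇ FibCat.fp F G} (α β : A ⟶ B)
    (h1 : ∀ w, (α.toNatTrans.app w).hom.fst = (β.toNatTrans.app w).hom.fst)
    (h2 : ∀ w, (α.toNatTrans.app w).hom.snd = (β.toNatTrans.app w).hom.snd) : α = β := by
  apply BasedNatTrans.homCategory.ext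
  apply NatTrans.ext
  funext w
  apply ObjectProperty.hom_ext
  apply CategoricalPullback.hom_ext
  · exact h1 w
  · exact h2 w

end FpHom

section RestrFp

variable {𝒳 : BasedCategory.{v₂, u₂} C} {𝒴 : BasedCategory.{v₃, u₃} C} {𝒮 : BasedCategory.{v₄, u₄} C}
  {𝒜 : BasedCategory.{v₅, u₅} C} {ℬ : BasedCategory.{v₆, u₆} C}
  (ι : 𝒜 ⥤ᵇ ℬ) (F : 𝒳 ⥤ᵇ 𝒮) (G : 𝒴 ⥤ᵇ 𝒮)

theorem restr_fp_faithful (h𝒳 : (Stk.restr ι 𝒳).Faithful) (h𝒴 : (Stk.restr ι 𝒴).Faithful) :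
    (Stk.restr ι (FibCat.fp F G)).Faithful where
  map_injective {A B} α β h := by
    have hcomp : ∀ a : 𝒜.obj, α.toNatTrans.app (ι.obj a) = β.toNatTrans.app (ι.obj a) := fun a =>
      congrArg (fun γ => γ.toNatTrans.app a) h
    have e1 : BasedCategory.whiskerRight α (FibCat.fpFst F G) =
        BasedCategory.whiskerRight β (FibCat.fpFst F G) := by
      apply (Stk.restr ι 𝒳).map_injective
      apply BasedNatTrans.homCategory.ext
      ext a
      exact congrArg (fun k => k.hom.fst) (hcomp a)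
    have e2 : BasedCategory.whiskerRight α (FibCat.fpSnd F G) =
        BasedCategory.whiskerRight β (FibCat.fpSnd F G) := by
      apply (Stk.restr ι 𝒴).map_injective
      apply BasedNatTrans.homCategory.ext
      ext a
      exact congrArg (fun k => k.hom.snd) (hcomp a)
    apply fpHom_ext
    · intro w
      exact congrArg (fun γ => γ.toNatTrans.app w) e1
    · intro w
      exact congrArg (fun γ => γ.toNatTrans.app w) e2

theorem restr_fp_full (h𝒳 : (Stk.restr ι 𝒳).Full) (h𝒴 : (Stk.restr ι 𝒴).Full)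
    (h𝒮 : (Stk.restr ι 𝒮).Faithful) :
    (Stk.restr ι (FibCat.fp F G)).Full where
  map_surjective {A B} γ := by
    -- components of `γ`
    let γ₁ : (Stk.restr ι 𝒳).obj (BasedFunctor.comp A (FibCat.fpFst F G)) ⟶
        (Stk.restr ι 𝒳).obj (BasedFunctor.comp B (FibCat.fpFst F G)) :=
      BasedCategory.whiskerRight γ (FibCat.fpFst F G)
    let γ₂ : (Stk.restr ι 𝒴).obj (BasedFunctor.comp A (FibCat.fpSnd F G)) ⟶
        (Stk.restr ι 𝒴).obj (BasedFunctor.comp B (FibCat.fpSnd F G)) :=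
      BasedCategory.whiskerRight γ (FibCat.fpSnd F G)
    obtain ⟨α₁, hα₁⟩ := (Stk.restr ι 𝒳).map_surjective γ₁
    obtain ⟨α₂, hα₂⟩ := (Stk.restr ι 𝒴).map_surjective γ₂
    have hα₁' : ∀ a : 𝒜.obj, α₁.toNatTrans.app (ι.obj a) = (γ.toNatTrans.app a).hom.fst := fun a =>
      congrArg (fun δ => δ.toNatTrans.app a) hα₁
    have hα₂' : ∀ a : 𝒜.obj, α₂.toNatTrans.app (ι.obj a) = (γ.toNatTrans.app a).hom.snd := fun a =>
      congrArg (fun δ => δ.toNatTrans.app a) hα₂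
    -- the two sides of the compatibility, as morphisms of functors `ℬ ⟶ 𝒮`
    let L : BasedFunctor.comp (BasedFunctor.comp A (FibCat.fpFst F G)) F ⟶
        BasedFunctor.comp (BasedFunctor.comp B (FibCat.fpSnd F G)) G :=
      BasedCategory.whiskerRight α₁ F ≫ BasedCategory.whiskerLeft B (FibCat.fpIso F G).hom
    let Rr : BasedFunctor.comp (BasedFunctor.comp A (FibCat.fpFst F G)) F ⟶
        BasedFunctor.comp (BasedFunctor.comp B (FibCat.fpSnd F G)) G :=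
      BasedCategory.whiskerLeft A (FibCat.fpIso F G).hom ≫ BasedCategory.whiskerRight α₂ G
    have hLR : L = Rr := by
      apply (Stk.restr ι 𝒮).map_injective
      apply BasedNatTrans.homCategory.ext
      apply NatTrans.ext
      funext a
      change F.map (α₁.toNatTrans.app (ι.obj a)) ≫ (B.obj (ι.obj a)).obj.iso.hom =
        (A.obj (ι.obj a)).obj.iso.hom ≫ G.map (α₂.toNatTrans.app (ι.obj a))
      rw [hα₁', hα₂']
      exact (γ.toNatTrans.app a).hom.w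
    have compat : ∀ w : ℬ.obj, F.map (α₁.toNatTrans.app w) ≫ (B.obj w).obj.iso.hom =
        (A.obj w).obj.iso.hom ≫ G.map (α₂.toNatTrans.app w) := fun w =>
      congrArg (fun δ => δ.toNatTrans.app w) hLR
    refine ⟨fpHomMk α₁ α₂ compat, ?_⟩
    apply fpHom_ext
    · intro a; exact hα₁' a
    · intro a; exact hα₂' a

theorem restr_fp_essSurj (h𝒳 : (Stk.restr ι 𝒳).EssSurj) (h𝒴 : (Stk.restr ι 𝒴).EssSurj)
    (h𝒮full : (Stk.restr ι 𝒮).Full) (h𝒮 : (Stk.restr ι 𝒮).Faithful) :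
    (Stk.restr ι (FibCat.fp F G)).EssSurj where
  mem_essImage D := by
    let A₁ := (Stk.restr ι 𝒳).objPreimage (BasedFunctor.comp D (FibCat.fpFst F G))
    let i₁ : BasedFunctor.comp ι A₁ ≅ BasedFunctor.comp D (FibCat.fpFst F G) :=
      (Stk.restr ι 𝒳).objObjPreimageIso _
    let A₂ := (Stk.restr ι 𝒴).objPreimage (BasedFunctor.comp D (FibCat.fpSnd F G))
    let i₂ : BasedFunctor.comp ι A₂ ≅ BasedFunctor.comp D (FibCat.fpSnd F G) :=
      (Stk.restr ι 𝒴).objObjPreimageIso _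
    let ē : (Stk.restr ι 𝒮).obj (BasedFunctor.comp A₁ F) ≅
        (Stk.restr ι 𝒮).obj (BasedFunctor.comp A₂ G) :=
      whiskerRightIso i₁ F ≪≫ whiskerLeftIso D (FibCat.fpIso F G) ≪≫ (whiskerRightIso i₂ G).symm
    let e : BasedFunctor.comp A₁ F ≅ BasedFunctor.comp A₂ G := (Stk.restr ι 𝒮).preimageIso ē
    have he : ∀ a : 𝒜.obj, e.hom.toNatTrans.app (ι.obj a) =
        F.map (i₁.hom.toNatTrans.app a) ≫ (D.obj a).obj.iso.hom ≫
          G.map (i₂.inv.toNatTrans.app a) := by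
      intro a
      have h0 : (Stk.restr ι 𝒮).map e.hom = ē.hom := (Stk.restr ι 𝒮).map_preimage ē.hom
      exact congrArg (fun δ => δ.toNatTrans.app a) h0
    let A : ℬ ⥤ᵇ FibCat.fp F G := FibCat.fpLift A₁ A₂ e
    refine ⟨A, ⟨fpIsoMk (A := BasedFunctor.comp ι A) (B := D) i₁ i₂ ?_⟩⟩
    intro a
    change F.map (i₁.hom.toNatTrans.app a) ≫ (D.obj a).obj.iso.hom =
      e.hom.toNatTrans.app (ι.obj a) ≫ G.map (i₂.hom.toNatTrans.app a)
    rw [he a]
    have h3 : G.map (i₂.inv.toNatTrans.app a) ≫ G.map (i₂.hom.toNatTrans.app a) = 𝟙 _ := by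
      rw [← Functor.map_comp, iso_inv_hom_app]
      exact G.toFunctor.map_id _
    rw [Category.assoc, Category.assoc, h3]
    exact (congrArg (fun k => F.map (i₁.hom.toNatTrans.app a) ≫ k) (Category.comp_id _)).symm

/-- If restriction along `ι` is an equivalence for `𝒳` and `𝒴` and fully faithful for `𝒮`, it is an
equivalence for `𝒳 ×_𝒮 𝒴`. -/
theorem restr_fp_isEquivalence (h𝒳 : (Stk.restr ι 𝒳).IsEquivalence)
    (h𝒴 : (Stk.restr ι 𝒴).IsEquivalence)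
    (h𝒮full : (Stk.restr ι 𝒮).Full) (h𝒮 : (Stk.restr ι 𝒮).Faithful) :
    (Stk.restr ι (FibCat.fp F G)).IsEquivalence :=
  { faithful := restr_fp_faithful ι F G h𝒳.faithful h𝒴.faithful
    full := restr_fp_full ι F G h𝒳.full h𝒴.full h𝒮
    essSurj := restr_fp_essSurj ι F G h𝒳.essSurj h𝒴.essSurj h𝒮full h𝒮 }

end RestrFp

section StackFp

variable {𝒳 : BasedCategory.{v₂, u₂} C} {𝒴 : BasedCategory.{v₃, u₃} C} {𝒮 : BasedCategory.{v₄, u₄} C}

/-- The 2-fibre product of two stacks in groupoids over a prestack in groupoids is a stack in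
groupoids. -/
theorem isStack_fp (J : GrothendieckTopology C) (F : 𝒳 ⥤ᵇ 𝒮) (G : 𝒴 ⥤ᵇ 𝒮)
    (h𝒳 : Stk.IsStack J 𝒳) (h𝒴 : Stk.IsStack J 𝒴) (h𝒮 : Stk.IsPrestack J 𝒮) :
    Stk.IsStack J (FibCat.fp F G) := by
  refine ⟨fp_isFibGrpd F G h𝒳.1 h𝒴.1 h𝒮.1, fun U R hR => ?_⟩
  exact restr_fp_isEquivalence (Stk.sieveIncl R) F G (h𝒳.2 R hR) (h𝒴.2 R hR) (h𝒮.2 R hR).1
    (h𝒮.2 R hR).2

theorem IsStack.isPrestack {J : GrothendieckTopology C} (h : Stk.IsStack J 𝒳) :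
    Stk.IsPrestack J 𝒳 :=
  ⟨h.1, fun U R hR => ⟨(h.2 R hR).full, (h.2 R hR).faithful⟩⟩

/-- The 2-fibre product of categories fibred in setoids is fibred in setoids (only the two factors
need to be fibred in setoids, the base fibred in groupoids). -/
theorem fp_isFibSetoid (F : 𝒳 ⥤ᵇ 𝒮) (G : 𝒴 ⥤ᵇ 𝒮) (h𝒳 : FibCat.IsFibSetoid 𝒳.p)
    (h𝒴 : FibCat.IsFibSetoid 𝒴.p) (h𝒮 : FibCat.IsFibGrpd 𝒮.p) :
    FibCat.IsFibSetoid (FibCat.fp F G).p := by
  refine ⟨fp_isFibGrpd F G h𝒳.1 h𝒴.1 h𝒮, fun U P Q => ⟨fun φ ψ => ?_⟩⟩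
  have h1 : (FibCat.fp F G).p.IsHomLift (𝟙 U) φ.1 := φ.2
  have h2 : (FibCat.fp F G).p.IsHomLift (𝟙 U) ψ.1 := ψ.2
  have k1 : 𝒳.p.IsHomLift (𝟙 U) φ.1.hom.fst := (fp_isHomLift_iff F G _ _).mp h1
  have k2 : 𝒳.p.IsHomLift (𝟙 U) ψ.1.hom.fst := (fp_isHomLift_iff F G _ _).mp h2
  have k3 : 𝒴.p.IsHomLift (𝟙 U) φ.1.hom.snd := fp_isHomLift_snd F G _ _
  have k4 : 𝒴.p.IsHomLift (𝟙 U) ψ.1.hom.snd := fp_isHomLift_snd F G _ _
  apply Subtype.ext
  apply ObjectProperty.hom_ext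
  apply CategoricalPullback.hom_ext
  · exact IsFibSetoid.hom_ext h𝒳 (𝟙 U) _ _
  · exact IsFibSetoid.hom_ext h𝒴 (𝟙 U) _ _

end StackFp

end Groth.Agent.Lib.Helper80
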