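import Groth.Agent.Lib.Helper80.AlgStIso
import Groth.Agent.Lib.Helper80.FibCat23
import Groth.Agent.Lib.Helper80.AlgStFp3

/-!
# Maps to and from the presheaf of isomorphism classes (helper80)
-/

set_option autoImplicit false
set_option backward.isDefEq.respectTransparency false

universe w v₄ u₄ v₃ u₃ v₂ u₂ v u

open CategoryTheory CategoryTheory.Functor CategoryTheory.Limits Opposite

namespace Groth.Agent.Lib.Helper80

open BasedFunctor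

variable {C : Type u} [Category.{v} C]

section FpSetoid

variable {𝒳 : BasedCategory.{v₂, u₂} C} {𝒴 : BasedCategory.{v₃, u₃} C} {𝒮 : BasedCategory.{v₄, u₄} C}

/-- The 2-fibre product of a category fibred in setoids with a faithful functor from a category fibred in groupoids
is fibred in setoids. -/
theorem fp_isFibSetoid_of_faithful (F : 𝒳 ⥤ᵇ 𝒮) (G : 𝒴 ⥤ᵇ 𝒮) (h𝒳 : FibCat.IsFibSetoid 𝒳.p)
    (h𝒴 : FibCat.IsFibGrpd 𝒴.p) (h𝒮 : FibCat.IsFibGrpd 𝒮.p) [G.toFunctor.Faithful] :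
    FibCat.IsFibSetoid (FibCat.fp F G).p := by
  refine ⟨fp_isFibGrpd F G h𝒳.1 h𝒴 h𝒮, fun U P Q => ⟨fun φ ψ => ?_⟩⟩
  have h1 : (FibCat.fp F G).p.IsHomLift (𝟙 U) φ.1 := φ.2
  have h2 : (FibCat.fp F G).p.IsHomLift (𝟙 U) ψ.1 := ψ.2
  have k1 : 𝒳.p.IsHomLift (𝟙 U) φ.1.hom.fst := (fp_isHomLift_iff F G _ _).mp h1
  have k2 : 𝒳.p.IsHomLift (𝟙 U) ψ.1.hom.fst := (fp_isHomLift_iff F G _ _).mp h2
  have e1 : φ.1.hom.fst = ψ.1.hom.fst := IsFibSetoid.hom_ext h𝒳 (𝟙 U) _ _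
  apply Subtype.ext
  apply ObjectProperty.hom_ext
  apply CategoricalPullback.hom_ext
  · exact e1
  · apply G.toFunctor.map_injective
    have w1 : F.map φ.1.hom.fst ≫ Q.1.obj.iso.hom = P.1.obj.iso.hom ≫ G.map φ.1.hom.snd := φ.1.hom.w
    have w2 : F.map ψ.1.hom.fst ≫ Q.1.obj.iso.hom = P.1.obj.iso.hom ≫ G.map ψ.1.hom.snd := ψ.1.hom.w
    rw [e1, w2] at w1
    exact ((cancel_epi P.1.obj.iso.hom).1 w1).symm

end FpSetoid

section SecAt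

variable {Q : Cᵒᵖ ⥤ Type w}

/-- The section over `T` of an object of `ofPsh Q` whose base is (propositionally) `T`. -/
def secAt (a : Stk.EltObj Q) {T : C} (h : a.base = T) : Q.obj (op T) := Q.map (eqToHom h.symm).op a.sec

@[simp] theorem secAt_rfl (a : Stk.EltObj Q) : secAt a rfl = a.sec := by
  simp [secAt]

/-- Sections along a morphism of `ofPsh Q` over `g`. -/
theorem secAt_of_isHomLift {a a' : Stk.EltObj Q} {T T' : C} (g : T ⟶ T') (m : a ⟶ a')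
    [(Stk.ofPsh Q).p.IsHomLift g m] (ha : a.base = T) (ha' : a'.base = T') :
    Q.map g.op (secAt a' ha') = secAt a ha := by
  subst ha ha'
  have h1 : g = m.hom := IsHomLift.eq_of_isHomLift (Stk.ofPsh Q).p g m
  rw [secAt_rfl, secAt_rfl, h1]
  exact m.map_sec

/-- An object of `ofPsh Q` with base `T` is isomorphic to `(T, its section over T)`. -/
def eltIso (a : Stk.EltObj Q) {T : C} (h : a.base = T) : (⟨T, secAt a h⟩ : Stk.EltObj Q) ≅ a where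
  hom := ⟨eqToHom h.symm, rfl⟩
  inv := ⟨eqToHom h, by subst h; simp [secAt]⟩
  hom_inv_id := by apply Stk.EltObj.hom_ext; simp
  inv_hom_id := by apply Stk.EltObj.hom_ext; simp

theorem eltIso_hom_isHomLift (a : Stk.EltObj Q) {T : C} (h : a.base = T) :
    (Stk.ofPsh Q).p.IsHomLift (𝟙 T) (eltIso a h).hom := by
  subst h
  exact IsHomLift.map (Stk.ofPsh Q).p (eltIso a rfl).hom

/-- Variant of `eltIso` with a prescribed section. -/
def eltIso' (a : Stk.EltObj Q) {T : C} (h : a.base = T) (s : Q.obj (op T)) (hs : secAt a h = s) :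
    (⟨T, s⟩ : Stk.EltObj Q) ≅ a :=
  eqToIso (by rw [hs]) ≪≫ eltIso a h

theorem eltIso'_hom_isHomLift (a : Stk.EltObj Q) {T : C} (h : a.base = T) (s : Q.obj (op T))
    (hs : secAt a h = s) : (Stk.ofPsh Q).p.IsHomLift (𝟙 T) (eltIso' a h s hs).hom := by
  subst hs
  have := eltIso_hom_isHomLift a h
  simpa [eltIso'] using this

/-- Two objects of `ofPsh Q` with the same base and the same section are equal. -/
theorem elt_eq_of_secAt {a a' : Stk.EltObj Q} {T : C} (h : a.base = T) (h' : a'.base = T)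
    (hs : secAt a h = secAt a' h') : a = a' := by
  obtain ⟨b, s⟩ := a
  obtain ⟨b', s'⟩ := a'
  simp only at h h'
  subst h h'
  simp only [secAt_rfl] at hs
  rw [hs]

end SecAt

section ClsMap

variable {𝒲 : BasedCategory.{v₂, u₂} C} (h𝒲 : FibCat.IsFibGrpd 𝒲.p)

/-- The map of presheaves `A ⟶ isoPsh 𝒲` induced by a functor `ofPsh A ⟶ 𝒲` over `C`. -/
noncomputable def clsMap {A : Cᵒᵖ ⥤ Type u₂} (Φ : Stk.ofPsh A ⥤ᵇ 𝒲) : A ⟶ isoPsh 𝒲 h𝒲 where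
  app T := ↾fun s => isoCls h𝒲 (T := T.unop) ⟨Φ.obj ⟨T.unop, s⟩, Φ.w_obj _⟩
  naturality T T' g := by
    ext s
    symm
    let m : (⟨T'.unop, A.map g s⟩ : Stk.EltObj A) ⟶ ⟨T.unop, s⟩ := ⟨g.unop, rfl⟩
    have l0 : (Stk.ofPsh A).p.IsHomLift g.unop m := IsHomLift.map (Stk.ofPsh A).p m
    have l1 : 𝒲.p.IsHomLift g.unop (Φ.map m) := inferInstance
    exact (isoPsh_map_eq_iff h𝒲 g.unop ⟨Φ.obj ⟨T'.unop, A.map g s⟩, Φ.w_obj _⟩
      ⟨Φ.obj ⟨T.unop, s⟩, Φ.w_obj _⟩).2 ⟨Φ.map m, l1⟩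

theorem clsMap_app {A : Cᵒᵖ ⥤ Type u₂} (Φ : Stk.ofPsh A ⥤ᵇ 𝒲) (T : C) (s : A.obj (op T)) :
    (clsMap h𝒲 Φ).app (op T) s = isoCls h𝒲 ⟨Φ.obj ⟨T, s⟩, Φ.w_obj _⟩ := rfl

variable {Q : Cᵒᵖ ⥤ Type u₂}

/-- The map of presheaves `isoPsh 𝒲 ⟶ Q` induced by a functor `𝒲 ⟶ ofPsh Q` over `C`. -/
noncomputable def isoDesc (Ψ : 𝒲 ⥤ᵇ Stk.ofPsh Q) : isoPsh 𝒲 h𝒲 ⟶ Q where
  app T := ↾(Quotient.lift (s := fibSetoid 𝒲 h𝒲 T.unop)
    (fun b => secAt (Ψ.obj b.1) ((Ψ.w_obj b.1).trans b.2)) (by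
      rintro b b' ⟨φ, hφ⟩
      have l1 : (Stk.ofPsh Q).p.IsHomLift (𝟙 T.unop) (Ψ.map φ) :=
        BasedFunctor.preserves_isHomLift Ψ (𝟙 T.unop) φ
      have := secAt_of_isHomLift (𝟙 T.unop) (Ψ.map φ) ((Ψ.w_obj b.1).trans b.2)
        ((Ψ.w_obj b'.1).trans b'.2)
      simpa using this.symm))
  naturality T T' g := by
    ext x
    obtain ⟨b, rfl⟩ := isoCls_surjective h𝒲 (T := T.unop) x
    have l1 : (Stk.ofPsh Q).p.IsHomLift g.unop (Ψ.map (pullMap h𝒲 g.unop b)) :=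
      BasedFunctor.preserves_isHomLift Ψ g.unop (pullMap h𝒲 g.unop b)
    exact (secAt_of_isHomLift g.unop (Ψ.map (pullMap h𝒲 g.unop b))
      ((Ψ.w_obj (pull h𝒲 g.unop b).1).trans (pull h𝒲 g.unop b).2) ((Ψ.w_obj b.1).trans b.2)).symm

theorem isoDesc_app (Ψ : 𝒲 ⥤ᵇ Stk.ofPsh Q) (T : C) (b : FibObj 𝒲 T) :
    (isoDesc h𝒲 Ψ).app (op T) (isoCls h𝒲 b) = secAt (Ψ.obj b.1) ((Ψ.w_obj b.1).trans b.2) := rfl

/-- `Ψ` factors through `toIso` via `isoDesc Ψ`, up to isomorphism over `C`. -/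
noncomputable def isoDescIso (Ψ : 𝒲 ⥤ᵇ Stk.ofPsh Q) :
    BasedFunctor.comp (toIso 𝒲 h𝒲) (Stk.ofPshMap (isoDesc h𝒲 Ψ)) ≅ Ψ :=
  BasedNatIso.mkNatIso
    (NatIso.ofComponents (fun w => eltIso (Ψ.obj w) (Ψ.w_obj w)) (by
      intro w' w φ
      apply Stk.EltObj.hom_ext
      have l1 : (Stk.ofPsh Q).p.IsHomLift (𝒲.p.map φ) (Ψ.map φ) :=
        BasedFunctor.preserves_isHomLift Ψ (𝒲.p.map φ) φ
      have h2 : (Ψ.map φ).hom = eqToHom (Ψ.w_obj w') ≫ 𝒲.p.map φ ≫ eqToHom (Ψ.w_obj w).symm :=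
        IsHomLift.fac' (Stk.ofPsh Q).p (𝒲.p.map φ) (Ψ.map φ)
      change 𝒲.p.map φ ≫ eqToHom (Ψ.w_obj w).symm = eqToHom (Ψ.w_obj w').symm ≫ (Ψ.map φ).hom
      rw [h2]
      simp))
    (fun w => eltIso_hom_isHomLift (Ψ.obj w) (Ψ.w_obj w))

end ClsMap

end Groth.Agent.Lib.Helper80
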