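import Groth.Agent.Lib.Helper80.AlgStIso2
import Groth.Agent.Lib.Helper80.AlgStEquiv
import Groth.Prelude.Def_AlgSpRep

/-!
# The fibre of the presheaf of isomorphism classes over a scheme (helper80)

`isPullback_isoDesc`: if `ofSp A ≃ (Sch/U) ×_{ofPsh Q} 𝒲`, then `A` is the fibre product `h_U ×_Q isoPsh 𝒲` of presheaves.
-/

set_option autoImplicit false
set_option backward.isDefEq.respectTransparency false

universe u

open CategoryTheory CategoryTheory.Functor CategoryTheory.Limits AlgebraicGeometry Opposite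

namespace Groth.Agent.Lib.Helper80

open BasedFunctor

variable {S : Scheme.{u}} {𝒲 : AlgSt.Cat S} (h𝒲 : FibCat.IsFibGrpd 𝒲.p) {Q : AlgSp.PSp S}
  (π : 𝒲 ⥤ᵇ Stk.ofPsh Q) {U : Over S} (ξ : (AlgSp.pyon S).obj U ⟶ Q)

/-- The functor `(Sch/U) ⟶ ofPsh Q` over `(Sch/S)` attached to `ξ : h_U ⟶ Q`. -/
def ptFun : FibCat.overCat U ⥤ᵇ Stk.ofPsh Q :=
  BasedFunctor.comp (AlgSt.ofOverCat U) (Stk.ofPshMap ξ)

theorem ptFun_obj (h : Over U) : (ptFun ξ).obj h = ⟨h.left, ξ.app (op h.left) ⟨h.hom⟩⟩ := rfl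

variable {π ξ}

/-- First coordinate of an object of the 2-fibre product over `T`: a morphism `T ⟶ U`. -/
def coordFst (P : (FibCat.fp (ptFun ξ) π).obj) {T : Over S} (hT : P.obj.fst.left = T) : T ⟶ U :=
  eqToHom hT.symm ≫ P.obj.fst.hom

/-- Second coordinate of an object of the 2-fibre product over `T`: an object of `𝒲` over `T`. -/
def coordSnd (P : (FibCat.fp (ptFun ξ) π).obj) {T : Over S} (hT : P.obj.fst.left = T) : FibObj 𝒲 T :=
  ⟨P.obj.snd, (fp_snd_proj (ptFun ξ) π P).trans hT⟩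

/-- Objects of the 2-fibre product related by a morphism over an identity have the same coordinates. -/
theorem coord_of_hom {P P' : (FibCat.fp (ptFun ξ) π).obj} {T : Over S} (hT : P.obj.fst.left = T)
    (hT' : P'.obj.fst.left = T) (m : P ⟶ P') [hm : (FibCat.fp (ptFun ξ) π).p.IsHomLift (𝟙 T) m] :
    coordFst P hT = coordFst P' hT' ∧ fibRel 𝒲 T (coordSnd P hT) (coordSnd P' hT') := by
  have k1 : (FibCat.overCat U).p.IsHomLift (𝟙 T) m.hom.fst := (fp_isHomLift_iff _ _ _ _).mp hm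
  have k2 : 𝒲.p.IsHomLift (𝟙 T) m.hom.snd := fp_isHomLift_snd _ _ (𝟙 T) m
  refine ⟨?_, ⟨m.hom.snd, k2⟩⟩
  have h1 : m.hom.fst.left = eqToHom hT ≫ 𝟙 T ≫ eqToHom hT'.symm :=
    IsHomLift.fac' (FibCat.overCat U).p (𝟙 T) m.hom.fst
  have h2 : m.hom.fst.left ≫ P'.obj.fst.hom = P.obj.fst.hom := Over.w m.hom.fst
  unfold coordFst
  rw [← h2, h1]
  simp

/-- Objects of the 2-fibre product over `T` with the same coordinates are related by a morphism over `𝟙 T`. -/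
theorem hom_of_coord {P P' : (FibCat.fp (ptFun ξ) π).obj} {T : Over S} (hT : P.obj.fst.left = T)
    (hT' : P'.obj.fst.left = T) (h1 : coordFst P hT = coordFst P' hT')
    (h2 : fibRel 𝒲 T (coordSnd P hT) (coordSnd P' hT')) :
    ∃ m : P ⟶ P', (FibCat.fp (ptFun ξ) π).p.IsHomLift (𝟙 T) m := by
  obtain ⟨ψ, hψ⟩ := h2
  change P.obj.snd ⟶ P'.obj.snd at ψ
  have hφ0 : eqToHom (hT.trans hT'.symm) ≫ P'.obj.fst.hom = P.obj.fst.hom := by
    unfold coordFst at h1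
    have := congrArg (fun k => eqToHom hT ≫ k) h1
    simpa using this.symm
  let φ : P.obj.fst ⟶ P'.obj.fst := Over.homMk (eqToHom (hT.trans hT'.symm)) hφ0
  have lφ : (FibCat.overCat U).p.IsHomLift (𝟙 T) φ := by
    apply IsHomLift.of_fac' (FibCat.overCat U).p (𝟙 T) φ hT hT'
    change eqToHom (hT.trans hT'.symm) = _
    simp
  have l1 : (Stk.ofPsh Q).p.IsHomLift (𝟙 T) ((ptFun ξ).map φ) :=
    BasedFunctor.preserves_isHomLift (ptFun ξ) (𝟙 T) φ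
  have l2 : (Stk.ofPsh Q).p.IsHomLift (𝟙 T) P'.obj.iso.hom := fp_iso_isHomLift (ptFun ξ) π P' hT'
  have l3 : (Stk.ofPsh Q).p.IsHomLift (𝟙 T) P.obj.iso.hom := fp_iso_isHomLift (ptFun ξ) π P hT
  have l4 : (Stk.ofPsh Q).p.IsHomLift (𝟙 T) (π.map ψ) := BasedFunctor.preserves_isHomLift π (𝟙 T) ψ
  have l5 : (Stk.ofPsh Q).p.IsHomLift (𝟙 T) ((ptFun ξ).map φ ≫ P'.obj.iso.hom) :=
    comp_isHomLift_id (Stk.ofPsh Q).p _ _
  have l6 : (Stk.ofPsh Q).p.IsHomLift (𝟙 T) (P.obj.iso.hom ≫ π.map ψ) :=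
    comp_isHomLift_id (Stk.ofPsh Q).p _ _
  have w : (ptFun ξ).map φ ≫ P'.obj.iso.hom = P.obj.iso.hom ≫ π.map ψ :=
    IsFibSetoid.hom_ext (ofPsh_isFibSetoid Q) (𝟙 T) _ _
  refine ⟨ObjectProperty.homMk ⟨φ, ψ, w⟩, ?_⟩
  rw [fp_isHomLift_iff]
  exact lφ

/-- The section of `Q` at the second coordinate is `ξ` of the first coordinate. -/
theorem secAt_coord (P : (FibCat.fp (ptFun ξ) π).obj) {T : Over S} (hT : P.obj.fst.left = T)
    (h' : (π.obj P.obj.snd).base = T) :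
    secAt (π.obj P.obj.snd) h' = ξ.app (op T) ⟨coordFst P hT⟩ := by
  have l : (Stk.ofPsh Q).p.IsHomLift (𝟙 T) P.obj.iso.hom := fp_iso_isHomLift (ptFun ξ) π P hT
  have h1 := secAt_of_isHomLift (𝟙 T) P.obj.iso.hom (a := (ptFun ξ).obj P.obj.fst) hT h'
  rw [op_id, Q.map_id] at h1
  refine Eq.trans h1 ?_
  subst hT
  rw [secAt_rfl]
  unfold coordFst
  rw [eqToHom_refl, Category.id_comp]
  rfl

variable (π ξ)

/-- If `ofSp A ≃ (Sch/U) ×_{ofPsh Q} 𝒲`, then `A` is the fibre product `h_U ×_Q isoPsh 𝒲` of presheaves. -/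
theorem isPullback_isoDesc (A : AlgSp.Sp S) (e : AlgSt.ofSp A ⥤ᵇ FibCat.fp (ptFun ξ) π)
    (he : FibCat.IsEquivOver e) :
    IsPullback (clsMap h𝒲 (BasedFunctor.comp e (FibCat.fpSnd (ptFun ξ) π)))
      (AlgSt.spMapOfOver (BasedFunctor.comp e (FibCat.fpFst (ptFun ξ) π))).hom
      (isoDesc h𝒲 π) ξ := by
  obtain ⟨hfull, hfaith, hess⟩ := IsEquivOver.isFFEssSurjOver he
  apply IsPullback.of_forall_isPullback_app
  intro T
  induction T using Opposite.rec with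
  | _ T =>
  have F1 : ∀ s : A.obj.obj (op T),
      (clsMap h𝒲 (BasedFunctor.comp e (FibCat.fpSnd (ptFun ξ) π))).app (op T) s =
        isoCls h𝒲 (coordSnd (e.obj ⟨T, s⟩) (e.w_obj ⟨T, s⟩)) := fun s => rfl
  have F2 : ∀ s : A.obj.obj (op T),
      (AlgSt.spMapOfOver (BasedFunctor.comp e (FibCat.fpFst (ptFun ξ) π))).hom.app (op T) s =
        ⟨coordFst (e.obj ⟨T, s⟩) (e.w_obj ⟨T, s⟩)⟩ := fun s => rfl
  rw [Types.isPullback_iff]
  refine ⟨?_, ?_, ?_⟩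
  · ext s
    change (isoDesc h𝒲 π).app (op T) ((clsMap h𝒲 _).app (op T) s) =
      ξ.app (op T) ((AlgSt.spMapOfOver _).hom.app (op T) s)
    rw [F1, F2, isoDesc_app]
    exact secAt_coord _ _ _
  · rintro s s' ⟨h1, h2⟩
    rw [F1, F1, isoCls_eq_iff] at h1
    rw [F2, F2] at h2
    have h2' := congrArg ULift.down h2
    obtain ⟨m, hm⟩ := hom_of_coord (e.w_obj ⟨T, s⟩) (e.w_obj ⟨T, s'⟩) h2' h1
    obtain ⟨n, rfl⟩ := e.toFunctor.map_surjective m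
    have ln : (AlgSt.ofSp A).p.IsHomLift (𝟙 T) n := (e.isHomLift_iff (𝟙 T) n).mp hm
    have hn : 𝟙 T = n.hom :=
      IsHomLift.eq_of_isHomLift (AlgSt.ofSp A).p (a := ⟨T, s⟩) (b := ⟨T, s'⟩) (𝟙 T) n
    have := n.map_sec
    rw [← hn] at this
    simpa using this.symm
  · intro x₂ x₃ hx
    obtain ⟨b, rfl⟩ := isoCls_surjective h𝒲 x₂
    obtain ⟨h⟩ := x₃
    have hb : (π.obj b.1).base = T := (π.w_obj b.1).trans b.2
    have hx' : secAt (π.obj b.1) hb = ξ.app (op T) ⟨h⟩ := hx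
    let θ : (ptFun ξ).obj (Over.mk h) ≅ π.obj b.1 := eltIso' (π.obj b.1) hb _ hx'
    have hθ : (Stk.ofPsh Q).p.IsHomLift (𝟙 T) θ.hom := eltIso'_hom_isHomLift (π.obj b.1) hb _ hx'
    let P₀ : (FibCat.fp (ptFun ξ) π).obj := ⟨⟨Over.mk h, b.1, θ⟩, hθ⟩
    obtain ⟨a₀, η, hη⟩ := hess P₀
    obtain ⟨T₀, s₀⟩ := a₀
    have hη' : (FibCat.fp (ptFun ξ) π).p.IsHomLift (𝟙 T) η.hom := hη
    have hT₀ : T₀ = T :=
      (e.w_obj ⟨T₀, s₀⟩).symm.trans (IsHomLift.domain_eq (FibCat.fp (ptFun ξ) π).p (𝟙 T) η.hom)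
    subst hT₀
    obtain ⟨c1, c2⟩ := coord_of_hom (T := T₀) (e.w_obj ⟨T₀, s₀⟩) (P' := P₀) rfl η.hom (hm := hη')
    refine ⟨s₀, ?_, ?_⟩
    · rw [F1, isoCls_eq_iff]
      exact c2
    · rw [F2, c1]
      apply ULift.ext
      change eqToHom rfl ≫ h = h
      simp

end Groth.Agent.Lib.Helper80
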