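import Groth.Agent.Lib.Helper80.AlgStOpenSub
import Groth.Prelude.Def_W4c2isonaturalstkIso

/-!
# Open subfunctors of the presheaf of isomorphism classes give open substacks (helper80)
-/

set_option autoImplicit false
set_option backward.isDefEq.respectTransparency false

universe u

open CategoryTheory CategoryTheory.Functor CategoryTheory.Limits AlgebraicGeometry Opposite

namespace Groth.Agent.Lib.Helper80

open BasedFunctor Groth.Agent.Lib.Helper43.FPtRel Groth.Agent.Lib.Helper43.GerbComp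

variable {S : Scheme.{u}} {𝒴 : AlgSt.Cat S} (W : ∀ T : Over S, Set (IsoNat.IsoCl 𝒴 T))

/-- The object predicate of a subfunctor of the presheaf of isomorphism classes. -/
def isoQ : 𝒴.obj → Prop :=
  fun η => IsoNat.cls (⟨η, rfl⟩ : 𝒴.p.Fiber (𝒴.p.obj η)) ∈ W (𝒴.p.obj η)

theorem isoQ_iff {T : Over S} (x : 𝒴.p.Fiber T) : isoQ W x.1 ↔ IsoNat.cls x ∈ W T := by
  obtain ⟨η, h⟩ := x
  subst h
  rfl

/-- The set of points of the substack. -/
def isoT : Set (AlgSt.Points 𝒴) := {ξ | ∃ p : AlgSt.FPt 𝒴, AlgSt.Points.mk p = ξ ∧ isoQ W p.obj}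

variable (hWpull : ∀ (T' T : Over S) (g : T' ⟶ T) (x' : 𝒴.p.Fiber T') (x : 𝒴.p.Fiber T) (a : x'.1 ⟶ x.1),
      𝒴.p.IsHomLift g a → IsoNat.cls x ∈ W T → IsoNat.cls x' ∈ W T')
  (hWopen : ∀ (T : Over S) (x : 𝒴.p.Fiber T), ∃ V : T.left.Opens,
      ∀ (T' : Over S) (g : T' ⟶ T) (x' : 𝒴.p.Fiber T') (a : x'.1 ⟶ x.1), 𝒴.p.IsHomLift g a →
        (IsoNat.cls x' ∈ W T' ↔ ∃ g' : T'.left ⟶ ↑V, g' ≫ V.ι = g.left))

include hWpull in
theorem isoQ_of_hom {η' η : 𝒴.obj} (a : η' ⟶ η) (h : isoQ W η) : isoQ W η' :=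
  hWpull _ _ (𝒴.p.map a) ⟨η', rfl⟩ ⟨η, rfl⟩ a inferInstance h

include hWopen in
/-- Membership descends along an extension of fields. -/
theorem isoQ_of_hom_fpt {p r : AlgSt.FPt 𝒴} (m : r.obj ⟶ p.obj) (h : isoQ W r.obj) : isoQ W p.obj := by
  obtain ⟨V, hV⟩ := hWopen (Over.mk p.str) ⟨p.obj, p.lies⟩
  let g : Over.mk r.str ⟶ Over.mk p.str := eqToHom r.lies.symm ≫ 𝒴.p.map m ≫ eqToHom p.lies
  have hg : 𝒴.p.IsHomLift g m := IsHomLift.of_fac 𝒴.p g m r.lies p.lies rfl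
  obtain ⟨g', hg'⟩ := (hV (Over.mk r.str) g ⟨r.obj, r.lies⟩ m hg).mp ((isoQ_iff W ⟨r.obj, r.lies⟩).mp h)
  have hall : ∀ t : ↥(Spec (CommRingCat.of p.K)), t ∈ V := by
    intro t
    have : Subsingleton ↥(Spec (CommRingCat.of p.K)) := inferInstanceAs (Subsingleton (PrimeSpectrum p.K))
    have hne : Nonempty ↥(Spec (CommRingCat.of r.K)) := inferInstance
    obtain ⟨s⟩ := hne
    have h1 : V.ι (g' s) ∈ Set.range V.ι := ⟨_, rfl⟩
    rw [Scheme.Opens.range_ι] at h1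
    rw [Subsingleton.elim t (V.ι (g' s))]
    exact h1
  have hr : Set.range (𝟙 (Spec (CommRingCat.of p.K))) ⊆ Set.range V.ι := by
    rw [Scheme.Opens.range_ι]
    intro t _
    exact hall t
  exact (isoQ_iff W ⟨p.obj, p.lies⟩).mpr
    ((hV (Over.mk p.str) (𝟙 _) ⟨p.obj, p.lies⟩ (𝟙 p.obj) (IsHomLift.id p.lies)).mpr
      ⟨IsOpenImmersion.lift V.ι (𝟙 _) hr, IsOpenImmersion.lift_fac _ _ _⟩)

include hWpull hWopen in
theorem mem_isoT_iff (gY : FibCat.IsFibGrpd 𝒴.p) (p : AlgSt.FPt 𝒴) :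
    AlgSt.Points.mk p ∈ isoT W ↔ isoQ W p.obj := by
  constructor
  · rintro ⟨q, hq, hQq⟩
    obtain ⟨r, m1, m2, -⟩ := (points_mk_eq_iff gY _ _).mp hq
    exact isoQ_of_hom_fpt W hWopen m2 (isoQ_of_hom W hWpull m1 hQq)
  · intro h
    exact ⟨p, rfl, h⟩

include hWpull hWopen in
theorem isOpen_isoT (gY : FibCat.IsFibGrpd 𝒴.p) : IsOpen (isoT W) := by
  intro U x _
  obtain ⟨V, hV⟩ := hWopen U ⟨x.obj (Over.mk (𝟙 U)), x.w_obj _⟩
  have hset : AlgSt.Points.ofChart x ⁻¹' isoT W = (V : Set ↥U.left) := by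
    ext t
    let w : Over U := Over.mk (Over.homMk (U.left.fromSpecResidueField t) rfl :
      Over.mk (U.left.fromSpecResidueField t ≫ U.hom) ⟶ U)
    let pt : AlgSt.FPt 𝒴 :=
      { K := ↥(U.left.residueField t), str := U.left.fromSpecResidueField t ≫ U.hom, obj := x.obj w,
        lies := x.w_obj _ }
    have e0 : AlgSt.Points.ofChart x t = AlgSt.Points.mk pt := rfl
    have hlift : 𝒴.p.IsHomLift (toId U w).left (x.map (toId U w)) := map_isHomLift_left x (toId U w)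
    have h1 := hV w.left w.hom ⟨x.obj w, x.w_obj w⟩ (x.map (toId U w)) hlift
    rw [Set.mem_preimage, e0, mem_isoT_iff W hWpull hWopen gY pt]
    have h0 : isoQ W pt.obj ↔ IsoNat.cls (⟨x.obj w, x.w_obj w⟩ : 𝒴.p.Fiber w.left) ∈ W w.left :=
      isoQ_iff W (⟨x.obj w, x.w_obj w⟩ : 𝒴.p.Fiber w.left)
    refine h0.trans (h1.trans ?_)
    constructor
    · rintro ⟨g', hg'⟩
      have hs : Nonempty ↥(Spec (U.left.residueField t)) := inferInstance
      obtain ⟨s⟩ := hs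
      have h2 : V.ι (g' s) ∈ Set.range V.ι := ⟨_, rfl⟩
      rw [Scheme.Opens.range_ι] at h2
      have h3 : V.ι (g' s) = t := by
        have : (g' ≫ V.ι) s = t := by
          rw [hg']
          exact Scheme.fromSpecResidueField_apply t s
        exact this
      rw [← h3]
      exact h2
    · intro ht
      have hr : Set.range (U.left.fromSpecResidueField t) ⊆ Set.range V.ι := by
        rw [Scheme.Opens.range_ι, Scheme.range_fromSpecResidueField]
        intro t' ht'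
        rw [Set.mem_singleton_iff] at ht'
        rw [ht']
        exact ht
      exact ⟨IsOpenImmersion.lift V.ι (U.left.fromSpecResidueField t) hr, IsOpenImmersion.lift_fac _ _ _⟩
  rw [hset]
  exact V.isOpen

include hWpull hWopen in
theorem isoQ_eq_ptsIn (gY : FibCat.IsFibGrpd 𝒴.p) : isoQ W = ptsIn (isoT W) := by
  funext η
  apply propext
  constructor
  · intro h p ⟨m⟩
    exact ⟨p, rfl, isoQ_of_hom W hWpull m h⟩
  · intro h
    obtain ⟨V, hV⟩ := hWopen (𝒴.p.obj η) ⟨η, rfl⟩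
    have hall : ∀ t : ↥(𝒴.p.obj η).left, t ∈ V := by
      intro t
      let b : Over.mk ((𝒴.p.obj η).left.fromSpecResidueField t ≫ (𝒴.p.obj η).hom) ⟶ 𝒴.p.obj η :=
        Over.homMk ((𝒴.p.obj η).left.fromSpecResidueField t) rfl
      obtain ⟨a', ψ, hψ⟩ := exists_lift' 𝒴.p gY (rfl : 𝒴.p.obj η = 𝒴.p.obj η) b
      let pt : AlgSt.FPt 𝒴 :=
        { K := ↥((𝒴.p.obj η).left.residueField t),
          str := (𝒴.p.obj η).left.fromSpecResidueField t ≫ (𝒴.p.obj η).hom, obj := a',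
          lies := IsHomLift.domain_eq 𝒴.p b ψ }
      have h1 : AlgSt.Points.mk pt ∈ isoT W := h pt ⟨ψ⟩
      have h2 : isoQ W a' := (mem_isoT_iff W hWpull hWopen gY pt).mp h1
      obtain ⟨g', hg'⟩ := (hV _ b ⟨a', pt.lies⟩ ψ hψ).mp ((isoQ_iff W ⟨a', pt.lies⟩).mp h2)
      have hs : Nonempty ↥(Spec ((𝒴.p.obj η).left.residueField t)) := inferInstance
      obtain ⟨s⟩ := hs
      have h3 : V.ι (g' s) ∈ Set.range V.ι := ⟨_, rfl⟩
      rw [Scheme.Opens.range_ι] at h3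
      have h4 : V.ι (g' s) = t := by
        have : (g' ≫ V.ι) s = t := by
          rw [hg']
          exact Scheme.fromSpecResidueField_apply t s
        exact this
      rw [← h4]
      exact h3
    have hr : Set.range (𝟙 (𝒴.p.obj η).left) ⊆ Set.range V.ι := by
      rw [Scheme.Opens.range_ι]
      intro t _
      exact hall t
    exact (hV _ (𝟙 _) ⟨η, rfl⟩ (𝟙 η) (IsHomLift.id rfl)).mpr
      ⟨IsOpenImmersion.lift V.ι (𝟙 _) hr, IsOpenImmersion.lift_fac _ _ _⟩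

include hWpull hWopen in
/-- `S15492`. -/
theorem isOpenSubstack_isoQ (h𝒴 : AlgSt.IsAlgStack Scheme.fppfPrecoverage 𝒴) :
    AlgSt.IsOpenSubstack 𝒴 (isoQ W) Scheme.fppfPrecoverage := by
  rw [isoQ_eq_ptsIn W hWpull hWopen h𝒴.isStack.1]
  exact isOpenSubstack_ptsIn h𝒴 _ (isOpen_isoT W hWpull hWopen h𝒴.isStack.1)

end Groth.Agent.Lib.Helper80
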