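import Groth.Agent.Lib.Helper80.FibCat3

/-!
# The 2-fibre product of categories over `C` (helper80)
-/

set_option autoImplicit false
set_option backward.isDefEq.respectTransparency false

universe v₄ u₄ v₃ u₃ v₂ u₂ v u

open CategoryTheory CategoryTheory.Functor CategoryTheory.Limits

namespace Groth.Agent.Lib.Helper80

open BasedFunctor

variable {C : Type u} [Category.{v} C]
  {𝒳 : BasedCategory.{v₂, u₂} C} {𝒴 : BasedCategory.{v₃, u₃} C} {𝒮 : BasedCategory.{v₄, u₄} C}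
  (F : 𝒳 ⥤ᵇ 𝒮) (G : 𝒴 ⥤ᵇ 𝒮)

theorem fp_isHomLift_iff {R S : C} (u : R ⟶ S) {P Q : (FibCat.fp F G).obj} (m : P ⟶ Q) :
    (FibCat.fp F G).p.IsHomLift u m ↔ 𝒳.p.IsHomLift u m.hom.fst :=
  ((FibCat.fpFst F G).isHomLift_iff u m).symm

theorem fp_isHomLift_snd {R S : C} (u : R ⟶ S) {P Q : (FibCat.fp F G).obj} (m : P ⟶ Q)
    [h : (FibCat.fp F G).p.IsHomLift u m] : 𝒴.p.IsHomLift u m.hom.snd :=
  (FibCat.fpSnd F G).preserves_isHomLift u m

theorem fp_iso_isHomLift (P : (FibCat.fp F G).obj) {S : C} (hS : 𝒳.p.obj P.obj.fst = S) :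
    𝒮.p.IsHomLift (𝟙 S) P.obj.iso.hom := by
  subst hS; exact P.property

theorem fp_snd_proj (P : (FibCat.fp F G).obj) : 𝒴.p.obj P.obj.snd = 𝒳.p.obj P.obj.fst := by
  have : 𝒮.p.IsHomLift (𝟙 (𝒳.p.obj P.obj.fst)) P.obj.iso.hom := P.property
  rw [← G.w_obj]
  exact IsHomLift.codomain_eq 𝒮.p (𝟙 (𝒳.p.obj P.obj.fst)) P.obj.iso.hom

/-- A morphism of the 2-fibre product whose two components are strongly cartesian, the image of
the second one in `𝒮` being strongly cartesian too, is strongly cartesian. -/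
theorem fp_isStronglyCartesian {R S : C} (u : R ⟶ S) {P' P : (FibCat.fp F G).obj} (m : P' ⟶ P)
    [h1 : 𝒳.p.IsStronglyCartesian u m.hom.fst] [h2 : 𝒴.p.IsStronglyCartesian u m.hom.snd]
    [h3 : 𝒮.p.IsStronglyCartesian u (G.map m.hom.snd)] :
    (FibCat.fp F G).p.IsStronglyCartesian u m := by
  have hm : (FibCat.fp F G).p.IsHomLift u m := (fp_isHomLift_iff F G u m).mpr inferInstance
  refine ⟨fun {Q} g ψ hψ => ?_⟩
  have hψ1 : 𝒳.p.IsHomLift (g ≫ u) ψ.hom.fst := (fp_isHomLift_iff F G _ ψ).mp hψ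
  have hψ2 : 𝒴.p.IsHomLift (g ≫ u) ψ.hom.snd := fp_isHomLift_snd F G _ ψ
  let α : Q.obj.fst ⟶ P'.obj.fst := IsStronglyCartesian.map 𝒳.p u m.hom.fst (g := g) rfl ψ.hom.fst
  let β : Q.obj.snd ⟶ P'.obj.snd := IsStronglyCartesian.map 𝒴.p u m.hom.snd (g := g) rfl ψ.hom.snd
  have hα : α ≫ m.hom.fst = ψ.hom.fst := IsStronglyCartesian.fac 𝒳.p u m.hom.fst rfl ψ.hom.fst
  have hβ : β ≫ m.hom.snd = ψ.hom.snd := IsStronglyCartesian.fac 𝒴.p u m.hom.snd rfl ψ.hom.snd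
  have hαl : 𝒳.p.IsHomLift g α := inferInstance
  have hβl : 𝒴.p.IsHomLift g β := inferInstance
  have hP' := fp_iso_isHomLift F G P' (IsHomLift.domain_eq 𝒳.p u m.hom.fst)
  have hQ := fp_iso_isHomLift F G Q (S := (FibCat.fp F G).p.obj Q) rfl
  have w : F.map α ≫ P'.obj.iso.hom = Q.obj.iso.hom ≫ G.map β := by
    have l1 : 𝒮.p.IsHomLift g (F.map α ≫ P'.obj.iso.hom) := inferInstance
    have l2 : 𝒮.p.IsHomLift g (Q.obj.iso.hom ≫ G.map β) := inferInstance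
    apply IsStronglyCartesian.ext 𝒮.p u (G.map m.hom.snd) g
    have e1 := m.hom.w
    have e2 := ψ.hom.w
    rw [Category.assoc, ← e1, ← Category.assoc, ← Functor.map_comp, hα, e2, Category.assoc,
      ← Functor.map_comp, hβ]
  let χ : Q ⟶ P' := ObjectProperty.homMk ⟨α, β, w⟩
  refine ⟨χ, ⟨(fp_isHomLift_iff F G g χ).mpr hαl, ?_⟩, ?_⟩
  · apply ObjectProperty.hom_ext
    apply CategoricalPullback.hom_ext
    · exact hα
    · exact hβ
  · rintro χ' ⟨hχ'1, hχ'2⟩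
    have k1 : 𝒳.p.IsHomLift g χ'.hom.fst := (fp_isHomLift_iff F G g χ').mp hχ'1
    have k2 : 𝒴.p.IsHomLift g χ'.hom.snd := fp_isHomLift_snd F G g χ'
    have e1 : χ'.hom.fst ≫ m.hom.fst = ψ.hom.fst := by
      rw [← hχ'2]; rfl
    have e2 : χ'.hom.snd ≫ m.hom.snd = ψ.hom.snd := by
      rw [← hχ'2]; rfl
    apply ObjectProperty.hom_ext
    apply CategoricalPullback.hom_ext
    · exact IsStronglyCartesian.map_uniq 𝒳.p u m.hom.fst rfl ψ.hom.fst χ'.hom.fst e1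
    · exact IsStronglyCartesian.map_uniq 𝒴.p u m.hom.snd rfl ψ.hom.snd χ'.hom.snd e2

/-- Lifting an object of the 2-fibre product along lifts of `f` to both components whose images
in `𝒮` are strongly cartesian. -/
theorem fp_exists_lift {R S : C} (f : R ⟶ S) (P : (FibCat.fp F G).obj)
    {x' : 𝒳.obj} {y' : 𝒴.obj} (φ : x' ⟶ P.obj.fst) (ψ : y' ⟶ P.obj.snd)
    [𝒳.p.IsHomLift f φ] [𝒴.p.IsHomLift f ψ]
    [𝒮.p.IsStronglyCartesian f (F.map φ)] [𝒮.p.IsStronglyCartesian f (G.map ψ)] :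
    ∃ (P' : (FibCat.fp F G).obj) (m : P' ⟶ P) (h1 : P'.obj.fst = x') (h2 : P'.obj.snd = y'),
      m.hom.fst = eqToHom h1 ≫ φ ∧ m.hom.snd = eqToHom h2 ≫ ψ := by
  have hP := fp_iso_isHomLift F G P (IsHomLift.codomain_eq 𝒳.p f φ)
  have hP' : 𝒮.p.IsHomLift (𝟙 S) P.obj.iso.inv := inferInstance
  have l1 : 𝒮.p.IsHomLift f (F.map φ ≫ P.obj.iso.hom) := inferInstance
  have l2 : 𝒮.p.IsHomLift f (G.map ψ ≫ P.obj.iso.inv) := inferInstance
  let e₁ := IsCartesian.map 𝒮.p f (G.map ψ) (F.map φ ≫ P.obj.iso.hom)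
  let e₂ := IsCartesian.map 𝒮.p f (F.map φ) (G.map ψ ≫ P.obj.iso.inv)
  have he₁ : e₁ ≫ G.map ψ = F.map φ ≫ P.obj.iso.hom := IsCartesian.fac 𝒮.p f _ _
  have he₂ : e₂ ≫ F.map φ = G.map ψ ≫ P.obj.iso.inv := IsCartesian.fac 𝒮.p f _ _
  have hx' : 𝒳.p.obj x' = R := IsHomLift.domain_eq 𝒳.p f φ
  have h12 : e₁ ≫ e₂ = 𝟙 (F.obj x') := by
    have : 𝒮.p.IsHomLift (𝟙 R) (𝟙 (F.obj x')) := IsHomLift.id ((F.w_obj x').trans hx')
    apply IsCartesian.ext 𝒮.p f (F.map φ)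
    rw [Category.assoc, he₂, ← Category.assoc, he₁, Category.assoc, Iso.hom_inv_id,
      Category.comp_id, Category.id_comp]
  have h21 : e₂ ≫ e₁ = 𝟙 (G.obj y') := by
    have : 𝒮.p.IsHomLift (𝟙 R) (𝟙 (G.obj y')) :=
      IsHomLift.id ((G.w_obj y').trans (IsHomLift.domain_eq 𝒴.p f ψ))
    apply IsCartesian.ext 𝒮.p f (G.map ψ)
    rw [Category.assoc, he₁, ← Category.assoc, he₂, Category.assoc, Iso.inv_hom_id,
      Category.comp_id, Category.id_comp]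
  have hprop : 𝒮.p.IsHomLift (𝟙 (𝒳.p.obj x')) e₁ := by
    have : 𝒮.p.IsHomLift (𝟙 R) e₁ := inferInstance
    rw [hx']; exact this
  let P' : (FibCat.fp F G).obj := ⟨⟨x', y', ⟨e₁, e₂, h12, h21⟩⟩, hprop⟩
  let m : P' ⟶ P := ObjectProperty.homMk ⟨φ, ψ, he₁.symm⟩
  exact ⟨P', m, rfl, rfl, by simp [m], by simp [m]⟩

theorem fp_isFibered [𝒳.p.IsFibered] [𝒴.p.IsFibered] [𝒮.p.IsFibered]
    (hF : FibCat.PreservesStronglyCartesian F) (hG : FibCat.PreservesStronglyCartesian G) :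
    (FibCat.fp F G).p.IsFibered := by
  apply IsFibered.of_exists_isStronglyCartesian
  intro P R f
  obtain ⟨x', φ, hφ⟩ := IsPreFibered.exists_isCartesian 𝒳.p (a := P.obj.fst) rfl f
  obtain ⟨y', ψ, hψ⟩ := IsPreFibered.exists_isCartesian 𝒴.p (a := P.obj.snd) (fp_snd_proj F G P) f
  have : 𝒳.p.IsStronglyCartesian f φ := inferInstance
  have : 𝒴.p.IsStronglyCartesian f ψ := inferInstance
  have : 𝒮.p.IsStronglyCartesian f (F.map φ) := hF f φ inferInstance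
  have : 𝒮.p.IsStronglyCartesian f (G.map ψ) := hG f ψ inferInstance
  obtain ⟨P', m, h1, h2, hm1, hm2⟩ := fp_exists_lift F G f P φ ψ
  obtain ⟨⟨x'', y'', e⟩, hP'⟩ := P'
  simp only at h1 h2
  subst h1 h2
  simp only [eqToHom_refl, Category.id_comp] at hm1 hm2
  have : 𝒳.p.IsStronglyCartesian f m.hom.fst := by rw [hm1]; infer_instance
  have : 𝒴.p.IsStronglyCartesian f m.hom.snd := by rw [hm2]; infer_instance
  have : 𝒮.p.IsStronglyCartesian f (G.map m.hom.snd) := by rw [hm2]; infer_instance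
  exact ⟨_, m, fp_isStronglyCartesian F G f m⟩

theorem fp_isFibGrpd (h𝒳 : FibCat.IsFibGrpd 𝒳.p) (h𝒴 : FibCat.IsFibGrpd 𝒴.p)
    (h𝒮 : FibCat.IsFibGrpd 𝒮.p) : FibCat.IsFibGrpd (FibCat.fp F G).p where
  exists_lift := by
    intro P V f
    obtain ⟨x', φ, hφ⟩ := h𝒳.exists_lift (x := P.obj.fst) f
    obtain ⟨y', ψ, hψ⟩ := h𝒴.exists_lift (x := P.obj.snd) (f ≫ eqToHom (fp_snd_proj F G P).symm)
    have hψ' : 𝒴.p.IsHomLift f ψ := by
      have : 𝒴.p.IsHomLift ((f ≫ eqToHom (fp_snd_proj F G P).symm) ≫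
        eqToHom (fp_snd_proj F G P)) ψ := inferInstance
      simpa using this
    have := IsFibGrpd.isStronglyCartesian' 𝒮.p h𝒮 f (F.map φ)
    have := IsFibGrpd.isStronglyCartesian' 𝒮.p h𝒮 f (G.map ψ)
    obtain ⟨P', m, h1, h2, hm1, hm2⟩ := fp_exists_lift F G f P φ ψ
    refine ⟨P', m, (fp_isHomLift_iff F G f m).mpr ?_⟩
    rw [hm1]; infer_instance
  isStronglyCartesian := by
    intro P' P m
    have : 𝒳.p.IsStronglyCartesian ((FibCat.fp F G).p.map m) m.hom.fst :=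
      h𝒳.isStronglyCartesian m.hom.fst
    have : 𝒴.p.IsStronglyCartesian ((FibCat.fp F G).p.map m) m.hom.snd :=
      IsFibGrpd.isStronglyCartesian' 𝒴.p h𝒴 _ _
    have : 𝒮.p.IsStronglyCartesian ((FibCat.fp F G).p.map m) (G.map m.hom.snd) :=
      IsFibGrpd.isStronglyCartesian' 𝒮.p h𝒮 _ _
    exact fp_isStronglyCartesian F G _ m

end Groth.Agent.Lib.Helper80
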