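import Groth.Agent.Lib.Helper80.AlgStMono
import Groth.Agent.Lib.Helper80.AlgStImm
import Groth.Agent.Lib.Helper80.FibCat4
import Groth.Agent.Lib.Helper78.AlgSpLargestOpen
import Groth.Prelude.Def_W4c2isonaturalstkIso

/-!
# Isomorphism classes of a 2-fibre product along a fully faithful functor (helper80)
-/

set_option autoImplicit false
set_option backward.isDefEq.respectTransparency false

universe u

open CategoryTheory CategoryTheory.Functor CategoryTheory.Limits AlgebraicGeometry Opposite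

namespace Groth.Agent.Lib.Helper80

open BasedFunctor Groth.Agent.Lib.Helper43.FPtRel Groth.Agent.Lib.Helper43.GerbComp

variable {S : Scheme.{u}} {𝒳 𝒴 𝒴' 𝒵 : AlgSt.Cat S}

/-- Objects of a fibre category of a category fibred in groupoids joined by a morphism over the identity have the same
isomorphism class. -/
theorem cls_eq_of_hom (g𝒵 : FibCat.IsFibGrpd 𝒵.p) {T : Over S} (z₁ z₂ : 𝒵.p.Fiber T) (m : z₁.1 ⟶ z₂.1)
    (hm : 𝒵.p.IsHomLift (𝟙 T) m) : IsoNat.cls z₁ = IsoNat.cls z₂ := by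
  have : IsIso m := IsFibGrpd.isIso_of_base_isIso 𝒵.p g𝒵 (𝟙 T) m
  have hinv : 𝒵.p.IsHomLift (𝟙 T) (inv m) := inferInstance
  let e : z₁ ≅ z₂ :=
    { hom := ⟨m, hm⟩
      inv := ⟨inv m, hinv⟩
      hom_inv_id := by
        apply Functor.Fiber.hom_ext
        exact IsIso.hom_inv_id m
      inv_hom_id := by
        apply Functor.Fiber.hom_ext
        exact IsIso.inv_hom_id m }
  exact Quotient.sound ⟨e⟩

/-- Two objects of `𝒳 ×_𝒴 𝒴'` over `T`, with `𝒴' ⟶ 𝒴` full, are isomorphic over `T` as soon as their images in `𝒳`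
are. -/
theorem cls_fp_eq_of_full (gX : FibCat.IsFibGrpd 𝒳.p) (gY : FibCat.IsFibGrpd 𝒴.p) (gY' : FibCat.IsFibGrpd 𝒴'.p)
    (f : 𝒳 ⥤ᵇ 𝒴) (i : 𝒴' ⥤ᵇ 𝒴) (hfull : i.toFunctor.Full)
    (T : Over S) (z₁ z₂ : (FibCat.fp f i).p.Fiber T)
    (h₁ : IsoNat.mapCls (FibCat.fpFst f i) T (IsoNat.cls z₁) =
      IsoNat.mapCls (FibCat.fpFst f i) T (IsoNat.cls z₂)) :
    IsoNat.cls z₁ = IsoNat.cls z₂ := by
  have h1' : IsIsomorphic ((IsoNat.fibFun (FibCat.fpFst f i) T).obj z₁)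
      ((IsoNat.fibFun (FibCat.fpFst f i) T).obj z₂) := Quotient.exact h₁
  obtain ⟨e⟩ := h1'
  let φ : z₁.1.obj.fst ⟶ z₂.1.obj.fst := e.hom.1
  have hφ : 𝒳.p.IsHomLift (𝟙 T) φ := e.hom.2
  let β : i.obj z₁.1.obj.snd ⟶ i.obj z₂.1.obj.snd := z₁.1.obj.iso.inv ≫ f.map φ ≫ z₂.1.obj.iso.hom
  let ψ : z₁.1.obj.snd ⟶ z₂.1.obj.snd := i.toFunctor.preimage β
  have hψ : i.map ψ = β := i.toFunctor.map_preimage β
  let m : z₁.1 ⟶ z₂.1 := ObjectProperty.homMk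
    { fst := φ
      snd := ψ
      w := by
        change f.map φ ≫ z₂.1.obj.iso.hom = z₁.1.obj.iso.hom ≫ i.map ψ
        rw [hψ]
        simp [β] }
  have hm : (FibCat.fp f i).p.IsHomLift (𝟙 T) m :=
    IsHomLift.of_fac _ _ _ z₁.2 z₂.2 (IsHomLift.fac 𝒳.p (𝟙 T) φ)
  exact cls_eq_of_hom (fp_isFibGrpd f i gX gY' gY) z₁ z₂ m hm

/-- `S15493`. -/
theorem cls_fp_eq_of_isOpenImm (h𝒳 : AlgSt.IsAlgStack Scheme.fppfPrecoverage 𝒳)
    (h𝒴 : AlgSt.IsAlgStack Scheme.fppfPrecoverage 𝒴) (h𝒴' : AlgSt.IsAlgStack Scheme.fppfPrecoverage 𝒴')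
    (f : 𝒳 ⥤ᵇ 𝒴) (i : 𝒴' ⥤ᵇ 𝒴) (hi : AlgSt.IsOpenImm i)
    (T : Over S) (z₁ z₂ : (FibCat.fp f i).p.Fiber T)
    (h₁ : IsoNat.mapCls (FibCat.fpFst f i) T (IsoNat.cls z₁) =
      IsoNat.mapCls (FibCat.fpFst f i) T (IsoNat.cls z₂)) :
    IsoNat.cls z₁ = IsoNat.cls z₂ := by
  have himm : AlgSt.IsImm i :=
    repByAlgSpWith_congr _ _ (fun _ _ _ ha =>
      Groth.Agent.Lib.Helper78.AlgSpLargestOpen.repWith_mono' (fun _ _ k hk => by
        have : IsOpenImmersion k := hk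
        exact (inferInstance : IsImmersion k)) ha) hi
  have hmono := isMono_of_isImm i himm
  have hff := full_faithful_of_isMono h𝒴'.isStack.1 h𝒴.isStack.1 i hmono
  exact cls_fp_eq_of_full h𝒳.isStack.1 h𝒴.isStack.1 h𝒴'.isStack.1 f i hff.1 T z₁ z₂ h₁

end Groth.Agent.Lib.Helper80
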