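import Groth.Agent.Lib.Helper80.AlgStIsoNat2
import Groth.Agent.Lib.Helper80.AlgStPts7

/-!
# Surjectivity is detected by the presheaves of isomorphism classes (helper80)
-/

set_option autoImplicit false
set_option backward.isDefEq.respectTransparency false

universe u

open CategoryTheory CategoryTheory.Functor CategoryTheory.Limits AlgebraicGeometry Opposite

namespace Groth.Agent.Lib.Helper80

open BasedFunctor Groth.Agent.Lib.Helper43.FPtRel Groth.Agent.Lib.Helper43.GerbComp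

variable {S : Scheme.{u}} {𝒳 𝒴 𝒳' 𝒴' 𝒵 : AlgSt.Cat S}

/-- The field-valued point of an object of a fibre category over the spectrum of a field. -/
def fptOf {K : Type u} [Field K] {str : Spec (CommRingCat.of K) ⟶ S} (y : 𝒵.p.Fiber (Over.mk str)) :
    AlgSt.FPt 𝒵 :=
  { K := K, str := str, obj := y.1, lies := y.2 }

theorem mk_fptOf_eq_of_cls_eq {K : Type u} [Field K] {str : Spec (CommRingCat.of K) ⟶ S}
    (y₁ y₂ : 𝒵.p.Fiber (Over.mk str)) (h : IsoNat.cls y₁ = IsoNat.cls y₂) :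
    AlgSt.Points.mk (fptOf y₁) = AlgSt.Points.mk (fptOf y₂) := by
  have h' : IsIsomorphic y₁ y₂ := Quotient.exact h
  obtain ⟨e⟩ := h'
  exact points_mk_eq_of_hom (p := fptOf y₁) (q := fptOf y₂) e.hom.1

/-- `S15487`. -/
theorem isSurjective_of_fIsoSq (gX : FibCat.IsFibGrpd 𝒳.p) (gY : FibCat.IsFibGrpd 𝒴.p)
    (f : 𝒳 ⥤ᵇ 𝒴) (f' : 𝒳' ⥤ᵇ 𝒴') (φ : IsoNat.FIsoSq f f') (hf : AlgSt.IsSurjective f) :
    AlgSt.IsSurjective f' := by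
  intro ξ'
  obtain ⟨q', rfl⟩ := AlgSt.Points.mk_surjective ξ'
  let y'₀ : 𝒴'.p.Fiber (Over.mk q'.str) := ⟨q'.obj, q'.lies⟩
  obtain ⟨y₀, hy₀⟩ := Quotient.exists_rep ((φ.tgt.toEquiv (Over.mk q'.str)).symm (IsoNat.cls y'₀))
  have hy₀' : IsoNat.cls y₀ = (φ.tgt.toEquiv (Over.mk q'.str)).symm (IsoNat.cls y'₀) := hy₀
  obtain ⟨ζ, hζ⟩ := hf (AlgSt.Points.mk (fptOf y₀))
  obtain ⟨p, rfl⟩ := AlgSt.Points.mk_surjective ζ
  rw [AlgSt.Points.map_mk] at hζ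
  obtain ⟨r, m1, m2, -⟩ := (points_mk_eq_iff gY _ _).mp hζ
  -- pull `p` back to the field of `r`
  let g₁ : Over.mk r.str ⟶ Over.mk p.str := eqToHom r.lies.symm ≫ 𝒴.p.map m1 ≫ eqToHom (p.map f).lies
  have hg₁ : 𝒴.p.IsHomLift g₁ m1 := IsHomLift.of_fac 𝒴.p g₁ m1 r.lies (p.map f).lies rfl
  obtain ⟨xM, ψ, hψ⟩ := exists_lift' 𝒳.p gX p.lies g₁
  have hfψ : 𝒴.p.IsHomLift g₁ (f.map ψ) := inferInstance
  obtain ⟨χ, hχ, -⟩ := exists_factor_id 𝒴.p gY g₁ (f.map ψ) m1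
  let xMf : 𝒳.p.Fiber (Over.mk r.str) := ⟨xM, IsHomLift.domain_eq 𝒳.p g₁ ψ⟩
  let rf : 𝒴.p.Fiber (Over.mk r.str) := ⟨r.obj, r.lies⟩
  have e1 : IsoNat.mapCls f (Over.mk r.str) (IsoNat.cls xMf) = IsoNat.cls rf :=
    (cls_eq_of_hom gY rf ((IsoNat.fibFun f (Over.mk r.str)).obj xMf) χ hχ).symm
  -- transport to the primed side
  obtain ⟨x'M, hx'M⟩ := Quotient.exists_rep (φ.src.toEquiv (Over.mk r.str) (IsoNat.cls xMf))
  have hx'M' : IsoNat.cls x'M = φ.src.toEquiv (Over.mk r.str) (IsoNat.cls xMf) := hx'M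
  have e2 : φ.tgt.toEquiv (Over.mk r.str) (IsoNat.cls rf) =
      IsoNat.cls ((IsoNat.fibFun f' (Over.mk r.str)).obj x'M) := by
    rw [← e1, φ.comm, ← hx'M']
    rfl
  -- naturality of the target isomorphism along `m2`
  let g₂ : Over.mk r.str ⟶ Over.mk q'.str := eqToHom r.lies.symm ≫ 𝒴.p.map m2 ≫ eqToHom y₀.2
  have hg₂ : 𝒴.p.IsHomLift g₂ m2 := IsHomLift.of_fac 𝒴.p g₂ m2 r.lies y₀.2 rfl
  obtain ⟨y'₁, y₁, b, hb, hb1, hb2⟩ := φ.tgt.natural g₂ rf y₀ m2 hg₂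
  have e3 : IsoNat.cls y₁ = IsoNat.cls y'₀ := by
    rw [← hb2, hy₀', Equiv.apply_symm_apply]
  have h3 : IsIsomorphic y₁ y'₀ := Quotient.exact e3
  obtain ⟨e₃⟩ := h3
  have e4 : IsoNat.cls ((IsoNat.fibFun f' (Over.mk r.str)).obj x'M) = IsoNat.cls y'₁ := by
    rw [← e2, hb1]
  let p' : AlgSt.FPt 𝒳' := fptOf x'M
  refine ⟨AlgSt.Points.mk p', ?_⟩
  rw [AlgSt.Points.map_mk]
  have s1 : AlgSt.Points.mk (p'.map f') = AlgSt.Points.mk (fptOf y'₁) :=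
    mk_fptOf_eq_of_cls_eq ((IsoNat.fibFun f' (Over.mk r.str)).obj x'M) y'₁ e4
  have s2 : AlgSt.Points.mk (fptOf y'₁) = AlgSt.Points.mk q' :=
    points_mk_eq_of_hom (p := fptOf y'₁) (q := q') (b ≫ e₃.hom.1)
  exact s1.trans s2

/-- `S15477`. -/
theorem repByAlgSpWith_surjective_of_fIsoSq (gX : FibCat.IsFibGrpd 𝒳.p) (gY : FibCat.IsFibGrpd 𝒴.p)
    (gX' : FibCat.IsFibGrpd 𝒳'.p) (gY' : FibCat.IsFibGrpd 𝒴'.p)
    (f : 𝒳 ⥤ᵇ 𝒴) (f' : 𝒳' ⥤ᵇ 𝒴') (φ : IsoNat.FIsoSq f f') (hf' : AlgSt.RepByAlgSp1 f')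
    (hf : AlgSt.RepByAlgSpWith AlgSp.IsSurjectiveMor f) :
    AlgSt.RepByAlgSpWith AlgSp.IsSurjectiveMor f' :=
  repByAlgSpWith_surjective_of_isSurjective gX' gY' f' hf'
    (isSurjective_of_fIsoSq gX gY f f' φ (isSurjective_of_repByAlgSpWith gY f hf))

end Groth.Agent.Lib.Helper80
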