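import Groth.Agent.Lib.Helper80.AlgStPts3

/-!
# Points of `(Sch/U)` are the points of `U` (helper80)
-/

set_option autoImplicit false
set_option backward.isDefEq.respectTransparency false

universe u

open CategoryTheory CategoryTheory.Functor CategoryTheory.Limits AlgebraicGeometry Opposite

namespace Groth.Agent.Lib.Helper80

open BasedFunctor

variable {S : Scheme.{u}} {𝒳 𝒴 : AlgSt.Cat S}

/-- The point of `U` under a field-valued point of `(Sch/U)`. -/
noncomputable def fptPoint {U : Over S} (p : AlgSt.FPt (FibCat.overCat U)) : ↥U.left :=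
  p.obj.hom.left ((eqToHom p.lies.symm : Over.mk p.str ⟶ p.obj.left).left (IsLocalRing.closedPoint p.K))

/-- Every field-valued point of `(Sch/U)` is equivalent to the canonical point at its image. -/
theorem mk_eq_mk_chartPt {U : Over S} (p : AlgSt.FPt (FibCat.overCat U)) :
    AlgSt.Points.mk p = AlgSt.Points.mk (chartPt U (fptPoint p)) := by
  obtain ⟨K, str, obj, lies⟩ := p
  obtain ⟨left, right, hom⟩ := obj
  change left = Over.mk str at lies
  subst lies
  -- now `hom : Over.mk str ⟶ U`
  let φ : Spec (CommRingCat.of K) ⟶ U.left := hom.left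
  let t : ↥U.left := φ (IsLocalRing.closedPoint K)
  have ht : fptPoint (U := U) ⟨K, str, ⟨Over.mk str, right, hom⟩, rfl⟩ = t := by
    change hom.left ((𝟙 (Over.mk str) : Over.mk str ⟶ Over.mk str).left (IsLocalRing.closedPoint K)) = t
    rfl
  rw [ht]
  have w : Spec.map (Scheme.descResidueField (Scheme.stalkClosedPointTo φ)) ≫
      U.left.fromSpecResidueField t = φ :=
    Scheme.descResidueField_stalkClosedPointTo_fromSpecResidueField K U.left φ
  let m₀ : Over.mk str ⟶ Over.mk (U.left.fromSpecResidueField t ≫ U.hom) :=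
    Over.homMk (Spec.map (Scheme.descResidueField (Scheme.stalkClosedPointTo φ))) (by
      change Spec.map _ ≫ U.left.fromSpecResidueField t ≫ U.hom = str
      rw [← Category.assoc, w]
      exact Over.w hom)
  let m : (⟨Over.mk str, right, hom⟩ : Over U) ⟶ (chartPt U t).obj :=
    Over.homMk m₀ (by
      apply Over.OverMorphism.ext
      exact w)
  exact points_mk_eq_of_hom (p := (⟨K, str, (⟨Over.mk str, right, hom⟩ : Over U), rfl⟩ :
    AlgSt.FPt (FibCat.overCat U))) (q := chartPt U t) m

/-- A morphism to the canonical point at `t` forces the image point to be `t`. -/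
theorem fptPoint_eq_of_hom {U : Over S} (r : AlgSt.FPt (FibCat.overCat U)) (t : ↥U.left)
    (m : r.obj ⟶ (chartPt U t).obj) : fptPoint r = t := by
  have h1 : r.obj.hom = m.left ≫ (chartPt U t).obj.hom := (Over.w m).symm
  have h2 : r.obj.hom.left = m.left.left ≫ U.left.fromSpecResidueField t := by
    rw [h1]; rfl
  unfold fptPoint
  rw [h2, Scheme.Hom.comp_apply]
  exact Scheme.fromSpecResidueField_apply _ _

theorem chartPt_injective (U : Over S) {t t' : ↥U.left}
    (h : AlgSt.Points.mk (chartPt U t) = AlgSt.Points.mk (chartPt U t')) : t = t' := by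
  obtain ⟨r, m, m', -⟩ := (points_mk_eq_iff (overCat_isFibGrpd U) _ _).mp h
  rw [← fptPoint_eq_of_hom r t m, ← fptPoint_eq_of_hom r t' m']

theorem fptPoint_chartPt (U : Over S) (t : ↥U.left) : fptPoint (chartPt U t) = t :=
  fptPoint_eq_of_hom (chartPt U t) t (𝟙 _)

/-- The point of `U` under a field-valued point is determined by its class. -/
theorem mk_eq_mk_chartPt_iff {U : Over S} (p : AlgSt.FPt (FibCat.overCat U)) (t : ↥U.left) :
    AlgSt.Points.mk p = AlgSt.Points.mk (chartPt U t) ↔ fptPoint p = t := by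
  constructor
  · intro h
    rw [mk_eq_mk_chartPt p] at h
    exact chartPt_injective U h
  · rintro rfl
    exact mk_eq_mk_chartPt p

/-- The functor of a surjective scheme chart `c : h_A ⟶ E` of a sheaf is surjective on points, through the
canonical points of `A`. -/
theorem exists_chartPt_ptFun {E : AlgSp.Sp S} {A : Over S} (c : (AlgSp.yon S).obj A ⟶ E)
    (hc : AlgSp.RepWith @Surjective c) (ξ : AlgSt.Points (AlgSt.ofSp E)) :
    ∃ s : ↥A.left, AlgSt.Points.ofChart (ptFun c.hom) s = ξ := by
  obtain ⟨ω, rfl⟩ := AlgSt.Points.mk_surjective ξ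
  obtain ⟨K, str, ⟨T, σ⟩, lies⟩ := ω
  change T = Over.mk str at lies
  subst lies
  let σ' : (AlgSp.yon S).obj (Over.mk str) ⟶ E := (AlgSp.J S).uliftYonedaEquiv.symm σ
  obtain ⟨hrep, hsurj⟩ := (AlgSp.repWith_iff _ c).mp hc
  obtain ⟨P, snd, fst, sq⟩ := hrep σ'
  have hs : Surjective snd.left := hsurj σ' fst snd sq
  let φ : P.left ⟶ Spec (CommRingCat.of K) := snd.left
  obtain ⟨π, hπ⟩ := hs.surj (IsLocalRing.closedPoint K)
  obtain ⟨f₁, hf₁⟩ := (AlgSp.yon S).map_surjective fst
  let R : Over S := Over.mk (P.left.fromSpecResidueField π ≫ P.hom)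
  let ρ' : R ⟶ P := Over.homMk (P.left.fromSpecResidueField π) rfl
  let s' : R ⟶ A := ρ' ≫ f₁
  let r : AlgSt.FPt (FibCat.overCat A) :=
    { K := ↥(P.left.residueField π), str := P.left.fromSpecResidueField π ≫ P.hom, obj := Over.mk s', lies := rfl }
  refine ⟨fptPoint r, ?_⟩
  rw [ofChart_eq_map_chartPt, ← mk_eq_mk_chartPt r, AlgSt.Points.map_mk]
  let g : R ⟶ Over.mk str := ρ' ≫ snd
  have key : E.obj.map g.op σ = c.hom.app (op R) ⟨s'⟩ := by
    have h1 := congrArg (fun m => m.hom.app (op R) ⟨ρ'⟩) sq.w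
    have h2 : σ'.hom.app (op R) ⟨g⟩ = E.obj.map g.op σ := rfl
    rw [← h2]
    subst hf₁
    exact h1.symm
  exact points_mk_eq_of_hom (p := r.map (ptFun c.hom))
    (q := (⟨K, str, (⟨Over.mk str, σ⟩ : (AlgSt.ofSp E).obj), rfl⟩ : AlgSt.FPt (AlgSt.ofSp E))) ⟨g, key⟩

end Groth.Agent.Lib.Helper80
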