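import Groth.Agent.Lib.Helper80.AlgStPts4

/-!
# Scheme charts of 2-fibre products of charts and points (helper80)
-/

set_option autoImplicit false
set_option backward.isDefEq.respectTransparency false

universe u

open CategoryTheory CategoryTheory.Functor CategoryTheory.Limits AlgebraicGeometry Opposite

namespace Groth.Agent.Lib.Helper80

open BasedFunctor

variable {S : Scheme.{u}} {𝒳 𝒴 : AlgSt.Cat S}

/-- A scheme chart `A` of `U ×_𝒳 V` for an arbitrary `x : U ⟶ 𝒳` and a representable `y : V ⟶ 𝒳`: the projection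
`A ⟶ U` inherits the properties of `y`, and pairs of points of `U`, `V` with the same image in `|𝒳|` lift to `A`. -/
theorem exists_chart_pair' (h𝒳 : FibCat.IsFibGrpd 𝒳.p) {U V : Over S} (x : FibCat.overCat U ⥤ᵇ 𝒳)
    (y : FibCat.overCat V ⥤ᵇ 𝒳) (hy : AlgSt.RepByAlgSp1 y) :
    ∃ (A : Over S) (a : A ⟶ U) (b : A ⟶ V)
      (_ : BasedFunctor.comp (AlgSt.overMap a) x ≅ BasedFunctor.comp (AlgSt.overMap b) y),
      (∀ (Q : MorphismProperty Scheme.{u}) [Q.IsStableUnderBaseChange],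
        Groth.Agent.Lib.Helper78.AlgSpLocP.EtLocalST Q → AlgSt.RepByAlgSpWith (AlgSp.LocP Q) y → Q a.left) ∧
      (AlgSt.RepByAlgSpWith AlgSp.IsSurjectiveMor y → Surjective a.left) ∧
      (∀ (t : ↥U.left) (v : ↥V.left), AlgSt.Points.ofChart x t = AlgSt.Points.ofChart y v →
        ∃ s : ↥A.left, a.left s = t ∧ b.left s = v) := by
  obtain ⟨E, e, he⟩ := hy U x
  obtain ⟨A, c, hc1, hc2⟩ := E.property.atlas
  let pe : FibCat.overCat A ⥤ᵇ FibCat.fp x y := BasedFunctor.comp (ptFun c.hom) e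
  let G₁ : FibCat.overCat A ⥤ᵇ FibCat.overCat U := BasedFunctor.comp pe (FibCat.fpFst x y)
  let G₂ : FibCat.overCat A ⥤ᵇ FibCat.overCat V := BasedFunctor.comp pe (FibCat.fpSnd x y)
  let a : A ⟶ U := overClassify G₁
  let b : A ⟶ V := overClassify G₂
  let j₁ : G₁ ≅ AlgSt.overMap a := isoOverMap G₁
  let j₂ : G₂ ≅ AlgSt.overMap b := isoOverMap G₂
  have hk : (AlgSp.yon S).map a = c ≫ AlgSt.spMapOfOver (BasedFunctor.comp e (FibCat.fpFst x y)) :=
    yon_map_overClassify c (BasedFunctor.comp e (FibCat.fpFst x y))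
  refine ⟨A, a, b, whiskerRightIso j₁.symm x ≪≫
    (whiskerLeftIso pe (FibCat.fpIso x y) : BasedFunctor.comp G₁ x ≅ BasedFunctor.comp G₂ y) ≪≫
    whiskerRightIso j₂ y, ?_, ?_, ?_⟩
  · intro Q _ hQ hyQ
    obtain ⟨E', e', he', h'⟩ := hyQ U x
    have ha₁ : AlgSp.LocP Q (AlgSt.spMapOfOver (BasedFunctor.comp e (FibCat.fpFst x y))) :=
      prop_of_rep_over (AlgSp.LocP Q) (locP_baseChange hQ) (FibCat.fpFst x y) E E' e e' he he' h'
    exact locP_chart _ c a hc1 hk.symm ha₁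
  · intro hy2
    obtain ⟨E', e', he', h'⟩ := hy2 U x
    have ha₁' : AlgSp.IsSurjectiveMor (AlgSt.spMapOfOver (BasedFunctor.comp e (FibCat.fpFst x y))) :=
      prop_of_rep_over AlgSp.IsSurjectiveMor
        (fun _ _ _ _ _ _ _ _ _ _ _ _ sq ha => isSurjectiveMor_baseChange sq ha)
        (FibCat.fpFst x y) E E' e e' he he' h'
    exact surjective_chart _ c a hc2 hk.symm ha₁'
  · intro t v htv
    rw [ofChart_eq_map_chartPt, ofChart_eq_map_chartPt] at htv
    obtain ⟨w, hw1, hw2⟩ := exists_point_fp (overCat_isFibGrpd V) h𝒳 (overCat_isFibGrpd U) y x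
      (AlgSt.Points.mk (chartPt U t)) (AlgSt.Points.mk (chartPt V v)) htv
    obtain ⟨ξ, hξ⟩ := points_map_surjective_of_isEquivOver e he w
    obtain ⟨s, hs⟩ := exists_chartPt_ptFun c hc2 ξ
    have hpe : AlgSt.Points.map pe (AlgSt.Points.mk (chartPt A s)) = w := by
      rw [← hξ, ← hs, ofChart_eq_map_chartPt, points_map_comp]
      rfl
    refine ⟨s, ?_, ?_⟩
    · apply chartPt_injective U
      rw [← map_overMap_chartPt a s, ← points_map_eq_of_iso j₁, ← hw1, ← hpe, points_map_comp]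
      rfl
    · apply chartPt_injective V
      rw [← map_overMap_chartPt b s, ← points_map_eq_of_iso j₂, ← hw2, ← hpe, points_map_comp]
      rfl

/-- `S12822` (openness): a flat, locally finitely presented scheme chart is open on points. -/
theorem isOpenMap_ofChart (h𝒳 : FibCat.IsFibGrpd 𝒳.p) {U : Over S} (x : FibCat.overCat U ⥤ᵇ 𝒳)
    (hx₁ : AlgSt.RepByAlgSpWith (AlgSp.LocP @Flat) x)
    (hx₂ : AlgSt.RepByAlgSpWith (AlgSp.LocP @LocallyOfFinitePresentation) x) :
    IsOpenMap (AlgSt.Points.ofChart x) := by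
  intro W hW U' x' _
  obtain ⟨A, a, b, i, hQ, -, hlift⟩ := exists_chart_pair' h𝒳 x' x (repByAlgSp1_of_repByAlgSpWith _ hx₁)
  have hfl : Flat a.left := hQ @Flat Groth.Agent.Lib.Helper78.AlgSpLocPFlat.etLocalST_flat hx₁
  have hfp : LocallyOfFinitePresentation a.left :=
    hQ @LocallyOfFinitePresentation Groth.Agent.Lib.Helper78.AlgSpLocPLofp.etLocalST_lofp hx₂
  have e : AlgSt.Points.ofChart x' ⁻¹' (AlgSt.Points.ofChart x '' W) = a.left '' (b.left ⁻¹' W) := by
    ext t'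
    constructor
    · rintro ⟨t, htW, ht⟩
      obtain ⟨s, hs1, hs2⟩ := hlift t' t ht.symm
      exact ⟨s, by rw [Set.mem_preimage, hs2]; exact htW, hs1⟩
    · rintro ⟨s, hs, rfl⟩
      refine ⟨b.left s, hs, ?_⟩
      rw [← ofChart_overMap b x s, ← ofChart_overMap a x' s, ofChart_congr i]
  rw [e]
  exact a.left.isOpenMap _ (hW.preimage b.left.continuous)

/-- A scheme chart which is representable by algebraic spaces and surjective is surjective on points. -/
theorem surjective_ofChart (h𝒳 : FibCat.IsFibGrpd 𝒳.p) {U : Over S} (x : FibCat.overCat U ⥤ᵇ 𝒳)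
    (hx : AlgSt.RepByAlgSpWith AlgSp.IsSurjectiveMor x) :
    Function.Surjective (AlgSt.Points.ofChart x) := by
  intro ξ
  obtain ⟨q, rfl⟩ := AlgSt.Points.mk_surjective ξ
  have := IsFibGrpd.isFibered 𝒳.p h𝒳
  let T : Over S := Over.mk q.str
  let yq : FibCat.overCat T ⥤ᵇ 𝒳 := yonedaFunctor q.obj q.lies
  obtain ⟨E, e, he, hsurj⟩ := hx T yq
  -- a field-valued point of `h_T`, hence one of `E`
  let p₀ : AlgSp.FieldPt ((AlgSp.yon S).obj T) := ⟨q.K, q.str, ⟨𝟙 _⟩⟩
  obtain ⟨η, -⟩ := hsurj (AlgSp.Points.mk p₀)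
  obtain ⟨p', -⟩ := AlgSp.Points.mk_surjective η
  let a₀ : (AlgSt.ofSp E.obj).obj := ⟨Over.mk p'.str, p'.val⟩
  let o : (FibCat.fp yq x).obj := e.obj a₀
  let r : AlgSt.FPt (FibCat.overCat U) :=
    { K := p'.K, str := p'.str, obj := o.obj.snd
      lies := (BasedFunctor.comp e (FibCat.fpSnd yq x)).w_obj a₀ }
  refine ⟨fptPoint r, ?_⟩
  rw [ofChart_eq_map_chartPt, ← mk_eq_mk_chartPt r, AlgSt.Points.map_mk]
  let m : x.obj o.obj.snd ⟶ q.obj := o.obj.iso.inv ≫ IsPreFibered.pullbackMap q.lies o.obj.fst.hom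
  exact points_mk_eq_of_hom (p := r.map x) (q := q) m

end Groth.Agent.Lib.Helper80
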