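import Groth.Agent.Lib.Helper80.AlgStPts7
import Groth.Agent.Lib.Helper80.AlgStLoft
import Groth.Agent.Lib.Helper78.AlgSpLocPSmooth

/-!
# Quasi-compact algebraic stacks and their spaces of points (helper80)
-/

set_option autoImplicit false
set_option backward.isDefEq.respectTransparency false

universe u

open CategoryTheory CategoryTheory.Functor CategoryTheory.Limits AlgebraicGeometry Opposite

namespace Groth.Agent.Lib.Helper80

open BasedFunctor

variable {S : Scheme.{u}} {𝒳 𝒴 : AlgSt.Cat S}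

/-- A smooth chart precomposed with a smooth morphism of schemes is a smooth chart. -/
theorem repByAlgSpWith_smooth_overMap_comp {U U' : Over S} (j : U' ⟶ U) (hj : Smooth j.left)
    (x : FibCat.overCat U ⥤ᵇ 𝒳) (hx : AlgSt.RepByAlgSpWith (AlgSp.LocP @Smooth) x) :
    AlgSt.RepByAlgSpWith (AlgSp.LocP @Smooth) (BasedFunctor.comp (AlgSt.overMap j) x) :=
  repByAlgSpWith_locP_comp Groth.Agent.Lib.Helper78.AlgSpLocPSmooth.etLocalST_smooth
    (overCat_isFibGrpd U') (overCat_isFibGrpd U) (AlgSt.overMap j) x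
    ((repByAlgSpWith_overMap_iff _ (locP_baseChange Groth.Agent.Lib.Helper78.AlgSpLocPSmooth.etLocalST_smooth)
      (atlasLocal_locP Groth.Agent.Lib.Helper78.AlgSpLocPSmooth.etLocalST_smooth) j).mpr
      ((Groth.Agent.Lib.Helper78.AlgSpLocP.locP_yon_map_iff
        Groth.Agent.Lib.Helper78.AlgSpLocPSmooth.etLocalST_smooth j).mpr hj)) hx

/-- A quasi-compact stack (with an affine smooth surjective chart) has a quasi-compact space of points. -/
theorem compactSpace_points_of_isQuasiCompact (h𝒳 : FibCat.IsFibGrpd 𝒳.p)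
    (hat : AlgSt.HasAtlas (AlgSp.LocP @Smooth) 𝒳) (hqc : AlgSt.IsQuasiCompact 𝒳) :
    CompactSpace (AlgSt.Points 𝒳) := by
  obtain ⟨U, x, hU, hx1, hx2⟩ := hqc
  have hcont := continuous_ofChart hat x
  have hsurj := surjective_ofChart h𝒳 x hx2
  refine ⟨?_⟩
  have : (Set.univ : Set (AlgSt.Points 𝒳)) = AlgSt.Points.ofChart x '' Set.univ := by
    rw [Set.image_univ, hsurj.range_eq]
  rw [this]
  exact isCompact_univ.image hcont

/-- An algebraic stack whose space of points is quasi-compact has an affine smooth surjective chart. -/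
theorem isQuasiCompact_of_compactSpace_points (h𝒳 : FibCat.IsFibGrpd 𝒳.p)
    (hat : AlgSt.HasAtlas (AlgSp.LocP @Smooth) 𝒳) [CompactSpace (AlgSt.Points 𝒳)] :
    AlgSt.IsQuasiCompact 𝒳 := by
  obtain ⟨U, a, ha1, ha2⟩ := hat
  have hfl : AlgSt.RepByAlgSpWith (AlgSp.LocP @Flat) a :=
    repByAlgSpWith_locP_mono (fun _ _ k hk => by
      have : Smooth k := hk
      exact (inferInstance : Flat k)) ha1
  have hfp : AlgSt.RepByAlgSpWith (AlgSp.LocP @LocallyOfFinitePresentation) a :=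
    repByAlgSpWith_locP_mono (fun _ _ k hk => by
      have : Smooth k := hk
      exact (inferInstance : LocallyOfFinitePresentation k)) ha1
  have hopen := isOpenMap_ofChart h𝒳 a hfl hfp
  have hsurj := surjective_ofChart h𝒳 a ha2
  have hcov : (Set.univ : Set (AlgSt.Points 𝒳)) ⊆
      ⋃ i : U.left.affineOpens, AlgSt.Points.ofChart a '' (i.1 : Set U.left) := by
    intro ξ _
    obtain ⟨t, rfl⟩ := hsurj ξ
    have ht : t ∈ (⊤ : U.left.Opens) := trivial
    obtain ⟨V, hV, htV, -⟩ :=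
      (TopologicalSpace.Opens.isBasis_iff_nbhd.mp (Scheme.isBasis_affineOpens U.left)) ht
    exact Set.mem_iUnion.mpr ⟨⟨V, hV⟩, t, htV, rfl⟩
  obtain ⟨s, hs⟩ := isCompact_univ.elim_finite_subcover
    (fun i : U.left.affineOpens => AlgSt.Points.ofChart a '' (i.1 : Set U.left))
    (fun i => hopen _ i.1.2) hcov
  let g : s → Scheme.{u} := fun i => (i.1.1 : Scheme.{u})
  have hg : ∀ i, IsAffine (g i) := fun i => i.1.2
  let j₀ : (∐ g) ⟶ U.left := Sigma.desc (fun i : s => (i.1.1).ι)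
  have hj₀ : Smooth j₀ := IsZariskiLocalAtSource.sigmaDesc (fun i => inferInstance)
  let U' : Over S := Over.mk (j₀ ≫ U.hom)
  let j : U' ⟶ U := Over.homMk j₀ rfl
  let x' : FibCat.overCat U' ⥤ᵇ 𝒳 := BasedFunctor.comp (AlgSt.overMap j) a
  have hx'1 : AlgSt.RepByAlgSpWith (AlgSp.LocP @Smooth) x' :=
    repByAlgSpWith_smooth_overMap_comp j hj₀ a ha1
  have hx'2 : AlgSt.IsSurjective x' := by
    intro ξ
    obtain ⟨i, hi⟩ := Set.mem_iUnion.mp (hs (Set.mem_univ ξ))
    obtain ⟨hi', t, ht, rfl⟩ := Set.mem_iUnion.mp hi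
    let t' : ↥(∐ g) := (Sigma.ι g ⟨i, hi'⟩) ⟨t, ht⟩
    have e : j₀ t' = t := by
      change (Sigma.desc (fun i : s => (i.1.1).ι)) ((Sigma.ι g ⟨i, hi'⟩) ⟨t, ht⟩) = t
      rw [← Scheme.Hom.comp_apply, Sigma.ι_desc]
      rfl
    refine ⟨AlgSt.Points.mk (chartPt U' t'), ?_⟩
    rw [← ofChart_eq_map_chartPt, ofChart_overMap]
    exact congrArg _ e
  exact ⟨U', x', (inferInstance : IsAffine (∐ g)), hx'1,
    repByAlgSpWith_surjective_of_isSurjective (overCat_isFibGrpd U') h𝒳 x'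
      (repByAlgSp1_of_repByAlgSpWith _ hx'1) hx'2⟩

end Groth.Agent.Lib.Helper80
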