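import Groth.Agent.Lib.Helper80.AlgStIsoNat3
import Groth.Agent.Lib.Helper80.AlgStPts8
import Groth.Agent.Lib.Helper80.AlgStPts5
import Groth.Agent.Lib.Helper80.AlgStPts4

/-!
# Quasi-compactness is detected by the presheaf of isomorphism classes (helper80)
-/

set_option autoImplicit false
set_option backward.isDefEq.respectTransparency false

universe u

open CategoryTheory CategoryTheory.Functor CategoryTheory.Limits AlgebraicGeometry Opposite

namespace Groth.Agent.Lib.Helper80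

open BasedFunctor Groth.Agent.Lib.Helper43.FPtRel Groth.Agent.Lib.Helper43.GerbComp

variable {S : Scheme.{u}} {𝒳 𝒴 : AlgSt.Cat S}

/-- A field-valued point with a morphism to an object `y` over `U` is a point of the chart attached to `y`. -/
theorem mk_mem_range_ofChart_yoneda (gY : FibCat.IsFibGrpd 𝒴.p) {U : Over S} (y : 𝒴.obj) (hy : 𝒴.p.obj y = U)
    (p : AlgSt.FPt 𝒴) (c : p.obj ⟶ y) :
    haveI := IsFibGrpd.isFibered 𝒴.p gY
    AlgSt.Points.mk p ∈ Set.range (AlgSt.Points.ofChart (yonedaFunctor y hy)) := by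
  haveI := IsFibGrpd.isFibered 𝒴.p gY
  let g : Over.mk p.str ⟶ U := eqToHom p.lies.symm ≫ 𝒴.p.map c ≫ eqToHom hy
  have hg : 𝒴.p.IsHomLift g c := IsHomLift.of_fac 𝒴.p g c p.lies hy rfl
  let o : Over U := Over.mk g
  let P : AlgSt.FPt (FibCat.overCat U) := { K := p.K, str := p.str, obj := o, lies := rfl }
  have hpm : 𝒴.p.IsHomLift g (IsPreFibered.pullbackMap hy o.hom) :=
    (inferInstance : 𝒴.p.IsHomLift o.hom (IsPreFibered.pullbackMap hy o.hom))
  obtain ⟨χ, -, -⟩ := exists_factor_id 𝒴.p gY g (IsPreFibered.pullbackMap hy o.hom) c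
  have e1 : AlgSt.Points.mk p = AlgSt.Points.map (yonedaFunctor y hy) (AlgSt.Points.mk P) :=
    points_mk_eq_of_hom (p := p) (q := P.map (yonedaFunctor y hy)) χ
  refine ⟨fptPoint P, ?_⟩
  rw [e1, mk_eq_mk_chartPt P, ← ofChart_eq_map_chartPt]

/-- `S15472`. -/
theorem isQuasiCompact_of_fIso (h𝒳 : AlgSt.IsAlgStack Scheme.fppfPrecoverage 𝒳)
    (h𝒴 : AlgSt.IsAlgStack Scheme.fppfPrecoverage 𝒴) (φ : IsoNat.FIso 𝒳 𝒴)
    (hqc : AlgSt.IsQuasiCompact 𝒳) : AlgSt.IsQuasiCompact 𝒴 := by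
  have gX := h𝒳.isStack.1
  have gY := h𝒴.isStack.1
  haveI := IsFibGrpd.isFibered 𝒴.p gY
  obtain ⟨U, x, hU, hx1, hx2⟩ := hqc
  let xU : 𝒳.p.Fiber U := ⟨x.obj (Over.mk (𝟙 U)), x.w_obj _⟩
  obtain ⟨yU, hyU⟩ := Quotient.exists_rep (φ.toEquiv U (IsoNat.cls xU))
  have hyU' : IsoNat.cls yU = φ.toEquiv U (IsoNat.cls xU) := hyU
  let ŷ : FibCat.overCat U ⥤ᵇ 𝒴 := yonedaFunctor yU.1 yU.2
  have hsurj : Function.Surjective (AlgSt.Points.ofChart ŷ) := by
    intro ξ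
    obtain ⟨q, rfl⟩ := AlgSt.Points.mk_surjective ξ
    let y : 𝒴.p.Fiber (Over.mk q.str) := ⟨q.obj, q.lies⟩
    obtain ⟨xK, hxK⟩ := Quotient.exists_rep ((φ.toEquiv (Over.mk q.str)).symm (IsoNat.cls y))
    have hxK' : IsoNat.cls xK = (φ.toEquiv (Over.mk q.str)).symm (IsoNat.cls y) := hxK
    obtain ⟨t, ht⟩ := surjective_ofChart gX x hx2 (AlgSt.Points.mk (fptOf xK))
    let w : Over U := Over.mk (Over.homMk (U.left.fromSpecResidueField t) rfl :
      Over.mk (U.left.fromSpecResidueField t ≫ U.hom) ⟶ U)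
    let pt : AlgSt.FPt 𝒳 :=
      { K := ↥(U.left.residueField t), str := U.left.fromSpecResidueField t ≫ U.hom, obj := x.obj w,
        lies := x.w_obj _ }
    have e0 : AlgSt.Points.ofChart x t = AlgSt.Points.mk pt := rfl
    rw [e0] at ht
    obtain ⟨r, m1, m2, -⟩ := (points_mk_eq_iff gX _ _).mp ht
    let rf : 𝒳.p.Fiber (Over.mk r.str) := ⟨r.obj, r.lies⟩
    -- first naturality square: towards the chart object
    let a₁ : r.obj ⟶ xU.1 := m1 ≫ x.map (toId U w)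
    let g₁ : Over.mk r.str ⟶ U := eqToHom r.lies.symm ≫ 𝒳.p.map a₁ ≫ eqToHom xU.2
    have hg₁ : 𝒳.p.IsHomLift g₁ a₁ := IsHomLift.of_fac 𝒳.p g₁ a₁ r.lies xU.2 rfl
    obtain ⟨y'₁, y₁, b₁, hb₁, hb11, hb12⟩ := φ.natural g₁ rf xU a₁ hg₁
    have h1 : IsIsomorphic y₁ yU := Quotient.exact (hb12.symm.trans hyU'.symm)
    obtain ⟨e₁⟩ := h1
    -- second naturality square: towards the given point
    let g₂ : Over.mk r.str ⟶ Over.mk q.str := eqToHom r.lies.symm ≫ 𝒳.p.map m2 ≫ eqToHom xK.2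
    have hg₂ : 𝒳.p.IsHomLift g₂ m2 := IsHomLift.of_fac 𝒳.p g₂ m2 r.lies xK.2 rfl
    obtain ⟨y'₂, y₂, b₂, hb₂, hb21, hb22⟩ := φ.natural g₂ rf xK m2 hg₂
    have e3 : IsoNat.cls y₂ = IsoNat.cls y := by
      rw [← hb22, hxK', Equiv.apply_symm_apply]
    have h2 : IsIsomorphic y₂ y := Quotient.exact e3
    obtain ⟨e₂⟩ := h2
    have s1 : AlgSt.Points.mk (fptOf y'₂) = AlgSt.Points.mk q :=
      points_mk_eq_of_hom (p := fptOf y'₂) (q := q) (b₂ ≫ e₂.hom.1)
    have s2 : AlgSt.Points.mk (fptOf y'₁) = AlgSt.Points.mk (fptOf y'₂) :=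
      mk_fptOf_eq_of_cls_eq y'₁ y'₂ (hb11.symm.trans hb21)
    have s3 := mk_mem_range_ofChart_yoneda gY yU.1 yU.2 (fptOf y'₁) (b₁ ≫ e₁.hom.1)
    rw [s2, s1] at s3
    exact s3
  have hcont := continuous_ofChart h𝒴.atlas ŷ
  haveI : CompactSpace ↥U.left := inferInstance
  have hc : CompactSpace (AlgSt.Points 𝒴) := by
    refine ⟨?_⟩
    have : (Set.univ : Set (AlgSt.Points 𝒴)) = AlgSt.Points.ofChart ŷ '' Set.univ := by
      rw [Set.image_univ, hsurj.range_eq]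
    rw [this]
    exact isCompact_univ.image hcont
  exact isQuasiCompact_of_compactSpace_points gY h𝒴.atlas

end Groth.Agent.Lib.Helper80
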