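import Groth.Agent.Lib.Helper80.AlgStQcMor6
import Groth.Agent.Lib.Helper80.AlgStDesc

/-!
# Fppf covers of an algebraic stack by schemes, from fppf covers by algebraic stacks; descent of properties of
representable morphisms along them (helper80)
-/

set_option autoImplicit false
set_option backward.isDefEq.respectTransparency false

universe u

open CategoryTheory CategoryTheory.Functor CategoryTheory.Limits AlgebraicGeometry Opposite

namespace Groth.Agent.Lib.Helper80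

open BasedFunctor

variable {S : Scheme.{u}} {𝒳 𝒴 𝒵 : AlgSt.Cat S}

/-- A flat, locally finitely presented, surjective morphism `𝒵 ⟶ 𝒴` of algebraic stacks composed with an atlas of `𝒵`
is a scheme chart of `𝒴`, representable by algebraic spaces, flat, locally of finite presentation and surjective. -/
theorem exists_scheme_cover_of_locQ_fppf (h𝒴 : AlgSt.IsAlgStack Scheme.fppfPrecoverage 𝒴)
    (h𝒵 : AlgSt.IsAlgStack Scheme.fppfPrecoverage 𝒵) (z : 𝒵 ⥤ᵇ 𝒴)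
    (hz₁ : AlgSt.LocQ (AlgSp.LocP @Flat) z)
    (hz₂ : AlgSt.LocQ (AlgSp.LocP @LocallyOfFinitePresentation) z) (hz₃ : AlgSt.IsSurjective z) :
    ∃ (V : Over S) (v : FibCat.overCat V ⥤ᵇ 𝒵),
      AlgSt.RepByAlgSpWith (AlgSp.LocP @Smooth) v ∧
      AlgSt.RepByAlgSpWith (AlgSp.LocP @Flat) (BasedFunctor.comp v z) ∧
      AlgSt.RepByAlgSpWith (AlgSp.LocP @LocallyOfFinitePresentation) (BasedFunctor.comp v z) ∧
      AlgSt.RepByAlgSpWith AlgSp.IsSurjectiveMor (BasedFunctor.comp v z) := by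
  have hQe := Groth.Agent.Lib.Helper78.AlgSpLocPFlat.etLocalST_flat
  have hQe' := Groth.Agent.Lib.Helper78.AlgSpLocPLofp.etLocalST_lofp
  obtain ⟨V, v, hv1, hv2⟩ := h𝒵.atlas
  have hV := isAlgStack_overCat V
  have gV := overCat_isFibGrpd V
  let vz : FibCat.overCat V ⥤ᵇ 𝒴 := BasedFunctor.comp v z
  have hrep : AlgSt.RepByAlgSp1 vz := repByAlgSp1_of_diag h𝒴.diag V vz
  have hvfl : AlgSt.LocQ (AlgSp.LocP @Flat) v :=
    locQ_of_repByAlgSpWith_locP hQe (fun k hk => smooth_flat k hk) hV h𝒵 v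
      (repByAlgSpWith_locP_mono (fun _ _ k hk => smooth_flat k hk) hv1)
  have h1 : AlgSt.LocQ (AlgSp.LocP @Flat) vz :=
    Groth.Agent.S13038.result S _ isSmoothLocalST_flat (locP_comp_alg hQe) _ _ _ hV h𝒵 h𝒴 v z hvfl hz₁
  have h1' : AlgSt.RepByAlgSpWith (AlgSp.LocP @Flat) vz :=
    repByAlgSpWith_of_locQ _ isSmoothLocalST_flat (locP_baseChange_alg hQe) vz hrep h1
  have hvfp : AlgSt.LocQ (AlgSp.LocP @LocallyOfFinitePresentation) v :=
    locQ_of_repByAlgSpWith_locP hQe' (fun k hk => smooth_lofp k hk) hV h𝒵 v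
      (repByAlgSpWith_locP_mono (fun _ _ k hk => smooth_lofp k hk) hv1)
  have h2 : AlgSt.LocQ (AlgSp.LocP @LocallyOfFinitePresentation) vz :=
    Groth.Agent.S13038.result S _ isSmoothLocalST_lofp (locP_comp_alg hQe') _ _ _ hV h𝒵 h𝒴 v z hvfp hz₂
  have h2' : AlgSt.RepByAlgSpWith (AlgSp.LocP @LocallyOfFinitePresentation) vz :=
    repByAlgSpWith_of_locQ _ isSmoothLocalST_lofp (locP_baseChange_alg hQe') vz hrep h2
  have hvs : AlgSt.IsSurjective v := isSurjective_of_repByAlgSpWith h𝒵.isStack.1 v hv2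
  have h3 : AlgSt.IsSurjective vz := by
    change Function.Surjective (AlgSt.Points.map (BasedFunctor.comp v z))
    rw [points_map_comp]
    exact hz₃.comp hvs
  have h3' : AlgSt.RepByAlgSpWith AlgSp.IsSurjectiveMor vz :=
    repByAlgSpWith_surjective_of_isSurjective gV h𝒴.isStack.1 vz hrep h3
  exact ⟨V, v, hv1, h1', h2', h3'⟩

/-- `S12995`. -/
theorem repByAlgSpWith_iff_fpFst_of_fppf (P : MorphismProperty (AlgSp.Sp S))
    (hP₁ : ∀ ⦃X₁ Y₁ X₂ Y₂ : AlgSp.Sp S⦄, AlgSp.IsAlgSpace X₁ → AlgSp.IsAlgSpace Y₁ → AlgSp.IsAlgSpace X₂ →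
      AlgSp.IsAlgSpace Y₂ → ∀ (a : X₁ ⟶ Y₁) (b : Y₂ ⟶ Y₁) (a' : X₂ ⟶ Y₂) (b' : X₂ ⟶ X₁),
      IsPullback b' a' a b → P a → P a')
    (hP₂ : AlgSp.IsLocalOnBase AlgSp.IsFppfCover P)
    (h𝒳 : AlgSt.IsAlgStack Scheme.fppfPrecoverage 𝒳) (h𝒴 : AlgSt.IsAlgStack Scheme.fppfPrecoverage 𝒴)
    (h𝒵 : AlgSt.IsAlgStack Scheme.fppfPrecoverage 𝒵) (f : 𝒳 ⥤ᵇ 𝒴) (hf : AlgSt.RepByAlgSp1 f) (z : 𝒵 ⥤ᵇ 𝒴)
    (hz₁ : AlgSt.LocQ (AlgSp.LocP @Flat) z)
    (hz₂ : AlgSt.LocQ (AlgSp.LocP @LocallyOfFinitePresentation) z) (hz₃ : AlgSt.IsSurjective z) :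
    AlgSt.RepByAlgSpWith P f ↔ AlgSt.RepByAlgSpWith P (FibCat.fpFst z f) := by
  constructor
  · intro h
    exact repByAlgSpWith_fpFst P z f h
  · intro h
    obtain ⟨V, v, -, h1, h2, h3⟩ := exists_scheme_cover_of_locQ_fppf h𝒴 h𝒵 z hz₁ hz₂ hz₃
    have h4 : AlgSt.RepByAlgSpWith P (FibCat.fpFst v (FibCat.fpFst z f)) :=
      repByAlgSpWith_fpFst P v (FibCat.fpFst z f) h
    have h5 : AlgSt.RepByAlgSpWith P (FibCat.fpFst (BasedFunctor.comp v z) f) :=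
      (repByAlgSpWith_iff_of_square P (FibCat.fpFst v (FibCat.fpFst z f))
        (FibCat.fpFst (BasedFunctor.comp v z) f) (fpPasteLeft v z f) (BasedFunctor.id _)
        (fpPasteLeft_isEquivOver v z f) isEquivOver_id (BasedNatIso.id _)).mp h4
    exact repByAlgSpWith_of_fppf_cover h𝒳.isStack.1 h𝒴.isStack.1 (overCat_isFibGrpd V) P hP₁ hP₂ f hf
      (BasedFunctor.comp v z) h1 h2 h3 h5

end Groth.Agent.Lib.Helper80
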