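import Groth.Agent.Lib.Helper80.AlgStLocQ5
import Groth.Agent.Lib.Helper80.AlgStLocQ8
import Groth.Agent.Lib.Helper80.AlgStLocQ9
import Groth.Agent.Lib.Helper80.AlgStLocQ10

/-!
# Fppf descent on the base for properties read on chart squares (helper80)
-/

set_option autoImplicit false
set_option backward.isDefEq.respectTransparency false

universe u

open CategoryTheory CategoryTheory.Functor CategoryTheory.Limits AlgebraicGeometry Opposite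

namespace Groth.Agent.Lib.Helper80

open BasedFunctor

variable {S : Scheme.{u}} {𝒳 𝒴 𝒴' 𝒵 : AlgSt.Cat S}

/-- `LocQ P` is stable under smooth base change, for `P` smooth local on the source-and-target. -/
theorem locQ_baseChange_smooth (P : MorphismProperty (AlgSp.Sp S)) (hP : AlgSp.IsSmoothLocalST P)
    (h𝒳 : AlgSt.IsAlgStack Scheme.fppfPrecoverage 𝒳) (h𝒴 : AlgSt.IsAlgStack Scheme.fppfPrecoverage 𝒴)
    (h𝒴' : AlgSt.IsAlgStack Scheme.fppfPrecoverage 𝒴') (f : 𝒳 ⥤ᵇ 𝒴) (g : 𝒴' ⥤ᵇ 𝒴)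
    (hg : AlgSt.RepByAlgSpWith (AlgSp.LocP @Smooth) g)
    (hf : AlgSt.LocQ P f) : AlgSt.LocQ P (FibCat.fpFst g f) := by
  have hQs := Groth.Agent.Lib.Helper78.AlgSpLocPSmooth.etLocalST_smooth
  obtain ⟨U₀, V₀, x₀, y₀, h₀, α₀, hx₀, hx₀', hy₀, hP₀⟩ := hf
  have h𝒲 : AlgSt.IsAlgStack Scheme.fppfPrecoverage (FibCat.fp g f) :=
    isAlgStack_fp' _ h𝒴.isStack h𝒴.diag h𝒴' h𝒳 g f
  obtain ⟨V', y', hy'1, hy'2⟩ := h𝒴'.atlas
  obtain ⟨U', x', h', α', hx'1, hΓ'1, -, hx'2⟩ := exists_chart_over h𝒲 h𝒴' (FibCat.fpFst g f) V' y' hy'1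
  refine ⟨U', V', x', y', h', α', hx'1, hx'2 hy'2, hy'1, ?_⟩
  refine locQ_all_charts P hP f x₀ y₀ h₀ α₀ hx₀ hx₀' hy₀ hP₀ (BasedFunctor.comp x' (FibCat.fpSnd g f))
    (BasedFunctor.comp y' g) h' (bcSquareIso f g x' y' h' α') ?_ ?_ ?_
  · exact repByAlgSpWith_locP_comp hQs (overCat_isFibGrpd U') h𝒲.isStack.1 x' _ hx'1
      (repByAlgSpWith_fpSnd _ g f hg)
  · exact repByAlgSpWith_locP_comp hQs (overCat_isFibGrpd V') h𝒴'.isStack.1 y' g hy'1 hg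
  -- smoothness of the induced functor into `𝒳 ×_𝒴 V'`
  have h1 : AlgSt.RepByAlgSpWith (AlgSp.LocP @Smooth)
      (BasedFunctor.comp (FibCat.fpLift x' (AlgSt.overMap h') α') (fpSwap (FibCat.fpFst g f) y')) :=
    (repByAlgSpWith_iff_of_square _
      (BasedFunctor.comp (FibCat.fpLift x' (AlgSt.overMap h') α') (fpSwap (FibCat.fpFst g f) y'))
      (FibCat.fpLift x' (AlgSt.overMap h') α')
      (BasedFunctor.id _) (fpSwap (FibCat.fpFst g f) y') isEquivOver_id (fpSwap_isEquivOver _ _)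
      (BasedNatIso.id _)).mpr hΓ'1
  have h2 : AlgSt.RepByAlgSpWith (AlgSp.LocP @Smooth)
      (BasedFunctor.comp
        (FibCat.fpLift (BasedFunctor.comp x' (FibCat.fpSnd g f)) (AlgSt.overMap h') (bcSquareIso f g x' y' h' α'))
        (fpSwap f (BasedFunctor.comp y' g))) :=
    (repByAlgSpWith_iff_of_square _
      (BasedFunctor.comp (FibCat.fpLift x' (AlgSt.overMap h') α') (fpSwap (FibCat.fpFst g f) y'))
      (BasedFunctor.comp
        (FibCat.fpLift (BasedFunctor.comp x' (FibCat.fpSnd g f)) (AlgSt.overMap h') (bcSquareIso f g x' y' h' α'))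
        (fpSwap f (BasedFunctor.comp y' g)))
      (BasedFunctor.id _) (fpPasteLeft y' g f) isEquivOver_id (fpPasteLeft_isEquivOver y' g f)
      (bcSquareFactor f g x' y' h' α' : _ ≅ BasedFunctor.comp (BasedFunctor.id _)
        (BasedFunctor.comp (FibCat.fpLift x' (AlgSt.overMap h') α') (fpSwap (FibCat.fpFst g f) y')))).mp h1
  exact (repByAlgSpWith_iff_of_square _
    (BasedFunctor.comp
      (FibCat.fpLift (BasedFunctor.comp x' (FibCat.fpSnd g f)) (AlgSt.overMap h') (bcSquareIso f g x' y' h' α'))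
      (fpSwap f (BasedFunctor.comp y' g)))
    (FibCat.fpLift (BasedFunctor.comp x' (FibCat.fpSnd g f)) (AlgSt.overMap h') (bcSquareIso f g x' y' h' α'))
    (BasedFunctor.id _) (fpSwap f (BasedFunctor.comp y' g)) isEquivOver_id (fpSwap_isEquivOver _ _)
    (BasedNatIso.id _)).mp h2

/-- A variant of `exists_pullback_equiv` recording the compatibility with both projections. -/
theorem exists_pullback_equiv' {U₀ V₀ : Over S} (h₀ : U₀ ⟶ V₀) {ℬ : AlgSt.Cat S}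
    (b₀ : ℬ ⥤ᵇ FibCat.overCat V₀) (V' : AlgSp.Sp S) (eB : AlgSt.ofSp V' ⥤ᵇ ℬ)
    (heB : FibCat.IsEquivOver eB) :
    ∃ (E : AlgSt.ofSp (pullback ((AlgSp.yon S).map h₀) (AlgSt.spMapOfOver (BasedFunctor.comp eB b₀))) ⥤ᵇ
        FibCat.fp (AlgSt.overMap h₀) b₀), FibCat.IsEquivOver E ∧
      Nonempty (BasedFunctor.comp E (FibCat.fpSnd (AlgSt.overMap h₀) b₀) ≅
        BasedFunctor.comp (AlgSt.ofSpMap (pullback.snd ((AlgSp.yon S).map h₀)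
          (AlgSt.spMapOfOver (BasedFunctor.comp eB b₀)))) eB) ∧
      Nonempty (BasedFunctor.comp E (FibCat.fpFst (AlgSt.overMap h₀) b₀) ≅
        BasedFunctor.comp (AlgSt.ofSpMap (pullback.fst ((AlgSp.yon S).map h₀)
          (AlgSt.spMapOfOver (BasedFunctor.comp eB b₀)))) (AlgSt.toOverCat U₀)) := by
  let v₀ := AlgSt.spMapOfOver (BasedFunctor.comp eB b₀)
  have sq : IsPullback (pullback.fst ((AlgSp.yon S).map h₀) v₀) (pullback.snd ((AlgSp.yon S).map h₀) v₀)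
      ((AlgSp.yon S).map h₀) v₀ := IsPullback.of_hasPullback _ _
  have sq' := sq.map (sheafToPresheaf (AlgSp.J S) (Type (u + 1)))
  obtain ⟨i⟩ := ofSpMap_spMapOfOver_iso (BasedFunctor.comp eB b₀)
  have eG : BasedFunctor.comp (AlgSt.ofSpMap v₀) (AlgSt.toOverCat V₀) ≅ BasedFunctor.comp eB b₀ :=
    (whiskerRightIso i.symm (AlgSt.toOverCat V₀) : _ ≅
      BasedFunctor.comp (BasedFunctor.comp (BasedFunctor.comp eB b₀) (AlgSt.ofOverCat V₀))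
        (AlgSt.toOverCat V₀))
  have eF : BasedFunctor.comp (AlgSt.ofSpMap ((AlgSp.yon S).map h₀)) (AlgSt.toOverCat V₀) ≅
      BasedFunctor.comp (AlgSt.toOverCat U₀) (AlgSt.overMap h₀) := BasedNatIso.id _
  obtain ⟨hfull, hfaith, -⟩ := IsEquivOver.isFFEssSurjOver (toOverCat_isEquivOver V₀)
  let M := fpMap (AlgSt.overMap h₀) b₀ (AlgSt.ofSpMap ((AlgSp.yon S).map h₀)) (AlgSt.ofSpMap v₀)
    (AlgSt.toOverCat U₀) eB (AlgSt.toOverCat V₀) eF eG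
  have hM : FibCat.IsEquivOver M := fpMap_isEquivOver _ _ _ _ _ _ _ eF eG (toOverCat_isEquivOver U₀) heB
  refine ⟨BasedFunctor.comp (ofPshFp sq'.w) M, IsEquivOver.comp (ofPshFp_isEquivOver sq') hM, ⟨?_⟩, ⟨?_⟩⟩
  · exact BasedNatIso.id _
  · exact BasedNatIso.id _

/-- **Fppf descent on a scheme base**: for `f₁ : 𝒳₁ ⟶ (Sch/V)` and an fppf covering `m₀ : E₀ ⟶ V` by a scheme, if the base
change `E₀ ×_V 𝒳₁ ⟶ E₀` has `P` on chart squares then `P` holds for `U ⟶ V` for every smooth chart `U ⟶ 𝒳₁`. -/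
theorem prop_chart_of_locQ_fpFst_overMap (P : MorphismProperty (AlgSp.Sp S)) (hP : AlgSp.IsSmoothLocalST P)
    (hP₂ : AlgSp.IsLocalOnBase AlgSp.IsFppfCover P)
    {V E₀ U : Over S} {𝒳₁ : AlgSt.Cat S} (h𝒳₁ : AlgSt.IsAlgStack Scheme.fppfPrecoverage 𝒳₁)
    (f₁ : 𝒳₁ ⥤ᵇ FibCat.overCat V) (m₀ : E₀ ⟶ V)
    (hm1 : AlgSp.LocP @Flat ((AlgSp.yon S).map m₀))
    (hm2 : AlgSp.LocP @LocallyOfFinitePresentation ((AlgSp.yon S).map m₀))
    (hm3 : AlgSp.IsSurjectiveMor ((AlgSp.yon S).map m₀))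
    (H : AlgSt.LocQ P (FibCat.fpFst (AlgSt.overMap m₀) f₁))
    (c : FibCat.overCat U ⥤ᵇ 𝒳₁) (hc : AlgSt.RepByAlgSpWith (AlgSp.LocP @Smooth) c)
    (h : U ⟶ V) (i : BasedFunctor.comp c f₁ ≅ AlgSt.overMap h) : P ((AlgSp.yon S).map h) := by
  have hQ := Groth.Agent.Lib.Helper78.AlgSpLocPSmooth.etLocalST_smooth
  have hsb : ∀ ⦃X₁ Y₁ X₂ Y₂ : AlgSp.Sp S⦄, AlgSp.IsAlgSpace X₁ → AlgSp.IsAlgSpace Y₁ → AlgSp.IsAlgSpace X₂ →
      AlgSp.IsAlgSpace Y₂ → ∀ (a : X₁ ⟶ Y₁) (b : Y₂ ⟶ Y₁) (a' : X₂ ⟶ Y₂) (b' : X₂ ⟶ X₁),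
      IsPullback b' a' a b → AlgSp.IsSurjectiveMor a → AlgSp.IsSurjectiveMor a' :=
    fun _ _ _ _ _ _ _ _ _ _ _ _ sq ha => isSurjectiveMor_baseChange sq ha
  have hV := isAlgStack_overCat V
  have hE₀ := isAlgStack_overCat E₀
  have hU := isAlgStack_overCat U
  let g := FibCat.fpFst (AlgSt.overMap m₀) f₁
  have h𝒳₁' : AlgSt.IsAlgStack Scheme.fppfPrecoverage (FibCat.fp (AlgSt.overMap m₀) f₁) :=
    isAlgStack_fp' _ hV.isStack hV.diag hE₀ h𝒳₁ (AlgSt.overMap m₀) f₁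
  have h𝒲 : AlgSt.IsAlgStack Scheme.fppfPrecoverage (FibCat.fp (AlgSt.overMap m₀) (AlgSt.overMap h)) :=
    isAlgStack_fp' _ hV.isStack hV.diag hE₀ hU (AlgSt.overMap m₀) (AlgSt.overMap h)
  -- the base change of the chart `c`
  let c' : FibCat.fp (AlgSt.overMap m₀) (AlgSt.overMap h) ⥤ᵇ FibCat.fp (AlgSt.overMap m₀) f₁ :=
    fpMapRight (AlgSt.overMap m₀) f₁ c (AlgSt.overMap h) i.symm
  have hc' : AlgSt.RepByAlgSpWith (AlgSp.LocP @Smooth) c' :=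
    repByAlgSpWith_fpMapRight _ (AlgSt.overMap m₀) f₁ c (AlgSt.overMap h) i.symm hc
  obtain ⟨W, w, hw1, hw2⟩ := h𝒲.atlas
  have gW := overCat_isFibGrpd W
  let x'' : FibCat.overCat W ⥤ᵇ FibCat.fp (AlgSt.overMap m₀) f₁ := BasedFunctor.comp w c'
  have hx'' : AlgSt.RepByAlgSpWith (AlgSp.LocP @Smooth) x'' :=
    repByAlgSpWith_locP_comp hQ gW h𝒲.isStack.1 w c' hw1 hc'
  let G : FibCat.overCat W ⥤ᵇ FibCat.overCat E₀ := BasedFunctor.comp x'' g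
  let h'' : W ⟶ E₀ := overClassify G
  let α'' : BasedFunctor.comp x'' g ≅ BasedFunctor.comp (AlgSt.overMap h'') (BasedFunctor.id _) :=
    isoOverMap G
  have hΓ'' : AlgSt.RepByAlgSpWith (AlgSp.LocP @Smooth) (FibCat.fpLift x'' (AlgSt.overMap h'') α'') :=
    (repByAlgSpWith_iff_of_square _ x'' (FibCat.fpLift x'' (AlgSt.overMap h'') α'') (BasedFunctor.id _)
      (FibCat.fpFst g (BasedFunctor.id _)) isEquivOver_id
      (fpFst_isEquivOver_of_isEquivOver g (BasedFunctor.id _) isEquivOver_id) (BasedNatIso.id _)).mp hx''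
  obtain ⟨U₀, V₀, x₀, y₀, h₀, α₀, hx₀, hx₀', hy₀, hP₀⟩ := H
  have hPh'' : P ((AlgSp.yon S).map h'') :=
    locQ_all_charts P hP g x₀ y₀ h₀ α₀ hx₀ hx₀' hy₀ hP₀ x'' (BasedFunctor.id _) h'' α'' hx''
      (repByAlgSpWith_smooth_id _) hΓ''
  -- sheaf level
  obtain ⟨E, hE, ⟨iE₂⟩, ⟨iE₁⟩⟩ := exists_pullback_equiv' m₀ (AlgSt.overMap h) ((AlgSp.yon S).obj U)
    (AlgSt.toOverCat U) (toOverCat_isEquivOver U)
  have hv₀ : AlgSt.spMapOfOver (BasedFunctor.comp (AlgSt.toOverCat U) (AlgSt.overMap h)) = (AlgSp.yon S).map h :=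
    spMapOfOver_toOverCat_overMap h
  rw [← hv₀]
  let v₀ := AlgSt.spMapOfOver (BasedFunctor.comp (AlgSt.toOverCat U) (AlgSt.overMap h))
  have sq : IsPullback (pullback.fst ((AlgSp.yon S).map m₀) v₀) (pullback.snd ((AlgSp.yon S).map m₀) v₀)
      ((AlgSp.yon S).map m₀) v₀ := IsPullback.of_hasPullback _ _
  have hPi : AlgSp.IsAlgSpace (pullback ((AlgSp.yon S).map m₀) v₀) :=
    Groth.Agent.Lib.Helper78.AlgSpFibre.isAlgSpace_of_isPullback sq (AlgSp.IsAlgSpace.yon_obj V).diag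
      (AlgSp.IsAlgSpace.yon_obj E₀) (AlgSp.IsAlgSpace.yon_obj U)
  obtain ⟨I, hI, -, ⟨ε⟩⟩ := IsEquivOver.symm hE
  let Λ : AlgSt.ofSp ((AlgSp.yon S).obj W) ⥤ᵇ AlgSt.ofSp (pullback ((AlgSp.yon S).map m₀) v₀) :=
    BasedFunctor.comp (AlgSt.toOverCat W) (BasedFunctor.comp w I)
  let a : (AlgSp.yon S).obj W ⟶ pullback ((AlgSp.yon S).map m₀) v₀ := ⟨pshMapOf Λ⟩
  have ja : AlgSt.ofSpMap a ≅ Λ := ofPshMapIso Λ
  have sqΛ : BasedFunctor.comp Λ E ≅ BasedFunctor.comp (AlgSt.toOverCat W) w :=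
    whiskerLeftIso (BasedFunctor.comp (AlgSt.toOverCat W) w) ε
  have hΛ1 : AlgSt.RepByAlgSpWith (AlgSp.LocP @Smooth) Λ :=
    (repByAlgSpWith_iff_of_square _ w Λ (AlgSt.toOverCat W) E (toOverCat_isEquivOver W) hE sqΛ).mp hw1
  have hΛ2 : AlgSt.RepByAlgSpWith AlgSp.IsSurjectiveMor Λ :=
    (repByAlgSpWith_iff_of_square _ w Λ (AlgSt.toOverCat W) E (toOverCat_isEquivOver W) hE sqΛ).mp hw2
  have ha1 : AlgSp.LocP @Smooth a :=
    (repByAlgSpWith_ofSpMap_iff _ (locP_baseChange hQ) (atlasLocal_locP hQ) (AlgSp.IsAlgSpace.yon_obj W) hPi a).mp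
      (repByAlgSpWith_of_iso _ ja.symm hΛ1)
  have ha2 : AlgSp.IsSurjectiveMor a :=
    (repByAlgSpWith_ofSpMap_iff _ hsb atlasLocal_isSurjectiveMor (AlgSp.IsAlgSpace.yon_obj W) hPi a).mp
      (repByAlgSpWith_of_iso _ ja.symm hΛ2)
  -- commutativity
  have comm : a ≫ pullback.fst ((AlgSp.yon S).map m₀) v₀ = (AlgSp.yon S).map h'' := by
    let pr₁ := pullback.fst ((AlgSp.yon S).map m₀) v₀
    have k1 : BasedFunctor.comp (AlgSt.ofSpMap a) (BasedFunctor.comp (AlgSt.ofSpMap pr₁) (AlgSt.toOverCat E₀)) ≅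
        BasedFunctor.comp Λ (BasedFunctor.comp (AlgSt.ofSpMap pr₁) (AlgSt.toOverCat E₀)) :=
      whiskerRightIso ja _
    have k2 : BasedFunctor.comp Λ (BasedFunctor.comp (AlgSt.ofSpMap pr₁) (AlgSt.toOverCat E₀)) ≅
        BasedFunctor.comp Λ (BasedFunctor.comp E (FibCat.fpFst (AlgSt.overMap m₀) (AlgSt.overMap h))) :=
      whiskerLeftIso Λ iE₁.symm
    have k3 : BasedFunctor.comp (BasedFunctor.comp Λ E) (FibCat.fpFst (AlgSt.overMap m₀) (AlgSt.overMap h)) ≅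
        BasedFunctor.comp (BasedFunctor.comp (AlgSt.toOverCat W) w)
          (FibCat.fpFst (AlgSt.overMap m₀) (AlgSt.overMap h)) :=
      whiskerRightIso sqΛ _
    have k4 : BasedFunctor.comp (AlgSt.toOverCat W)
        (BasedFunctor.comp w (FibCat.fpFst (AlgSt.overMap m₀) (AlgSt.overMap h))) ≅
        BasedFunctor.comp (AlgSt.toOverCat W) G :=
      whiskerLeftIso (AlgSt.toOverCat W) (BasedNatIso.id _ :
        BasedFunctor.comp w (FibCat.fpFst (AlgSt.overMap m₀) (AlgSt.overMap h)) ≅ G)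
    have k5 : BasedFunctor.comp (AlgSt.toOverCat W) G ≅
        BasedFunctor.comp (AlgSt.toOverCat W) (AlgSt.overMap h'') :=
      whiskerLeftIso (AlgSt.toOverCat W) (isoOverMap G)
    have k : BasedFunctor.comp (AlgSt.ofSpMap a) (BasedFunctor.comp (AlgSt.ofSpMap pr₁) (AlgSt.toOverCat E₀)) ≅
        BasedFunctor.comp (AlgSt.toOverCat W) (AlgSt.overMap h'') :=
      k1 ≪≫ k2 ≪≫ k3 ≪≫ k4 ≪≫ k5
    have e1 := spMapOfOver_eq_of_iso k
    rw [spMapOfOver_comp_ofSpMap, spMapOfOver_comp_ofSpMap, spMapOfOver_toOverCat, Category.comp_id,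
      spMapOfOver_toOverCat_overMap] at e1
    exact e1
  -- `P` for the projection `Π ⟶ h_{E₀}`
  have hpr₁ : P (pullback.fst ((AlgSp.yon S).map m₀) v₀) := by
    refine (hP.locality hPi (AlgSp.IsAlgSpace.yon_obj E₀) _).mpr ?_
    intro t
    obtain ⟨t', ht'⟩ := ha2 t
    refine ⟨(AlgSp.yon S).obj W, (AlgSp.yon S).obj E₀, a, 𝟙 _, (AlgSp.yon S).map h'', t',
      AlgSp.IsAlgSpace.yon_obj W, AlgSp.IsAlgSpace.yon_obj E₀, ha1, ?_, ?_, ht', hPh''⟩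
    · exact Groth.Agent.Lib.Helper78.AlgSpSmLocal.locP_smooth_id (AlgSp.IsAlgSpace.yon_obj E₀)
    · rw [comm, Category.comp_id]
  -- fppf descent on the base
  have hcov : AlgSp.IsFppfCover (fun _ : PUnit.{u + 1} => (AlgSp.yon S).obj E₀)
      (fun _ => (AlgSp.yon S).map m₀) :=
    ⟨fun _ => ⟨hm1, hm2⟩, fun x => ⟨PUnit.unit, hm3 x⟩⟩
  exact (hP₂ (fun _ : PUnit.{u + 1} => (AlgSp.yon S).obj E₀) (fun _ => (AlgSp.yon S).map m₀)
    (AlgSp.IsAlgSpace.yon_obj V) (fun _ => AlgSp.IsAlgSpace.yon_obj E₀) hcov v₀ (AlgSp.IsAlgSpace.yon_obj U)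
    (fun _ => pullback ((AlgSp.yon S).map m₀) v₀) (fun _ => pullback.fst ((AlgSp.yon S).map m₀) v₀)
    (fun _ => pullback.snd ((AlgSp.yon S).map m₀) v₀) (fun _ => hPi) (fun _ => sq.flip)).mpr (fun _ => hpr₁)

/-- `S12994`. -/
theorem locQ_of_locQ_fpFst_of_fppf (P : MorphismProperty (AlgSp.Sp S)) (hP : AlgSp.IsSmoothLocalST P)
    (hP₂ : AlgSp.IsLocalOnBase AlgSp.IsFppfCover P)
    (h𝒳 : AlgSt.IsAlgStack Scheme.fppfPrecoverage 𝒳) (h𝒴 : AlgSt.IsAlgStack Scheme.fppfPrecoverage 𝒴)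
    (h𝒵 : AlgSt.IsAlgStack Scheme.fppfPrecoverage 𝒵) (f : 𝒳 ⥤ᵇ 𝒴) (z : 𝒵 ⥤ᵇ 𝒴)
    (hz₁ : AlgSt.LocQ (AlgSp.LocP @Flat) z)
    (hz₂ : AlgSt.LocQ (AlgSp.LocP @LocallyOfFinitePresentation) z) (hz₃ : AlgSt.IsSurjective z)
    (H : AlgSt.LocQ P (FibCat.fpFst z f)) : AlgSt.LocQ P f := by
  have hQs := Groth.Agent.Lib.Helper78.AlgSpLocPSmooth.etLocalST_smooth
  have hQfl := Groth.Agent.Lib.Helper78.AlgSpLocPFlat.etLocalST_flat
  have hQfp := Groth.Agent.Lib.Helper78.AlgSpLocPLofp.etLocalST_lofp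
  have hsb : ∀ ⦃X₁ Y₁ X₂ Y₂ : AlgSp.Sp S⦄, AlgSp.IsAlgSpace X₁ → AlgSp.IsAlgSpace Y₁ → AlgSp.IsAlgSpace X₂ →
      AlgSp.IsAlgSpace Y₂ → ∀ (a : X₁ ⟶ Y₁) (b : Y₂ ⟶ Y₁) (a' : X₂ ⟶ Y₂) (b' : X₂ ⟶ X₁),
      IsPullback b' a' a b → AlgSp.IsSurjectiveMor a → AlgSp.IsSurjectiveMor a' :=
    fun _ _ _ _ _ _ _ _ _ _ _ _ sq ha => isSurjectiveMor_baseChange sq ha
  -- a scheme chart of `𝒵` giving an fppf covering of `𝒴`
  obtain ⟨T, t₀, ht₀, hzt1, hzt2, hzt3⟩ := exists_scheme_cover_of_locQ_fppf h𝒴 h𝒵 z hz₁ hz₂ hz₃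
  let zt : FibCat.overCat T ⥤ᵇ 𝒴 := BasedFunctor.comp t₀ z
  have hT := isAlgStack_overCat T
  obtain ⟨V, y, hy1, hy2⟩ := h𝒴.atlas
  have hV := isAlgStack_overCat V
  -- `𝒬 = V ×_𝒴 T`
  have h𝒬 : AlgSt.IsAlgStack Scheme.fppfPrecoverage (FibCat.fp y zt) :=
    isAlgStack_fp' _ h𝒴.isStack h𝒴.diag hV hT y zt
  have g𝒬 := h𝒬.isStack.1
  let q₁ := FibCat.fpFst y zt
  let q₂ := FibCat.fpSnd y zt
  have hq₂ : AlgSt.RepByAlgSpWith (AlgSp.LocP @Smooth) q₂ := repByAlgSpWith_fpSnd _ y zt hy1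
  obtain ⟨E₀, d, hd1, hd2⟩ := h𝒬.atlas
  have hE₀ := isAlgStack_overCat E₀
  have gE₀ := overCat_isFibGrpd E₀
  let G₁ : FibCat.overCat E₀ ⥤ᵇ FibCat.overCat V := BasedFunctor.comp d q₁
  let m₀ : E₀ ⟶ V := overClassify G₁
  have i₁ : G₁ ≅ AlgSt.overMap m₀ := isoOverMap G₁
  have hm1 : AlgSp.LocP @Flat ((AlgSp.yon S).map m₀) :=
    (repByAlgSpWith_overMap_iff _ (locP_baseChange hQfl) (atlasLocal_locP hQfl) m₀).mp
      (repByAlgSpWith_of_iso _ i₁ (repByAlgSpWith_locP_comp hQfl gE₀ g𝒬 d q₁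
        (repByAlgSpWith_locP_mono (fun _ _ k hk => smooth_flat k hk) hd1)
        (repByAlgSpWith_fpFst _ y zt hzt1)))
  have hm2 : AlgSp.LocP @LocallyOfFinitePresentation ((AlgSp.yon S).map m₀) :=
    (repByAlgSpWith_overMap_iff _ (locP_baseChange hQfp) (atlasLocal_locP hQfp) m₀).mp
      (repByAlgSpWith_of_iso _ i₁ (repByAlgSpWith_locP_comp hQfp gE₀ g𝒬 d q₁
        (repByAlgSpWith_locP_mono (fun _ _ k hk => smooth_lofp k hk) hd1)
        (repByAlgSpWith_fpFst _ y zt hzt2)))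
  have hm3 : AlgSp.IsSurjectiveMor ((AlgSp.yon S).map m₀) :=
    (repByAlgSpWith_overMap_iff _ hsb atlasLocal_isSurjectiveMor m₀).mp
      (repByAlgSpWith_of_iso _ i₁ (repByAlgSpWith_isSurjectiveMor_comp gE₀ g𝒬 d q₁ hd2
        (repByAlgSpWith_fpFst _ y zt hzt3)))
  -- the smooth chart `t : E₀ ⟶ 𝒵`
  let t : FibCat.overCat E₀ ⥤ᵇ 𝒵 := BasedFunctor.comp d (BasedFunctor.comp q₂ t₀)
  have ht : AlgSt.RepByAlgSpWith (AlgSp.LocP @Smooth) t :=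
    repByAlgSpWith_locP_comp hQs gE₀ g𝒬 d _ hd1
      (repByAlgSpWith_locP_comp hQs g𝒬 (overCat_isFibGrpd T) q₂ t₀ hq₂ ht₀)
  have h𝒫 : AlgSt.IsAlgStack Scheme.fppfPrecoverage (FibCat.fp z f) :=
    isAlgStack_fp' _ h𝒴.isStack h𝒴.diag h𝒵 h𝒳 z f
  have H1 : AlgSt.LocQ P (FibCat.fpFst t (FibCat.fpFst z f)) :=
    locQ_baseChange_smooth P hP h𝒫 h𝒵 hE₀ (FibCat.fpFst z f) t ht H
  have H2 : AlgSt.LocQ P (FibCat.fpFst (BasedFunctor.comp t z) f) :=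
    locQ_of_equiv_comp P (fpPasteLeft t z f) (fpPasteLeft_isEquivOver t z f)
      (FibCat.fpFst t (FibCat.fpFst z f)) (FibCat.fpFst (BasedFunctor.comp t z) f) (BasedNatIso.id _) H1
  -- change of the chart of `𝒴`
  let θ : BasedFunctor.comp (AlgSt.overMap m₀) y ≅
      BasedFunctor.comp (BasedFunctor.id _) (BasedFunctor.comp t z) :=
    (whiskerRightIso i₁.symm y : BasedFunctor.comp (AlgSt.overMap m₀) y ≅ BasedFunctor.comp G₁ y) ≪≫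
      (whiskerLeftIso d (FibCat.fpIso y zt) : BasedFunctor.comp d (BasedFunctor.comp q₁ y) ≅
        BasedFunctor.comp d (BasedFunctor.comp q₂ zt))
  let M := fpMapLeft (BasedFunctor.comp t z) f (BasedFunctor.id _) (BasedFunctor.comp (AlgSt.overMap m₀) y) θ
  have hM : FibCat.IsEquivOver M := fpMapLeft_isEquivOver _ f (BasedFunctor.id _) _ θ isEquivOver_id
  have H3 : AlgSt.LocQ P (FibCat.fpFst (BasedFunctor.comp (AlgSt.overMap m₀) y) f) :=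
    locQ_of_equiv_comp P M hM (FibCat.fpFst (BasedFunctor.comp t z) f)
      (FibCat.fpFst (BasedFunctor.comp (AlgSt.overMap m₀) y) f) (BasedNatIso.id _) H2
  obtain ⟨I, hI, -, ⟨ε⟩⟩ := IsEquivOver.symm (fpPasteLeft_isEquivOver (AlgSt.overMap m₀) y f)
  have H4 : AlgSt.LocQ P (FibCat.fpFst (AlgSt.overMap m₀) (FibCat.fpFst y f)) :=
    locQ_of_equiv_comp P I hI (FibCat.fpFst (BasedFunctor.comp (AlgSt.overMap m₀) y) f)
      (FibCat.fpFst (AlgSt.overMap m₀) (FibCat.fpFst y f))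
      (whiskerRightIso ε.symm (FibCat.fpFst (AlgSt.overMap m₀) (FibCat.fpFst y f)) :
        BasedFunctor.comp (BasedFunctor.id _) (FibCat.fpFst (AlgSt.overMap m₀) (FibCat.fpFst y f)) ≅
        BasedFunctor.comp (BasedFunctor.comp I (fpPasteLeft (AlgSt.overMap m₀) y f))
          (FibCat.fpFst (AlgSt.overMap m₀) (FibCat.fpFst y f))) H3
  -- a chart of `V ×_𝒴 𝒳`
  have h𝒳₁ : AlgSt.IsAlgStack Scheme.fppfPrecoverage (FibCat.fp y f) :=
    isAlgStack_fp' _ h𝒴.isStack h𝒴.diag hV h𝒳 y f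
  obtain ⟨U, c, hc1, hc2⟩ := h𝒳₁.atlas
  have gU := overCat_isFibGrpd U
  have g𝒳₁ := h𝒳₁.isStack.1
  let G : FibCat.overCat U ⥤ᵇ FibCat.overCat V := BasedFunctor.comp c (FibCat.fpFst y f)
  let h : U ⟶ V := overClassify G
  have i : G ≅ AlgSt.overMap h := isoOverMap G
  have hPh : P ((AlgSp.yon S).map h) :=
    prop_chart_of_locQ_fpFst_overMap P hP hP₂ h𝒳₁ (FibCat.fpFst y f) m₀ hm1 hm2 hm3 H4 c hc1 h i
  have i1 : BasedFunctor.comp (BasedFunctor.comp c (FibCat.fpSnd y f)) f ≅ BasedFunctor.comp G y :=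
    (whiskerLeftIso c (FibCat.fpIso y f)).symm
  exact ⟨U, V, BasedFunctor.comp c (FibCat.fpSnd y f), y, h, i1 ≪≫ whiskerRightIso i y,
    repByAlgSpWith_locP_comp hQs gU g𝒳₁ c _ hc1 (repByAlgSpWith_fpSnd _ y f hy1),
    repByAlgSpWith_isSurjectiveMor_comp gU g𝒳₁ c _ hc2 (repByAlgSpWith_fpSnd _ y f hy2), hy1, hPh⟩

end Groth.Agent.Lib.Helper80
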