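import Groth.Agent.Lib.Helper80.FibCat18
import Groth.Agent.Lib.Helper80.FibCat23

/-!
# `C` over itself is a stack in groupoids for every topology (helper80)
-/

set_option autoImplicit false
set_option backward.isDefEq.respectTransparency false

universe v₂ u₂ v u

open CategoryTheory CategoryTheory.Functor CategoryTheory.Limits

namespace Groth.Agent.Lib.Helper80

open BasedFunctor

variable {C : Type u} [Category.{v} C]

instance selfOver_isFibGrpd : FibCat.IsFibGrpd (FibCat.selfOver C).p where
  exists_lift := fun {x} {V} f => ⟨V, f, IsHomLift.map (FibCat.selfOver C).p f⟩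
  isStronglyCartesian := fun {y x} φ =>
    { universal_property' := fun {a'} g φ' hφ' => by
        have hg : g ≫ φ = φ' :=
          IsHomLift.eq_of_isHomLift (FibCat.selfOver C).p (g ≫ (FibCat.selfOver C).p.map φ) φ'
        refine ⟨g, ⟨IsHomLift.map (FibCat.selfOver C).p g, hg⟩, ?_⟩
        rintro χ ⟨hχ, -⟩
        exact (IsHomLift.eq_of_isHomLift (FibCat.selfOver C).p g χ).symm }

variable {𝒲 : BasedCategory.{v₂, u₂} C}

/-- Functors over `C` into `C` over itself form a thin category. -/
theorem selfOver_hom_thin {a b : 𝒲 ⥤ᵇ FibCat.selfOver C} (α β : a ⟶ b) : α = β := by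
  apply BasedNatTrans.homCategory.ext
  apply NatTrans.ext
  funext w
  have l1 : (FibCat.selfOver C).p.IsHomLift (𝟙 (𝒲.p.obj w)) (α.toNatTrans.app w) := α.isHomLift' w
  have l2 : (FibCat.selfOver C).p.IsHomLift (𝟙 (𝒲.p.obj w)) (β.toNatTrans.app w) := β.isHomLift' w
  exact eq_of_isHomLift_of_faithful (FibCat.selfOver C).p (𝟙 (𝒲.p.obj w)) _ _

/-- `C` over itself is a stack in groupoids for every topology. -/
theorem isStack_selfOver (J : GrothendieckTopology C) : Stk.IsStack J (FibCat.selfOver C) := by
  refine ⟨selfOver_isFibGrpd, fun U R hR => ?_⟩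
  exact
    { faithful := ⟨fun {G G'} {α β} _ => selfOver_hom_thin α β⟩
      full := ⟨fun {G G'} α => ⟨(selfOverIso G G').hom, selfOver_hom_thin _ _⟩⟩
      essSurj := ⟨fun H => ⟨FibCat.toSelf (FibCat.overCat U), ⟨selfOverIso _ _⟩⟩⟩ }

end Groth.Agent.Lib.Helper80
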