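import Groth.Agent.Lib.Helper80.AlgStAtlas5
import Groth.Agent.Lib.Helper80.StkSelf

/-!
# Products of algebraic stacks (helper80)
-/

set_option autoImplicit false
set_option backward.isDefEq.respectTransparency false

universe u

open CategoryTheory CategoryTheory.Functor CategoryTheory.Limits AlgebraicGeometry Opposite

namespace Groth.Agent.Lib.Helper80

open BasedFunctor

variable {S : Scheme.{u}} {𝒳 𝒴 : AlgSt.Cat S}

/-- The diagonal of `(Sch/S)` over itself is representable by algebraic spaces. -/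
theorem repByAlgSp1_diag_selfOver :
    AlgSt.RepByAlgSp1 (FibCat.diag (FibCat.toSelf (FibCat.selfOver (Over S)))) := by
  apply repByAlgSp1_diag_of_forall
  intro U x U' x'
  have e1 := fpMapLeft_isEquivOver (FibCat.toSelf (FibCat.overCat U')) x (BasedFunctor.id _) x'
    (selfOverIso _ _) isEquivOver_id
  have e2 := fpMapRight_isEquivOver (FibCat.toSelf (FibCat.overCat U')) (FibCat.toSelf (FibCat.overCat U))
    (BasedFunctor.id _) x (selfOverIso _ _) isEquivOver_id
  have e3 : FibCat.IsEquivOver (overProd U' U) := (overProd_isFFEssSurjOver U' U _).isEquivOver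
  have r3 := repByAlgSp_of_isEquivOver _ e3 (repByAlgSp_overCat (U' ⨯ U))
  have r2 := (repByAlgSp_iff_of_isEquivOver _ e2).mpr r3
  exact (repByAlgSp_iff_of_isEquivOver _ e1).mpr r2

/-- `S12764`, any topology. -/
theorem isAlgStack_prod (K : Precoverage Scheme.{u})
    (h𝒳 : AlgSt.IsAlgStack K 𝒳) (h𝒴 : AlgSt.IsAlgStack K 𝒴) :
    AlgSt.IsAlgStack K (FibCat.fp (FibCat.toSelf 𝒳) (FibCat.toSelf 𝒴)) :=
  isAlgStack_fp' K (isStack_selfOver _) repByAlgSp1_diag_selfOver h𝒳 h𝒴 _ _

end Groth.Agent.Lib.Helper80
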