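import Groth.Agent.Lib.Helper80.AlgStDesc2
import Groth.Agent.Lib.Helper80.AlgStProd

/-!
# Products of morphisms representable by algebraic spaces; DM-ness from an unramified cover (helper80)
-/

set_option autoImplicit false
set_option backward.isDefEq.respectTransparency false

universe u

open CategoryTheory CategoryTheory.Functor CategoryTheory.Limits AlgebraicGeometry Opposite

namespace Groth.Agent.Lib.Helper80

open BasedFunctor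

section SelfIso

universe v₁ u₁ v₂ u₂ v₃ u₃ v₄ u₄

variable {C : Type u₁} [Category.{v₁} C] {𝒴₁ : BasedCategory.{v₂, u₂} C} {𝒴₂ : BasedCategory.{v₃, u₃} C}
  {𝒲 : BasedCategory.{v₄, u₄} C} {σ₁ : 𝒴₁ ⥤ᵇ FibCat.selfOver C} {σ₂ : 𝒴₂ ⥤ᵇ FibCat.selfOver C}

/-- For functors into a 2-fibre product over `C` itself the compatibility is automatic. -/
def selfIsoMk {A B : 𝒲 ⥤ᵇ FibCat.fp σ₁ σ₂}
    (i₁ : BasedFunctor.comp A (FibCat.fpFst _ _) ≅ BasedFunctor.comp B (FibCat.fpFst _ _))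
    (i₂ : BasedFunctor.comp A (FibCat.fpSnd _ _) ≅ BasedFunctor.comp B (FibCat.fpSnd _ _)) :
    A ≅ B :=
  fpIsoMk i₁ i₂ (fun w => by
    have c1 : 𝒴₁.p.IsHomLift (𝟙 (𝒲.p.obj w)) (i₁.hom.toNatTrans.app w) :=
      iso_hom_app_isHomLift i₁ w rfl
    have c2 : 𝒴₂.p.IsHomLift (𝟙 (𝒲.p.obj w)) (i₂.hom.toNatTrans.app w) :=
      iso_hom_app_isHomLift i₂ w rfl
    have c3 : (FibCat.selfOver C).p.IsHomLift (𝟙 (𝒲.p.obj w))
      (σ₁.map (i₁.hom.toNatTrans.app w)) := BasedFunctor.preserves_isHomLift σ₁ _ _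
    have c4 : (FibCat.selfOver C).p.IsHomLift (𝟙 (𝒲.p.obj w))
      (σ₂.map (i₂.hom.toNatTrans.app w)) := BasedFunctor.preserves_isHomLift σ₂ _ _
    have c5 : (FibCat.selfOver C).p.IsHomLift (𝟙 (𝒲.p.obj w)) (B.obj w).obj.iso.hom :=
      fp_iso_isHomLift _ _ (B.obj w) (B.w_obj w)
    have c6 : (FibCat.selfOver C).p.IsHomLift (𝟙 (𝒲.p.obj w)) (A.obj w).obj.iso.hom :=
      fp_iso_isHomLift _ _ (A.obj w) (A.w_obj w)
    have c7 := comp_isHomLift_id (FibCat.selfOver C).p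
      (σ₁.map (i₁.hom.toNatTrans.app w)) (B.obj w).obj.iso.hom (S := 𝒲.p.obj w)
    have c8 := comp_isHomLift_id (FibCat.selfOver C).p
      (A.obj w).obj.iso.hom (σ₂.map (i₂.hom.toNatTrans.app w)) (S := 𝒲.p.obj w)
    exact eq_of_isHomLift_of_faithful (FibCat.selfOver C).p (𝟙 (𝒲.p.obj w)) _ _)

end SelfIso

variable {S : Scheme.{u}}

variable {𝒜 ℬ 𝒳 𝒴 𝒮 : AlgSt.Cat S}

/-- `fpMapLeft` along `a` is a base change of `a`. -/
theorem repByAlgSpWith_fpMapLeft (P : MorphismProperty (AlgSp.Sp S)) (F : 𝒳 ⥤ᵇ 𝒮) (G : 𝒴 ⥤ᵇ 𝒮)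
    (a : 𝒜 ⥤ᵇ 𝒳) (F' : 𝒜 ⥤ᵇ 𝒮) (i : F' ≅ BasedFunctor.comp a F) (ha : AlgSt.RepByAlgSpWith P a) :
    AlgSt.RepByAlgSpWith P (fpMapLeft F G a F' i) := by
  let i' : F' ≅ BasedFunctor.comp (BasedFunctor.id _) (BasedFunctor.comp a F) := i
  let E₀ := fpMapLeft (BasedFunctor.comp a F) G (BasedFunctor.id _) F' i'
  have hE₀ : FibCat.IsEquivOver E₀ :=
    fpMapLeft_isEquivOver (BasedFunctor.comp a F) G (BasedFunctor.id _) F' i' isEquivOver_id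
  let E₁ := fpPasteLeft a F G
  have hE₁ : FibCat.IsEquivOver E₁ := fpPasteLeft_isEquivOver a F G
  let E := BasedFunctor.comp E₀ E₁
  have hE : FibCat.IsEquivOver E := IsEquivOver.comp hE₀ hE₁
  let t := FibCat.fpSnd a (FibCat.fpFst F G)
  have ht : AlgSt.RepByAlgSpWith P t := repByAlgSpWith_fpSnd P a (FibCat.fpFst F G) ha
  have key : fpMapLeft F G a F' i ≅ BasedFunctor.comp E t :=
    fpIsoMk (BasedNatIso.id _) (BasedNatIso.id _) (by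
      intro w
      change F.map (𝟙 _) ≫ (i.inv.toNatTrans.app w.obj.fst ≫ w.obj.iso.hom ≫ 𝟙 _) =
        (i.inv.toNatTrans.app w.obj.fst ≫ w.obj.iso.hom ≫ 𝟙 _) ≫ G.map (𝟙 _)
      simp)
  have h1 : AlgSt.RepByAlgSpWith P (BasedFunctor.comp E t) :=
    (repByAlgSpWith_iff_of_square P t (BasedFunctor.comp E t) E (BasedFunctor.id _) hE
      isEquivOver_id (BasedNatIso.id _)).mp ht
  exact repByAlgSpWith_of_iso P key.symm h1

/-- `fpMapRight` along `b` is a base change of `b`. -/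
theorem repByAlgSpWith_fpMapRight (P : MorphismProperty (AlgSp.Sp S)) (F : 𝒳 ⥤ᵇ 𝒮) (G : 𝒴 ⥤ᵇ 𝒮)
    (b : ℬ ⥤ᵇ 𝒴) (G' : ℬ ⥤ᵇ 𝒮) (i : G' ≅ BasedFunctor.comp b G) (hb : AlgSt.RepByAlgSpWith P b) :
    AlgSt.RepByAlgSpWith P (fpMapRight F G b G' i) := by
  let i' : G' ≅ BasedFunctor.comp (BasedFunctor.id _) (BasedFunctor.comp b G) := i
  let E₀ := fpMapRight F (BasedFunctor.comp b G) (BasedFunctor.id _) G' i'
  have hE₀ : FibCat.IsEquivOver E₀ :=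
    fpMapRight_isEquivOver F (BasedFunctor.comp b G) (BasedFunctor.id _) G' i' isEquivOver_id
  let E₁ := fpPasteRight F G b
  have hE₁ : FibCat.IsEquivOver E₁ := fpPasteRight_isEquivOver F G b
  let E := BasedFunctor.comp E₀ E₁
  have hE : FibCat.IsEquivOver E := IsEquivOver.comp hE₀ hE₁
  let t := FibCat.fpFst (FibCat.fpSnd F G) b
  have ht : AlgSt.RepByAlgSpWith P t := repByAlgSpWith_fpFst P (FibCat.fpSnd F G) b hb
  have key : fpMapRight F G b G' i ≅ BasedFunctor.comp E t :=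
    fpIsoMk (BasedNatIso.id _) (BasedNatIso.id _) (by
      intro w
      change F.map (𝟙 _) ≫ (𝟙 _ ≫ w.obj.iso.hom ≫ i.hom.toNatTrans.app w.obj.snd) =
        (𝟙 _ ≫ w.obj.iso.hom ≫ i.hom.toNatTrans.app w.obj.snd) ≫ G.map (𝟙 _)
      simp
      exact (Category.comp_id _).symm)
  have h1 : AlgSt.RepByAlgSpWith P (BasedFunctor.comp E t) :=
    (repByAlgSpWith_iff_of_square P t (BasedFunctor.comp E t) E (BasedFunctor.id _) hE
      isEquivOver_id (BasedNatIso.id _)).mp ht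
  exact repByAlgSpWith_of_iso P key.symm h1

/-- The product of two morphisms representable by algebraic spaces with `P` has `P`. -/
theorem repByAlgSpWith_fpMap (h𝒜 : FibCat.IsFibGrpd 𝒜.p) (hℬ : FibCat.IsFibGrpd ℬ.p)
    (h𝒳 : FibCat.IsFibGrpd 𝒳.p) (h𝒮 : FibCat.IsFibGrpd 𝒮.p)
    (P : MorphismProperty (AlgSp.Sp S)) (hP : AtlasLocal P)
    (hPc : ∀ ⦃X Y Z : AlgSp.Sp S⦄, AlgSp.IsAlgSpace X → AlgSp.IsAlgSpace Y → AlgSp.IsAlgSpace Z →
      ∀ (a : X ⟶ Y) (b : Y ⟶ Z), P a → P b → P (a ≫ b))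
    (s : 𝒳 ⥤ᵇ 𝒮) (s' : 𝒴 ⥤ᵇ 𝒮) (F' : 𝒜 ⥤ᵇ 𝒮) (G' : ℬ ⥤ᵇ 𝒮) (F : 𝒜 ⥤ᵇ 𝒳) (G : ℬ ⥤ᵇ 𝒴)
    (iF : BasedFunctor.comp F' (BasedFunctor.id 𝒮) ≅ BasedFunctor.comp F s)
    (iG : BasedFunctor.comp G' (BasedFunctor.id 𝒮) ≅ BasedFunctor.comp G s')
    (hF : AlgSt.RepByAlgSpWith P F) (hG : AlgSt.RepByAlgSpWith P G) :
    AlgSt.RepByAlgSpWith P (fpMap s s' F' G' F G (BasedFunctor.id 𝒮) iF iG) := by
  let iF' : F' ≅ BasedFunctor.comp F s := iF
  let iG' : G' ≅ BasedFunctor.comp G s' := iG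
  let Φ₁ := fpMapLeft s G' F F' iF'
  let Φ₂ := fpMapRight s s' G G' iG'
  have h1 : AlgSt.RepByAlgSpWith P Φ₁ := repByAlgSpWith_fpMapLeft P s G' F F' iF' hF
  have h2 : AlgSt.RepByAlgSpWith P Φ₂ := repByAlgSpWith_fpMapRight P s s' G G' iG' hG
  have h12 : AlgSt.RepByAlgSpWith P (BasedFunctor.comp Φ₁ Φ₂) :=
    repByAlgSpWith_comp (fp_isFibGrpd F' G' h𝒜 hℬ h𝒮) (fp_isFibGrpd s G' h𝒳 hℬ h𝒮) P hP hPc Φ₁ Φ₂ h1 h2
  have key : BasedFunctor.comp Φ₁ Φ₂ ≅ fpMap s s' F' G' F G (BasedFunctor.id 𝒮) iF iG :=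
    fpIsoMk (BasedNatIso.id _) (BasedNatIso.id _) (by
      intro w
      change s.map (𝟙 _) ≫ (iF.inv.toNatTrans.app w.obj.fst ≫ w.obj.iso.hom ≫ iG.hom.toNatTrans.app w.obj.snd) =
        (𝟙 _ ≫ (iF.inv.toNatTrans.app w.obj.fst ≫ w.obj.iso.hom ≫ 𝟙 _) ≫ iG.hom.toNatTrans.app w.obj.snd) ≫
          s'.map (𝟙 _)
      simp
      congr 2
      exact (Category.comp_id _).symm)
  exact repByAlgSpWith_of_iso P key h12

/-- Every functor from a category representable by an algebraic space to `(Sch/S)` is representable by algebraic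
spaces. -/
theorem repByAlgSp1_to_selfOver {𝒰 : AlgSt.Cat S} (h𝒰 : AlgSt.RepByAlgSp 𝒰)
    (j : 𝒰 ⥤ᵇ FibCat.selfOver (Over S)) : AlgSt.RepByAlgSp1 j := by
  intro T t
  have ht : AlgSt.RepByAlgSp1 t := repByAlgSp1_of_diag repByAlgSp1_diag_selfOver T t
  have h1 : AlgSt.RepByAlgSp (FibCat.fp j t) :=
    repByAlgSp_fp_of_repByAlgSp (overCat_isFibGrpd T) selfOver_isFibGrpd t ht h𝒰 j
  exact repByAlgSp_of_isEquivOver _ (fpSwap_isEquivOver j t) h1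

/-- **A flat, locally finitely presented, surjective cover with `P` forces the diagonal to have `P`**, for `P` stable
under base change, fppf local on the base and left-cancellable. -/
theorem repByAlgSpWith_diag_toSelf_of_cover (h𝒳 : FibCat.IsFibGrpd 𝒳.p)
    (hΔ : AlgSt.RepByAlgSp1 (FibCat.diag (FibCat.toSelf 𝒳)))
    (P : MorphismProperty (AlgSp.Sp S))
    (hPb : ∀ ⦃X₁ Y₁ X₂ Y₂ : AlgSp.Sp S⦄, AlgSp.IsAlgSpace X₁ → AlgSp.IsAlgSpace Y₁ → AlgSp.IsAlgSpace X₂ →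
      AlgSp.IsAlgSpace Y₂ → ∀ (a : X₁ ⟶ Y₁) (b : Y₂ ⟶ Y₁) (a' : X₂ ⟶ Y₂) (b' : X₂ ⟶ X₁),
      IsPullback b' a' a b → P a → P a')
    (hP : AlgSp.IsLocalOnBase AlgSp.IsFppfCover P)
    (hcancel : ∀ ⦃X Y Z : AlgSp.Sp S⦄, AlgSp.IsAlgSpace X → AlgSp.IsAlgSpace Y → AlgSp.IsAlgSpace Z →
      ∀ (a : X ⟶ Y) (b : Y ⟶ Z), P (a ≫ b) → P a)
    (W : AlgSp.Space S) (w : AlgSt.ofSp W.obj ⥤ᵇ 𝒳)
    (hw₁ : AlgSt.RepByAlgSpWith (AlgSp.LocP @Flat) w)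
    (hw₂ : AlgSt.RepByAlgSpWith (AlgSp.LocP @LocallyOfFinitePresentation) w)
    (hw₃ : AlgSt.RepByAlgSpWith AlgSp.IsSurjectiveMor w)
    (hw₄ : AlgSt.RepByAlgSpWith P w) :
    AlgSt.RepByAlgSpWith P (FibCat.diag (FibCat.toSelf 𝒳)) := by
  let s := FibCat.toSelf 𝒳
  let ws := BasedFunctor.comp w s
  let rp := relPair w w s
  have hW : FibCat.IsFibGrpd (AlgSt.ofSp W.obj).p := (ofPsh_isFibSetoid _).1
  have hself : FibCat.IsFibGrpd (FibCat.selfOver (Over S)).p := selfOver_isFibGrpd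
  -- the product map is a cover
  have irp : fpMap s s ws ws w w (BasedFunctor.id _) (BasedNatIso.id _) (BasedNatIso.id _) ≅ rp :=
    selfIsoMk (BasedNatIso.id _) (BasedNatIso.id _)
  have hrp : ∀ (Q : MorphismProperty (AlgSp.Sp S)), AtlasLocal Q →
      (∀ ⦃X Y Z : AlgSp.Sp S⦄, AlgSp.IsAlgSpace X → AlgSp.IsAlgSpace Y → AlgSp.IsAlgSpace Z →
        ∀ (a : X ⟶ Y) (b : Y ⟶ Z), Q a → Q b → Q (a ≫ b)) →
      AlgSt.RepByAlgSpWith Q w → AlgSt.RepByAlgSpWith Q rp := by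
    intro Q hQ hQc hQw
    exact repByAlgSpWith_of_iso Q irp
      (repByAlgSpWith_fpMap hW hW h𝒳 hself Q hQ hQc s s ws ws w w (BasedNatIso.id _) (BasedNatIso.id _)
        hQw hQw)
  have hQfl := Groth.Agent.Lib.Helper78.AlgSpLocPFlat.etLocalST_flat
  have hQfp := Groth.Agent.Lib.Helper78.AlgSpLocPLofp.etLocalST_lofp
  have hz₁ : AlgSt.RepByAlgSpWith (AlgSp.LocP @Flat) rp :=
    hrp _ (atlasLocal_locP hQfl)
      (fun _ _ _ _ hY _ a b ha hb => Groth.Agent.Lib.Helper78.AlgSpLocP.locP_comp hQfl a b hY.atlas ha hb) hw₁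
  have hz₂ : AlgSt.RepByAlgSpWith (AlgSp.LocP @LocallyOfFinitePresentation) rp :=
    hrp _ (atlasLocal_locP hQfp)
      (fun _ _ _ _ hY _ a b ha hb => Groth.Agent.Lib.Helper78.AlgSpLocP.locP_comp hQfp a b hY.atlas ha hb) hw₂
  have hz₃ : AlgSt.RepByAlgSpWith AlgSp.IsSurjectiveMor rp :=
    hrp _ atlasLocal_isSurjectiveMor (fun _ _ _ _ _ _ a b ha hb => isSurjectiveMor_comp a b ha hb) hw₃
  -- the base change of the diagonal
  let M := relMagic w w s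
  have hM : FibCat.IsEquivOver M := relMagic_isEquivOver w w s
  let κ : FibCat.fp w w ⥤ᵇ FibCat.fp ws ws :=
    FibCat.fpLift (FibCat.fpFst w w) (FibCat.fpSnd w w) (whiskerRightIso (FibCat.fpIso w w) s)
  let c := FibCat.fpFst ws ws
  have hc : AlgSt.RepByAlgSpWith ⊤ c :=
    (repByAlgSp1_iff_repByAlgSpWith_top _).mp
      (repByAlgSp1_fpFst ws ws (repByAlgSp1_to_selfOver ⟨W, BasedFunctor.id _, isEquivOver_id⟩ ws))
  have hκc : AlgSt.RepByAlgSpWith P (BasedFunctor.comp κ c) :=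
    repByAlgSpWith_fpFst P w w hw₄
  have hκ : AlgSt.RepByAlgSpWith P κ :=
    repByAlgSpWith_of_comp_cancel P ⊤ hPb (fun _ _ _ hX hY hZ a b _ hab => hcancel hX hY hZ a b hab)
      κ c hc hκc
  have e : BasedFunctor.comp (FibCat.fpFst rp (FibCat.diag s)) (BasedFunctor.id _) ≅
      BasedFunctor.comp M κ := selfIsoMk (BasedNatIso.id _) (BasedNatIso.id _)
  have h : AlgSt.RepByAlgSpWith P (FibCat.fpFst rp (FibCat.diag s)) :=
    (repByAlgSpWith_iff_of_square P κ (FibCat.fpFst rp (FibCat.diag s)) M (BasedFunctor.id _) hM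
      isEquivOver_id e).mp hκ
  exact repByAlgSpWith_of_fppf_cover h𝒳 (fp_isFibGrpd s s h𝒳 h𝒳 hself)
    (fp_isFibGrpd ws ws hW hW hself) P hPb hP (FibCat.diag s) hΔ rp hz₁ hz₂ hz₃ h

end Groth.Agent.Lib.Helper80
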