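import Groth.Agent.Lib.Helper80.AlgStLocQ
import Groth.Agent.Lib.Helper80.AlgStProd2
import Groth.Agent.Lib.Helper80.AlgStAtlas5

/-!
# Comparison of two chart squares of a morphism of stacks (helper80)
-/

set_option autoImplicit false
set_option backward.isDefEq.respectTransparency false

universe u

open CategoryTheory CategoryTheory.Functor CategoryTheory.Limits AlgebraicGeometry Opposite

namespace Groth.Agent.Lib.Helper80

open BasedFunctor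

variable {S : Scheme.{u}} {𝒳 𝒴 : AlgSt.Cat S}

/-- Stack-level comparison of two chart squares: `U₀ ×_𝒳 U ⟶ U₀ ×_{V₀} (V₀ ×_𝒴 V)` is a base change (up to
equivalences) of `Γ : U ⟶ 𝒳 ×_𝒴 V`, compatibly with the maps to `V`. -/
theorem exists_chart_comparison (Q : MorphismProperty (AlgSp.Sp S)) (f : 𝒳 ⥤ᵇ 𝒴)
    {U₀ V₀ U V : Over S} (x₀ : FibCat.overCat U₀ ⥤ᵇ 𝒳) (y₀ : FibCat.overCat V₀ ⥤ᵇ 𝒴) (h₀ : U₀ ⟶ V₀)
    (α₀ : BasedFunctor.comp x₀ f ≅ BasedFunctor.comp (AlgSt.overMap h₀) y₀)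
    (x : FibCat.overCat U ⥤ᵇ 𝒳) (y : FibCat.overCat V ⥤ᵇ 𝒴) (h : U ⟶ V)
    (α : BasedFunctor.comp x f ≅ BasedFunctor.comp (AlgSt.overMap h) y)
    (hΓ : AlgSt.RepByAlgSpWith Q (FibCat.fpLift x (AlgSt.overMap h) α)) :
    ∃ l : FibCat.fp x₀ x ⥤ᵇ FibCat.fp (AlgSt.overMap h₀) (FibCat.fpFst y₀ y),
      AlgSt.RepByAlgSpWith Q l ∧
      Nonempty (BasedFunctor.comp l (BasedFunctor.comp (FibCat.fpSnd (AlgSt.overMap h₀) (FibCat.fpFst y₀ y))
        (FibCat.fpSnd y₀ y)) ≅ BasedFunctor.comp (FibCat.fpSnd x₀ x) (AlgSt.overMap h)) := by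
  let Γ := FibCat.fpLift x (AlgSt.overMap h) α
  let p₁ := FibCat.fpFst f y
  let m₁ : FibCat.fp x₀ x ⥤ᵇ FibCat.fp x₀ p₁ :=
    fpMapRight x₀ p₁ Γ x (BasedNatIso.id x : x ≅ BasedFunctor.comp Γ p₁)
  have hm₁ : AlgSt.RepByAlgSpWith Q m₁ := repByAlgSpWith_fpMapRight Q x₀ p₁ Γ x _ hΓ
  let E₂ := fpPasteLeft x₀ f y
  obtain ⟨I₂, hI₂, -, ⟨ε₂⟩⟩ := IsEquivOver.symm (fpPasteLeft_isEquivOver x₀ f y)
  let α₀' : BasedFunctor.comp x₀ f ≅
      BasedFunctor.comp (BasedFunctor.id _) (BasedFunctor.comp (AlgSt.overMap h₀) y₀) := α₀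
  let E₃ := fpMapLeft (BasedFunctor.comp (AlgSt.overMap h₀) y₀) y (BasedFunctor.id _)
    (BasedFunctor.comp x₀ f) α₀'
  have hE₃ : FibCat.IsEquivOver E₃ := fpMapLeft_isEquivOver _ y (BasedFunctor.id _) _ α₀' isEquivOver_id
  let E₄ := fpPasteLeft (AlgSt.overMap h₀) y₀ y
  have hE₄ : FibCat.IsEquivOver E₄ := fpPasteLeft_isEquivOver (AlgSt.overMap h₀) y₀ y
  let E := BasedFunctor.comp I₂ (BasedFunctor.comp E₃ E₄)
  have hE : FibCat.IsEquivOver E := IsEquivOver.comp hI₂ (IsEquivOver.comp hE₃ hE₄)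
  refine ⟨BasedFunctor.comp m₁ E, ?_, ⟨?_⟩⟩
  · exact (repByAlgSpWith_iff_of_square Q (BasedFunctor.comp m₁ E) m₁ (BasedFunctor.id _) E isEquivOver_id hE
      (BasedNatIso.id _)).mpr hm₁
  · let q₁ : FibCat.fp x₀ p₁ ⥤ᵇ FibCat.overCat V :=
      BasedFunctor.comp (FibCat.fpSnd x₀ p₁) (FibCat.fpSnd f y)
    have j : BasedFunctor.comp (BasedFunctor.comp I₂ E₂) q₁ ≅ BasedFunctor.comp (BasedFunctor.id _) q₁ :=
      whiskerRightIso ε₂ q₁
    exact whiskerLeftIso m₁ j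

/-- `spMapOfOver` of a composite with composition by a morphism of schemes. -/
theorem spMapOfOver_comp_overMap {F : AlgSp.Sp S} {U V : Over S} (Φ : AlgSt.ofSp F ⥤ᵇ FibCat.overCat U)
    (h : U ⟶ V) :
    AlgSt.spMapOfOver (BasedFunctor.comp Φ (AlgSt.overMap h)) = AlgSt.spMapOfOver Φ ≫ (AlgSp.yon S).map h := by
  apply ObjectProperty.hom_ext
  ext T x
  induction T using Opposite.rec with
  | _ T =>
    change (AlgSt.spMapOfOver (BasedFunctor.comp Φ (AlgSt.overMap h))).hom.app (op T) x =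
      ((AlgSp.yon S).map h).hom.app (op T) ((AlgSt.spMapOfOver Φ).hom.app (op T) x)
    rw [AlgSt.spMapOfOver_app, AlgSt.spMapOfOver_app]
    apply ULift.ext
    change eqToHom _ ≫ ((Φ.obj ⟨T, x⟩).hom ≫ h) = (eqToHom _ ≫ (Φ.obj ⟨T, x⟩).hom) ≫ h
    simp

/-- The 2-fibre product of `(Sch/U₀) ⟶ (Sch/V₀)` and `ℬ ⟶ (Sch/V₀)` with `ℬ` an algebraic space is the fibre product
of sheaves. -/
theorem exists_pullback_equiv {U₀ V₀ : Over S} (h₀ : U₀ ⟶ V₀) {ℬ : AlgSt.Cat S}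
    (b₀ : ℬ ⥤ᵇ FibCat.overCat V₀) (V' : AlgSp.Sp S) (eB : AlgSt.ofSp V' ⥤ᵇ ℬ)
    (heB : FibCat.IsEquivOver eB) :
    ∃ (E : AlgSt.ofSp (pullback ((AlgSp.yon S).map h₀) (AlgSt.spMapOfOver (BasedFunctor.comp eB b₀))) ⥤ᵇ
        FibCat.fp (AlgSt.overMap h₀) b₀), FibCat.IsEquivOver E ∧
      Nonempty (BasedFunctor.comp E (FibCat.fpSnd (AlgSt.overMap h₀) b₀) ≅
        BasedFunctor.comp (AlgSt.ofSpMap (pullback.snd ((AlgSp.yon S).map h₀)
          (AlgSt.spMapOfOver (BasedFunctor.comp eB b₀)))) eB) := by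
  let v₀ := AlgSt.spMapOfOver (BasedFunctor.comp eB b₀)
  have sq : IsPullback (pullback.fst ((AlgSp.yon S).map h₀) v₀) (pullback.snd ((AlgSp.yon S).map h₀) v₀)
      ((AlgSp.yon S).map h₀) v₀ := IsPullback.of_hasPullback _ _
  have sq' := sq.map (sheafToPresheaf (AlgSp.J S) (Type (u + 1)))
  obtain ⟨i⟩ := ofSpMap_spMapOfOver_iso (BasedFunctor.comp eB b₀)
  have eG : BasedFunctor.comp (AlgSt.ofSpMap v₀) (AlgSt.toOverCat V₀) ≅ BasedFunctor.comp eB b₀ :=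
    (whiskerRightIso i.symm (AlgSt.toOverCat V₀) : _ ≅
      BasedFunctor.comp (BasedFunctor.comp (BasedFunctor.comp eB b₀) (AlgSt.ofOverCat V₀))
        (AlgSt.toOverCat V₀))
  have eF : BasedFunctor.comp (AlgSt.ofSpMap ((AlgSp.yon S).map h₀)) (AlgSt.toOverCat V₀) ≅
      BasedFunctor.comp (AlgSt.toOverCat U₀) (AlgSt.overMap h₀) := BasedNatIso.id _
  obtain ⟨hfull, hfaith, -⟩ := IsEquivOver.isFFEssSurjOver (toOverCat_isEquivOver V₀)
  let M := fpMap (AlgSt.overMap h₀) b₀ (AlgSt.ofSpMap ((AlgSp.yon S).map h₀)) (AlgSt.ofSpMap v₀)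
    (AlgSt.toOverCat U₀) eB (AlgSt.toOverCat V₀) eF eG
  have hM : FibCat.IsEquivOver M := fpMap_isEquivOver _ _ _ _ _ _ _ eF eG (toOverCat_isEquivOver U₀) heB
  refine ⟨BasedFunctor.comp (ofPshFp sq'.w) M, IsEquivOver.comp (ofPshFp_isEquivOver sq') hM, ⟨?_⟩⟩
  exact BasedNatIso.id _

/-- **Independence of the chart square** for a property smooth local on the source-and-target: if `P` holds on one
chart square with `x₀` smooth surjective and `y₀` smooth, it holds on every chart square `(x, y, h, α)` with `x`, `y`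
smooth for which the induced `U ⟶ 𝒳 ×_𝒴 V` is smooth. -/
theorem locQ_all_charts (P : MorphismProperty (AlgSp.Sp S)) (hP : AlgSp.IsSmoothLocalST P)
    (f : 𝒳 ⥤ᵇ 𝒴)
    {U₀ V₀ U V : Over S} (x₀ : FibCat.overCat U₀ ⥤ᵇ 𝒳) (y₀ : FibCat.overCat V₀ ⥤ᵇ 𝒴) (h₀ : U₀ ⟶ V₀)
    (α₀ : BasedFunctor.comp x₀ f ≅ BasedFunctor.comp (AlgSt.overMap h₀) y₀)
    (hx₀ : AlgSt.RepByAlgSpWith (AlgSp.LocP @Smooth) x₀)
    (hx₀' : AlgSt.RepByAlgSpWith AlgSp.IsSurjectiveMor x₀)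
    (hy₀ : AlgSt.RepByAlgSpWith (AlgSp.LocP @Smooth) y₀) (hP₀ : P ((AlgSp.yon S).map h₀))
    (x : FibCat.overCat U ⥤ᵇ 𝒳) (y : FibCat.overCat V ⥤ᵇ 𝒴) (h : U ⟶ V)
    (α : BasedFunctor.comp x f ≅ BasedFunctor.comp (AlgSt.overMap h) y)
    (hx : AlgSt.RepByAlgSpWith (AlgSp.LocP @Smooth) x)
    (hy : AlgSt.RepByAlgSpWith (AlgSp.LocP @Smooth) y)
    (hΓ : AlgSt.RepByAlgSpWith (AlgSp.LocP @Smooth) (FibCat.fpLift x (AlgSt.overMap h) α)) :
    P ((AlgSp.yon S).map h) := by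
  have hQ := Groth.Agent.Lib.Helper78.AlgSpLocPSmooth.etLocalST_smooth
  have hsb : ∀ ⦃X₁ Y₁ X₂ Y₂ : AlgSp.Sp S⦄, AlgSp.IsAlgSpace X₁ → AlgSp.IsAlgSpace Y₁ → AlgSp.IsAlgSpace X₂ →
      AlgSp.IsAlgSpace Y₂ → ∀ (a : X₁ ⟶ Y₁) (b : Y₂ ⟶ Y₁) (a' : X₂ ⟶ Y₂) (b' : X₂ ⟶ X₁),
      IsPullback b' a' a b → AlgSp.IsSurjectiveMor a → AlgSp.IsSurjectiveMor a' :=
    fun _ _ _ _ _ _ _ _ _ _ _ _ sq ha => isSurjectiveMor_baseChange sq ha
  -- the stack-level comparison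
  obtain ⟨l, hl, ⟨il⟩⟩ := exists_chart_comparison (AlgSp.LocP @Smooth) f x₀ y₀ h₀ α₀ x y h α hΓ
  -- the algebraic space `U' = U₀ ×_𝒳 U`
  obtain ⟨U', eA, heA, -⟩ := hx U₀ x₀
  let u := AlgSt.spMapOfOver (BasedFunctor.comp eA (FibCat.fpSnd x₀ x))
  have hu1 : AlgSp.LocP @Smooth u :=
    (repByAlgSpWith_ofSp_overCat_iff _ (locP_baseChange hQ) (atlasLocal_locP hQ) U'.property _).mp
      ((repByAlgSpWith_precomp_equiv _ eA heA _).mp (repByAlgSpWith_fpSnd _ x₀ x hx₀))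
  have hu2 : AlgSp.IsSurjectiveMor u :=
    (repByAlgSpWith_ofSp_overCat_iff _ hsb atlasLocal_isSurjectiveMor U'.property _).mp
      ((repByAlgSpWith_precomp_equiv _ eA heA _).mp (repByAlgSpWith_fpSnd _ x₀ x hx₀'))
  -- the algebraic space `V' = V₀ ×_𝒴 V`
  obtain ⟨V', eB, heB, hv₀⟩ := hy V₀ y₀
  let v₀ := AlgSt.spMapOfOver (BasedFunctor.comp eB (FibCat.fpFst y₀ y))
  let v := AlgSt.spMapOfOver (BasedFunctor.comp eB (FibCat.fpSnd y₀ y))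
  have hv : AlgSp.LocP @Smooth v :=
    (repByAlgSpWith_ofSp_overCat_iff _ (locP_baseChange hQ) (atlasLocal_locP hQ) V'.property _).mp
      ((repByAlgSpWith_precomp_equiv _ eB heB _).mp (repByAlgSpWith_fpSnd _ y₀ y hy₀))
  -- the fibre product `P' = U₀ ×_{V₀} V'`
  obtain ⟨E, hE, ⟨iE⟩⟩ := exists_pullback_equiv h₀ (FibCat.fpFst y₀ y) V'.obj eB heB
  have sq : IsPullback (pullback.fst ((AlgSp.yon S).map h₀) v₀) (pullback.snd ((AlgSp.yon S).map h₀) v₀)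
      ((AlgSp.yon S).map h₀) v₀ := IsPullback.of_hasPullback _ _
  have hP' : AlgSp.IsAlgSpace (pullback ((AlgSp.yon S).map h₀) v₀) :=
    Groth.Agent.Lib.Helper78.AlgSpFibre.isAlgSpace_of_isPullback sq (AlgSp.IsAlgSpace.yon_obj V₀).diag
      (AlgSp.IsAlgSpace.yon_obj U₀) V'.property
  have hpr₂ : P (pullback.snd ((AlgSp.yon S).map h₀) v₀) :=
    hP.baseChange (AlgSp.IsAlgSpace.yon_obj U₀) (AlgSp.IsAlgSpace.yon_obj V₀) hP' V'.property
      ((AlgSp.yon S).map h₀) v₀ _ _ sq hv₀ hP₀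
  -- the morphism `ℓ : U' ⟶ P'`
  obtain ⟨I, hI, -, ⟨ε⟩⟩ := IsEquivOver.symm hE
  let Λ : AlgSt.ofSp U'.obj ⥤ᵇ AlgSt.ofSp (pullback ((AlgSp.yon S).map h₀) v₀) :=
    BasedFunctor.comp eA (BasedFunctor.comp l I)
  let ℓ : U'.obj ⟶ pullback ((AlgSp.yon S).map h₀) v₀ := ⟨pshMapOf Λ⟩
  have jℓ : AlgSt.ofSpMap ℓ ≅ Λ := ofPshMapIso Λ
  have sqΛ : BasedFunctor.comp Λ E ≅ BasedFunctor.comp eA l :=
    whiskerLeftIso (BasedFunctor.comp eA l) ε
  have hΛ : AlgSt.RepByAlgSpWith (AlgSp.LocP @Smooth) Λ :=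
    (repByAlgSpWith_iff_of_square _ l Λ eA E heA hE sqΛ).mp hl
  have hℓ : AlgSp.LocP @Smooth ℓ :=
    (repByAlgSpWith_ofSpMap_iff _ (locP_baseChange hQ) (atlasLocal_locP hQ) U'.property hP' ℓ).mp
      (repByAlgSpWith_of_iso _ jℓ.symm hΛ)
  -- the composite has `P`
  have hcomp : P (ℓ ≫ pullback.snd ((AlgSp.yon S).map h₀) v₀) :=
    hP.precomp U'.property hP' V'.property ℓ _ hℓ hpr₂
  -- commutativity
  have comm : u ≫ (AlgSp.yon S).map h = (ℓ ≫ pullback.snd ((AlgSp.yon S).map h₀) v₀) ≫ v := by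
    let pr₂ := pullback.snd ((AlgSp.yon S).map h₀) v₀
    let π₂ := FibCat.fpSnd (AlgSt.overMap h₀) (FibCat.fpFst y₀ y)
    let b := FibCat.fpSnd y₀ y
    have k1 : BasedFunctor.comp (AlgSt.ofSpMap (ℓ ≫ pr₂)) (BasedFunctor.comp eB b) ≅
        BasedFunctor.comp (AlgSt.ofSpMap ℓ) (BasedFunctor.comp (BasedFunctor.comp (AlgSt.ofSpMap pr₂) eB) b) :=
      BasedNatIso.id _
    have k2 : BasedFunctor.comp (AlgSt.ofSpMap ℓ)
        (BasedFunctor.comp (BasedFunctor.comp (AlgSt.ofSpMap pr₂) eB) b) ≅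
        BasedFunctor.comp Λ (BasedFunctor.comp (BasedFunctor.comp (AlgSt.ofSpMap pr₂) eB) b) :=
      whiskerRightIso jℓ _
    have k3 : BasedFunctor.comp Λ (BasedFunctor.comp (BasedFunctor.comp (AlgSt.ofSpMap pr₂) eB) b) ≅
        BasedFunctor.comp Λ (BasedFunctor.comp (BasedFunctor.comp E π₂) b) :=
      whiskerLeftIso Λ (whiskerRightIso iE.symm b)
    have k4 : BasedFunctor.comp (BasedFunctor.comp Λ E) (BasedFunctor.comp π₂ b) ≅
        BasedFunctor.comp (BasedFunctor.comp eA l) (BasedFunctor.comp π₂ b) :=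
      whiskerRightIso sqΛ _
    have k5 : BasedFunctor.comp eA (BasedFunctor.comp l (BasedFunctor.comp π₂ b)) ≅
        BasedFunctor.comp eA (BasedFunctor.comp (FibCat.fpSnd x₀ x) (AlgSt.overMap h)) :=
      whiskerLeftIso eA il
    have k : BasedFunctor.comp (AlgSt.ofSpMap (ℓ ≫ pr₂)) (BasedFunctor.comp eB b) ≅
        BasedFunctor.comp (BasedFunctor.comp eA (FibCat.fpSnd x₀ x)) (AlgSt.overMap h) :=
      k1 ≪≫ k2 ≪≫ k3 ≪≫ k4 ≪≫ k5
    rw [← spMapOfOver_comp_overMap, ← spMapOfOver_comp_ofSpMap]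
    exact (spMapOfOver_eq_of_iso k).symm
  refine (hP.locality (AlgSp.IsAlgSpace.yon_obj U) (AlgSp.IsAlgSpace.yon_obj V) _).mpr ?_
  intro t
  obtain ⟨w, hw⟩ := hu2 t
  exact ⟨U'.obj, V'.obj, u, v, ℓ ≫ pullback.snd ((AlgSp.yon S).map h₀) v₀, w, U'.property, V'.property,
    hu1, hv, comm, hw, hcomp⟩

/-- Over a smooth scheme chart `y : V ⟶ 𝒴` there is a chart square whose `x : U ⟶ 𝒳` is smooth, with
`U ⟶ 𝒳 ×_𝒴 V` smooth and surjective; `x` is surjective as soon as `y` is. -/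
theorem exists_chart_over (h𝒳 : AlgSt.IsAlgStack Scheme.fppfPrecoverage 𝒳)
    (h𝒴 : AlgSt.IsAlgStack Scheme.fppfPrecoverage 𝒴) (f : 𝒳 ⥤ᵇ 𝒴) (V : Over S)
    (y : FibCat.overCat V ⥤ᵇ 𝒴) (hy : AlgSt.RepByAlgSpWith (AlgSp.LocP @Smooth) y) :
    ∃ (U : Over S) (x : FibCat.overCat U ⥤ᵇ 𝒳) (h : U ⟶ V)
      (α : BasedFunctor.comp x f ≅ BasedFunctor.comp (AlgSt.overMap h) y),
      AlgSt.RepByAlgSpWith (AlgSp.LocP @Smooth) x ∧
      AlgSt.RepByAlgSpWith (AlgSp.LocP @Smooth) (FibCat.fpLift x (AlgSt.overMap h) α) ∧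
      AlgSt.RepByAlgSpWith AlgSp.IsSurjectiveMor (FibCat.fpLift x (AlgSt.overMap h) α) ∧
      (AlgSt.RepByAlgSpWith AlgSp.IsSurjectiveMor y → AlgSt.RepByAlgSpWith AlgSp.IsSurjectiveMor x) := by
  have hQ := Groth.Agent.Lib.Helper78.AlgSpLocPSmooth.etLocalST_smooth
  have hV : AlgSt.IsAlgStack Scheme.fppfPrecoverage (FibCat.overCat V) :=
    (isDM_of_repByAlgSp (repByAlgSp_overCat V)).1
  have hfp : AlgSt.IsAlgStack Scheme.fppfPrecoverage (FibCat.fp f y) :=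
    isAlgStack_fp' _ h𝒴.isStack h𝒴.diag h𝒳 hV f y
  obtain ⟨U, x'', hx1, hx2⟩ := hfp.atlas
  have hgU := overCat_isFibGrpd U
  have hgfp : FibCat.IsFibGrpd (FibCat.fp f y).p :=
    fp_isFibGrpd f y h𝒳.isStack.1 (overCat_isFibGrpd V) h𝒴.isStack.1
  let G : FibCat.overCat U ⥤ᵇ FibCat.overCat V := BasedFunctor.comp x'' (FibCat.fpSnd f y)
  let h : U ⟶ V := overClassify G
  let i2 : G ≅ AlgSt.overMap h := isoOverMap G
  let x : FibCat.overCat U ⥤ᵇ 𝒳 := BasedFunctor.comp x'' (FibCat.fpFst f y)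
  let α : BasedFunctor.comp x f ≅ BasedFunctor.comp (AlgSt.overMap h) y :=
    (whiskerLeftIso x'' (FibCat.fpIso f y) : BasedFunctor.comp x f ≅ BasedFunctor.comp G y) ≪≫
      whiskerRightIso i2 y
  have iΓ : FibCat.fpLift x (AlgSt.overMap h) α ≅ x'' :=
    fpIsoMk (BasedNatIso.id _ : BasedFunctor.comp (FibCat.fpLift x (AlgSt.overMap h) α) (FibCat.fpFst f y) ≅
        BasedFunctor.comp x'' (FibCat.fpFst f y))
      (i2.symm : BasedFunctor.comp (FibCat.fpLift x (AlgSt.overMap h) α) (FibCat.fpSnd f y) ≅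
        BasedFunctor.comp x'' (FibCat.fpSnd f y))
      (by
        intro w
        have e1 : f.map ((BasedNatIso.id (BasedFunctor.comp x'' (FibCat.fpFst f y))).hom.toNatTrans.app w) =
            𝟙 _ := f.toFunctor.map_id _
        have e2 : ((FibCat.fpLift x (AlgSt.overMap h) α).obj w).obj.iso.hom =
            (x''.obj w).obj.iso.hom ≫ y.map (i2.hom.toNatTrans.app w) := rfl
        have e3 : i2.hom.toNatTrans.app w ≫ i2.inv.toNatTrans.app w = 𝟙 _ := by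
          have := congrArg (fun t => t.toNatTrans.app w) i2.hom_inv_id
          exact this
        change f.map ((BasedNatIso.id (BasedFunctor.comp x'' (FibCat.fpFst f y))).hom.toNatTrans.app w) ≫
          (x''.obj w).obj.iso.hom = ((FibCat.fpLift x (AlgSt.overMap h) α).obj w).obj.iso.hom ≫
            y.map (i2.inv.toNatTrans.app w)
        rw [e1, e2, Category.id_comp, Category.assoc, ← y.toFunctor.map_comp, e3]
        exact ((congrArg (fun t => (x''.obj w).obj.iso.hom ≫ t) (y.toFunctor.map_id _)).trans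
          (Category.comp_id _)).symm)
  refine ⟨U, x, h, α, ?_, repByAlgSpWith_of_iso _ iΓ.symm hx1, repByAlgSpWith_of_iso _ iΓ.symm hx2, ?_⟩
  · exact repByAlgSpWith_locP_comp hQ hgU hgfp x'' (FibCat.fpFst f y) hx1 (repByAlgSpWith_fpFst _ f y hy)
  · intro hy'
    exact repByAlgSpWith_isSurjectiveMor_comp hgU hgfp x'' (FibCat.fpFst f y) hx2
      (repByAlgSpWith_fpFst _ f y hy')

end Groth.Agent.Lib.Helper80
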