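import Groth.Agent.Lib.Helper80.AlgStChart

/-!
# Properties of algebraic stacks local in the smooth topology (helper80)
-/

set_option autoImplicit false
set_option backward.isDefEq.respectTransparency false

universe u

open CategoryTheory CategoryTheory.Functor CategoryTheory.Limits AlgebraicGeometry Opposite

namespace Groth.Agent.Lib.Helper80

open BasedFunctor

variable {S : Scheme.{u}}

/-- `P` is local in the smooth topology. -/
def SmLocalProp (P : Scheme.{u} → Prop) : Prop :=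
  ∀ (U : Scheme.{u}) (R : Presieve U), R ∈ Scheme.precoverage @Smooth U →
    (P U ↔ ∀ ⦃V : Scheme.{u}⦄ (g : V ⟶ U), R g → P V)

theorem SmLocalProp.of_smooth {P : Scheme.{u} → Prop} (hP : SmLocalProp P) {W U : Scheme.{u}} (h : W ⟶ U)
    (hs : Smooth h) (hU : P U) : P W := by
  let X : Bool → Scheme.{u} := fun b => cond b W U
  let f : ∀ b, X b ⟶ U := fun b => match b with
    | true => h
    | false => 𝟙 U
  have hmem : Presieve.ofArrows X f ∈ Scheme.precoverage @Smooth U := by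
    rw [Scheme.ofArrows_mem_precoverage_iff]
    refine ⟨fun x => ⟨false, x, rfl⟩, ?_⟩
    rintro (_ | _)
    · exact (inferInstance : Smooth (𝟙 U))
    · exact hs
  exact (hP U _ hmem).mp hU (f true) (Presieve.ofArrows.mk true)

theorem SmLocalProp.of_smooth_surjective {P : Scheme.{u} → Prop} (hP : SmLocalProp P) {W V : Scheme.{u}}
    (h : W ⟶ V) (hs : Smooth h) (hsurj : Surjective h) (hW : P W) : P V := by
  have hmem : Presieve.singleton h ∈ Scheme.precoverage @Smooth V := by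
    rw [Scheme.singleton_mem_precoverage_iff]
    exact ⟨hsurj.surj, hs⟩
  refine (hP V _ hmem).mpr ?_
  rintro V' g ⟨⟩
  exact hW

variable {𝒳 : AlgSt.Cat S}

/-- `S12846` (⇐): a smooth surjective scheme chart with `P` gives `P` on all smooth scheme charts. -/
theorem smoothLocally_of_chart {P : Scheme.{u} → Prop} (hP : SmLocalProp P) (U : Over S)
    (x : FibCat.overCat U ⥤ᵇ 𝒳) (hx₁ : AlgSt.RepByAlgSpWith (AlgSp.LocP @Smooth) x)
    (hx₂ : AlgSt.RepByAlgSpWith AlgSp.IsSurjectiveMor x) (hPU : P U.left) :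
    AlgSt.SmoothLocally P 𝒳 := by
  intro V y hy
  have hQ := Groth.Agent.Lib.Helper78.AlgSpLocPSmooth.etLocalST_smooth
  obtain ⟨E, e, he, ha₁⟩ := hx₁ V y
  have ha₁' : AlgSp.IsSurjectiveMor (AlgSt.spMapOfOver (BasedFunctor.comp e (FibCat.fpFst y x))) := by
    obtain ⟨E', e', he', h'⟩ := hx₂ V y
    exact prop_of_rep_over AlgSp.IsSurjectiveMor
      (fun _ _ _ _ _ _ _ _ _ _ _ _ sq ha => isSurjectiveMor_baseChange sq ha)
      (FibCat.fpFst y x) E E' e e' he he' h'
  have h2 : AlgSt.RepByAlgSpWith (AlgSp.LocP @Smooth) (FibCat.fpSnd y x) :=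
    repByAlgSpWith_fpSnd _ y x hy
  have h3 := (repByAlgSpWith_precomp_equiv _ e he (FibCat.fpSnd y x)).mp h2
  have ha₂ : AlgSp.LocP @Smooth (AlgSt.spMapOfOver (BasedFunctor.comp e (FibCat.fpSnd y x))) :=
    (repByAlgSpWith_ofSp_overCat_iff _ (locP_baseChange hQ) (atlasLocal_locP hQ) E.property _).mp h3
  obtain ⟨W, c, hc1, hc2⟩ := E.property.atlas
  obtain ⟨h₁, hh₁⟩ := (AlgSp.yon S).map_surjective
    (c ≫ AlgSt.spMapOfOver (BasedFunctor.comp e (FibCat.fpFst y x)))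
  obtain ⟨h₂, hh₂⟩ := (AlgSp.yon S).map_surjective
    (c ≫ AlgSt.spMapOfOver (BasedFunctor.comp e (FibCat.fpSnd y x)))
  have s1 : Smooth h₁.left := locP_chart _ c h₁ hc1 hh₁.symm ha₁
  have s1' : Surjective h₁.left := surjective_chart _ c h₁ hc2 hh₁.symm ha₁'
  have s2 : Smooth h₂.left := locP_chart _ c h₂ hc1 hh₂.symm ha₂
  exact hP.of_smooth_surjective h₁.left s1 s1' (hP.of_smooth h₂.left s2 hPU)

/-- The functor `(Sch/W) ⟶ ofSp X` of an etale chart of an algebraic space is smooth. -/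
theorem repByAlgSpWith_smooth_chart {X : AlgSp.Sp S} (hX : AlgSp.IsAlgSpace X) {W : Over S}
    (c : (AlgSp.yon S).obj W ⟶ X) (hc : AlgSp.RepWith @Etale c) :
    AlgSt.RepByAlgSpWith (AlgSp.LocP @Smooth) (BasedFunctor.comp (ptFun c.hom) (BasedFunctor.id (AlgSt.ofSp X))) :=
  repByAlgSpWith_chart _ (locP_baseChange Groth.Agent.Lib.Helper78.AlgSpLocPSmooth.etLocalST_smooth) hX c
    (locP_of_repWith_etale (fun k hk => smooth_of_etale k hk) hc) _ isEquivOver_id

theorem repByAlgSpWith_surjective_chart {X : AlgSp.Sp S} (hX : AlgSp.IsAlgSpace X) {W : Over S}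
    (c : (AlgSp.yon S).obj W ⟶ X) (hc : AlgSp.RepWith @Surjective c) :
    AlgSt.RepByAlgSpWith AlgSp.IsSurjectiveMor
      (BasedFunctor.comp (ptFun c.hom) (BasedFunctor.id (AlgSt.ofSp X))) :=
  repByAlgSpWith_chart _ (fun _ _ _ _ _ _ _ _ _ _ _ _ sq ha => isSurjectiveMor_baseChange sq ha) hX c
    (Groth.Agent.Lib.Helper51.surjective_map_of_repWith_surjective hc) _ isEquivOver_id

/-- `S12855`. -/
theorem smoothLocally_ofSp_iff {P : Scheme.{u} → Prop} (hP : SmLocalProp P) (X : AlgSp.Space S) :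
    AlgSt.SmoothLocally P (AlgSt.ofSp X.obj) ↔ AlgSp.EtaleLocally P X.obj := by
  constructor
  · intro h
    obtain ⟨W, c, hc1, hc2⟩ := X.property.atlas
    exact ⟨W, c, hc1, hc2, h W _ (repByAlgSpWith_smooth_chart X.property c hc1)⟩
  · rintro ⟨W, c, hc1, hc2, hPW⟩
    exact smoothLocally_of_chart hP W _ (repByAlgSpWith_smooth_chart X.property c hc1)
      (repByAlgSpWith_surjective_chart X.property c hc2) hPW

/-- A smooth morphism from an algebraic space to `𝒳`, read on an etale chart of the space. -/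
theorem repByAlgSpWith_smooth_chart_comp (U : AlgSp.Space S) (x : AlgSt.ofSp U.obj ⥤ᵇ 𝒳)
    (hx : AlgSt.RepByAlgSpWith (AlgSp.LocP @Smooth) x) {W : Over S}
    (c : (AlgSp.yon S).obj W ⟶ U.obj) (hc : AlgSp.RepWith @Etale c) :
    AlgSt.RepByAlgSpWith (AlgSp.LocP @Smooth)
      (BasedFunctor.comp (BasedFunctor.comp (ptFun c.hom) (BasedFunctor.id (AlgSt.ofSp U.obj))) x) :=
  repByAlgSpWith_locP_comp Groth.Agent.Lib.Helper78.AlgSpLocPSmooth.etLocalST_smooth
    (overCat_isFibGrpd W) (ofPsh_isFibSetoid _).1 _ x (repByAlgSpWith_smooth_chart U.property c hc) hx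

theorem repByAlgSpWith_surjective_chart_comp (U : AlgSp.Space S) (x : AlgSt.ofSp U.obj ⥤ᵇ 𝒳)
    (hx : AlgSt.RepByAlgSpWith AlgSp.IsSurjectiveMor x) {W : Over S}
    (c : (AlgSp.yon S).obj W ⟶ U.obj) (hc : AlgSp.RepWith @Surjective c) :
    AlgSt.RepByAlgSpWith AlgSp.IsSurjectiveMor
      (BasedFunctor.comp (BasedFunctor.comp (ptFun c.hom) (BasedFunctor.id (AlgSt.ofSp U.obj))) x) :=
  repByAlgSpWith_isSurjectiveMor_comp (overCat_isFibGrpd W) (ofPsh_isFibSetoid _).1 _ x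
    (repByAlgSpWith_surjective_chart U.property c hc) hx

/-- `S12852`. -/
theorem smoothLocally_iff_forall_space {P : Scheme.{u} → Prop} (hP : SmLocalProp P) :
    AlgSt.SmoothLocally P 𝒳 ↔
      ∀ (U : AlgSp.Space S) (x : AlgSt.ofSp U.obj ⥤ᵇ 𝒳),
        AlgSt.RepByAlgSpWith (AlgSp.LocP @Smooth) x → AlgSp.EtaleLocally P U.obj := by
  constructor
  · intro h U x hx
    obtain ⟨W, c, hc1, hc2⟩ := U.property.atlas
    exact ⟨W, c, hc1, hc2, h W _ (repByAlgSpWith_smooth_chart_comp U x hx c hc1)⟩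
  · intro h V y hy
    obtain ⟨W, p, hp1, hp2, hPW⟩ := h ⟨(AlgSp.yon S).obj V, AlgSp.IsAlgSpace.yon_obj V⟩
      (BasedFunctor.comp (AlgSt.toOverCat V) y) (repByAlgSpWith_toOverCat_comp _ y hy)
    obtain ⟨g, rfl⟩ := (AlgSp.yon S).map_surjective p
    have h1 : Etale g.left := (AlgSp.repWith_yon_map_iff _ g).mp hp1
    have h2 : Surjective g.left := (AlgSp.repWith_yon_map_iff _ g).mp hp2
    exact hP.of_smooth_surjective g.left (smooth_of_etale _ h1) h2 hPW

/-- `S12853` (⇐). -/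
theorem smoothLocally_of_space_chart {P : Scheme.{u} → Prop} (hP : SmLocalProp P)
    (U : AlgSp.Space S) (x : AlgSt.ofSp U.obj ⥤ᵇ 𝒳)
    (hx₁ : AlgSt.RepByAlgSpWith (AlgSp.LocP @Smooth) x)
    (hx₂ : AlgSt.RepByAlgSpWith AlgSp.IsSurjectiveMor x) (hU : AlgSp.EtaleLocally P U.obj) :
    AlgSt.SmoothLocally P 𝒳 := by
  obtain ⟨W, c, hc1, hc2, hPW⟩ := hU
  exact smoothLocally_of_chart hP W _ (repByAlgSpWith_smooth_chart_comp U x hx₁ c hc1)
    (repByAlgSpWith_surjective_chart_comp U x hx₂ c hc2) hPW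

end Groth.Agent.Lib.Helper80
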