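import Groth.Agent.Lib.Helper80.AlgStLocQ3
import Groth.Agent.Lib.Helper80.AlgStSmLoc

/-!
# Chart squares with algebraic-space charts (helper80)
-/

set_option autoImplicit false
set_option backward.isDefEq.respectTransparency false

universe u

open CategoryTheory CategoryTheory.Functor CategoryTheory.Limits AlgebraicGeometry Opposite

namespace Groth.Agent.Lib.Helper80

open BasedFunctor

variable {S : Scheme.{u}} {𝒳 𝒴 : AlgSt.Cat S}

/-- `ptFun ξ ⋙ ofPshMap η = ptFun (ξ ≫ η)` up to isomorphism. -/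
def ptFunCompIso {Q Q' : AlgSp.PSp S} {U : Over S} (ξ : (AlgSp.pyon S).obj U ⟶ Q) (η : Q ⟶ Q') :
    BasedFunctor.comp (ptFun ξ) (Stk.ofPshMap η) ≅ ptFun (ξ ≫ η) := BasedNatIso.id _

/-- `overMap h ⋙ ptFun ξ = ptFun (h_* ≫ ξ)` up to isomorphism. -/
def overMapPtFunIso {Q : AlgSp.PSp S} {U V : Over S} (h : U ⟶ V) (ξ : (AlgSp.pyon S).obj V ⟶ Q) :
    BasedFunctor.comp (AlgSt.overMap h) (ptFun ξ) ≅ ptFun ((AlgSp.pyon S).map h ≫ ξ) := BasedNatIso.id _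

/-- Refinement of a morphism of algebraic spaces by scheme charts. -/
theorem exists_scheme_refinement {U V : AlgSp.Sp S} (hU : AlgSp.IsAlgSpace U) (hV : AlgSp.IsAlgSpace V)
    (h : U ⟶ V) :
    ∃ (U₀ V₀ : Over S) (a : (AlgSp.yon S).obj U₀ ⟶ U) (c : (AlgSp.yon S).obj V₀ ⟶ V) (h₀ : U₀ ⟶ V₀),
      AlgSp.LocP @Smooth a ∧ AlgSp.IsSurjectiveMor a ∧ AlgSp.RepWith @Etale c ∧ AlgSp.RepWith @Surjective c ∧
      a ≫ h = (AlgSp.yon S).map h₀ ≫ c ∧
      ∀ P : MorphismProperty (AlgSp.Sp S), AlgSp.IsSmoothLocalST P → P h → P ((AlgSp.yon S).map h₀) := by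
  have hQ := Groth.Agent.Lib.Helper78.AlgSpLocPSmooth.etLocalST_smooth
  obtain ⟨V₀, c, hc1, hc2⟩ := hV.atlas
  have hcs : AlgSp.LocP @Smooth c := locP_of_repWith_etale (fun k hk => smooth_of_etale k hk) hc1
  have sq : IsPullback (pullback.fst h c) (pullback.snd h c) h c := IsPullback.of_hasPullback _ _
  have hW : AlgSp.IsAlgSpace (pullback h c) :=
    Groth.Agent.Lib.Helper78.AlgSpFibre.isAlgSpace_of_isPullback sq hV.diag hU (AlgSp.IsAlgSpace.yon_obj V₀)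
  obtain ⟨U₀, d, hd1, hd2⟩ := hW.atlas
  have hds : AlgSp.LocP @Smooth d := locP_of_repWith_etale (fun k hk => smooth_of_etale k hk) hd1
  obtain ⟨h₀, hh₀⟩ := (AlgSp.yon S).map_surjective (d ≫ pullback.snd h c)
  have hfst : AlgSp.LocP @Smooth (pullback.fst h c) :=
    locP_baseChange hQ (AlgSp.IsAlgSpace.yon_obj V₀) hV hW hU c h _ _ sq.flip hcs
  refine ⟨U₀, V₀, d ≫ pullback.fst h c, c, h₀, ?_, ?_, hc1, hc2, ?_, ?_⟩
  · exact Groth.Agent.Lib.Helper78.AlgSpLocP.locP_comp hQ d _ hW.atlas hds hfst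
  · exact isSurjectiveMor_comp d _ (Groth.Agent.Lib.Helper51.surjective_map_of_repWith_surjective hd2)
      (isSurjectiveMor_baseChange sq.flip (Groth.Agent.Lib.Helper51.surjective_map_of_repWith_surjective hc2))
  · rw [hh₀, Category.assoc, Category.assoc, sq.w]
  · intro P hP hPh
    rw [hh₀]
    exact hP.precomp (AlgSp.IsAlgSpace.yon_obj U₀) hW (AlgSp.IsAlgSpace.yon_obj V₀) d _ hds
      (hP.baseChange hU hV hW (AlgSp.IsAlgSpace.yon_obj V₀) h c _ _ sq hcs hPh)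

/-- A chart square with algebraic-space charts gives `LocQ`. -/
theorem locQ_of_space_charts (P : MorphismProperty (AlgSp.Sp S)) (hP : AlgSp.IsSmoothLocalST P) (f : 𝒳 ⥤ᵇ 𝒴)
    (U V : AlgSp.Space S) (x : AlgSt.ofSp U.obj ⥤ᵇ 𝒳) (y : AlgSt.ofSp V.obj ⥤ᵇ 𝒴) (h : U ⟶ V)
    (α : BasedFunctor.comp x f ≅ BasedFunctor.comp (AlgSt.ofSpMap h.hom) y)
    (hx : AlgSt.RepByAlgSpWith (AlgSp.LocP @Smooth) x) (hx' : AlgSt.RepByAlgSpWith AlgSp.IsSurjectiveMor x)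
    (hy : AlgSt.RepByAlgSpWith (AlgSp.LocP @Smooth) y) (hPh : P h.hom) : AlgSt.LocQ P f := by
  have hQ := Groth.Agent.Lib.Helper78.AlgSpLocPSmooth.etLocalST_smooth
  obtain ⟨U₀, V₀, a, c, h₀, ha1, ha2, hc1, hc2, comm, hP₀⟩ := exists_scheme_refinement U.property V.property h.hom
  let xa : FibCat.overCat U₀ ⥤ᵇ AlgSt.ofSp U.obj := BasedFunctor.comp (ptFun a.hom) (BasedFunctor.id _)
  have hxa1 : AlgSt.RepByAlgSpWith (AlgSp.LocP @Smooth) xa :=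
    repByAlgSpWith_chart _ (locP_baseChange hQ) U.property a ha1 _ isEquivOver_id
  have hxa2 : AlgSt.RepByAlgSpWith AlgSp.IsSurjectiveMor xa :=
    repByAlgSpWith_chart _ (fun _ _ _ _ _ _ _ _ _ _ _ _ sq ha => isSurjectiveMor_baseChange sq ha) U.property a ha2 _
      isEquivOver_id
  let yc : FibCat.overCat V₀ ⥤ᵇ AlgSt.ofSp V.obj := BasedFunctor.comp (ptFun c.hom) (BasedFunctor.id _)
  have e : ptFun (a.hom ≫ h.hom.hom) = ptFun ((AlgSp.pyon S).map h₀ ≫ c.hom) := by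
    congr 1
    exact congrArg (fun m => m.hom) comm
  let β : BasedFunctor.comp xa (AlgSt.ofSpMap h.hom) ≅ BasedFunctor.comp (AlgSt.overMap h₀) yc :=
    (ptFunCompIso a.hom h.hom.hom : BasedFunctor.comp xa (AlgSt.ofSpMap h.hom) ≅ _) ≪≫ eqToIso e ≪≫
      ((overMapPtFunIso h₀ c.hom).symm : _ ≅ BasedFunctor.comp (AlgSt.overMap h₀) yc)
  let α₀ : BasedFunctor.comp (BasedFunctor.comp xa x) f ≅
      BasedFunctor.comp (AlgSt.overMap h₀) (BasedFunctor.comp yc y) :=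
    (whiskerLeftIso xa α : BasedFunctor.comp (BasedFunctor.comp xa x) f ≅
      BasedFunctor.comp (BasedFunctor.comp xa (AlgSt.ofSpMap h.hom)) y) ≪≫ whiskerRightIso β y
  refine ⟨U₀, V₀, BasedFunctor.comp xa x, BasedFunctor.comp yc y, h₀, α₀, ?_, ?_, ?_, hP₀ P hP hPh⟩
  · exact repByAlgSpWith_locP_comp hQ (overCat_isFibGrpd U₀) (ofPsh_isFibSetoid _).1 _ x hxa1 hx
  · exact repByAlgSpWith_isSurjectiveMor_comp (overCat_isFibGrpd U₀) (ofPsh_isFibSetoid _).1 _ x hxa2 hx'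
  · exact repByAlgSpWith_smooth_chart_comp V y hy c hc1

/-- `S12991`. -/
theorem locQ_iff_exists_space_charts (P : MorphismProperty (AlgSp.Sp S)) (hP : AlgSp.IsSmoothLocalST P)
    (f : 𝒳 ⥤ᵇ 𝒴) :
    AlgSt.LocQ P f ↔
      ∃ (U V : AlgSp.Space S) (x : AlgSt.ofSp U.obj ⥤ᵇ 𝒳) (y : AlgSt.ofSp V.obj ⥤ᵇ 𝒴) (h : U ⟶ V)
        (_ : BasedFunctor.comp x f ≅ BasedFunctor.comp (AlgSt.ofSpMap h.hom) y),
        AlgSt.RepByAlgSpWith (AlgSp.LocP @Smooth) x ∧ AlgSt.RepByAlgSpWith AlgSp.IsSurjectiveMor x ∧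
        AlgSt.RepByAlgSpWith (AlgSp.LocP @Smooth) y ∧ P h.hom := by
  constructor
  · rintro ⟨U, V, x, y, h, α, hx1, hx2, hy, hPh⟩
    let α' : BasedFunctor.comp (BasedFunctor.comp (AlgSt.toOverCat U) x) f ≅
        BasedFunctor.comp (AlgSt.ofSpMap ((AlgSp.yon S).map h)) (BasedFunctor.comp (AlgSt.toOverCat V) y) :=
      (whiskerLeftIso (AlgSt.toOverCat U) α : BasedFunctor.comp (BasedFunctor.comp (AlgSt.toOverCat U) x) f ≅
        BasedFunctor.comp (AlgSt.toOverCat U) (BasedFunctor.comp (AlgSt.overMap h) y))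
    exact ⟨⟨(AlgSp.yon S).obj U, AlgSp.IsAlgSpace.yon_obj U⟩, ⟨(AlgSp.yon S).obj V, AlgSp.IsAlgSpace.yon_obj V⟩,
      BasedFunctor.comp (AlgSt.toOverCat U) x, BasedFunctor.comp (AlgSt.toOverCat V) y,
      ObjectProperty.homMk ((AlgSp.yon S).map h), α', repByAlgSpWith_toOverCat_comp _ x hx1,
      repByAlgSpWith_toOverCat_comp _ x hx2, repByAlgSpWith_toOverCat_comp _ y hy, hPh⟩
  · rintro ⟨U, V, x, y, h, α, hx1, hx2, hy, hPh⟩
    exact locQ_of_space_charts P hP f U V x y h α hx1 hx2 hy hPh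

/-- `S12992`. -/
theorem locQ_ofSpMap_iff (P : MorphismProperty (AlgSp.Sp S)) (hP : AlgSp.IsSmoothLocalST P)
    (F G : AlgSp.Space S) (a : F ⟶ G) : AlgSt.LocQ P (AlgSt.ofSpMap a.hom) ↔ P a.hom := by
  have hQ := Groth.Agent.Lib.Helper78.AlgSpLocPSmooth.etLocalST_smooth
  have hsb : ∀ ⦃X₁ Y₁ X₂ Y₂ : AlgSp.Sp S⦄, AlgSp.IsAlgSpace X₁ → AlgSp.IsAlgSpace Y₁ → AlgSp.IsAlgSpace X₂ →
      AlgSp.IsAlgSpace Y₂ → ∀ (a : X₁ ⟶ Y₁) (b : Y₂ ⟶ Y₁) (a' : X₂ ⟶ Y₂) (b' : X₂ ⟶ X₁),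
      IsPullback b' a' a b → AlgSp.IsSurjectiveMor a → AlgSp.IsSurjectiveMor a' :=
    fun _ _ _ _ _ _ _ _ _ _ _ _ sq ha => isSurjectiveMor_baseChange sq ha
  constructor
  · rintro ⟨U, V, x, y, h, α, hx1, hx2, hy, hPh⟩
    let X' : AlgSt.ofSp ((AlgSp.yon S).obj U) ⥤ᵇ AlgSt.ofSp F.obj := BasedFunctor.comp (AlgSt.toOverCat U) x
    let Y' : AlgSt.ofSp ((AlgSp.yon S).obj V) ⥤ᵇ AlgSt.ofSp G.obj := BasedFunctor.comp (AlgSt.toOverCat V) y
    let xm : (AlgSp.yon S).obj U ⟶ F.obj := ⟨pshMapOf X'⟩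
    let ym : (AlgSp.yon S).obj V ⟶ G.obj := ⟨pshMapOf Y'⟩
    have jx : AlgSt.ofSpMap xm ≅ X' := ofPshMapIso X'
    have jy : AlgSt.ofSpMap ym ≅ Y' := ofPshMapIso Y'
    have hxm1 : AlgSp.LocP @Smooth xm :=
      (repByAlgSpWith_ofSpMap_iff _ (locP_baseChange hQ) (atlasLocal_locP hQ) (AlgSp.IsAlgSpace.yon_obj U)
        F.property xm).mp (repByAlgSpWith_of_iso _ jx.symm (repByAlgSpWith_toOverCat_comp _ x hx1))
    have hxm2 : AlgSp.IsSurjectiveMor xm :=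
      (repByAlgSpWith_ofSpMap_iff _ hsb atlasLocal_isSurjectiveMor (AlgSp.IsAlgSpace.yon_obj U)
        F.property xm).mp (repByAlgSpWith_of_iso _ jx.symm (repByAlgSpWith_toOverCat_comp _ x hx2))
    have hym1 : AlgSp.LocP @Smooth ym :=
      (repByAlgSpWith_ofSpMap_iff _ (locP_baseChange hQ) (atlasLocal_locP hQ) (AlgSp.IsAlgSpace.yon_obj V)
        G.property ym).mp (repByAlgSpWith_of_iso _ jy.symm (repByAlgSpWith_toOverCat_comp _ y hy))
    have comm : xm ≫ a.hom = (AlgSp.yon S).map h ≫ ym := by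
      apply ObjectProperty.hom_ext
      change pshMapOf X' ≫ a.hom.hom = ((AlgSp.yon S).map h).hom ≫ pshMapOf Y'
      have k : BasedFunctor.comp X' (Stk.ofPshMap a.hom.hom) ≅
          BasedFunctor.comp (Stk.ofPshMap ((AlgSp.yon S).map h).hom) Y' :=
        (whiskerLeftIso (AlgSt.toOverCat U) α : BasedFunctor.comp X' (Stk.ofPshMap a.hom.hom) ≅
          BasedFunctor.comp (AlgSt.toOverCat U) (BasedFunctor.comp (AlgSt.overMap h) y))
      have := pshMapOf_eq_of_iso k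
      rw [pshMapOf_comp, pshMapOf_comp, pshMapOf_ofPshMap, pshMapOf_ofPshMap] at this
      exact this
    refine (hP.locality F.property G.property a.hom).mpr ?_
    intro t
    obtain ⟨w, hw⟩ := hxm2 t
    exact ⟨(AlgSp.yon S).obj U, (AlgSp.yon S).obj V, xm, ym, (AlgSp.yon S).map h, w, AlgSp.IsAlgSpace.yon_obj U,
      AlgSp.IsAlgSpace.yon_obj V, hxm1, hym1, comm, hw, hPh⟩
  · intro hPa
    have hid1 : ∀ (X : AlgSp.Space S), AlgSt.RepByAlgSpWith (AlgSp.LocP @Smooth) (BasedFunctor.id (AlgSt.ofSp X.obj)) :=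
      fun X => repByAlgSpWith_of_isEquivOver _
        (fun U => Groth.Agent.Lib.Helper78.AlgSpSmLocal.locP_smooth_id (AlgSp.IsAlgSpace.yon_obj U)) _ isEquivOver_id
    have hid2 : AlgSt.RepByAlgSpWith AlgSp.IsSurjectiveMor (BasedFunctor.id (AlgSt.ofSp F.obj)) :=
      repByAlgSpWith_of_isEquivOver _ (fun U t => ⟨t, AlgSp.Points.map_id t⟩) _ isEquivOver_id
    exact locQ_of_space_charts P hP _ F G (BasedFunctor.id _) (BasedFunctor.id _) a
      (BasedNatIso.id _ : BasedFunctor.comp (BasedFunctor.id _) (AlgSt.ofSpMap a.hom) ≅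
        BasedFunctor.comp (AlgSt.ofSpMap a.hom) (BasedFunctor.id _)) (hid1 F) hid2 (hid1 G) hPa

end Groth.Agent.Lib.Helper80
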