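import Groth.Agent.Lib.Helper80.AlgStLocQ4

/-!
# Arbitrary squares over a morphism with `LocQ P`, for `P` stable under base change (helper80)
-/

set_option autoImplicit false
set_option backward.isDefEq.respectTransparency false

universe u

open CategoryTheory CategoryTheory.Functor CategoryTheory.Limits AlgebraicGeometry Opposite

namespace Groth.Agent.Lib.Helper80

open BasedFunctor

variable {S : Scheme.{u}} {𝒳 𝒴 : AlgSt.Cat S}

/-- **All squares**: for `P` smooth local on the source-and-target and stable under base change, if `P` holds on one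
chart square of `f`, then `P (h)` for every 2-commutative square `(x, y, h, α)` from schemes (with `x`, `y` arbitrary)
such that the induced `U ⟶ 𝒳 ×_𝒴 V` is smooth. -/
theorem locQ_all_squares (P : MorphismProperty (AlgSp.Sp S)) (hP : AlgSp.IsSmoothLocalST P)
    (hPb : ∀ ⦃X₁ Y₁ X₂ Y₂ : AlgSp.Sp S⦄, AlgSp.IsAlgSpace X₁ → AlgSp.IsAlgSpace Y₁ → AlgSp.IsAlgSpace X₂ →
      AlgSp.IsAlgSpace Y₂ → ∀ (a : X₁ ⟶ Y₁) (b : Y₂ ⟶ Y₁) (a' : X₂ ⟶ Y₂) (b' : X₂ ⟶ X₁),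
      IsPullback b' a' a b → P a → P a')
    (f : 𝒳 ⥤ᵇ 𝒴)
    {U₀ V₀ U V : Over S} (x₀ : FibCat.overCat U₀ ⥤ᵇ 𝒳) (y₀ : FibCat.overCat V₀ ⥤ᵇ 𝒴) (h₀ : U₀ ⟶ V₀)
    (α₀ : BasedFunctor.comp x₀ f ≅ BasedFunctor.comp (AlgSt.overMap h₀) y₀)
    (hx₀ : AlgSt.RepByAlgSpWith (AlgSp.LocP @Smooth) x₀)
    (hx₀' : AlgSt.RepByAlgSpWith AlgSp.IsSurjectiveMor x₀)
    (hy₀ : AlgSt.RepByAlgSpWith (AlgSp.LocP @Smooth) y₀) (hP₀ : P ((AlgSp.yon S).map h₀))
    (x : FibCat.overCat U ⥤ᵇ 𝒳) (y : FibCat.overCat V ⥤ᵇ 𝒴) (h : U ⟶ V)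
    (α : BasedFunctor.comp x f ≅ BasedFunctor.comp (AlgSt.overMap h) y)
    (hΓ : AlgSt.RepByAlgSpWith (AlgSp.LocP @Smooth) (FibCat.fpLift x (AlgSt.overMap h) α)) :
    P ((AlgSp.yon S).map h) := by
  have hQ := Groth.Agent.Lib.Helper78.AlgSpLocPSmooth.etLocalST_smooth
  have hsb : ∀ ⦃X₁ Y₁ X₂ Y₂ : AlgSp.Sp S⦄, AlgSp.IsAlgSpace X₁ → AlgSp.IsAlgSpace Y₁ → AlgSp.IsAlgSpace X₂ →
      AlgSp.IsAlgSpace Y₂ → ∀ (a : X₁ ⟶ Y₁) (b : Y₂ ⟶ Y₁) (a' : X₂ ⟶ Y₂) (b' : X₂ ⟶ X₁),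
      IsPullback b' a' a b → AlgSp.IsSurjectiveMor a → AlgSp.IsSurjectiveMor a' :=
    fun _ _ _ _ _ _ _ _ _ _ _ _ sq ha => isSurjectiveMor_baseChange sq ha
  -- the stack-level comparison
  obtain ⟨l, hl, ⟨il⟩⟩ := exists_chart_comparison (AlgSp.LocP @Smooth) f x₀ y₀ h₀ α₀ x y h α hΓ
  -- the algebraic space `U' = U₀ ×_𝒳 U`
  obtain ⟨U', eA₀, heA₀, -⟩ := hx₀ U x
  let eA := BasedFunctor.comp eA₀ (fpSwap x x₀)
  have heA : FibCat.IsEquivOver eA := IsEquivOver.comp heA₀ (fpSwap_isEquivOver x x₀)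
  let u := AlgSt.spMapOfOver (BasedFunctor.comp eA (FibCat.fpSnd x₀ x))
  have hu1 : AlgSp.LocP @Smooth u :=
    (repByAlgSpWith_ofSp_overCat_iff _ (locP_baseChange hQ) (atlasLocal_locP hQ) U'.property _).mp
      ((repByAlgSpWith_precomp_equiv _ eA heA _).mp (repByAlgSpWith_fpSnd _ x₀ x hx₀))
  have hu2 : AlgSp.IsSurjectiveMor u :=
    (repByAlgSpWith_ofSp_overCat_iff _ hsb atlasLocal_isSurjectiveMor U'.property _).mp
      ((repByAlgSpWith_precomp_equiv _ eA heA _).mp (repByAlgSpWith_fpSnd _ x₀ x hx₀'))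
  -- the algebraic space `V' = V₀ ×_𝒴 V`
  obtain ⟨V', eB₀, heB₀, -⟩ := hy₀ V y
  let eB := BasedFunctor.comp eB₀ (fpSwap y y₀)
  have heB : FibCat.IsEquivOver eB := IsEquivOver.comp heB₀ (fpSwap_isEquivOver y y₀)
  let v₀ := AlgSt.spMapOfOver (BasedFunctor.comp eB (FibCat.fpFst y₀ y))
  let v := AlgSt.spMapOfOver (BasedFunctor.comp eB (FibCat.fpSnd y₀ y))
  have hv : AlgSp.LocP @Smooth v :=
    (repByAlgSpWith_ofSp_overCat_iff _ (locP_baseChange hQ) (atlasLocal_locP hQ) V'.property _).mp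
      ((repByAlgSpWith_precomp_equiv _ eB heB _).mp (repByAlgSpWith_fpSnd _ y₀ y hy₀))
  -- the fibre product `P' = U₀ ×_{V₀} V'`
  obtain ⟨E, hE, ⟨iE⟩⟩ := exists_pullback_equiv h₀ (FibCat.fpFst y₀ y) V'.obj eB heB
  have sq : IsPullback (pullback.fst ((AlgSp.yon S).map h₀) v₀) (pullback.snd ((AlgSp.yon S).map h₀) v₀)
      ((AlgSp.yon S).map h₀) v₀ := IsPullback.of_hasPullback _ _
  have hP' : AlgSp.IsAlgSpace (pullback ((AlgSp.yon S).map h₀) v₀) :=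
    Groth.Agent.Lib.Helper78.AlgSpFibre.isAlgSpace_of_isPullback sq (AlgSp.IsAlgSpace.yon_obj V₀).diag
      (AlgSp.IsAlgSpace.yon_obj U₀) V'.property
  have hpr₂ : P (pullback.snd ((AlgSp.yon S).map h₀) v₀) :=
    hPb (AlgSp.IsAlgSpace.yon_obj U₀) (AlgSp.IsAlgSpace.yon_obj V₀) hP' V'.property
      ((AlgSp.yon S).map h₀) v₀ _ _ sq hP₀
  -- the morphism `ℓ : U' ⟶ P'`
  obtain ⟨I, hI, -, ⟨ε⟩⟩ := IsEquivOver.symm hE
  let Λ : AlgSt.ofSp U'.obj ⥤ᵇ AlgSt.ofSp (pullback ((AlgSp.yon S).map h₀) v₀) :=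
    BasedFunctor.comp eA (BasedFunctor.comp l I)
  let ℓ : U'.obj ⟶ pullback ((AlgSp.yon S).map h₀) v₀ := ⟨pshMapOf Λ⟩
  have jℓ : AlgSt.ofSpMap ℓ ≅ Λ := ofPshMapIso Λ
  have sqΛ : BasedFunctor.comp Λ E ≅ BasedFunctor.comp eA l :=
    whiskerLeftIso (BasedFunctor.comp eA l) ε
  have hΛ : AlgSt.RepByAlgSpWith (AlgSp.LocP @Smooth) Λ :=
    (repByAlgSpWith_iff_of_square _ l Λ eA E heA hE sqΛ).mp hl
  have hℓ : AlgSp.LocP @Smooth ℓ :=
    (repByAlgSpWith_ofSpMap_iff _ (locP_baseChange hQ) (atlasLocal_locP hQ) U'.property hP' ℓ).mp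
      (repByAlgSpWith_of_iso _ jℓ.symm hΛ)
  -- the composite has `P`
  have hcomp : P (ℓ ≫ pullback.snd ((AlgSp.yon S).map h₀) v₀) :=
    hP.precomp U'.property hP' V'.property ℓ _ hℓ hpr₂
  -- commutativity
  have comm : u ≫ (AlgSp.yon S).map h = (ℓ ≫ pullback.snd ((AlgSp.yon S).map h₀) v₀) ≫ v := by
    let pr₂ := pullback.snd ((AlgSp.yon S).map h₀) v₀
    let π₂ := FibCat.fpSnd (AlgSt.overMap h₀) (FibCat.fpFst y₀ y)
    let b := FibCat.fpSnd y₀ y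
    have k1 : BasedFunctor.comp (AlgSt.ofSpMap (ℓ ≫ pr₂)) (BasedFunctor.comp eB b) ≅
        BasedFunctor.comp (AlgSt.ofSpMap ℓ) (BasedFunctor.comp (BasedFunctor.comp (AlgSt.ofSpMap pr₂) eB) b) :=
      BasedNatIso.id _
    have k2 : BasedFunctor.comp (AlgSt.ofSpMap ℓ)
        (BasedFunctor.comp (BasedFunctor.comp (AlgSt.ofSpMap pr₂) eB) b) ≅
        BasedFunctor.comp Λ (BasedFunctor.comp (BasedFunctor.comp (AlgSt.ofSpMap pr₂) eB) b) :=
      whiskerRightIso jℓ _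
    have k3 : BasedFunctor.comp Λ (BasedFunctor.comp (BasedFunctor.comp (AlgSt.ofSpMap pr₂) eB) b) ≅
        BasedFunctor.comp Λ (BasedFunctor.comp (BasedFunctor.comp E π₂) b) :=
      whiskerLeftIso Λ (whiskerRightIso iE.symm b)
    have k4 : BasedFunctor.comp (BasedFunctor.comp Λ E) (BasedFunctor.comp π₂ b) ≅
        BasedFunctor.comp (BasedFunctor.comp eA l) (BasedFunctor.comp π₂ b) :=
      whiskerRightIso sqΛ _
    have k5 : BasedFunctor.comp eA (BasedFunctor.comp l (BasedFunctor.comp π₂ b)) ≅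
        BasedFunctor.comp eA (BasedFunctor.comp (FibCat.fpSnd x₀ x) (AlgSt.overMap h)) :=
      whiskerLeftIso eA il
    have k : BasedFunctor.comp (AlgSt.ofSpMap (ℓ ≫ pr₂)) (BasedFunctor.comp eB b) ≅
        BasedFunctor.comp (BasedFunctor.comp eA (FibCat.fpSnd x₀ x)) (AlgSt.overMap h) :=
      k1 ≪≫ k2 ≪≫ k3 ≪≫ k4 ≪≫ k5
    rw [← spMapOfOver_comp_overMap, ← spMapOfOver_comp_ofSpMap]
    exact (spMapOfOver_eq_of_iso k).symm
  refine (hP.locality (AlgSp.IsAlgSpace.yon_obj U) (AlgSp.IsAlgSpace.yon_obj V) _).mpr ?_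
  intro t
  obtain ⟨w, hw⟩ := hu2 t
  exact ⟨U'.obj, V'.obj, u, v, ℓ ≫ pullback.snd ((AlgSp.yon S).map h₀) v₀, w, U'.property, V'.property,
    hu1, hv, comm, hw, hcomp⟩


variable {𝒴' : AlgSt.Cat S}

/-- The 2-isomorphism of the square over `f` induced by a square over the base change `𝒴' ×_𝒴 𝒳 ⟶ 𝒴'`. -/
def bcSquareIso (f : 𝒳 ⥤ᵇ 𝒴) (g : 𝒴' ⥤ᵇ 𝒴) {U' V' : Over S} (x' : FibCat.overCat U' ⥤ᵇ FibCat.fp g f)
    (y' : FibCat.overCat V' ⥤ᵇ 𝒴') (h' : U' ⟶ V')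
    (α' : BasedFunctor.comp x' (FibCat.fpFst g f) ≅ BasedFunctor.comp (AlgSt.overMap h') y') :
    BasedFunctor.comp (BasedFunctor.comp x' (FibCat.fpSnd g f)) f ≅
      BasedFunctor.comp (AlgSt.overMap h') (BasedFunctor.comp y' g) :=
  (whiskerLeftIso x' (FibCat.fpIso g f).symm : BasedFunctor.comp (BasedFunctor.comp x' (FibCat.fpSnd g f)) f ≅
      BasedFunctor.comp (BasedFunctor.comp x' (FibCat.fpFst g f)) g) ≪≫ whiskerRightIso α' g

theorem bcSquareIso_hom_app (f : 𝒳 ⥤ᵇ 𝒴) (g : 𝒴' ⥤ᵇ 𝒴) {U' V' : Over S}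
    (x' : FibCat.overCat U' ⥤ᵇ FibCat.fp g f)
    (y' : FibCat.overCat V' ⥤ᵇ 𝒴') (h' : U' ⟶ V')
    (α' : BasedFunctor.comp x' (FibCat.fpFst g f) ≅ BasedFunctor.comp (AlgSt.overMap h') y')
    (u : (FibCat.overCat U').obj) :
    (bcSquareIso f g x' y' h' α').hom.toNatTrans.app u =
      (x'.obj u).obj.iso.inv ≫ g.map (α'.hom.toNatTrans.app u) := rfl

/-- The comparison of the two induced functors into 2-fibre products. -/
def bcSquareFactor (f : 𝒳 ⥤ᵇ 𝒴) (g : 𝒴' ⥤ᵇ 𝒴) {U' V' : Over S} (x' : FibCat.overCat U' ⥤ᵇ FibCat.fp g f)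
    (y' : FibCat.overCat V' ⥤ᵇ 𝒴') (h' : U' ⟶ V')
    (α' : BasedFunctor.comp x' (FibCat.fpFst g f) ≅ BasedFunctor.comp (AlgSt.overMap h') y') :
    BasedFunctor.comp (BasedFunctor.comp
        (FibCat.fpLift (BasedFunctor.comp x' (FibCat.fpSnd g f)) (AlgSt.overMap h') (bcSquareIso f g x' y' h' α'))
        (fpSwap f (BasedFunctor.comp y' g))) (fpPasteLeft y' g f) ≅
      BasedFunctor.comp (FibCat.fpLift x' (AlgSt.overMap h') α') (fpSwap (FibCat.fpFst g f) y') := by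
  let Γ := FibCat.fpLift (BasedFunctor.comp x' (FibCat.fpSnd g f)) (AlgSt.overMap h') (bcSquareIso f g x' y' h' α')
  let Γ' := FibCat.fpLift x' (AlgSt.overMap h') α'
  let A := BasedFunctor.comp (BasedFunctor.comp Γ (fpSwap f (BasedFunctor.comp y' g))) (fpPasteLeft y' g f)
  let B := BasedFunctor.comp Γ' (fpSwap (FibCat.fpFst g f) y')
  let i₂ : BasedFunctor.comp A (FibCat.fpSnd y' (FibCat.fpFst g f)) ≅
      BasedFunctor.comp B (FibCat.fpSnd y' (FibCat.fpFst g f)) :=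
    fpIsoMk
      (α'.symm : BasedFunctor.comp (BasedFunctor.comp A (FibCat.fpSnd y' (FibCat.fpFst g f))) (FibCat.fpFst g f) ≅
        BasedFunctor.comp (BasedFunctor.comp B (FibCat.fpSnd y' (FibCat.fpFst g f))) (FibCat.fpFst g f))
      (BasedNatIso.id _ :
        BasedFunctor.comp (BasedFunctor.comp A (FibCat.fpSnd y' (FibCat.fpFst g f))) (FibCat.fpSnd g f) ≅
        BasedFunctor.comp (BasedFunctor.comp B (FibCat.fpSnd y' (FibCat.fpFst g f))) (FibCat.fpSnd g f))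
      (by
        intro u
        have e1 : ((BasedFunctor.comp A (FibCat.fpSnd y' (FibCat.fpFst g f))).obj u).obj.iso.hom =
            g.map (α'.inv.toNatTrans.app u) ≫ (x'.obj u).obj.iso.hom := rfl
        have e2 : ((BasedFunctor.comp B (FibCat.fpSnd y' (FibCat.fpFst g f))).obj u).obj.iso.hom =
            (x'.obj u).obj.iso.hom := rfl
        have e3 : g.map (α'.symm.hom.toNatTrans.app u) = g.map (α'.inv.toNatTrans.app u) := rfl
        rw [e1, e2, e3]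
        exact (comp_comp_map_id_aux f.toFunctor _ _).symm.trans (Category.assoc _ _ _).symm)
  exact fpIsoMk
    (BasedNatIso.id _ : BasedFunctor.comp A (FibCat.fpFst y' (FibCat.fpFst g f)) ≅
      BasedFunctor.comp B (FibCat.fpFst y' (FibCat.fpFst g f)))
    i₂
    (by
      intro u
      have e1 : (B.obj u).obj.iso.hom = α'.inv.toNatTrans.app u := rfl
      have e2 : (A.obj u).obj.iso.hom = 𝟙 _ := rfl
      have e3 : (FibCat.fpFst g f).map (i₂.hom.toNatTrans.app u) = α'.inv.toNatTrans.app u := rfl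
      have e4 : y'.map ((BasedNatIso.id (BasedFunctor.comp A (FibCat.fpFst y' (FibCat.fpFst g f)))).hom.toNatTrans.app u) =
          𝟙 _ := y'.toFunctor.map_id _
      rw [e1, e2, e3, e4]
      simp
      rfl)

/-- `S13039`: `LocQ P` is stable under base change. -/
theorem locQ_baseChange (P : MorphismProperty (AlgSp.Sp S)) (hP : AlgSp.IsSmoothLocalST P)
    (hPb : ∀ ⦃X₁ Y₁ X₂ Y₂ : AlgSp.Sp S⦄, AlgSp.IsAlgSpace X₁ → AlgSp.IsAlgSpace Y₁ → AlgSp.IsAlgSpace X₂ →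
      AlgSp.IsAlgSpace Y₂ → ∀ (a : X₁ ⟶ Y₁) (b : Y₂ ⟶ Y₁) (a' : X₂ ⟶ Y₂) (b' : X₂ ⟶ X₁),
      IsPullback b' a' a b → P a → P a')
    (h𝒳 : AlgSt.IsAlgStack Scheme.fppfPrecoverage 𝒳) (h𝒴 : AlgSt.IsAlgStack Scheme.fppfPrecoverage 𝒴)
    (h𝒴' : AlgSt.IsAlgStack Scheme.fppfPrecoverage 𝒴') (f : 𝒳 ⥤ᵇ 𝒴) (g : 𝒴' ⥤ᵇ 𝒴)
    (hf : AlgSt.LocQ P f) : AlgSt.LocQ P (FibCat.fpFst g f) := by
  obtain ⟨U₀, V₀, x₀, y₀, h₀, α₀, hx₀, hx₀', hy₀, hP₀⟩ := hf
  have h𝒲 : AlgSt.IsAlgStack Scheme.fppfPrecoverage (FibCat.fp g f) :=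
    isAlgStack_fp' _ h𝒴.isStack h𝒴.diag h𝒴' h𝒳 g f
  obtain ⟨V', y', hy'1, hy'2⟩ := h𝒴'.atlas
  obtain ⟨U', x', h', α', hx'1, hΓ'1, -, hx'2⟩ := exists_chart_over h𝒲 h𝒴' (FibCat.fpFst g f) V' y' hy'1
  refine ⟨U', V', x', y', h', α', hx'1, hx'2 hy'2, hy'1, ?_⟩
  refine locQ_all_squares P hP hPb f x₀ y₀ h₀ α₀ hx₀ hx₀' hy₀ hP₀ (BasedFunctor.comp x' (FibCat.fpSnd g f))
    (BasedFunctor.comp y' g) h' (bcSquareIso f g x' y' h' α') ?_
  -- smoothness of the induced functor into `𝒳 ×_𝒴 V'`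
  have h1 : AlgSt.RepByAlgSpWith (AlgSp.LocP @Smooth)
      (BasedFunctor.comp (FibCat.fpLift x' (AlgSt.overMap h') α') (fpSwap (FibCat.fpFst g f) y')) :=
    (repByAlgSpWith_iff_of_square _
      (BasedFunctor.comp (FibCat.fpLift x' (AlgSt.overMap h') α') (fpSwap (FibCat.fpFst g f) y'))
      (FibCat.fpLift x' (AlgSt.overMap h') α')
      (BasedFunctor.id _) (fpSwap (FibCat.fpFst g f) y') isEquivOver_id (fpSwap_isEquivOver _ _)
      (BasedNatIso.id _)).mpr hΓ'1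
  have h2 : AlgSt.RepByAlgSpWith (AlgSp.LocP @Smooth)
      (BasedFunctor.comp
        (FibCat.fpLift (BasedFunctor.comp x' (FibCat.fpSnd g f)) (AlgSt.overMap h') (bcSquareIso f g x' y' h' α'))
        (fpSwap f (BasedFunctor.comp y' g))) :=
    (repByAlgSpWith_iff_of_square _
      (BasedFunctor.comp (FibCat.fpLift x' (AlgSt.overMap h') α') (fpSwap (FibCat.fpFst g f) y'))
      (BasedFunctor.comp
        (FibCat.fpLift (BasedFunctor.comp x' (FibCat.fpSnd g f)) (AlgSt.overMap h') (bcSquareIso f g x' y' h' α'))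
        (fpSwap f (BasedFunctor.comp y' g)))
      (BasedFunctor.id _) (fpPasteLeft y' g f) isEquivOver_id (fpPasteLeft_isEquivOver y' g f)
      (bcSquareFactor f g x' y' h' α' : _ ≅ BasedFunctor.comp (BasedFunctor.id _)
        (BasedFunctor.comp (FibCat.fpLift x' (AlgSt.overMap h') α') (fpSwap (FibCat.fpFst g f) y')))).mp h1
  exact (repByAlgSpWith_iff_of_square _
    (BasedFunctor.comp
      (FibCat.fpLift (BasedFunctor.comp x' (FibCat.fpSnd g f)) (AlgSt.overMap h') (bcSquareIso f g x' y' h' α'))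
      (fpSwap f (BasedFunctor.comp y' g)))
    (FibCat.fpLift (BasedFunctor.comp x' (FibCat.fpSnd g f)) (AlgSt.overMap h') (bcSquareIso f g x' y' h' α'))
    (BasedFunctor.id _) (fpSwap f (BasedFunctor.comp y' g)) isEquivOver_id (fpSwap_isEquivOver _ _)
    (BasedNatIso.id _)).mp h2

end Groth.Agent.Lib.Helper80
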