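import Groth.Agent.Lib.Helper80.AlgStLocQ3
import Groth.Agent.Lib.Helper80.AlgStLocQ5
import Groth.Agent.Lib.Helper80.AlgStLocQ6
import Groth.Agent.Lib.Helper80.AlgSpSmLocalST
import Groth.Agent.Lib.Helper80.AlgStPts10
import Groth.Agent.Lib.Helper80.AlgStQcMor2
import Groth.Agent.Lib.Helper78.AlgSpMisc2
import Groth.Agent.Lib.Helper89.FppfSource
import Groth.Agent.S0114

/-!
# Flat / locally of finite type / locally of finite presentation morphisms of algebraic stacks: cancellation and descent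
along surjective flat morphisms of the source (helper80)
-/

set_option autoImplicit false
set_option backward.isDefEq.respectTransparency false

universe u

open CategoryTheory CategoryTheory.Functor CategoryTheory.Limits AlgebraicGeometry Opposite

namespace Groth.Agent.Lib.Helper80

open BasedFunctor

variable {S : Scheme.{u}} {𝒳 𝒴 𝒵 : AlgSt.Cat S}

/-- A morphism of schemes whose functor of slice categories is surjective on points is surjective. -/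
theorem surjective_left_of_isSurjective_overMap {U V : Over S} (h : U ⟶ V)
    (hs : AlgSt.IsSurjective (AlgSt.overMap h)) : Function.Surjective h.left := by
  intro t
  obtain ⟨ξ, hξ⟩ := hs (AlgSt.Points.mk (chartPt V t))
  obtain ⟨p, rfl⟩ := AlgSt.Points.mk_surjective ξ
  rw [mk_eq_mk_chartPt p, map_overMap_chartPt] at hξ
  exact ⟨fptPoint p, chartPt_injective V hξ⟩

/-- In a chart square whose comparison `U ⟶ 𝒳 ×_𝒴 V` is surjective, over a surjective `f`, the morphism of schemes is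
surjective. -/
theorem surjective_left_of_chart (h𝒳 : FibCat.IsFibGrpd 𝒳.p) (h𝒴 : FibCat.IsFibGrpd 𝒴.p) (f : 𝒳 ⥤ᵇ 𝒴)
    {U V : Over S} (x : FibCat.overCat U ⥤ᵇ 𝒳) (y : FibCat.overCat V ⥤ᵇ 𝒴) (h : U ⟶ V)
    (α : BasedFunctor.comp x f ≅ BasedFunctor.comp (AlgSt.overMap h) y)
    (hΓ : AlgSt.RepByAlgSpWith AlgSp.IsSurjectiveMor (FibCat.fpLift x (AlgSt.overMap h) α))
    (hf : AlgSt.IsSurjective f) : Function.Surjective h.left := by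
  have gV := overCat_isFibGrpd V
  have g3 : FibCat.IsFibGrpd (FibCat.fp f y).p := fp_isFibGrpd _ _ h𝒳 gV h𝒴
  have h1 : AlgSt.IsSurjective (FibCat.fpLift x (AlgSt.overMap h) α) :=
    isSurjective_of_repByAlgSpWith g3 _ hΓ
  have h2 : AlgSt.IsSurjective (FibCat.fpSnd f y) := isSurjective_fpSnd gV h𝒴 h𝒳 f y hf
  apply surjective_left_of_isSurjective_overMap
  have e : AlgSt.Points.map (AlgSt.overMap h) =
      AlgSt.Points.map (FibCat.fpSnd f y) ∘ AlgSt.Points.map (FibCat.fpLift x (AlgSt.overMap h) α) := by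
    rw [← points_map_comp]
    exact points_map_eq_of_iso (BasedNatIso.id _ : AlgSt.overMap h ≅
      BasedFunctor.comp (FibCat.fpLift x (AlgSt.overMap h) α) (FibCat.fpSnd f y))
  change Function.Surjective (AlgSt.Points.map (AlgSt.overMap h))
  rw [e]
  exact h2.comp h1

section Tower

variable (Q : MorphismProperty Scheme.{u}) (hQ : AlgSp.IsSmoothLocalST (AlgSp.LocP Q (S := S)))
  (hQe : Groth.Agent.Lib.Helper78.AlgSpLocP.EtLocalST Q)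

include hQ hQe in
/-- A chart tower for `f`, `g` on which a property holding for `f ⋙ g` is read on the composite. -/
theorem exists_tower_of_locQ_comp (h𝒳 : AlgSt.IsAlgStack Scheme.fppfPrecoverage 𝒳)
    (h𝒴 : AlgSt.IsAlgStack Scheme.fppfPrecoverage 𝒴) (h𝒵 : AlgSt.IsAlgStack Scheme.fppfPrecoverage 𝒵)
    (f : 𝒳 ⥤ᵇ 𝒴) (g : 𝒴 ⥤ᵇ 𝒵) (hfg : AlgSt.LocQ (AlgSp.LocP Q) (BasedFunctor.comp f g)) :
    ∃ (U V W : Over S) (x : FibCat.overCat U ⥤ᵇ 𝒳) (y : FibCat.overCat V ⥤ᵇ 𝒴)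
      (z : FibCat.overCat W ⥤ᵇ 𝒵) (h₁ : U ⟶ V) (h₂ : V ⟶ W)
      (α₁ : BasedFunctor.comp x f ≅ BasedFunctor.comp (AlgSt.overMap h₁) y)
      (α₂ : BasedFunctor.comp y g ≅ BasedFunctor.comp (AlgSt.overMap h₂) z),
      (AlgSt.RepByAlgSpWith (AlgSp.LocP @Smooth) x ∧ AlgSt.RepByAlgSpWith AlgSp.IsSurjectiveMor x) ∧
      (AlgSt.RepByAlgSpWith (AlgSp.LocP @Smooth) y ∧ AlgSt.RepByAlgSpWith AlgSp.IsSurjectiveMor y) ∧
      (AlgSt.RepByAlgSpWith (AlgSp.LocP @Smooth) z ∧ AlgSt.RepByAlgSpWith AlgSp.IsSurjectiveMor z) ∧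
      (AlgSt.RepByAlgSpWith (AlgSp.LocP @Smooth) (FibCat.fpLift x (AlgSt.overMap h₁) α₁) ∧
        AlgSt.RepByAlgSpWith AlgSp.IsSurjectiveMor (FibCat.fpLift x (AlgSt.overMap h₁) α₁)) ∧
      (AlgSt.RepByAlgSpWith (AlgSp.LocP @Smooth) (FibCat.fpLift y (AlgSt.overMap h₂) α₂) ∧
        AlgSt.RepByAlgSpWith AlgSp.IsSurjectiveMor (FibCat.fpLift y (AlgSt.overMap h₂) α₂)) ∧
      Q (h₁.left ≫ h₂.left) := by
  obtain ⟨U₀, V₀, x₀, y₀, k₀, β₀, a1, a2, a3, a4⟩ := hfg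
  obtain ⟨U, V, W, x, y, z, h₁, h₂, α₁, α₂, ⟨hx1, hx2⟩, ⟨hy1, hy2⟩, ⟨hz1, hz2⟩, hΓ₁, hΓ₂, ⟨hΓ, -⟩⟩ :=
    exists_chart_tower h𝒳 h𝒴 h𝒵 f g
  have p : AlgSp.LocP Q ((AlgSp.yon S).map (h₁ ≫ h₂)) :=
    locQ_all_charts _ hQ (BasedFunctor.comp f g) x₀ y₀ k₀ β₀ a1 a2 a3 a4 x z (h₁ ≫ h₂)
      (chartCompIso α₁ α₂) hx1 hz1 hΓ
  exact ⟨U, V, W, x, y, z, h₁, h₂, α₁, α₂, ⟨hx1, hx2⟩, ⟨hy1, hy2⟩, ⟨hz1, hz2⟩, hΓ₁, hΓ₂,
    (Groth.Agent.Lib.Helper78.AlgSpLocP.locP_yon_map_iff hQe _).mp p⟩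

end Tower

/-- `S13002`. -/
theorem locQ_loft_of_comp (h𝒳 : AlgSt.IsAlgStack Scheme.fppfPrecoverage 𝒳)
    (h𝒴 : AlgSt.IsAlgStack Scheme.fppfPrecoverage 𝒴) (h𝒵 : AlgSt.IsAlgStack Scheme.fppfPrecoverage 𝒵)
    (f : 𝒳 ⥤ᵇ 𝒴) (g : 𝒴 ⥤ᵇ 𝒵)
    (hfg : AlgSt.LocQ (AlgSp.LocP @LocallyOfFiniteType) (BasedFunctor.comp f g)) :
    AlgSt.LocQ (AlgSp.LocP @LocallyOfFiniteType) f := by
  have hQe := Groth.Agent.Lib.Helper78.AlgSpLocPLoft.etLocalST_loft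
  obtain ⟨U, V, W, x, y, z, h₁, h₂, α₁, α₂, ⟨hx1, hx2⟩, ⟨hy1, -⟩, -, -, -, p⟩ :=
    exists_tower_of_locQ_comp _ isSmoothLocalST_loft hQe h𝒳 h𝒴 h𝒵 f g hfg
  refine ⟨U, V, x, y, h₁, α₁, hx1, hx2, hy1, ?_⟩
  rw [Groth.Agent.Lib.Helper78.AlgSpLocP.locP_yon_map_iff hQe]
  have : LocallyOfFiniteType (h₁.left ≫ h₂.left) := p
  exact locallyOfFiniteType_of_comp h₁.left h₂.left

/-- `S13005`. -/
theorem locQ_lofp_of_comp (h𝒳 : AlgSt.IsAlgStack Scheme.fppfPrecoverage 𝒳)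
    (h𝒴 : AlgSt.IsAlgStack Scheme.fppfPrecoverage 𝒴) (h𝒵 : AlgSt.IsAlgStack Scheme.fppfPrecoverage 𝒵)
    (f : 𝒳 ⥤ᵇ 𝒴) (g : 𝒴 ⥤ᵇ 𝒵)
    (hfg : AlgSt.LocQ (AlgSp.LocP @LocallyOfFinitePresentation) (BasedFunctor.comp f g))
    (hg : AlgSt.LocQ (AlgSp.LocP @LocallyOfFiniteType) g) :
    AlgSt.LocQ (AlgSp.LocP @LocallyOfFinitePresentation) f := by
  have hQe := Groth.Agent.Lib.Helper78.AlgSpLocPLofp.etLocalST_lofp
  have hQe' := Groth.Agent.Lib.Helper78.AlgSpLocPLoft.etLocalST_loft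
  obtain ⟨U, V, W, x, y, z, h₁, h₂, α₁, α₂, ⟨hx1, hx2⟩, ⟨hy1, -⟩, ⟨hz1, -⟩, -, ⟨hΓ₂, -⟩, p⟩ :=
    exists_tower_of_locQ_comp _ isSmoothLocalST_lofp hQe h𝒳 h𝒴 h𝒵 f g hfg
  obtain ⟨U₁, V₁, x₁, y₁, k₁, β₁, b1, b2, b3, b4⟩ := hg
  have p2 : AlgSp.LocP @LocallyOfFiniteType ((AlgSp.yon S).map h₂) :=
    locQ_all_charts _ isSmoothLocalST_loft g x₁ y₁ k₁ β₁ b1 b2 b3 b4 y z h₂ α₂ hy1 hz1 hΓ₂
  refine ⟨U, V, x, y, h₁, α₁, hx1, hx2, hy1, ?_⟩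
  rw [Groth.Agent.Lib.Helper78.AlgSpLocP.locP_yon_map_iff hQe]
  exact Groth.Agent.Lib.Helper78.AlgSpMisc.lofp_of_comp h₁.left h₂.left
    ((Groth.Agent.Lib.Helper78.AlgSpLocP.locP_yon_map_iff hQe' _).mp p2) p


/-- `S13004`. -/
theorem locQ_flat_of_comp_of_surjective_flat (h𝒳 : AlgSt.IsAlgStack Scheme.fppfPrecoverage 𝒳)
    (h𝒴 : AlgSt.IsAlgStack Scheme.fppfPrecoverage 𝒴) (h𝒵 : AlgSt.IsAlgStack Scheme.fppfPrecoverage 𝒵)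
    (f : 𝒳 ⥤ᵇ 𝒴) (g : 𝒴 ⥤ᵇ 𝒵) (hf₁ : AlgSt.LocQ (AlgSp.LocP @Flat) f) (hf₂ : AlgSt.IsSurjective f)
    (hfg : AlgSt.LocQ (AlgSp.LocP @Flat) (BasedFunctor.comp f g)) : AlgSt.LocQ (AlgSp.LocP @Flat) g := by
  have hQe := Groth.Agent.Lib.Helper78.AlgSpLocPFlat.etLocalST_flat
  obtain ⟨U, V, W, x, y, z, h₁, h₂, α₁, α₂, ⟨hx1, hx2⟩, ⟨hy1, hy2⟩, ⟨hz1, -⟩, ⟨hΓ₁, hΓ₁'⟩, -, p⟩ :=
    exists_tower_of_locQ_comp _ isSmoothLocalST_flat hQe h𝒳 h𝒴 h𝒵 f g hfg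
  obtain ⟨U₁, V₁, x₁, y₁, k₁, β₁, b1, b2, b3, b4⟩ := hf₁
  have p1 : AlgSp.LocP @Flat ((AlgSp.yon S).map h₁) :=
    locQ_all_charts _ isSmoothLocalST_flat f x₁ y₁ k₁ β₁ b1 b2 b3 b4 x y h₁ α₁ hx1 hy1 hΓ₁
  have : Flat h₁.left := (Groth.Agent.Lib.Helper78.AlgSpLocP.locP_yon_map_iff hQe _).mp p1
  have : Surjective h₁.left :=
    ⟨surjective_left_of_chart h𝒳.isStack.1 h𝒴.isStack.1 f x y h₁ α₁ hΓ₁' hf₂⟩
  refine ⟨V, W, y, z, h₂, α₂, hy1, hy2, hz1, ?_⟩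
  rw [Groth.Agent.Lib.Helper78.AlgSpLocP.locP_yon_map_iff hQe]
  exact Groth.Agent.Lib.Helper78.AlgSpLocPFlat.flat_of_flat_comp_of_surjective h₁.left h₂.left p

/-- `S13007`. -/
theorem locQ_lofp_of_comp_of_fppf (h𝒳 : AlgSt.IsAlgStack Scheme.fppfPrecoverage 𝒳)
    (h𝒴 : AlgSt.IsAlgStack Scheme.fppfPrecoverage 𝒴) (h𝒵 : AlgSt.IsAlgStack Scheme.fppfPrecoverage 𝒵)
    (f : 𝒳 ⥤ᵇ 𝒴) (g : 𝒴 ⥤ᵇ 𝒵) (hf₁ : AlgSt.LocQ (AlgSp.LocP @Flat) f)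
    (hf₂ : AlgSt.LocQ (AlgSp.LocP @LocallyOfFinitePresentation) f) (hf₃ : AlgSt.IsSurjective f)
    (hfg : AlgSt.LocQ (AlgSp.LocP @LocallyOfFinitePresentation) (BasedFunctor.comp f g)) :
    AlgSt.LocQ (AlgSp.LocP @LocallyOfFinitePresentation) g := by
  have hQe := Groth.Agent.Lib.Helper78.AlgSpLocPLofp.etLocalST_lofp
  have hQe' := Groth.Agent.Lib.Helper78.AlgSpLocPFlat.etLocalST_flat
  obtain ⟨U, V, W, x, y, z, h₁, h₂, α₁, α₂, ⟨hx1, hx2⟩, ⟨hy1, hy2⟩, ⟨hz1, -⟩, ⟨hΓ₁, hΓ₁'⟩, -, p⟩ :=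
    exists_tower_of_locQ_comp _ isSmoothLocalST_lofp hQe h𝒳 h𝒴 h𝒵 f g hfg
  obtain ⟨U₁, V₁, x₁, y₁, k₁, β₁, b1, b2, b3, b4⟩ := hf₁
  obtain ⟨U₂, V₂, x₂, y₂, k₂, β₂, c1, c2, c3, c4⟩ := hf₂
  have p1 : AlgSp.LocP @Flat ((AlgSp.yon S).map h₁) :=
    locQ_all_charts _ isSmoothLocalST_flat f x₁ y₁ k₁ β₁ b1 b2 b3 b4 x y h₁ α₁ hx1 hy1 hΓ₁
  have p2 : AlgSp.LocP @LocallyOfFinitePresentation ((AlgSp.yon S).map h₁) :=
    locQ_all_charts _ isSmoothLocalST_lofp f x₂ y₂ k₂ β₂ c1 c2 c3 c4 x y h₁ α₁ hx1 hy1 hΓ₁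
  have : Flat h₁.left := (Groth.Agent.Lib.Helper78.AlgSpLocP.locP_yon_map_iff hQe' _).mp p1
  have : LocallyOfFinitePresentation h₁.left :=
    (Groth.Agent.Lib.Helper78.AlgSpLocP.locP_yon_map_iff hQe _).mp p2
  have : Surjective h₁.left :=
    ⟨surjective_left_of_chart h𝒳.isStack.1 h𝒴.isStack.1 f x y h₁ α₁ hΓ₁' hf₃⟩
  have : LocallyOfFinitePresentation (h₁.left ≫ h₂.left) := p
  refine ⟨V, W, y, z, h₂, α₂, hy1, hy2, hz1, ?_⟩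
  rw [Groth.Agent.Lib.Helper78.AlgSpLocP.locP_yon_map_iff hQe]
  exact Groth.Agent.S0114.result h₁.left h₂.left

/-- `S13001` (with `f` only assumed flat, locally of finite presentation and surjective on chart squares). -/
theorem locQ_loft_of_comp_of_fppf (h𝒳 : AlgSt.IsAlgStack Scheme.fppfPrecoverage 𝒳)
    (h𝒴 : AlgSt.IsAlgStack Scheme.fppfPrecoverage 𝒴) (h𝒵 : AlgSt.IsAlgStack Scheme.fppfPrecoverage 𝒵)
    (f : 𝒳 ⥤ᵇ 𝒴) (g : 𝒴 ⥤ᵇ 𝒵) (hf₁ : AlgSt.LocQ (AlgSp.LocP @Flat) f)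
    (hf₂ : AlgSt.LocQ (AlgSp.LocP @LocallyOfFinitePresentation) f) (hf₃ : AlgSt.IsSurjective f)
    (hfg : AlgSt.LocQ (AlgSp.LocP @LocallyOfFiniteType) (BasedFunctor.comp f g)) :
    AlgSt.LocQ (AlgSp.LocP @LocallyOfFiniteType) g := by
  have hQe := Groth.Agent.Lib.Helper78.AlgSpLocPLoft.etLocalST_loft
  have hQe' := Groth.Agent.Lib.Helper78.AlgSpLocPFlat.etLocalST_flat
  have hQe'' := Groth.Agent.Lib.Helper78.AlgSpLocPLofp.etLocalST_lofp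
  obtain ⟨U, V, W, x, y, z, h₁, h₂, α₁, α₂, ⟨hx1, hx2⟩, ⟨hy1, hy2⟩, ⟨hz1, -⟩, ⟨hΓ₁, hΓ₁'⟩, -, p⟩ :=
    exists_tower_of_locQ_comp _ isSmoothLocalST_loft hQe h𝒳 h𝒴 h𝒵 f g hfg
  obtain ⟨U₁, V₁, x₁, y₁, k₁, β₁, b1, b2, b3, b4⟩ := hf₁
  obtain ⟨U₂, V₂, x₂, y₂, k₂, β₂, c1, c2, c3, c4⟩ := hf₂
  have p1 : AlgSp.LocP @Flat ((AlgSp.yon S).map h₁) :=
    locQ_all_charts _ isSmoothLocalST_flat f x₁ y₁ k₁ β₁ b1 b2 b3 b4 x y h₁ α₁ hx1 hy1 hΓ₁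
  have p2 : AlgSp.LocP @LocallyOfFinitePresentation ((AlgSp.yon S).map h₁) :=
    locQ_all_charts _ isSmoothLocalST_lofp f x₂ y₂ k₂ β₂ c1 c2 c3 c4 x y h₁ α₁ hx1 hy1 hΓ₁
  have : Flat h₁.left := (Groth.Agent.Lib.Helper78.AlgSpLocP.locP_yon_map_iff hQe' _).mp p1
  have : LocallyOfFinitePresentation h₁.left :=
    (Groth.Agent.Lib.Helper78.AlgSpLocP.locP_yon_map_iff hQe'' _).mp p2
  have : Surjective h₁.left :=
    ⟨surjective_left_of_chart h𝒳.isStack.1 h𝒴.isStack.1 f x y h₁ α₁ hΓ₁' hf₃⟩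
  have : LocallyOfFiniteType (h₁.left ≫ h₂.left) := p
  refine ⟨V, W, y, z, h₂, α₂, hy1, hy2, hz1, ?_⟩
  rw [Groth.Agent.Lib.Helper78.AlgSpLocP.locP_yon_map_iff hQe]
  exact Groth.Agent.Lib.Helper89.FppfSource.locallyOfFiniteType_of_fppf_comp h₁.left h₂.left

/-- `S13008`. -/
theorem isOpenMor_of_locQ_flat_lofp (h𝒳 : AlgSt.IsAlgStack Scheme.fppfPrecoverage 𝒳)
    (h𝒴 : AlgSt.IsAlgStack Scheme.fppfPrecoverage 𝒴) (f : 𝒳 ⥤ᵇ 𝒴)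
    (hf₁ : AlgSt.LocQ (AlgSp.LocP @Flat) f)
    (hf₂ : AlgSt.LocQ (AlgSp.LocP @LocallyOfFinitePresentation) f) : AlgSt.IsOpenMor f := by
  have hQe := Groth.Agent.Lib.Helper78.AlgSpLocPLofp.etLocalST_lofp
  have hQe' := Groth.Agent.Lib.Helper78.AlgSpLocPFlat.etLocalST_flat
  obtain ⟨V, y, hy1, hy2⟩ := h𝒴.atlas
  obtain ⟨U, x, h, α, hx1, hΓ, -, hxs⟩ := exists_chart_over h𝒳 h𝒴 f V y hy1
  have hx2 := hxs hy2
  obtain ⟨U₁, V₁, x₁, y₁, k₁, β₁, b1, b2, b3, b4⟩ := hf₁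
  obtain ⟨U₂, V₂, x₂, y₂, k₂, β₂, c1, c2, c3, c4⟩ := hf₂
  have p1 : AlgSp.LocP @Flat ((AlgSp.yon S).map h) :=
    locQ_all_charts _ isSmoothLocalST_flat f x₁ y₁ k₁ β₁ b1 b2 b3 b4 x y h α hx1 hy1 hΓ
  have p2 : AlgSp.LocP @LocallyOfFinitePresentation ((AlgSp.yon S).map h) :=
    locQ_all_charts _ isSmoothLocalST_lofp f x₂ y₂ k₂ β₂ c1 c2 c3 c4 x y h α hx1 hy1 hΓ
  have : Flat h.left := (Groth.Agent.Lib.Helper78.AlgSpLocP.locP_yon_map_iff hQe' _).mp p1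
  have : LocallyOfFinitePresentation h.left :=
    (Groth.Agent.Lib.Helper78.AlgSpLocP.locP_yon_map_iff hQe _).mp p2
  have hyfl : AlgSt.RepByAlgSpWith (AlgSp.LocP @Flat) y :=
    repByAlgSpWith_locP_mono (fun _ _ k hk => smooth_flat k hk) hy1
  have hyfp : AlgSt.RepByAlgSpWith (AlgSp.LocP @LocallyOfFinitePresentation) y :=
    repByAlgSpWith_locP_mono (fun _ _ k hk => smooth_lofp k hk) hy1
  have hyopen : IsOpenMap (AlgSt.Points.ofChart y) := isOpenMap_ofChart h𝒴.isStack.1 y hyfl hyfp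
  have hxcont : Continuous (AlgSt.Points.ofChart x) := continuous_ofChart h𝒳.atlas x
  have hxsurj : Function.Surjective (AlgSt.Points.ofChart x) := surjective_ofChart h𝒳.isStack.1 x hx2
  have hsq : ∀ t, AlgSt.Points.map f (AlgSt.Points.ofChart x t) = AlgSt.Points.ofChart y (h.left t) := by
    intro t
    rw [← ofChart_comp x f t, ofChart_congr α, ofChart_overMap]
  intro W hW
  have e : AlgSt.Points.map f '' W =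
      AlgSt.Points.ofChart y '' (h.left '' (AlgSt.Points.ofChart x ⁻¹' W)) := by
    ext η
    constructor
    · rintro ⟨ξ, hξ, rfl⟩
      obtain ⟨t, rfl⟩ := hxsurj ξ
      exact ⟨h.left t, ⟨t, hξ, rfl⟩, (hsq t).symm⟩
    · rintro ⟨_, ⟨t, ht, rfl⟩, rfl⟩
      exact ⟨AlgSt.Points.ofChart x t, ht, hsq t⟩
  rw [e]
  exact hyopen _ (h.left.isOpenMap _ (hW.preimage hxcont))

end Groth.Agent.Lib.Helper80
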