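import Groth.Agent.Lib.Helper80.AlgStPts10
import Groth.Agent.Lib.Helper80.AlgStPts8
import Groth.Agent.Lib.Helper80.AlgSpSmLocalST
import Mathlib.AlgebraicGeometry.Noetherian
import Mathlib.Topology.Sober

/-!
# The space of points of a locally Noetherian algebraic stack (helper80)
-/

set_option autoImplicit false
set_option backward.isDefEq.respectTransparency false

universe u

open CategoryTheory CategoryTheory.Functor CategoryTheory.Limits AlgebraicGeometry Opposite TopologicalSpace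

namespace Groth.Agent.Lib.Helper80

open BasedFunctor

/-- A continuous surjective image of a Noetherian quasi-sober space is quasi-sober. -/
theorem quasiSober_of_surjective {X Y : Type*} [TopologicalSpace X] [TopologicalSpace Y] [NoetherianSpace X]
    [QuasiSober X] (f : X → Y) (hf : Continuous f) (hs : Function.Surjective f) : QuasiSober Y := by
  refine ⟨fun {T} hT hTc => ?_⟩
  obtain ⟨𝒮, hfin, hcl, hirr, hU⟩ :=
    NoetherianSpace.exists_finite_set_isClosed_irreducible (hTc.preimage hf)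
  have hcov : T ⊆ ⋃₀ ((fun t => closure (f '' t)) '' 𝒮) := by
    intro y hy
    obtain ⟨x, rfl⟩ := hs y
    have hx : x ∈ f ⁻¹' T := hy
    rw [hU] at hx
    obtain ⟨t, ht, hxt⟩ := hx
    exact ⟨closure (f '' t), ⟨t, ht, rfl⟩, subset_closure ⟨x, hxt, rfl⟩⟩
  have hfin' : ((fun t => closure (f '' t)) '' 𝒮).Finite := hfin.image _
  obtain ⟨z, hz, hTz⟩ := isIrreducible_iff_sUnion_isClosed.mp hT hfin'.toFinset
    (by
      intro z hz
      rw [Set.Finite.mem_toFinset] at hz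
      obtain ⟨t, -, rfl⟩ := hz
      exact isClosed_closure)
    (by rw [Set.Finite.coe_toFinset]; exact hcov)
  rw [Set.Finite.mem_toFinset] at hz
  obtain ⟨t, ht, rfl⟩ := hz
  obtain ⟨ξ, hξ⟩ := QuasiSober.sober (hirr t ht) (hcl t ht)
  refine ⟨f ξ, ?_⟩
  have ht_sub : t ⊆ f ⁻¹' T := by
    rw [hU]
    exact Set.subset_sUnion_of_mem ht
  have hξt : ξ ∈ t := hξ.mem
  apply Set.Subset.antisymm
  · exact hTc.closure_subset_iff.mpr (Set.singleton_subset_iff.mpr (ht_sub hξt))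
  · refine hTz.trans ?_
    apply closure_minimal _ isClosed_closure
    rintro _ ⟨x, hx, rfl⟩
    have h1 : x ∈ closure ({ξ} : Set X) := by
      rw [hξ.def]
      exact hx
    have h2 := image_closure_subset_closure_image hf ⟨x, h1, rfl⟩
    simpa using h2

variable {S : Scheme.{u}} {𝒳 : AlgSt.Cat S}

/-- `S13020`. -/
theorem noetherianSpace_points (h𝒳 : AlgSt.IsAlgStack Scheme.fppfPrecoverage 𝒳)
    (hqc : AlgSt.IsQuasiCompact 𝒳) (hN : AlgSt.SmoothLocally (fun T ↦ IsLocallyNoetherian T) 𝒳) :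
    NoetherianSpace (AlgSt.Points 𝒳) := by
  obtain ⟨U, x, hU, hx1, hx2⟩ := hqc
  have : IsAffine U.left := hU
  have : IsLocallyNoetherian U.left := hN U x hx1
  have : IsNoetherian U.left := {}
  exact noetherianSpace_of_surjective (AlgSt.Points.ofChart x) (continuous_ofChart h𝒳.atlas x)
    (surjective_ofChart h𝒳.isStack.1 x hx2)

/-- Around every point of a locally Noetherian algebraic stack there is a smooth chart from a Noetherian affine scheme. -/
theorem exists_noetherian_affine_chart (h𝒳 : AlgSt.IsAlgStack Scheme.fppfPrecoverage 𝒳)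
    (hN : AlgSt.SmoothLocally (fun T ↦ IsLocallyNoetherian T) 𝒳) (ξ : AlgSt.Points 𝒳) :
    ∃ (V : Over S) (c : FibCat.overCat V ⥤ᵇ 𝒳), IsAffine V.left ∧ IsNoetherian V.left ∧
      AlgSt.RepByAlgSpWith (AlgSp.LocP @Smooth) c ∧ ξ ∈ Set.range (AlgSt.Points.ofChart c) := by
  obtain ⟨U, c, hc1, hc2⟩ := h𝒳.atlas
  obtain ⟨u, rfl⟩ := surjective_ofChart h𝒳.isStack.1 c hc2 ξ
  obtain ⟨U', hU', huU', -⟩ :=
    (Opens.isBasis_iff_nbhd.mp (Scheme.isBasis_affineOpens U.left)) (Opens.mem_top u)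
  let U'' : U.left.Opens := U'
  let V₀ : Over S := Over.mk (U''.ι ≫ U.hom)
  let j : V₀ ⟶ U := Over.homMk U''.ι rfl
  have hj : Smooth j.left := (inferInstance : Smooth U''.ι)
  have hc' := repByAlgSpWith_smooth_overMap_comp j hj c hc1
  have hA : IsAffine V₀.left := hU'
  have : IsLocallyNoetherian V₀.left := hN V₀ _ hc'
  have hNo : IsNoetherian V₀.left := {}
  refine ⟨V₀, BasedFunctor.comp (AlgSt.overMap j) c, hA, hNo, hc', ⟨⟨u, huU'⟩, ?_⟩⟩
  rw [ofChart_overMap]
  rfl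

/-- `S13019`. -/
theorem exists_noetherianSpace_nhd (h𝒳 : AlgSt.IsAlgStack Scheme.fppfPrecoverage 𝒳)
    (hN : AlgSt.SmoothLocally (fun T ↦ IsLocallyNoetherian T) 𝒳) (ξ : AlgSt.Points 𝒳) :
    ∃ W : Set (AlgSt.Points 𝒳), IsOpen W ∧ ξ ∈ W ∧ NoetherianSpace W := by
  obtain ⟨V, c, -, hNo, hc, hξ⟩ := exists_noetherian_affine_chart h𝒳 hN ξ
  have hfl : AlgSt.RepByAlgSpWith (AlgSp.LocP @Flat) c :=
    repByAlgSpWith_locP_mono (fun _ _ k hk => smooth_flat k hk) hc
  have hfp : AlgSt.RepByAlgSpWith (AlgSp.LocP @LocallyOfFinitePresentation) c :=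
    repByAlgSpWith_locP_mono (fun _ _ k hk => smooth_lofp k hk) hc
  exact ⟨Set.range (AlgSt.Points.ofChart c), (isOpenMap_ofChart h𝒳.isStack.1 c hfl hfp).isOpen_range, hξ,
    NoetherianSpace.range _ (continuous_ofChart h𝒳.atlas c)⟩

/-- `S13021`. -/
theorem quasiSober_points (h𝒳 : AlgSt.IsAlgStack Scheme.fppfPrecoverage 𝒳)
    (hN : AlgSt.SmoothLocally (fun T ↦ IsLocallyNoetherian T) 𝒳) : QuasiSober (AlgSt.Points 𝒳) := by
  let 𝒲 : Set (Set (AlgSt.Points 𝒳)) := {W | IsOpen W ∧ QuasiSober W}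
  have h1 : ∀ s : 𝒲, IsOpen (s : Set (AlgSt.Points 𝒳)) := fun s => s.2.1
  have h2 : ∀ s : 𝒲, QuasiSober s := fun s => s.2.2
  refine quasiSober_of_open_cover 𝒲 h1 ?_
  rw [Set.top_eq_univ, Set.eq_univ_iff_forall]
  intro ξ
  obtain ⟨V, c, -, hNo, hc, hξ⟩ := exists_noetherian_affine_chart h𝒳 hN ξ
  have hfl : AlgSt.RepByAlgSpWith (AlgSp.LocP @Flat) c :=
    repByAlgSpWith_locP_mono (fun _ _ k hk => smooth_flat k hk) hc
  have hfp : AlgSt.RepByAlgSpWith (AlgSp.LocP @LocallyOfFinitePresentation) c :=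
    repByAlgSpWith_locP_mono (fun _ _ k hk => smooth_lofp k hk) hc
  refine ⟨Set.range (AlgSt.Points.ofChart c), ⟨(isOpenMap_ofChart h𝒳.isStack.1 c hfl hfp).isOpen_range, ?_⟩, hξ⟩
  exact quasiSober_of_surjective (Set.rangeFactorization (AlgSt.Points.ofChart c))
    ((continuous_ofChart h𝒳.atlas c).subtype_mk _) Set.rangeFactorization_surjective

end Groth.Agent.Lib.Helper80
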