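import Groth.Agent.Lib.Helper80.AlgStClosedSub
import Groth.Agent.Lib.Helper80.AlgStPts10
import Groth.Agent.Lib.Helper80.AlgStAtlas2
import Groth.Agent.Lib.Helper43.StkFullSub
import Mathlib.AlgebraicGeometry.Morphisms.IsIso

/-!
# Open substacks and open subsets of the space of points (helper80)
-/

set_option autoImplicit false
set_option backward.isDefEq.respectTransparency false

universe u

open CategoryTheory CategoryTheory.Functor CategoryTheory.Limits AlgebraicGeometry Opposite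

namespace Groth.Agent.Lib.Helper80

open BasedFunctor Groth.Agent.Lib.Helper43.FPtRel Groth.Agent.Lib.Helper43.GerbComp

variable {S : Scheme.{u}} {𝒳 𝒴 : AlgSt.Cat S}

/-- Membership in a substack can be tested on the smooth charts of the source. -/
theorem forall_sub_of_charts (h𝒳 : AlgSt.IsAlgStack Scheme.fppfPrecoverage 𝒳)
    (h𝒴 : AlgSt.IsAlgStack Scheme.fppfPrecoverage 𝒴) (Q : 𝒳.obj → Prop)
    (hQi : ObjectProperty.IsClosedUnderIsomorphisms Q)
    (hQs : Stk.IsStack (QuotSh.J Scheme.fppfPrecoverage S) (AlgSt.fullSub 𝒳 Q)) (f : 𝒴 ⥤ᵇ 𝒳)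
    (hch : ∀ (U : Over S) (u : FibCat.overCat U ⥤ᵇ 𝒴), AlgSt.RepByAlgSpWith (AlgSp.LocP @Smooth) u →
      Q ((BasedFunctor.comp u f).obj (Over.mk (𝟙 U)))) (y : 𝒴.obj) : Q (f.obj y) := by
  have gX := h𝒳.isStack.1
  have gY := h𝒴.isStack.1
  have gQ := hQs.1
  have := IsFibGrpd.isFibered 𝒴.p gY
  let T : Over S := 𝒴.p.obj y
  let y' : FibCat.overCat T ⥤ᵇ 𝒴 := yonedaFunctor y (rfl : 𝒴.p.obj y = T)
  obtain ⟨U, u, hu1, hu2⟩ := h𝒴.atlas
  have hQU : Q ((BasedFunctor.comp u f).obj (Over.mk (𝟙 U))) := hch U u hu1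
  obtain ⟨R, hR, hlift⟩ := exists_sieve_hom_of_atlas u hu1 hu2 y'
  have key : Q ((BasedFunctor.comp y' f).obj (Over.mk (𝟙 T))) := by
    apply sub_of_sieve _ Q hQi h𝒳.isStack hQs R hR (BasedFunctor.comp y' f)
    intro a
    obtain ⟨w, ⟨ν⟩⟩ := hlift a.obj.hom a.property
    have hw : Q (f.obj (u.obj w)) := sub_of_hom Q hQi gX gQ ((BasedFunctor.comp u f).map (toId U w)) hQU
    exact sub_of_hom Q hQi gX gQ (f.map ν) hw
  let pm : y'.obj (Over.mk (𝟙 T)) ⟶ y := IsPreFibered.pullbackMap (rfl : 𝒴.p.obj y = T) (𝟙 T)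
  have hpm : 𝒴.p.IsHomLift (𝟙 T) pm := inferInstance
  have : IsIso pm := IsFibGrpd.isIso_of_base_isIso 𝒴.p gY (𝟙 T) pm
  exact sub_of_hom Q hQi gX gQ (f.map (inv pm)) key

/-- A chart whose points land in a substack with inclusion of type `P` factors through it, when surjective morphisms
of type `P` to the chart are isomorphisms. -/
theorem sub_of_chart_of_isIso (h𝒳 : AlgSt.IsAlgStack Scheme.fppfPrecoverage 𝒳) (Q : 𝒳.obj → Prop)
    (hQi : ObjectProperty.IsClosedUnderIsomorphisms Q)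
    (hQalg : AlgSt.IsAlgStack Scheme.fppfPrecoverage (AlgSt.fullSub 𝒳 Q))
    (P : MorphismProperty Scheme.{u})
    (hQcl : AlgSt.RepByAlgSpWith (AlgSp.RepWith P) (AlgSt.subIncl 𝒳 Q))
    {U : Over S} (x : FibCat.overCat U ⥤ᵇ 𝒳)
    (hx : Set.range (AlgSt.Points.map x) ⊆ Set.range (AlgSt.Points.map (AlgSt.subIncl 𝒳 Q)))
    (hPiso : ∀ {V : Over S} (g : V ⟶ U), P g.left → Surjective g.left → IsIso g.left) :
    Q (x.obj (Over.mk (𝟙 U))) := by
  have gX := h𝒳.isStack.1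
  have gQ := hQalg.isStack.1
  obtain ⟨F, e, he, hcl⟩ := hQcl U x
  let Φ := BasedFunctor.comp e (FibCat.fpFst x (AlgSt.subIncl 𝒳 Q))
  have hsurj : AlgSp.IsSurjectiveMor (AlgSt.spMapOfOver Φ) := by
    apply isSurjectiveMor_spMapOfOver_of_surjective
    intro ζ
    obtain ⟨ξ, hξ⟩ := hx ⟨ζ, rfl⟩
    obtain ⟨w, hw1, -⟩ := exists_point_fp gQ gX (overCat_isFibGrpd U) (AlgSt.subIncl 𝒳 Q) x ζ ξ hξ.symm
    obtain ⟨w', rfl⟩ := points_map_surjective_of_isEquivOver e he w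
    exact ⟨w', by rw [points_map_comp]; exact hw1⟩
  have hrep : AlgSp.Representable (AlgSt.spMapOfOver Φ) := hcl.1
  have sq := hrep.isPullback (𝟙 ((AlgSp.yon S).obj U))
  have hci : P (hrep.snd (𝟙 ((AlgSp.yon S).obj U))).left := hcl.2 _ _ _ sq
  have hfst : IsIso (hrep.fst (𝟙 ((AlgSp.yon S).obj U))) := sq.isIso_fst_of_isIso
  have h1 : AlgSp.IsSurjectiveMor ((AlgSp.yon S).map (hrep.snd (𝟙 ((AlgSp.yon S).obj U)))) :=
    isSurjectiveMor_baseChange sq hsurj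
  have h2 : AlgSp.RepWith @Surjective ((AlgSp.yon S).map (hrep.snd (𝟙 ((AlgSp.yon S).obj U)))) :=
    Groth.Agent.Lib.Helper51.repWith_surjective_of_surjective_map (AlgSp.representable_yon_map _) h1
  have hsj : Surjective (hrep.snd (𝟙 ((AlgSp.yon S).obj U))).left := (AlgSp.repWith_yon_map_iff _ _).mp h2
  have hiso : IsIso (hrep.snd (𝟙 ((AlgSp.yon S).obj U))).left := hPiso _ hci hsj
  have hiso' : IsIso ((Over.forget S).map (hrep.snd (𝟙 ((AlgSp.yon S).obj U)))) := hiso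
  have hsnd : IsIso (hrep.snd (𝟙 ((AlgSp.yon S).obj U))) := isIso_of_reflects_iso _ (Over.forget S)
  let σ : (AlgSp.yon S).obj U ⟶ F.obj :=
    (AlgSp.yon S).map (inv (hrep.snd (𝟙 ((AlgSp.yon S).obj U)))) ≫ hrep.fst (𝟙 ((AlgSp.yon S).obj U))
  have hσ : σ ≫ AlgSt.spMapOfOver Φ = (AlgSp.yon S).map (𝟙 U) := by
    change ((AlgSp.yon S).map _ ≫ _) ≫ _ = _
    rw [Category.assoc, sq.w, Category.comp_id, ← Functor.map_comp, IsIso.inv_hom_id]
  let G : FibCat.overCat U ⥤ᵇ FibCat.overCat U := BasedFunctor.comp (ptFun σ.hom) Φ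
  have hclG : overClassify G = 𝟙 U := by
    apply (AlgSp.yon S).map_injective
    rw [← hσ]
    exact yon_map_overClassify σ Φ
  let O : (FibCat.fp x (AlgSt.subIncl 𝒳 Q)).obj := e.obj ((ptFun σ.hom).obj (Over.mk (𝟙 U)))
  have h3 := overClassify_spec G (Over.mk (𝟙 U))
  rw [hclG] at h3
  let μ : Over.mk (𝟙 U) ⟶ O.obj.fst := Over.homMk (eqToHom (G.w_obj (Over.mk (𝟙 U))).symm) (by
    change eqToHom _ ≫ (G.obj (Over.mk (𝟙 U))).hom = 𝟙 U
    rw [h3]
    simp)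
  have hQ0 : Q (x.obj O.obj.fst) := hQi.of_iso O.obj.iso.symm O.obj.snd.property
  exact sub_of_hom Q hQi gX gQ (x.map μ) hQ0

/-- A morphism of algebraic stacks factors through an open substack iff it does so on points. -/
theorem forall_openSub_iff_points (h𝒳 : AlgSt.IsAlgStack Scheme.fppfPrecoverage 𝒳)
    (h𝒴 : AlgSt.IsAlgStack Scheme.fppfPrecoverage 𝒴)
    (Q : 𝒳.obj → Prop) (hQ : AlgSt.IsOpenSubstack 𝒳 Q Scheme.fppfPrecoverage) (f : 𝒴 ⥤ᵇ 𝒳) :
    (∀ y : 𝒴.obj, Q (f.obj y)) ↔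
      Set.range (AlgSt.Points.map f) ⊆ Set.range (AlgSt.Points.map (AlgSt.subIncl 𝒳 Q)) := by
  constructor
  · rintro h _ ⟨w, rfl⟩
    obtain ⟨p, rfl⟩ := AlgSt.Points.mk_surjective w
    let p' : AlgSt.FPt (AlgSt.fullSub 𝒳 Q) :=
      { K := p.K, str := p.str, obj := ⟨f.obj p.obj, h p.obj⟩, lies := (p.map f).lies }
    exact ⟨AlgSt.Points.mk p', rfl⟩
  · intro hsub
    obtain ⟨hQi, hQalg, hQcl⟩ := hQ
    apply forall_sub_of_charts h𝒳 h𝒴 Q hQi hQalg.isStack f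
    intro U u _
    apply sub_of_chart_of_isIso h𝒳 Q hQi hQalg @IsOpenImmersion hQcl (BasedFunctor.comp u f)
    · rw [points_map_comp]
      exact (Set.range_comp_subset_range _ _).trans hsub
    · intro V g h1 h2
      exact (isIso_iff_isOpenImmersion_and_surjective g.left).mpr ⟨h1, h2⟩

/-- The objects all of whose field-valued points lie in `T`. -/
def ptsIn (T : Set (AlgSt.Points 𝒳)) : 𝒳.obj → Prop :=
  fun y => ∀ p : AlgSt.FPt 𝒳, Nonempty (p.obj ⟶ y) → AlgSt.Points.mk p ∈ T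

theorem ptsIn_of_hom (T : Set (AlgSt.Points 𝒳)) {y' y : 𝒳.obj} (m : y' ⟶ y) (h : ptsIn T y) : ptsIn T y' :=
  fun p ⟨a⟩ => h p ⟨a ≫ m⟩

theorem ptsIn_isClosedUnderIsomorphisms (T : Set (AlgSt.Points 𝒳)) :
    ObjectProperty.IsClosedUnderIsomorphisms (ptsIn T) :=
  ⟨fun e h => ptsIn_of_hom T e.inv h⟩

theorem range_subIncl_ptsIn (T : Set (AlgSt.Points 𝒳)) :
    Set.range (AlgSt.Points.map (AlgSt.subIncl 𝒳 (ptsIn T))) = T := by
  ext ξ
  constructor
  · rintro ⟨w, rfl⟩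
    obtain ⟨p', rfl⟩ := AlgSt.Points.mk_surjective w
    exact p'.obj.property (p'.map (AlgSt.subIncl 𝒳 (ptsIn T))) ⟨𝟙 _⟩
  · intro hξ
    obtain ⟨p, rfl⟩ := AlgSt.Points.mk_surjective ξ
    have hQ : ptsIn T p.obj := fun p₂ ⟨a⟩ => by
      rw [points_mk_eq_of_hom (p := p₂) (q := p) a]
      exact hξ
    let p' : AlgSt.FPt (AlgSt.fullSub 𝒳 (ptsIn T)) :=
      { K := p.K, str := p.str, obj := ⟨p.obj, hQ⟩, lies := p.lies }
    exact ⟨AlgSt.Points.mk p', rfl⟩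

theorem fullSub_ptsIn_isFibGrpd (gX : FibCat.IsFibGrpd 𝒳.p) (T : Set (AlgSt.Points 𝒳)) :
    FibCat.IsFibGrpd (AlgSt.fullSub 𝒳 (ptsIn T)).p :=
  Groth.Agent.Lib.Helper43.StkFullSub.isFibGrpd_sub (ptsIn T) gX
    (fun y _ m hx => ⟨y, Iso.refl y, ptsIn_of_hom T m hx, IsHomLift.id rfl⟩)

/-- Membership of `y.obj w` in `ptsIn T`, read on the points of the source of `w`. -/
theorem ptsIn_chart_iff (gX : FibCat.IsFibGrpd 𝒳.p) (T : Set (AlgSt.Points 𝒳)) {V : Over S}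
    (y : FibCat.overCat V ⥤ᵇ 𝒳) (w : Over V) :
    ptsIn T (y.obj w) ↔ ∀ t : ↥w.left.left, AlgSt.Points.ofChart y (w.hom.left t) ∈ T := by
  constructor
  · intro h t
    rw [← ofChart_overMap w.hom y t]
    let c : Over w.left := (chartPt w.left t).obj
    let k : (AlgSt.overMap w.hom).obj c ⟶ w := Over.homMk c.hom rfl
    exact h _ ⟨y.map k⟩
  · intro h p ⟨a⟩
    let b : Over.mk p.str ⟶ w.left := eqToHom p.lies.symm ≫ 𝒳.p.map a ≫ eqToHom (y.w_obj w)
    have hb : 𝒳.p.IsHomLift b a := IsHomLift.of_fac 𝒳.p b a p.lies (y.w_obj w) rfl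
    let o : Over V := Over.mk (b ≫ w.hom)
    let k : o ⟶ w := Over.homMk b rfl
    let p' : AlgSt.FPt (FibCat.overCat V) := { K := p.K, str := p.str, obj := o, lies := rfl }
    have hk : 𝒳.p.IsHomLift b (y.map k) := map_isHomLift_left y k
    obtain ⟨χ, -, -⟩ := exists_factor_id 𝒳.p gX b (y.map k) a
    have e1 : AlgSt.Points.mk p = AlgSt.Points.map y (AlgSt.Points.mk p') :=
      points_mk_eq_of_hom (p := p) (q := p'.map y) χ
    rw [e1, mk_eq_mk_chartPt p', ← ofChart_eq_map_chartPt]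
    exact h _

section OpenImm

variable (gX : FibCat.IsFibGrpd 𝒳.p) (T : Set (AlgSt.Points 𝒳)) {V : Over S} (y : FibCat.overCat V ⥤ᵇ 𝒳)
  (V' : V.left.Opens) (hV' : ∀ t : ↥V.left, t ∈ V' ↔ AlgSt.Points.ofChart y t ∈ T)

/-- The open subscheme as a scheme over `S`. -/
abbrev opOver : Over S := Over.mk (V'.ι ≫ V.hom)

/-- The inclusion of the open subscheme, over `S`. -/
abbrev opHom : opOver V' ⟶ V := Over.homMk V'.ι rfl

include gX hV' in
theorem ptsIn_overMap_opHom (v' : Over (opOver V')) :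
    ptsIn T (y.obj ((AlgSt.overMap (opHom V')).obj v')) := by
  rw [ptsIn_chart_iff gX]
  intro t
  rw [← hV']
  change V'.ι (v'.hom.left t) ∈ V'
  have h1 : V'.ι (v'.hom.left t) ∈ Set.range V'.ι := ⟨_, rfl⟩
  rw [Scheme.Opens.range_ι] at h1
  exact h1

/-- The restriction of `y` to the open subscheme, as a functor to the full subcategory. -/
def opLift : FibCat.overCat (opOver V') ⥤ᵇ AlgSt.fullSub 𝒳 (ptsIn T) where
  toFunctor := ObjectProperty.lift (ptsIn T) (BasedFunctor.comp (AlgSt.overMap (opHom V')) y).toFunctor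
    (ptsIn_overMap_opHom gX T y V' hV')
  w := (BasedFunctor.comp (AlgSt.overMap (opHom V')) y).w

/-- The comparison functor from the open subscheme to the 2-fibre product. -/
def opFun : FibCat.overCat (opOver V') ⥤ᵇ FibCat.fp y (AlgSt.subIncl 𝒳 (ptsIn T)) :=
  FibCat.fpLift (AlgSt.overMap (opHom V')) (opLift gX T y V' hV')
    (BasedNatIso.id _ : BasedFunctor.comp (AlgSt.overMap (opHom V')) y ≅
      BasedFunctor.comp (opLift gX T y V' hV') (AlgSt.subIncl 𝒳 (ptsIn T)))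

theorem opHom_mono : Mono (opHom V') := by
  have : Mono ((Over.forget S).map (opHom V')) := (inferInstance : Mono V'.ι)
  exact (Over.forget S).mono_of_mono_map this

theorem opFun_faithful : (opFun gX T y V' hV').toFunctor.Faithful := by
  refine ⟨fun {a b} m m' h => ?_⟩
  have h1 : ((opFun gX T y V' hV').map m).hom.fst.left = ((opFun gX T y V' hV').map m').hom.fst.left :=
    congrArg (fun φ => φ.hom.fst.left) h
  exact Over.OverMorphism.ext h1

theorem opFun_full : (opFun gX T y V' hV').toFunctor.Full := by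
  refine ⟨fun {a b} φ => ?_⟩
  have hmono := opHom_mono V'
  let m : a ⟶ b := Over.homMk φ.hom.fst.left (by
    rw [← cancel_mono (opHom V')]
    have h1 := Over.w φ.hom.fst
    exact h1)
  refine ⟨m, ?_⟩
  apply ObjectProperty.hom_ext
  apply CategoricalPullback.hom_ext
  · exact Over.OverMorphism.ext rfl
  · apply ObjectProperty.hom_ext
    have hw := φ.hom.w
    change y.map φ.hom.fst ≫ 𝟙 _ = 𝟙 _ ≫ φ.hom.snd.hom at hw
    rw [Category.comp_id, Category.id_comp] at hw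
    change y.map ((AlgSt.overMap (opHom V')).map m) = φ.hom.snd.hom
    rw [← hw]
    congr 1

include hV' in
theorem opFun_essSurj (O : (FibCat.fp y (AlgSt.subIncl 𝒳 (ptsIn T))).obj) :
    ∃ (x : Over (opOver V')) (θ : (opFun gX T y V' hV').obj x ≅ O),
      (FibCat.fp y (AlgSt.subIncl 𝒳 (ptsIn T))).p.IsHomLift
        (𝟙 ((FibCat.fp y (AlgSt.subIncl 𝒳 (ptsIn T))).p.obj O)) θ.hom := by
  let v : Over V := O.obj.fst
  have hQv : ptsIn T (y.obj v) := ptsIn_of_hom T O.obj.iso.hom O.obj.snd.property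
  have hpts := (ptsIn_chart_iff gX T y v).mp hQv
  have hrange : Set.range v.hom.left ⊆ Set.range V'.ι := by
    rintro _ ⟨t, rfl⟩
    rw [Scheme.Opens.range_ι]
    exact (hV' _).mpr (hpts t)
  let ℓ : v.left.left ⟶ ↑V' := IsOpenImmersion.lift V'.ι v.hom.left hrange
  have hℓ : ℓ ≫ V'.ι = v.hom.left := IsOpenImmersion.lift_fac _ _ _
  let ℓ' : v.left ⟶ opOver V' := Over.homMk ℓ (by
    change ℓ ≫ V'.ι ≫ V.hom = v.left.hom
    rw [← Category.assoc, hℓ]
    exact Over.w v.hom)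
  have hℓ' : ℓ' ≫ opHom V' = v.hom := Over.OverMorphism.ext hℓ
  let x : Over (opOver V') := Over.mk ℓ'
  let i₁ : (AlgSt.overMap (opHom V')).obj x ⟶ v := Over.homMk (𝟙 v.left) (by
    change 𝟙 _ ≫ v.hom = ℓ' ≫ opHom V'
    rw [hℓ', Category.id_comp])
  let θh : (opFun gX T y V' hV').obj x ⟶ O :=
    ObjectProperty.homMk ⟨i₁, ObjectProperty.homMk (y.map i₁ ≫ O.obj.iso.hom), by
      change y.map i₁ ≫ O.obj.iso.hom = 𝟙 _ ≫ (y.map i₁ ≫ O.obj.iso.hom)
      rw [Category.id_comp]⟩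
  have gfp := fp_isFibGrpd y (AlgSt.subIncl 𝒳 (ptsIn T)) (overCat_isFibGrpd V)
    (fullSub_ptsIn_isFibGrpd gX T) gX
  have hlift : (FibCat.fp y (AlgSt.subIncl 𝒳 (ptsIn T))).p.IsHomLift (𝟙 v.left) θh :=
    IsHomLift.of_fac _ (𝟙 v.left) θh rfl rfl (by simp; rfl)
  have : IsIso θh := IsFibGrpd.isIso_of_base_isIso _ gfp (𝟙 v.left) θh
  exact ⟨x, asIso θh, hlift⟩

include hV' in
theorem opFun_isEquivOver : FibCat.IsEquivOver (opFun gX T y V' hV') :=
  IsFFEssSurjOver.isEquivOver ⟨opFun_full gX T y V' hV', opFun_faithful gX T y V' hV',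
    opFun_essSurj gX T y V' hV'⟩

end OpenImm

/-- For an open subset `T` of the points of an algebraic stack, the inclusion of `ptsIn T` is an open immersion. -/
theorem isOpenImm_subIncl_ptsIn (h𝒳 : AlgSt.IsAlgStack Scheme.fppfPrecoverage 𝒳)
    (T : Set (AlgSt.Points 𝒳)) (hT : IsOpen T) : AlgSt.IsOpenImm (AlgSt.subIncl 𝒳 (ptsIn T)) := by
  intro V y
  have gX := h𝒳.isStack.1
  let V' : V.left.Opens :=
    ⟨AlgSt.Points.ofChart y ⁻¹' T, (continuous_ofChart h𝒳.atlas y).isOpen_preimage T hT⟩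
  have hV' : ∀ t : ↥V.left, t ∈ V' ↔ AlgSt.Points.ofChart y t ∈ T := fun t => Iff.rfl
  refine ⟨⟨(AlgSp.yon S).obj (opOver V'), AlgSp.IsAlgSpace.yon_obj _⟩,
    BasedFunctor.comp (AlgSt.toOverCat (opOver V')) (opFun gX T y V' hV'), ?_, ?_⟩
  · exact IsEquivOver.comp (toOverCat_isEquivOver _) (opFun_isEquivOver gX T y V' hV')
  · have h1 : AlgSt.spMapOfOver (BasedFunctor.comp
        (BasedFunctor.comp (AlgSt.toOverCat (opOver V')) (opFun gX T y V' hV'))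
        (FibCat.fpFst y (AlgSt.subIncl 𝒳 (ptsIn T)))) = (AlgSp.yon S).map (opHom V') := by
      rw [← spMapOfOver_toOverCat_overMap (opHom V')]
      exact spMapOfOver_eq_of_iso (BasedNatIso.id _ : BasedFunctor.comp
        (BasedFunctor.comp (AlgSt.toOverCat (opOver V')) (opFun gX T y V' hV'))
        (FibCat.fpFst y (AlgSt.subIncl 𝒳 (ptsIn T))) ≅
        BasedFunctor.comp (AlgSt.toOverCat (opOver V')) (AlgSt.overMap (opHom V')))
    rw [h1]
    exact (AlgSp.repWith_yon_map_iff _ _).mpr (inferInstance : IsOpenImmersion V'.ι)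

/-- For an open subset `T` of the points of an algebraic stack, `ptsIn T` is an open substack with points `T`. -/
theorem isOpenSubstack_ptsIn (h𝒳 : AlgSt.IsAlgStack Scheme.fppfPrecoverage 𝒳)
    (T : Set (AlgSt.Points 𝒳)) (hT : IsOpen T) :
    AlgSt.IsOpenSubstack 𝒳 (ptsIn T) Scheme.fppfPrecoverage := by
  have hoi := isOpenImm_subIncl_ptsIn h𝒳 T hT
  refine ⟨ptsIn_isClosedUnderIsomorphisms T, ?_, hoi⟩
  exact isAlgStack_of_repByAlgSp1 (fullSub_ptsIn_isFibGrpd h𝒳.isStack.1 T) h𝒳 (AlgSt.subIncl 𝒳 (ptsIn T))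
    (fun U y => by
      obtain ⟨F, e, he, -⟩ := hoi U y
      exact ⟨F, e, he⟩)

/-- `S12859`. -/
theorem isOpenSubstack_bijOn (h𝒳 : AlgSt.IsAlgStack Scheme.fppfPrecoverage 𝒳) :
    Set.BijOn (fun Q : 𝒳.obj → Prop => Set.range (AlgSt.Points.map (AlgSt.subIncl 𝒳 Q)))
        {Q | AlgSt.IsOpenSubstack 𝒳 Q Scheme.fppfPrecoverage} {T | IsOpen T} ∧
      ∀ (Q Q' : 𝒳.obj → Prop), AlgSt.IsOpenSubstack 𝒳 Q Scheme.fppfPrecoverage →
        AlgSt.IsOpenSubstack 𝒳 Q' Scheme.fppfPrecoverage →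
        ((∀ y, Q y → Q' y) ↔ Set.range (AlgSt.Points.map (AlgSt.subIncl 𝒳 Q)) ⊆
          Set.range (AlgSt.Points.map (AlgSt.subIncl 𝒳 Q'))) := by
  have key : ∀ (Q Q' : 𝒳.obj → Prop), AlgSt.IsOpenSubstack 𝒳 Q Scheme.fppfPrecoverage →
      AlgSt.IsOpenSubstack 𝒳 Q' Scheme.fppfPrecoverage →
      ((∀ y, Q y → Q' y) ↔ Set.range (AlgSt.Points.map (AlgSt.subIncl 𝒳 Q)) ⊆
        Set.range (AlgSt.Points.map (AlgSt.subIncl 𝒳 Q'))) := by
    intro Q Q' hQ hQ'
    rw [← forall_openSub_iff_points h𝒳 hQ.2.1 Q' hQ' (AlgSt.subIncl 𝒳 Q)]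
    constructor
    · intro h a
      exact h a.obj a.property
    · intro h y hy
      exact h ⟨y, hy⟩
  refine ⟨⟨?_, ?_, ?_⟩, key⟩
  · intro Q hQ
    exact isOpen_range_points_map_of_isOpenImm h𝒳.isStack.1 hQ.2.1.isStack.1 hQ.2.1.atlas _ hQ.2.2
  · intro Q hQ Q' hQ' heq
    have heq' : Set.range (AlgSt.Points.map (AlgSt.subIncl 𝒳 Q)) =
        Set.range (AlgSt.Points.map (AlgSt.subIncl 𝒳 Q')) := heq
    funext y
    apply propext
    exact ⟨(key Q Q' hQ hQ').mpr heq'.le y, (key Q' Q hQ' hQ).mpr heq'.ge y⟩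
  · intro T hT
    exact ⟨ptsIn T, isOpenSubstack_ptsIn h𝒳 T hT, range_subIncl_ptsIn T⟩

end Groth.Agent.Lib.Helper80
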