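import Groth.Agent.Lib.Helper80.AlgStOpenSub
import Groth.Agent.Lib.Helper80.AlgStCancel
import Groth.Agent.Lib.Helper80.AlgStSpPts
import Groth.Agent.Lib.Helper78.AlgSpLocP5
import Groth.Agent.Lib.Helper78.AlgSpLocPSmooth
import Groth.Agent.Lib.Helper80.AlgStStack
import Mathlib.AlgebraicGeometry.Morphisms.Etale

/-!
# The open substack swept out by an open part of an atlas (helper80)
-/

set_option autoImplicit false
set_option backward.isDefEq.respectTransparency false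

universe u

open CategoryTheory CategoryTheory.Functor CategoryTheory.Limits AlgebraicGeometry Opposite

namespace Groth.Agent.Lib.Helper80

open BasedFunctor Groth.Agent.Lib.Helper43.FPtRel Groth.Agent.Lib.Helper43.GerbComp

variable {S : Scheme.{u}} {𝒳 𝒜 : AlgSt.Cat S}

/-- The field-valued points of an object in the image of `f` lie in the image of `|f|`. -/
theorem ptsIn_range_map (gA : FibCat.IsFibGrpd 𝒜.p) (gX : FibCat.IsFibGrpd 𝒳.p) (f : 𝒜 ⥤ᵇ 𝒳) (a : 𝒜.obj) :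
    ptsIn (Set.range (AlgSt.Points.map f)) (f.obj a) := by
  intro p ⟨m⟩
  let b : Over.mk p.str ⟶ 𝒜.p.obj a := eqToHom p.lies.symm ≫ 𝒳.p.map m ≫ eqToHom (f.w_obj a)
  have hb : 𝒳.p.IsHomLift b m := IsHomLift.of_fac 𝒳.p b m p.lies (f.w_obj a) rfl
  obtain ⟨a', ψ, hψ⟩ := exists_lift' 𝒜.p gA (rfl : 𝒜.p.obj a = 𝒜.p.obj a) b
  have h1 : 𝒳.p.IsHomLift b (f.map ψ) := inferInstance
  obtain ⟨χ, -, -⟩ := exists_factor_id 𝒳.p gX b (f.map ψ) m
  let p'' : AlgSt.FPt 𝒜 := { K := p.K, str := p.str, obj := a', lies := IsHomLift.domain_eq 𝒜.p b ψ }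
  exact ⟨AlgSt.Points.mk p'', (points_mk_eq_of_hom (p := p) (q := p''.map f) χ).symm⟩

/-- A functor landing in a full subcategory, as a functor to it. -/
def liftSub (f : 𝒜 ⥤ᵇ 𝒳) (Q : 𝒳.obj → Prop) (h : ∀ a, Q (f.obj a)) : 𝒜 ⥤ᵇ AlgSt.fullSub 𝒳 Q where
  toFunctor := ObjectProperty.lift Q f.toFunctor h
  w := f.w

theorem isSurjective_liftSub_range (gA : FibCat.IsFibGrpd 𝒜.p) (gX : FibCat.IsFibGrpd 𝒳.p) (f : 𝒜 ⥤ᵇ 𝒳) :
    AlgSt.IsSurjective (liftSub f (ptsIn (Set.range (AlgSt.Points.map f))) (ptsIn_range_map gA gX f)) := by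
  intro w
  obtain ⟨q, rfl⟩ := AlgSt.Points.mk_surjective w
  have hq : AlgSt.Points.mk (q.map (AlgSt.subIncl 𝒳 _)) ∈ Set.range (AlgSt.Points.map f) :=
    q.obj.property (q.map (AlgSt.subIncl 𝒳 _)) ⟨𝟙 _⟩
  obtain ⟨v, hv⟩ := hq
  obtain ⟨r, rfl⟩ := AlgSt.Points.mk_surjective v
  rw [AlgSt.Points.map_mk] at hv
  obtain ⟨s, m1, m2, -⟩ := (points_mk_eq_iff gX _ _).mp hv
  let s' : AlgSt.FPt (AlgSt.fullSub 𝒳 (ptsIn (Set.range (AlgSt.Points.map f)))) :=
    { K := s.K, str := s.str, obj := ⟨s.obj, ptsIn_of_hom _ m2 q.obj.property⟩, lies := s.lies }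
  refine ⟨AlgSt.Points.mk r, ?_⟩
  rw [AlgSt.Points.map_mk]
  have e1 : AlgSt.Points.mk s' = AlgSt.Points.mk (r.map (liftSub f _ (ptsIn_range_map gA gX f))) :=
    points_mk_eq_of_hom (p := s') (q := r.map (liftSub f _ (ptsIn_range_map gA gX f))) (ObjectProperty.homMk m1)
  have e2 : AlgSt.Points.mk s' = AlgSt.Points.mk q :=
    points_mk_eq_of_hom (p := s') (q := q) (ObjectProperty.homMk m2)
  exact e1.symm.trans e2

instance smooth_hasOfPostcomp_etale : MorphismProperty.HasOfPostcompProperty @Smooth @Etale := by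
  rw [MorphismProperty.hasOfPostcompProperty_iff_le_diagonal]
  intro X Y f hf
  have : Etale f := hf
  have : Etale (pullback.diagonal f) := inferInstance
  exact (inferInstance : Smooth (pullback.diagonal f))

/-- `S12860`. -/
theorem exists_open_image (h𝒳 : AlgSt.IsAlgStack Scheme.fppfPrecoverage 𝒳) (U : AlgSp.Space S)
    (u : AlgSt.ofSp U.obj ⥤ᵇ 𝒳)
    (hu₁ : AlgSt.RepByAlgSpWith (AlgSp.LocP @Smooth) u)
    (V : AlgSp.Space S) (j : V ⟶ U) (hj : AlgSp.RepWith @IsOpenImmersion j.hom) :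
    ∃ (𝒴 : AlgSt.Cat S) (i : 𝒴 ⥤ᵇ 𝒳) (g : AlgSt.ofSp V.obj ⥤ᵇ 𝒴),
      AlgSt.IsAlgStack Scheme.fppfPrecoverage 𝒴 ∧ AlgSt.IsOpenImm i ∧
        AlgSt.RepByAlgSpWith (AlgSp.LocP @Smooth) g ∧ AlgSt.RepByAlgSpWith AlgSp.IsSurjectiveMor g ∧
          Nonempty (BasedFunctor.comp g i ≅ BasedFunctor.comp (AlgSt.ofSpMap j.hom) u) := by
  have hsm := Groth.Agent.Lib.Helper78.AlgSpLocPSmooth.etLocalST_smooth
  have gX := h𝒳.isStack.1
  have gV : FibCat.IsFibGrpd (AlgSt.ofSp V.obj).p := (isStack_ofSp V.obj).1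
  have gU : FibCat.IsFibGrpd (AlgSt.ofSp U.obj).p := (isStack_ofSp U.obj).1
  have hjet : AlgSp.RepWith @Etale j.hom :=
    Groth.Agent.Lib.Helper78.AlgSpLargestOpen.repWith_mono' (fun _ _ k hk => by
      have : IsOpenImmersion k := hk
      exact (inferInstance : Etale k)) hj
  have hjs : AlgSt.RepByAlgSpWith (AlgSp.LocP @Smooth) (AlgSt.ofSpMap j.hom) :=
    repByAlgSpWith_ofSpMap _ (locP_baseChange hsm) V.property U.property j.hom
      (locP_of_repWith_etale (fun k hk => by have : Etale k := hk; infer_instance) hjet)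
  let h : AlgSt.ofSp V.obj ⥤ᵇ 𝒳 := BasedFunctor.comp (AlgSt.ofSpMap j.hom) u
  have hhs : AlgSt.RepByAlgSpWith (AlgSp.LocP @Smooth) h :=
    repByAlgSpWith_locP_comp hsm gV gU (AlgSt.ofSpMap j.hom) u hjs hu₁
  have hfl : AlgSt.RepByAlgSpWith (AlgSp.LocP @Flat) h :=
    repByAlgSpWith_locP_mono (fun _ _ k hk => by
      have : Smooth k := hk
      exact (inferInstance : Flat k)) hhs
  have hfp : AlgSt.RepByAlgSpWith (AlgSp.LocP @LocallyOfFinitePresentation) h :=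
    repByAlgSpWith_locP_mono (fun _ _ k hk => by
      have : Smooth k := hk
      exact (inferInstance : LocallyOfFinitePresentation k)) hhs
  have hT : IsOpen (Set.range (AlgSt.Points.map h)) :=
    (isOpenMap_points_map gX gV (hasAtlas_ofSp V.property) h hfl hfp).isOpen_range
  have hQ := isOpenSubstack_ptsIn h𝒳 _ hT
  let g : AlgSt.ofSp V.obj ⥤ᵇ AlgSt.fullSub 𝒳 (ptsIn (Set.range (AlgSt.Points.map h))) :=
    liftSub h _ (ptsIn_range_map gV gX h)
  have hgi : AlgSt.RepByAlgSpWith (AlgSp.LocP @Smooth)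
      (BasedFunctor.comp g (AlgSt.subIncl 𝒳 (ptsIn (Set.range (AlgSt.Points.map h))))) := hhs
  have hgs : AlgSt.RepByAlgSpWith (AlgSp.LocP @Smooth) g :=
    repByAlgSpWith_of_comp_cancel (AlgSp.LocP @Smooth) (AlgSp.RepWith @IsOpenImmersion)
      (locP_baseChange hsm)
      (fun X Y Z hX hY hZ a b hb hab =>
        Groth.Agent.Lib.Helper78.AlgSpLocP.locP_of_comp_cancel' (Q := @Etale) hsm
          (fun u v hv huv => MorphismProperty.of_postcomp (W := @Smooth) (W' := @Etale) u v hv huv)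
          a b hX.atlas hY.atlas hZ.atlas
          (locP_of_repWith_etale (fun k hk => hk)
            (Groth.Agent.Lib.Helper78.AlgSpLargestOpen.repWith_mono' (fun _ _ k hk => by
              have : IsOpenImmersion k := hk
              exact (inferInstance : Etale k)) hb)) hab)
      g _ hQ.2.2 hgi
  have hgtop : AlgSt.RepByAlgSpWith ⊤ g :=
    repByAlgSpWith_of_comp_cancel ⊤ (AlgSp.RepWith @IsOpenImmersion)
      (fun _ _ _ _ _ _ _ _ _ _ _ _ _ _ => trivial) (fun _ _ _ _ _ _ _ _ _ _ => trivial)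
      g _ hQ.2.2 (repByAlgSpWith_congr _ _ (fun _ _ _ _ => trivial) hgi)
  have hrep : AlgSt.RepByAlgSp1 g := (repByAlgSp1_iff_repByAlgSpWith_top g).mpr hgtop
  have hgsurj : AlgSt.RepByAlgSpWith AlgSp.IsSurjectiveMor g :=
    repByAlgSpWith_surjective_of_isSurjective gV hQ.2.1.isStack.1 g hrep
      (isSurjective_liftSub_range gV gX h)
  exact ⟨_, AlgSt.subIncl 𝒳 _, g, hQ.2.1, hQ.2.2, hgs, hgsurj, ⟨BasedNatIso.id _⟩⟩

end Groth.Agent.Lib.Helper80
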