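import Groth.Prelude.Def_AlgSpRep

/-!
# Bootstrap, part 1: a presheaf over a sheaf with sheaf fibres is a sheaf (helper80)
-/

set_option autoImplicit false
set_option backward.isDefEq.respectTransparency false

universe u

open CategoryTheory CategoryTheory.Limits AlgebraicGeometry Opposite

namespace Groth.Agent.Lib.Helper80

variable {S : Scheme.{u}}

/-- Elementwise extensionality in a pullback square of presheaves. -/
theorem psh_pullback_ext {F G H F' : AlgSp.PSp S} {a : F ⟶ G} {ξ : H ⟶ G} {fst : F' ⟶ F} {snd : F' ⟶ H}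
    (sq : IsPullback fst snd a ξ) {T : (Over S)ᵒᵖ} {x y : F'.obj T}
    (h1 : fst.app T x = fst.app T y) (h2 : snd.app T x = snd.app T y) : x = y :=
  Types.ext_of_isPullback (sq.app T) h1 h2

/-- Elementwise existence in a pullback square of presheaves. -/
theorem psh_pullback_exists {F G H F' : AlgSp.PSp S} {a : F ⟶ G} {ξ : H ⟶ G} {fst : F' ⟶ F} {snd : F' ⟶ H}
    (sq : IsPullback fst snd a ξ) {T : (Over S)ᵒᵖ} (x : F.obj T) (y : H.obj T)
    (h : a.app T x = ξ.app T y) : ∃ z : F'.obj T, fst.app T z = x ∧ snd.app T z = y :=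
  Types.exists_of_isPullback (sq.app T) x y h

/-- The map `h_T ⟶ G` of presheaves given by a section `g ∈ G(T)`. -/
noncomputable def secMap {G : AlgSp.PSp S} {T : Over S} (g : G.obj (op T)) : (AlgSp.pyon S).obj T ⟶ G :=
  uliftYonedaEquiv.{u + 1}.symm g

theorem secMap_app {G : AlgSp.PSp S} {T : Over S} (g : G.obj (op T)) {T' : Over S} (h : T' ⟶ T) :
    (secMap g).app (op T') ⟨h⟩ = G.map h.op g := rfl

theorem secMap_surjective {G : AlgSp.PSp S} {T : Over S} (ξ : (AlgSp.pyon S).obj T ⟶ G) :
    ∃ g : G.obj (op T), ξ = secMap g :=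
  ⟨uliftYonedaEquiv.{u + 1} ξ, (uliftYonedaEquiv.{u + 1}.symm_apply_apply ξ).symm⟩

/-- A presheaf `F` over a sheaf `G` all of whose fibres over schemes are sheaves is a sheaf. -/
theorem isSheaf_of_fibres {F G : AlgSp.PSp S} (a : F ⟶ G) (hG : Presieve.IsSheaf (AlgSp.J S) G)
    (h : ∀ (U : Over S) (ξ : (AlgSp.pyon S).obj U ⟶ G),
      Presieve.IsSheaf (AlgSp.J S) (pullback a ξ)) :
    Presieve.IsSheaf (AlgSp.J S) F := by
  intro T R hR x hx
  have hy := Presieve.FamilyOfElements.Compatible.map a hx
  obtain ⟨g, hg, hguniq⟩ := hG R hR _ hy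
  have sq := IsPullback.of_hasPullback a (secMap g)
  have hex : ∀ {T' : Over S} (f : T' ⟶ T) (hf : R f), ∃ z : (pullback a (secMap g)).obj (op T'),
      (pullback.fst a (secMap g)).app _ z = x f hf ∧ (pullback.snd a (secMap g)).app _ z = ⟨f⟩ := by
    intro T' f hf
    apply psh_pullback_exists sq
    rw [secMap_app]
    exact (hg f hf).symm
  choose z hz1 hz2 using @hex
  let x' : Presieve.FamilyOfElements (pullback a (secMap g)) R.arrows := fun T' f hf => z f hf
  have hx' : x'.Compatible := by
    intro T₁ T₂ W k₁ k₂ h₁ h₂ hh₁ hh₂ hk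
    apply psh_pullback_ext sq
    · have e1 := (pullback.fst a (secMap g)).naturality_apply k₁.op (z h₁ hh₁)
      have e2 := (pullback.fst a (secMap g)).naturality_apply k₂.op (z h₂ hh₂)
      rw [e1, e2, hz1, hz1]
      exact hx k₁ k₂ hh₁ hh₂ hk
    · have e1 := (pullback.snd a (secMap g)).naturality_apply k₁.op (z h₁ hh₁)
      have e2 := (pullback.snd a (secMap g)).naturality_apply k₂.op (z h₂ hh₂)
      rw [e1, e2, hz2, hz2]
      apply ULift.ext
      exact hk
  obtain ⟨s', hs', hs'uniq⟩ := h T (secMap g) R hR x' hx'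
  have key : ∀ s : F.obj (op T), x.IsAmalgamation s → a.app _ s = g := by
    intro s hs
    apply hguniq
    intro T' f hf
    have := a.naturality_apply f.op s
    rw [← this, hs f hf]
    rfl
  have lift : ∀ s : F.obj (op T), x.IsAmalgamation s → (pullback.fst a (secMap g)).app _ s' = s := by
    intro s hs
    have h0 : a.app _ s = (secMap g).app (op T) ⟨𝟙 T⟩ := by
      rw [key s hs, secMap_app]
      simp
    obtain ⟨w, hw1, hw2⟩ := psh_pullback_exists sq s ⟨𝟙 T⟩ h0
    have hw : x'.IsAmalgamation w := by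
      intro T' f hf
      apply psh_pullback_ext sq
      · have e1 := (pullback.fst a (secMap g)).naturality_apply f.op w
        rw [e1, hw1, hs f hf]
        exact (hz1 f hf).symm
      · have e1 := (pullback.snd a (secMap g)).naturality_apply f.op w
        rw [e1, hw2]
        refine Eq.trans ?_ (hz2 f hf).symm
        apply ULift.ext
        exact Category.comp_id f
    rw [← hs'uniq w hw, hw1]
  have hs1 : x.IsAmalgamation ((pullback.fst a (secMap g)).app _ s') := by
    intro T' f hf
    have e1 := (pullback.fst a (secMap g)).naturality_apply f.op s'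
    rw [← e1, hs' f hf]
    exact hz1 f hf
  refine ⟨(pullback.fst a (secMap g)).app _ s', hs1, ?_⟩
  intro s₂ hs₂
  exact (lift s₂ hs₂).symm

/-- `S10089`: the source of a map representable by algebraic spaces into a sheaf is a sheaf. -/
theorem isSheaf_of_repBySp {F G : AlgSp.PSp S} (a : F ⟶ G) (ha : AlgSp.RepBySp a)
    (hG : Presheaf.IsSheaf (AlgSp.J S) G) : Presheaf.IsSheaf (AlgSp.J S) F := by
  rw [isSheaf_iff_isSheaf_of_type] at hG ⊢
  refine isSheaf_of_fibres a hG ?_
  intro U ξ
  obtain ⟨h, -⟩ := ha ξ _ _ (IsPullback.of_hasPullback a ξ)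
  exact (isSheaf_iff_isSheaf_of_type _ _).1 h

end Groth.Agent.Lib.Helper80
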