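import Groth.Agent.Lib.Helper80.AlgStIso3
import Groth.Agent.Lib.Helper80.Boot1

/-!
# The category of a presheaf: maps of presheaves from functors over the base, fibre products (helper80)

* `pshMapOf Φ : A ⟶ B` for `Φ : ofPsh A ⥤ᵇ ofPsh B`; it is an isomorphism when `Φ` is an equivalence over `(Sch/S)`.
* `ofPshFp sq : ofPsh P ⥤ᵇ fp (ofPshMap a) (ofPshMap b)` for a pullback square of presheaves, an equivalence over `(Sch/S)`.
-/

set_option autoImplicit false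
set_option backward.isDefEq.respectTransparency false

universe u

open CategoryTheory CategoryTheory.Functor CategoryTheory.Limits AlgebraicGeometry Opposite

namespace Groth.Agent.Lib.Helper80

open BasedFunctor

variable {S : Scheme.{u}}

section PshMapOf

variable {A B D : AlgSp.PSp S}

/-- The map of presheaves attached to a functor over `(Sch/S)` between categories of presheaves. -/
def pshMapOf (Φ : Stk.ofPsh A ⥤ᵇ Stk.ofPsh B) : A ⟶ B where
  app T := ↾fun s => secAt (Φ.obj ⟨T.unop, s⟩) (Φ.w_obj _)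
  naturality T T' g := by
    ext s
    let m : (⟨T'.unop, A.map g s⟩ : Stk.EltObj A) ⟶ ⟨T.unop, s⟩ := ⟨g.unop, rfl⟩
    have l0 : (Stk.ofPsh A).p.IsHomLift g.unop m := IsHomLift.map (Stk.ofPsh A).p m
    have l1 : (Stk.ofPsh B).p.IsHomLift g.unop (Φ.map m) :=
      BasedFunctor.preserves_isHomLift Φ g.unop m
    exact (secAt_of_isHomLift g.unop (Φ.map m) (Φ.w_obj _) (Φ.w_obj _)).symm

theorem pshMapOf_app (Φ : Stk.ofPsh A ⥤ᵇ Stk.ofPsh B) (T : Over S) (s : A.obj (op T)) :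
    (pshMapOf Φ).app (op T) s = secAt (Φ.obj ⟨T, s⟩) (Φ.w_obj _) := rfl

theorem pshMapOf_ofPshMap (α : A ⟶ B) : pshMapOf (Stk.ofPshMap α) = α := by
  ext T s
  induction T using Opposite.rec with
  | _ T =>
    change secAt ((Stk.ofPshMap α).obj ⟨T, s⟩) (rfl : _ = T) = α.app (op T) s
    exact secAt_rfl _

/-- Isomorphic functors induce the same map of presheaves. -/
theorem pshMapOf_eq_of_iso {Φ Φ' : Stk.ofPsh A ⥤ᵇ Stk.ofPsh B} (i : Φ ≅ Φ') :
    pshMapOf Φ = pshMapOf Φ' := by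
  ext T s
  induction T using Opposite.rec with
  | _ T =>
    change secAt (Φ.obj ⟨T, s⟩) (Φ.w_obj _) = secAt (Φ'.obj ⟨T, s⟩) (Φ'.w_obj _)
    have l : (Stk.ofPsh B).p.IsHomLift (𝟙 T) (i.hom.toNatTrans.app ⟨T, s⟩) :=
      iso_hom_app_isHomLift i _ rfl
    have := secAt_of_isHomLift (𝟙 T) (i.hom.toNatTrans.app ⟨T, s⟩) (Φ.w_obj _) (Φ'.w_obj _)
    rw [op_id, B.map_id] at this
    exact this.symm

theorem pshMapOf_comp (Φ : Stk.ofPsh A ⥤ᵇ Stk.ofPsh B) (Ψ : Stk.ofPsh B ⥤ᵇ Stk.ofPsh D) :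
    pshMapOf (BasedFunctor.comp Φ Ψ) = pshMapOf Φ ≫ pshMapOf Ψ := by
  ext T s
  induction T using Opposite.rec with
  | _ T =>
    change secAt (Ψ.obj (Φ.obj ⟨T, s⟩)) ((Ψ.w_obj _).trans (Φ.w_obj _)) =
      secAt (Ψ.obj ⟨T, secAt (Φ.obj ⟨T, s⟩) (Φ.w_obj _)⟩) (Ψ.w_obj _)
    have l0 : (Stk.ofPsh B).p.IsHomLift (𝟙 T) (eltIso (Φ.obj ⟨T, s⟩) (Φ.w_obj _)).hom :=
      eltIso_hom_isHomLift _ _
    have l : (Stk.ofPsh D).p.IsHomLift (𝟙 T) (Ψ.map (eltIso (Φ.obj ⟨T, s⟩) (Φ.w_obj _)).hom) :=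
      BasedFunctor.preserves_isHomLift Ψ (𝟙 T) _
    have := secAt_of_isHomLift (𝟙 T) (Ψ.map (eltIso (Φ.obj ⟨T, s⟩) (Φ.w_obj _)).hom)
      (Ψ.w_obj _) ((Ψ.w_obj _).trans (Φ.w_obj _))
    rw [op_id, D.map_id] at this
    exact this

theorem pshMapOf_id : pshMapOf (BasedFunctor.id (Stk.ofPsh A)) = 𝟙 A := by
  ext T s
  induction T using Opposite.rec with
  | _ T =>
    change secAt ((BasedFunctor.id (Stk.ofPsh A)).obj ⟨T, s⟩) (rfl : _ = T) = s
    exact secAt_rfl _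

/-- Every functor over `(Sch/S)` between categories of presheaves is isomorphic to the functor of a map of presheaves. -/
def ofPshMapIso (Φ : Stk.ofPsh A ⥤ᵇ Stk.ofPsh B) : Stk.ofPshMap (pshMapOf Φ) ≅ Φ :=
  BasedNatIso.mkNatIso
    (NatIso.ofComponents (fun x => eltIso (Φ.obj x) (Φ.w_obj x)) (by
      intro x' x φ
      apply Stk.EltObj.hom_ext
      have l1 : (Stk.ofPsh B).p.IsHomLift ((Stk.ofPsh A).p.map φ) (Φ.map φ) :=
        BasedFunctor.preserves_isHomLift Φ ((Stk.ofPsh A).p.map φ) φ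
      have h2 : (Φ.map φ).hom = eqToHom (Φ.w_obj x') ≫ (Stk.ofPsh A).p.map φ ≫ eqToHom (Φ.w_obj x).symm :=
        IsHomLift.fac' (Stk.ofPsh B).p ((Stk.ofPsh A).p.map φ) (Φ.map φ)
      change φ.hom ≫ eqToHom (Φ.w_obj x).symm = eqToHom (Φ.w_obj x').symm ≫ (Φ.map φ).hom
      rw [h2]
      simp))
    (fun x => eltIso_hom_isHomLift (Φ.obj x) (Φ.w_obj x))

/-- An equivalence over `(Sch/S)` between categories of presheaves gives an isomorphism of presheaves. -/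
def pshIsoOf (Φ : Stk.ofPsh A ⥤ᵇ Stk.ofPsh B) (Ψ : Stk.ofPsh B ⥤ᵇ Stk.ofPsh A)
    (η : BasedFunctor.comp Φ Ψ ≅ BasedFunctor.id _) (ε : BasedFunctor.comp Ψ Φ ≅ BasedFunctor.id _) :
    A ≅ B where
  hom := pshMapOf Φ
  inv := pshMapOf Ψ
  hom_inv_id := by rw [← pshMapOf_comp, pshMapOf_eq_of_iso η, pshMapOf_id]
  inv_hom_id := by rw [← pshMapOf_comp, pshMapOf_eq_of_iso ε, pshMapOf_id]

theorem exists_pshIso_of_isEquivOver (Φ : Stk.ofPsh A ⥤ᵇ Stk.ofPsh B) (hΦ : FibCat.IsEquivOver Φ) :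
    ∃ i : A ≅ B, i.hom = pshMapOf Φ := by
  obtain ⟨Ψ, ⟨η⟩, ⟨ε⟩⟩ := hΦ
  exact ⟨pshIsoOf Φ Ψ η ε, rfl⟩

theorem secAt_ofOverCat {U : Over S} (X : Over U) {T : Over S} (hX : X.left = T) :
    secAt ((AlgSt.ofOverCat U).obj X) hX = (⟨eqToHom hX.symm ≫ X.hom⟩ : ULift (T ⟶ U)) := by
  subst hX
  rw [secAt_rfl, eqToHom_refl, Category.id_comp]
  rfl

/-- `spMapOfOver` in terms of `pshMapOf`. -/
theorem spMapOfOver_hom_eq {F : AlgSp.Sp S} {U : Over S} (Φ : AlgSt.ofSp F ⥤ᵇ FibCat.overCat U) :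
    (AlgSt.spMapOfOver Φ).hom = pshMapOf (BasedFunctor.comp Φ (AlgSt.ofOverCat U)) := by
  ext T x
  induction T using Opposite.rec with
  | _ T =>
    change (⟨AlgSt.secHom Φ ⟨T, x⟩⟩ : ULift _) =
      secAt ((AlgSt.ofOverCat U).obj (Φ.obj ⟨T, x⟩)) (Φ.w_obj _)
    rw [secAt_ofOverCat]
    rfl

end PshMapOf

section Fp

variable {A B D P : AlgSp.PSp S} {a : A ⟶ D} {b : B ⟶ D} {fst : P ⟶ A} {snd : P ⟶ B}

theorem sq_app_apply (w : fst ≫ a = snd ≫ b) (T : (Over S)ᵒᵖ) (s : P.obj T) :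
    a.app T (fst.app T s) = b.app T (snd.app T s) :=
  congrArg (fun k => (k.app T) s) w

/-- An isomorphism in `ofPsh D` between two objects with the same base and the same section. -/
def eltIsoOfEq {T : Over S} {s s' : D.obj (op T)} (h : s = s') :
    (⟨T, s⟩ : Stk.EltObj D) ≅ ⟨T, s'⟩ where
  hom := ⟨𝟙 T, by subst h; simp⟩
  inv := ⟨𝟙 T, by subst h; simp⟩
  hom_inv_id := by apply Stk.EltObj.hom_ext; simp
  inv_hom_id := by apply Stk.EltObj.hom_ext; simp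

/-- The 2-isomorphism filling the square of categories attached to a commutative square of presheaves. -/
def ofPshSqIso (w : fst ≫ a = snd ≫ b) :
    BasedFunctor.comp (Stk.ofPshMap fst) (Stk.ofPshMap a) ≅
      BasedFunctor.comp (Stk.ofPshMap snd) (Stk.ofPshMap b) :=
  BasedNatIso.mkNatIso
    (NatIso.ofComponents (fun x => eltIsoOfEq (sq_app_apply w (op x.base) x.sec)) (by
      intro x y f
      apply Stk.EltObj.hom_ext
      change f.hom ≫ 𝟙 _ = 𝟙 _ ≫ f.hom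
      simp))
    (fun x => IsHomLift.map (Stk.ofPsh D).p (eltIsoOfEq (sq_app_apply w (op x.base) x.sec)).hom)

/-- The functor from the category of a fibre product of presheaves to the 2-fibre product of the categories. -/
def ofPshFp (w : fst ≫ a = snd ≫ b) :
    Stk.ofPsh P ⥤ᵇ FibCat.fp (Stk.ofPshMap a) (Stk.ofPshMap b) :=
  FibCat.fpLift (Stk.ofPshMap fst) (Stk.ofPshMap snd) (ofPshSqIso w)

theorem ofPshSqIso_hom_app_hom (w : fst ≫ a = snd ≫ b) (x : Stk.EltObj P) :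
    ((ofPshSqIso w).hom.toNatTrans.app x).hom = 𝟙 x.base := rfl

/-- The category of a fibre product of presheaves is the 2-fibre product of the categories. -/
theorem ofPshFp_isEquivOver (sq : IsPullback fst snd a b) : FibCat.IsEquivOver (ofPshFp sq.w) := by
  apply fpLift_isEquivOver
  · intro x y g g' h1 _
    apply Stk.EltObj.hom_ext
    have h2 := congrArg (fun k => Stk.EltObj.Hom.hom k) h1
    exact h2
  · intro x y φ ψ hw
    have h0 : φ.hom = ψ.hom := by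
      have := congrArg (fun k => Stk.EltObj.Hom.hom k) hw
      change φ.hom ≫ 𝟙 _ = 𝟙 _ ≫ ψ.hom at this
      simpa using this
    have hsec : P.map φ.hom.op y.sec = x.sec := by
      apply psh_pullback_ext sq
      · have e1 := fst.naturality_apply φ.hom.op y.sec
        rw [e1]
        exact φ.map_sec
      · have e1 := snd.naturality_apply φ.hom.op y.sec
        rw [e1, h0]
        exact ψ.map_sec
    refine ⟨⟨φ.hom, hsec⟩, ?_, ?_⟩
    · apply Stk.EltObj.hom_ext; rfl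
    · apply Stk.EltObj.hom_ext; exact h0
  · intro Q
    obtain ⟨⟨⟨T₁, s₁⟩, ⟨T₂, s₂⟩, θ⟩, hQ⟩ := Q
    let t : T₁ ⟶ T₂ := θ.hom.hom
    have ht : D.map t.op (b.app _ s₂) = a.app _ s₁ := θ.hom.map_sec
    have hb : b.app _ (B.map t.op s₂) = D.map t.op (b.app _ s₂) := b.naturality_apply t.op s₂
    obtain ⟨s, hs1, hs2⟩ := psh_pullback_exists sq s₁ (B.map t.op s₂) (by rw [hb, ht])
    let βh : (⟨T₁, snd.app _ s⟩ : Stk.EltObj B) ⟶ ⟨T₂, s₂⟩ := ⟨t, hs2.symm⟩
    have : IsIso t := by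
      have : IsIso ((Stk.EltObj.forget D).map θ.hom) := inferInstance
      exact this
    have lβ : (Stk.ofPsh B).p.IsHomLift t βh := IsHomLift.map (Stk.ofPsh B).p βh
    have : IsIso βh := IsFibGrpd.isIso_of_base_isIso (Stk.ofPsh B).p (Stk.isFibGrpd_ofPsh B) t βh
    refine ⟨⟨T₁, s⟩, eltIsoOfEq hs1, asIso βh, ?_, ?_⟩
    · exact IsHomLift.map (Stk.ofPsh A).p (eltIsoOfEq hs1).hom
    · apply Stk.EltObj.hom_ext
      change 𝟙 T₁ ≫ t = 𝟙 T₁ ≫ t
      rfl

end Fp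

end Groth.Agent.Lib.Helper80
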