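import Groth.Agent.Lib.Helper80.AlgStPsh
import Groth.Agent.Lib.Helper80.AlgStTP1

/-!
# Maps of presheaves representable by algebraic spaces versus their functors (helper80)
-/

set_option autoImplicit false
set_option backward.isDefEq.respectTransparency false

universe u

open CategoryTheory CategoryTheory.Functor CategoryTheory.Limits AlgebraicGeometry Opposite

namespace Groth.Agent.Lib.Helper80

open BasedFunctor

variable {S : Scheme.{u}}

theorem repByAlgSp_iff_of_isEquivOver {𝒜 ℬ : AlgSt.Cat S} (E : 𝒜 ⥤ᵇ ℬ) (hE : FibCat.IsEquivOver E) :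
    AlgSt.RepByAlgSp 𝒜 ↔ AlgSt.RepByAlgSp ℬ := by
  constructor
  · exact repByAlgSp_of_isEquivOver E hE
  · obtain ⟨E', hE', -, -⟩ := IsEquivOver.symm hE
    exact repByAlgSp_of_isEquivOver E' hE'

/-- `ofOverCat U` is an equivalence over `(Sch/S)`. -/
theorem ofOverCat_isEquivOver (U : Over S) : FibCat.IsEquivOver (AlgSt.ofOverCat U) :=
  ⟨AlgSt.toOverCat U, ⟨BasedNatIso.id _⟩, ⟨BasedNatIso.id _⟩⟩

variable {G : AlgSp.PSp S} {U : Over S}

/-- The map `h_U ⟶ G` classified by a functor `(Sch/U) ⟶ ofPsh G`. -/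
def classMap (y : FibCat.overCat U ⥤ᵇ Stk.ofPsh G) : (AlgSp.pyon S).obj U ⟶ G :=
  pshMapOf (BasedFunctor.comp (AlgSt.toOverCat U) y)

/-- Every functor `(Sch/U) ⟶ ofPsh G` over `(Sch/S)` is isomorphic to `ptFun` of its classifying map. -/
def classIso (y : FibCat.overCat U ⥤ᵇ Stk.ofPsh G) : y ≅ ptFun (classMap y) :=
  (whiskerLeftIso (AlgSt.ofOverCat U) (ofPshMapIso (BasedFunctor.comp (AlgSt.toOverCat U) y))).symm

variable {F F' : AlgSp.PSp S} {a : F ⟶ G} {ξ : (AlgSp.pyon S).obj U ⟶ G} {fst : F' ⟶ F}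
  {snd : F' ⟶ (AlgSp.pyon S).obj U}

/-- Representing `(Sch/U) ×_{ofPsh G} ofPsh F` by an algebraic space is the same as representing `ofPsh F'` for a fibre
product `F' = h_U ×_G F` of presheaves, compatibly with the structure maps to `h_U`. -/
theorem psh_transfer (Q : MorphismProperty (AlgSp.Sp S)) (sq : IsPullback fst snd a ξ) :
    (∃ (A : AlgSp.Space S) (e : AlgSt.ofSp A.obj ⥤ᵇ FibCat.fp (ptFun ξ) (Stk.ofPshMap a)),
        FibCat.IsEquivOver e ∧
        Q (AlgSt.spMapOfOver (BasedFunctor.comp e (FibCat.fpFst (ptFun ξ) (Stk.ofPshMap a))))) ↔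
      (∃ (A : AlgSp.Space S) (e : AlgSt.ofSp A.obj ⥤ᵇ Stk.ofPsh F'), FibCat.IsEquivOver e ∧
        Q (AlgSt.spMapOfOver (BasedFunctor.comp e
          (BasedFunctor.comp (Stk.ofPshMap snd) (AlgSt.toOverCat U))))) := by
  refine Iff.trans (repWith_transfer Q (FibCat.fpFst (ptFun ξ) (Stk.ofPshMap a))
    (BasedFunctor.comp (FibCat.fpFst (Stk.ofPshMap ξ) (Stk.ofPshMap a)) (AlgSt.toOverCat U))
    (fpMapLeft (Stk.ofPshMap ξ) (Stk.ofPshMap a) (AlgSt.ofOverCat U) (ptFun ξ) (BasedNatIso.id _))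
    (fpMapLeft_isEquivOver (Stk.ofPshMap ξ) (Stk.ofPshMap a) (AlgSt.ofOverCat U) (ptFun ξ)
      (BasedNatIso.id _) (ofOverCat_isEquivOver U)) (BasedNatIso.id _)) ?_
  exact (repWith_transfer Q
    (BasedFunctor.comp (Stk.ofPshMap snd) (AlgSt.toOverCat U))
    (BasedFunctor.comp (FibCat.fpFst (Stk.ofPshMap ξ) (Stk.ofPshMap a)) (AlgSt.toOverCat U))
    (ofPshFp sq.flip.w) (ofPshFp_isEquivOver sq.flip) (BasedNatIso.id _)).symm

/-- Representing the category of a presheaf `F'` over `h_U` by an algebraic space means that `F'` is an algebraic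
space. -/
theorem psh_rep_iff (Q : MorphismProperty (AlgSp.Sp S)) [Q.RespectsIso]
    (snd : F' ⟶ (AlgSp.pyon S).obj U) :
    (∃ (A : AlgSp.Space S) (e : AlgSt.ofSp A.obj ⥤ᵇ Stk.ofPsh F'), FibCat.IsEquivOver e ∧
        Q (AlgSt.spMapOfOver (BasedFunctor.comp e
          (BasedFunctor.comp (Stk.ofPshMap snd) (AlgSt.toOverCat U))))) ↔
      ∃ h : Presheaf.IsSheaf (AlgSp.J S) F', AlgSp.IsAlgSpace (⟨F', h⟩ : AlgSp.Sp S) ∧
        Q (ObjectProperty.homMk snd : (⟨F', h⟩ : AlgSp.Sp S) ⟶ (AlgSp.yon S).obj U) := by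
  constructor
  · rintro ⟨A, e, he, hQ⟩
    obtain ⟨i, hi⟩ := exists_pshIso_of_isEquivOver e he
    have h : Presheaf.IsSheaf (AlgSp.J S) F' := (Presheaf.isSheaf_of_iso_iff i).1 A.obj.property
    let j : A.obj ≅ (⟨F', h⟩ : AlgSp.Sp S) :=
      (fullyFaithfulSheafToPresheaf (AlgSp.J S) _).preimageIso (X := A.obj) (Y := (⟨F', h⟩ : AlgSp.Sp S)) i
    refine ⟨h, A.property.of_iso j, ?_⟩
    have key : AlgSt.spMapOfOver (BasedFunctor.comp e
        (BasedFunctor.comp (Stk.ofPshMap snd) (AlgSt.toOverCat U))) =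
        j.hom ≫ (ObjectProperty.homMk snd : (⟨F', h⟩ : AlgSp.Sp S) ⟶ (AlgSp.yon S).obj U) := by
      apply ObjectProperty.hom_ext
      rw [spMapOfOver_hom_eq]
      change pshMapOf (BasedFunctor.comp e (Stk.ofPshMap snd)) = i.hom ≫ snd
      rw [pshMapOf_comp, pshMapOf_ofPshMap, hi]
    rw [key] at hQ
    exact (MorphismProperty.cancel_left_of_respectsIso Q j.hom _).1 hQ
  · rintro ⟨h, halg, hQ⟩
    refine ⟨⟨⟨F', h⟩, halg⟩, BasedFunctor.id _, isEquivOver_id, ?_⟩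
    have key : AlgSt.spMapOfOver (BasedFunctor.comp (BasedFunctor.id (AlgSt.ofSp (⟨F', h⟩ : AlgSp.Sp S)))
        (BasedFunctor.comp (Stk.ofPshMap snd) (AlgSt.toOverCat U))) =
        (ObjectProperty.homMk snd : (⟨F', h⟩ : AlgSp.Sp S) ⟶ (AlgSp.yon S).obj U) := by
      apply ObjectProperty.hom_ext
      rw [spMapOfOver_hom_eq]
      change pshMapOf (Stk.ofPshMap snd) = snd
      rw [pshMapOf_ofPshMap]
    rw [key]
    exact hQ

end Groth.Agent.Lib.Helper80
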