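import Groth.Agent.Lib.Helper80.AlgStPsh2
import Groth.Agent.Lib.Helper78.AlgSpFibre

/-!
# `RepBySp` of a map of presheaves versus `RepByAlgSp1` of its functor; morphisms between algebraic spaces (helper80)
-/

set_option autoImplicit false
set_option backward.isDefEq.respectTransparency false

universe u

open CategoryTheory CategoryTheory.Functor CategoryTheory.Limits AlgebraicGeometry Opposite

namespace Groth.Agent.Lib.Helper80

open BasedFunctor

variable {S : Scheme.{u}}

/-- `S12778`. -/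
theorem repBySpWith_iff_repByAlgSpWith (Q : MorphismProperty (AlgSp.Sp S)) [Q.RespectsIso]
    {F G : AlgSp.PSp S} (a : F ⟶ G) :
    AlgSp.RepBySpWith Q a ↔ AlgSt.RepByAlgSpWith Q (Stk.ofPshMap a) := by
  constructor
  · intro h U y
    have sq := IsPullback.of_hasPullback a (classMap y)
    have h1 := (psh_transfer Q sq).mpr ((psh_rep_iff Q _).mpr (h (classMap y) _ _ sq))
    exact (repWith_transfer Q (FibCat.fpFst y (Stk.ofPshMap a))
      (FibCat.fpFst (ptFun (classMap y)) (Stk.ofPshMap a))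
      (fpMapLeft (ptFun (classMap y)) (Stk.ofPshMap a) (BasedFunctor.id _) y (classIso y))
      (fpMapLeft_isEquivOver (ptFun (classMap y)) (Stk.ofPshMap a) (BasedFunctor.id _) y (classIso y)
        isEquivOver_id) (BasedNatIso.id _)).mpr h1
  · intro h U ξ F' fst snd sq
    exact (psh_rep_iff Q snd).mp ((psh_transfer Q sq).mp (h U (ptFun ξ)))

theorem repBySp_iff_repBySpWith_top {F G : AlgSp.PSp S} (a : F ⟶ G) :
    AlgSp.RepBySp a ↔ AlgSp.RepBySpWith ⊤ a := by
  constructor
  · intro h U ξ F' fst snd sq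
    obtain ⟨h1, h2⟩ := h ξ fst snd sq
    exact ⟨h1, h2, trivial⟩
  · intro h
    exact h.repBySp

/-- `S12777`. -/
theorem repBySp_iff_repByAlgSp1 {F G : AlgSp.PSp S} (a : F ⟶ G) :
    AlgSp.RepBySp a ↔ AlgSt.RepByAlgSp1 (Stk.ofPshMap a) := by
  rw [repBySp_iff_repBySpWith_top, repByAlgSp1_iff_repByAlgSpWith_top]
  exact repBySpWith_iff_repByAlgSpWith ⊤ a

/-- A morphism between algebraic spaces is representable by algebraic spaces. -/
theorem repByAlgSp1_ofSpMap {X Y : AlgSp.Sp S} (hX : AlgSp.IsAlgSpace X) (hY : AlgSp.IsAlgSpace Y)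
    (α : X ⟶ Y) : AlgSt.RepByAlgSp1 (AlgSt.ofSpMap α) := by
  rw [← repBySp_iff_repByAlgSp1, AlgSp.repBySp_hom_iff]
  intro U ξ F' fst snd sq
  exact Groth.Agent.Lib.Helper78.AlgSpFibre.isAlgSpace_of_isPullback sq hY.diag hX
    (AlgSp.IsAlgSpace.yon_obj U)

end Groth.Agent.Lib.Helper80
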