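import Groth.Agent.Lib.Helper80.AlgStPts
import Groth.Agent.Lib.Helper43.FPtRel

/-!
# Points of 2-fibre products (helper80)
-/

set_option autoImplicit false
set_option backward.isDefEq.respectTransparency false

universe u

open CategoryTheory CategoryTheory.Functor CategoryTheory.Limits AlgebraicGeometry Opposite

namespace Groth.Agent.Lib.Helper80

open BasedFunctor Groth.Agent.Lib.Helper43.FPtRel Groth.Agent.Lib.Helper43.GerbComp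

variable {S : Scheme.{u}} {𝒳 𝒴 𝒵 : AlgSt.Cat S}

theorem points_mk_eq_iff (h𝒳 : FibCat.IsFibGrpd 𝒳.p) (p q : AlgSt.FPt 𝒳) :
    AlgSt.Points.mk p = AlgSt.Points.mk q ↔ AlgSt.FPt.Rel p q := by
  constructor
  · intro h
    have := Quot.eqvGen_exact h
    exact (rel_equivalence h𝒳).eqvGen_iff.mp this
  · exact AlgSt.Points.sound

/-- A morphism between field-valued points gives equal points. -/
theorem points_mk_eq_of_hom {p q : AlgSt.FPt 𝒳} (m : p.obj ⟶ q.obj) : AlgSt.Points.mk p = AlgSt.Points.mk q :=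
  AlgSt.Points.sound ⟨p, 𝟙 _, m, trivial⟩

/-- `S12818`: the map `|𝒵 ×_𝒴 𝒳| → |𝒵| ×_{|𝒴|} |𝒳|` is surjective. -/
theorem exists_point_fp (h𝒳 : FibCat.IsFibGrpd 𝒳.p) (h𝒴 : FibCat.IsFibGrpd 𝒴.p) (h𝒵 : FibCat.IsFibGrpd 𝒵.p)
    (f : 𝒳 ⥤ᵇ 𝒴) (g : 𝒵 ⥤ᵇ 𝒴) (z : AlgSt.Points 𝒵) (x : AlgSt.Points 𝒳)
    (h : AlgSt.Points.map g z = AlgSt.Points.map f x) :
    ∃ w : AlgSt.Points (FibCat.fp g f),
      AlgSt.Points.map (FibCat.fpFst g f) w = z ∧ AlgSt.Points.map (FibCat.fpSnd g f) w = x := by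
  obtain ⟨p, rfl⟩ := AlgSt.Points.mk_surjective z
  obtain ⟨q, rfl⟩ := AlgSt.Points.mk_surjective x
  rw [AlgSt.Points.map_mk, AlgSt.Points.map_mk] at h
  obtain ⟨r, a, b, -⟩ := (points_mk_eq_iff h𝒴 _ _).mp h
  -- base morphisms
  let βa : Over.mk r.str ⟶ Over.mk p.str := baseHom (q := p.map g) a
  let βb : Over.mk r.str ⟶ Over.mk q.str := baseHom (q := q.map f) b
  have hβa : 𝒴.p.IsHomLift βa a := isHomLift_baseHom (q := p.map g) a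
  have hβb : 𝒴.p.IsHomLift βb b := isHomLift_baseHom (q := q.map f) b
  obtain ⟨z', ψ, hψ⟩ := exists_lift' 𝒵.p h𝒵 p.lies βa
  obtain ⟨x', ψ', hψ'⟩ := exists_lift' 𝒳.p h𝒳 q.lies βb
  have h1 : 𝒴.p.IsHomLift βa (g.map ψ) := inferInstance
  have h2 : 𝒴.p.IsHomLift βb (f.map ψ') := inferInstance
  obtain ⟨χ, hχ, -⟩ := exists_factor_id 𝒴.p h𝒴 βa (g.map ψ) a
  obtain ⟨χ', hχ', -⟩ := exists_factor_id 𝒴.p h𝒴 βb (f.map ψ') b
  have : IsIso χ := IsFibGrpd.isIso_of_base_isIso 𝒴.p h𝒴 (𝟙 (Over.mk r.str)) χ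
  have hiχ' : IsIso χ' := IsFibGrpd.isIso_of_base_isIso 𝒴.p h𝒴 (𝟙 (Over.mk r.str)) χ'
  have hz' : 𝒵.p.obj z' = Over.mk r.str := IsHomLift.domain_eq 𝒵.p βa ψ
  have hx' : 𝒳.p.obj x' = Over.mk r.str := IsHomLift.domain_eq 𝒳.p βb ψ'
  have hχi : 𝒴.p.IsHomLift (𝟙 (Over.mk r.str)) (inv χ) := by
    have : 𝒴.p.IsHomLift (inv (𝟙 (Over.mk r.str))) (inv χ) := inferInstance
    simpa using this
  let θ : g.obj z' ≅ f.obj x' := (asIso χ).symm ≪≫ asIso χ'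
  have hθ : 𝒴.p.IsHomLift (𝟙 (𝒵.p.obj z')) θ.hom := by
    rw [hz']
    change 𝒴.p.IsHomLift (𝟙 (Over.mk r.str)) (inv χ ≫ χ')
    exact comp_isHomLift_id 𝒴.p (inv χ) χ'
  let o : (FibCat.fp g f).obj := ⟨⟨z', x', θ⟩, hθ⟩
  let w : AlgSt.FPt (FibCat.fp g f) := { K := r.K, str := r.str, obj := o, lies := hz' }
  refine ⟨AlgSt.Points.mk w, ?_, ?_⟩
  · rw [AlgSt.Points.map_mk]
    exact points_mk_eq_of_hom (p := w.map (FibCat.fpFst g f)) (q := p) ψ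
  · rw [AlgSt.Points.map_mk]
    exact points_mk_eq_of_hom (p := w.map (FibCat.fpSnd g f)) (q := q) ψ'

end Groth.Agent.Lib.Helper80
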