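import Groth.Agent.Lib.Helper80.AlgStPts5

/-!
# Points of stacks and charts from algebraic spaces (helper80)
-/

set_option autoImplicit false
set_option backward.isDefEq.respectTransparency false

universe u

open CategoryTheory CategoryTheory.Functor CategoryTheory.Limits AlgebraicGeometry Opposite

namespace Groth.Agent.Lib.Helper80

open BasedFunctor

variable {S : Scheme.{u}} {𝒳 𝒴 : AlgSt.Cat S}

/-- Composition of a scheme chart `c` of an algebraic space with `u` keeps a property `LocP Q`. -/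
theorem repByAlgSpWith_locP_chart_comp {Q : MorphismProperty Scheme.{u}}
    (hQ : Groth.Agent.Lib.Helper78.AlgSpLocP.EtLocalST Q) [Q.IsStableUnderComposition] [Q.IsStableUnderBaseChange]
    (hQet : ∀ {A B : Scheme.{u}} (k : A ⟶ B), Etale k → Q k)
    (U : AlgSp.Space S) (u : AlgSt.ofSp U.obj ⥤ᵇ 𝒳) (hu : AlgSt.RepByAlgSpWith (AlgSp.LocP Q) u) {A : Over S}
    (c : (AlgSp.yon S).obj A ⟶ U.obj) (hc : AlgSp.RepWith @Etale c) :
    AlgSt.RepByAlgSpWith (AlgSp.LocP Q)
      (BasedFunctor.comp (BasedFunctor.comp (ptFun c.hom) (BasedFunctor.id (AlgSt.ofSp U.obj))) u) :=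
  repByAlgSpWith_locP_comp hQ (overCat_isFibGrpd A) (ofPsh_isFibSetoid _).1 _ u
    (repByAlgSpWith_chart _ (locP_baseChange hQ) U.property c (locP_of_repWith_etale hQet hc) _ isEquivOver_id) hu

/-- `S12821`. -/
theorem isOpenMap_points_map_ofSp (h𝒳 : FibCat.IsFibGrpd 𝒳.p) (U : AlgSp.Space S)
    (u : AlgSt.ofSp U.obj ⥤ᵇ 𝒳) (hu₁ : AlgSt.RepByAlgSpWith (AlgSp.LocP @Flat) u)
    (hu₂ : AlgSt.RepByAlgSpWith (AlgSp.LocP @LocallyOfFinitePresentation) u) :
    IsOpenMap (AlgSt.Points.map u) := by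
  intro W hW
  obtain ⟨A, c, hc1, hc2⟩ := U.property.atlas
  let pc : FibCat.overCat A ⥤ᵇ AlgSt.ofSp U.obj :=
    BasedFunctor.comp (ptFun c.hom) (BasedFunctor.id (AlgSt.ofSp U.obj))
  have hpc : AlgSt.RepByAlgSpWith (AlgSp.LocP @Smooth) pc := repByAlgSpWith_smooth_chart U.property c hc1
  have h1 : AlgSt.RepByAlgSpWith (AlgSp.LocP @Flat) (BasedFunctor.comp pc u) :=
    repByAlgSpWith_locP_chart_comp Groth.Agent.Lib.Helper78.AlgSpLocPFlat.etLocalST_flat
      (fun k hk => by have : Etale k := hk; infer_instance) U u hu₁ c hc1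
  have h2 : AlgSt.RepByAlgSpWith (AlgSp.LocP @LocallyOfFinitePresentation) (BasedFunctor.comp pc u) :=
    repByAlgSpWith_locP_chart_comp Groth.Agent.Lib.Helper78.AlgSpLocPLofp.etLocalST_lofp
      (fun k hk => by have : Etale k := hk; infer_instance) U u hu₂ c hc1
  have e : AlgSt.Points.map u '' W =
      AlgSt.Points.ofChart (BasedFunctor.comp pc u) '' (AlgSt.Points.ofChart pc ⁻¹' W) := by
    ext ζ
    constructor
    · rintro ⟨ξ, hξ, rfl⟩
      obtain ⟨s, hs⟩ := exists_chartPt_ptFun c hc2 ξ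
      refine ⟨s, ?_, ?_⟩
      · change AlgSt.Points.ofChart pc s ∈ W
        have : AlgSt.Points.ofChart pc s = AlgSt.Points.ofChart (ptFun c.hom) s := rfl
        rw [this, hs]; exact hξ
      · rw [ofChart_comp]
        have : AlgSt.Points.ofChart pc s = AlgSt.Points.ofChart (ptFun c.hom) s := rfl
        rw [this, hs]
    · rintro ⟨s, hs, rfl⟩
      exact ⟨AlgSt.Points.ofChart pc s, hs, (ofChart_comp pc u s).symm⟩
  rw [e]
  exact isOpenMap_ofChart h𝒳 _ h1 h2 _ (hW A pc hpc)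

/-- A surjective morphism from an algebraic space, representable by algebraic spaces, is surjective on points. -/
theorem surjective_points_map_ofSp (h𝒳 : FibCat.IsFibGrpd 𝒳.p) (U : AlgSp.Space S)
    (p : AlgSt.ofSp U.obj ⥤ᵇ 𝒳) (hp : AlgSt.RepByAlgSpWith AlgSp.IsSurjectiveMor p) :
    Function.Surjective (AlgSt.Points.map p) := by
  obtain ⟨A, c, hc1, hc2⟩ := U.property.atlas
  let pc : FibCat.overCat A ⥤ᵇ AlgSt.ofSp U.obj :=
    BasedFunctor.comp (ptFun c.hom) (BasedFunctor.id (AlgSt.ofSp U.obj))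
  have h1 : AlgSt.RepByAlgSpWith AlgSp.IsSurjectiveMor (BasedFunctor.comp pc p) :=
    repByAlgSpWith_surjective_chart_comp U p hp c hc2
  intro ζ
  obtain ⟨s, hs⟩ := surjective_ofChart h𝒳 _ h1 ζ
  exact ⟨AlgSt.Points.ofChart pc s, by rw [← hs]; exact (ofChart_comp pc p s).symm⟩

/-- `S12823`. -/
theorem isOpen_iff_preimage_ofSp (h𝒳 : FibCat.IsFibGrpd 𝒳.p) (hat : AlgSt.HasAtlas (AlgSp.LocP @Smooth) 𝒳)
    (U : AlgSp.Space S) (p : AlgSt.ofSp U.obj ⥤ᵇ 𝒳)
    (hp₁ : AlgSt.RepByAlgSpWith (AlgSp.LocP @Flat) p)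
    (hp₂ : AlgSt.RepByAlgSpWith (AlgSp.LocP @LocallyOfFinitePresentation) p)
    (hp₃ : AlgSt.RepByAlgSpWith AlgSp.IsSurjectiveMor p) (W : Set (AlgSt.Points 𝒳)) :
    IsOpen W ↔ IsOpen (AlgSt.Points.map p ⁻¹' W) := by
  constructor
  · intro hW
    exact (continuous_points_map hat p).isOpen_preimage W hW
  · intro hW
    have := isOpenMap_points_map_ofSp h𝒳 U p hp₁ hp₂ _ hW
    rwa [Set.image_preimage_eq _ (surjective_points_map_ofSp h𝒳 U p hp₃)] at this

end Groth.Agent.Lib.Helper80
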