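import Groth.Agent.Lib.Helper80.AlgStPts8
import Groth.Agent.Lib.Helper80.AlgStSmLoc

/-!
# Quasi-compact algebraic stacks: characterisations (helper80)
-/

set_option autoImplicit false
set_option backward.isDefEq.respectTransparency false

universe u

open CategoryTheory CategoryTheory.Functor CategoryTheory.Limits AlgebraicGeometry Opposite

namespace Groth.Agent.Lib.Helper80

open BasedFunctor

variable {S : Scheme.{u}} {𝒳 𝒴 : AlgSt.Cat S}

/-- A surjective chart (representable by algebraic spaces) from a quasi-compact scheme makes the space of points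
quasi-compact. -/
theorem compactSpace_points_of_compact_chart (h𝒳 : FibCat.IsFibGrpd 𝒳.p)
    (hat : AlgSt.HasAtlas (AlgSp.LocP @Smooth) 𝒳) {U : Over S} (x : FibCat.overCat U ⥤ᵇ 𝒳)
    [CompactSpace ↥U.left] (hx2 : AlgSt.RepByAlgSpWith AlgSp.IsSurjectiveMor x) :
    CompactSpace (AlgSt.Points 𝒳) := by
  have hcont := continuous_ofChart hat x
  have hsurj := surjective_ofChart h𝒳 x hx2
  refine ⟨?_⟩
  have : (Set.univ : Set (AlgSt.Points 𝒳)) = AlgSt.Points.ofChart x '' Set.univ := by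
    rw [Set.image_univ, hsurj.range_eq]
  rw [this]
  exact isCompact_univ.image hcont

/-- `S12857`. -/
theorem isQuasiCompact_iff_exists_compact_chart (h𝒳 : FibCat.IsFibGrpd 𝒳.p)
    (hat : AlgSt.HasAtlas (AlgSp.LocP @Smooth) 𝒳) :
    AlgSt.IsQuasiCompact 𝒳 ↔
      ∃ (U : Over S) (x : FibCat.overCat U ⥤ᵇ 𝒳), CompactSpace ↥U.left ∧
        AlgSt.RepByAlgSpWith (AlgSp.LocP @Smooth) x ∧ AlgSt.RepByAlgSpWith AlgSp.IsSurjectiveMor x := by
  constructor
  · rintro ⟨U, x, hU, hx1, hx2⟩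
    exact ⟨U, x, inferInstance, hx1, hx2⟩
  · rintro ⟨U, x, hU, hx1, hx2⟩
    have := compactSpace_points_of_compact_chart h𝒳 hat x hx2
    exact isQuasiCompact_of_compactSpace_points h𝒳 hat

/-- `S12858`. -/
theorem isQuasiCompact_of_isSurjective {𝒰 : AlgSt.Cat S} (h𝒰 : FibCat.IsFibGrpd 𝒰.p)
    (hat𝒰 : AlgSt.HasAtlas (AlgSp.LocP @Smooth) 𝒰) (h𝒳 : FibCat.IsFibGrpd 𝒳.p)
    (hat : AlgSt.HasAtlas (AlgSp.LocP @Smooth) 𝒳) (f : 𝒰 ⥤ᵇ 𝒳) (hf : AlgSt.IsSurjective f)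
    (hqc : AlgSt.IsQuasiCompact 𝒰) : AlgSt.IsQuasiCompact 𝒳 := by
  have := compactSpace_points_of_isQuasiCompact h𝒰 hat𝒰 hqc
  have hc : CompactSpace (AlgSt.Points 𝒳) := by
    refine ⟨?_⟩
    have e : (Set.univ : Set (AlgSt.Points 𝒳)) = AlgSt.Points.map f '' Set.univ := by
      rw [Set.image_univ, Function.Surjective.range_eq hf]
    rw [e]
    exact isCompact_univ.image (continuous_points_map hat f)
  exact isQuasiCompact_of_compactSpace_points h𝒳 hat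

/-- `S12856`. -/
theorem isQuasiCompact_iff_exists_qc_space (h𝒳 : FibCat.IsFibGrpd 𝒳.p)
    (hat : AlgSt.HasAtlas (AlgSp.LocP @Smooth) 𝒳) :
    AlgSt.IsQuasiCompact 𝒳 ↔
      ∃ (U : AlgSp.Space S) (x : AlgSt.ofSp U.obj ⥤ᵇ 𝒳), AlgSp.IsQuasiCompactSp U.obj ∧
        AlgSt.RepByAlgSpWith (AlgSp.LocP @Smooth) x ∧ AlgSt.RepByAlgSpWith AlgSp.IsSurjectiveMor x := by
  constructor
  · rintro ⟨U, x, hU, hx1, hx2⟩
    refine ⟨⟨(AlgSp.yon S).obj U, AlgSp.IsAlgSpace.yon_obj U⟩, BasedFunctor.comp (AlgSt.toOverCat U) x,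
      ⟨U, 𝟙 _, AlgSp.repWith_id _ U, AlgSp.repWith_id _ U, inferInstance⟩,
      repByAlgSpWith_toOverCat_comp _ x hx1, repByAlgSpWith_toOverCat_comp _ x hx2⟩
  · rintro ⟨U, x, ⟨W, c, hc1, hc2, hW⟩, hx1, hx2⟩
    have hW' : CompactSpace ↥W.left := hW
    have h1 := repByAlgSpWith_smooth_chart_comp U x hx1 c hc1
    have h2 := repByAlgSpWith_surjective_chart_comp U x hx2 c hc2
    exact (isQuasiCompact_iff_exists_compact_chart h𝒳 hat).mpr ⟨W, _, hW', h1, h2⟩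

end Groth.Agent.Lib.Helper80
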