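import Mathlib.Topology.Spectral.ConstructibleTopology
import Mathlib.Topology.Spectral.Hom
import Mathlib.Topology.Sober
import Mathlib.Topology.Maps.Basic

/-!
# Open quotients of spectral spaces by spectral relations are spectral (helper80)

Pure topology: if `q : X → Y` is continuous, open and surjective from a spectral space `X`, and the relation
`q x = q x'` is the image of a spectral space `R` under a pair of spectral maps `s, t : R → X`, then `Y` is spectral.
-/

set_option autoImplicit false

open Set Topology

namespace Groth.Agent.Lib.Helper80.SpectralQuot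

universe v₁ v₂ v₃

variable {X : Type v₁} {Y : Type v₂} {R : Type v₃} [TopologicalSpace X] [TopologicalSpace Y] [TopologicalSpace R]

/-- Closed for the constructible topology ("pro-constructible"). -/
def IsProCons (s : Set X) : Prop := @IsClosed X (constructibleTopology X) s

theorem isOpen_cons_of_isOpen [PrespectralSpace X] {s : Set X} (hs : IsOpen s) :
    @IsOpen X (constructibleTopology X) s := by
  obtain ⟨S, hS, rfl⟩ := PrespectralSpace.isTopologicalBasis.open_eq_sUnion hs
  exact @isOpen_sUnion X (constructibleTopology X) S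
    (fun t ht => (hS ht).2.isOpen_constructibleTopology_of_isOpen (hS ht).1)

theorem isProCons_of_isClosed [PrespectralSpace X] {s : Set X} (hs : IsClosed s) : IsProCons s := by
  unfold IsProCons
  rw [← @isOpen_compl_iff X s (constructibleTopology X)]
  exact isOpen_cons_of_isOpen hs.isOpen_compl

theorem isProCons_of_isCompact_isOpen {s : Set X} (hc : IsCompact s) (ho : IsOpen s) : IsProCons s := by
  unfold IsProCons
  rw [← @isOpen_compl_iff X s (constructibleTopology X)]
  exact IsCompact.isOpen_constructibleTopology_of_isClosed (by rwa [compl_compl]) ho.isClosed_compl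

theorem compactSpace_cons [SpectralSpace X] : @CompactSpace X (constructibleTopology X) :=
  @Function.Surjective.compactSpace (WithConstructibleTopology X) X _ (constructibleTopology X)
    WithTopology.ofTopology (WithTopology.continuous_ofTopology _) _ (WithTopology.ofTopology_surjective _)

/-- The constructible topology of a `T0` prespectral space is Hausdorff. -/
theorem t2Space_cons [T0Space X] [PrespectralSpace X] : @T2Space X (constructibleTopology X) := by
  refine @T2Space.mk X (constructibleTopology X) ?_
  intro x y hxy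
  have key : ∀ {a b : X} {U : Set X}, IsOpen U → a ∈ U → b ∉ U →
      ∃ u v : Set X, @IsOpen X (constructibleTopology X) u ∧ @IsOpen X (constructibleTopology X) v ∧
        a ∈ u ∧ b ∈ v ∧ Disjoint u v := by
    intro a b U hU ha hb
    obtain ⟨W, ⟨hWo, hWc⟩, haW, hWU⟩ := PrespectralSpace.isTopologicalBasis.exists_subset_of_mem_open ha hU
    refine ⟨W, Wᶜ, hWc.isOpen_constructibleTopology_of_isOpen hWo,
      IsCompact.isOpen_constructibleTopology_of_isClosed (by rwa [compl_compl]) hWo.isClosed_compl,
      haW, fun h => hb (hWU h), disjoint_compl_right⟩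
  obtain ⟨U, hU, h⟩ := exists_isOpen_xor_mem hxy
  rcases h with ⟨hx, hy⟩ | ⟨hy, hx⟩
  · exact key hU hx hy
  · obtain ⟨u, v, hu, hv, hyu, hxv, hd⟩ := key hU hy hx
    exact ⟨v, u, hv, hu, hxv, hyu, hd.symm⟩

/-- A spectral map is continuous for the constructible topologies. -/
theorem continuous_cons {f : R → X} (hf : IsSpectralMap f) :
    @Continuous R X (constructibleTopology R) (constructibleTopology X) f := by
  refine (continuous_generateFrom_iff (t := constructibleTopology R) (f := f)
    (b := constructibleTopologySubbasis X)).mpr ?_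
  rintro s (⟨hso, hsc⟩ | ⟨hsc, hscc⟩)
  · exact (hf.isCompact_preimage_of_isOpen hso hsc).isOpen_constructibleTopology_of_isOpen
      (hso.preimage hf.continuous)
  · refine IsCompact.isOpen_constructibleTopology_of_isClosed ?_ (hsc.preimage hf.continuous)
    rw [← preimage_compl]
    exact hf.isCompact_preimage_of_isOpen hsc.isOpen_compl hscc

theorem IsProCons.preimage {f : R → X} (hf : IsSpectralMap f) {s : Set X} (hs : IsProCons s) :
    IsProCons (f ⁻¹' s) :=
  @IsClosed.preimage R X (constructibleTopology R) (constructibleTopology X) f (continuous_cons hf) s hs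

theorem IsProCons.image [SpectralSpace R] [T0Space X] [PrespectralSpace X] {f : R → X} (hf : IsSpectralMap f)
    {s : Set R} (hs : IsProCons s) : IsProCons (f '' s) := by
  have := compactSpace_cons (X := R)
  have := t2Space_cons (X := X)
  have h1 : @IsCompact R (constructibleTopology R) s :=
    @IsClosed.isCompact R (constructibleTopology R) s _ hs
  have h2 : @IsCompact X (constructibleTopology X) (f '' s) :=
    @IsCompact.image R X (constructibleTopology R) (constructibleTopology X) s f h1 (continuous_cons hf)
  exact @IsCompact.isClosed X (constructibleTopology X) _ (f '' s) h2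

theorem isProCons_singleton [T0Space X] [PrespectralSpace X] (x : X) : IsProCons ({x} : Set X) := by
  have := t2Space_cons (X := X)
  exact @isClosed_singleton X (constructibleTopology X) _ x

/-- Compactness of the constructible topology, for families of pro-constructible sets. -/
theorem nonempty_iInter_of_isProCons [SpectralSpace X] {ι : Type*} (F : ι → Set X)
    (hF : ∀ i, IsProCons (F i)) (hfin : ∀ u : Finset ι, (⋂ i ∈ u, F i).Nonempty) : (⋂ i, F i).Nonempty := by
  have := compactSpace_cons (X := X)
  have := @IsCompact.inter_iInter_nonempty X (constructibleTopology X) univ ι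
    (@isCompact_univ X (constructibleTopology X) _) F hF (fun u => by simpa using hfin u)
  simpa using this

/-- Every point of the closure of a pro-constructible subset of a spectral space is a specialisation of a point of that
subset. -/
theorem exists_specializes_of_mem_closure [SpectralSpace X] {E : Set X} (hE : IsProCons E) {z : X}
    (hz : z ∈ closure E) : ∃ e ∈ E, e ⤳ z := by
  let ι := {W : Set X // IsOpen W ∧ IsCompact W ∧ z ∈ W}
  let F : Option ι → Set X := fun o => o.elim E (fun W => W.1)
  let G : Option ι → Set X := fun o => o.elim univ (fun W => W.1)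
  have hne : (⋂ o, F o).Nonempty := by
    refine nonempty_iInter_of_isProCons F ?_ ?_
    · rintro (_ | W)
      · exact hE
      · exact isProCons_of_isCompact_isOpen W.2.2.1 W.2.1
    · intro u
      -- the intersection of the finitely many neighbourhoods is an open neighbourhood of `z`
      have hN : IsOpen (⋂ o ∈ u, G o) := isOpen_biInter_finset fun o _ => by
        rcases o with _ | W
        · exact isOpen_univ
        · exact W.2.1
      have hzN : z ∈ ⋂ o ∈ u, G o := by
        refine mem_iInter₂.mpr fun o _ => ?_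
        rcases o with _ | W
        · trivial
        · exact W.2.2.2
      obtain ⟨e, heN, heE⟩ := mem_closure_iff.mp hz _ hN hzN
      refine ⟨e, mem_iInter₂.mpr fun o ho => ?_⟩
      rcases o with _ | W
      · exact heE
      · exact (mem_iInter₂.mp heN (some W) ho)
  obtain ⟨e, he⟩ := hne
  rw [mem_iInter] at he
  refine ⟨e, he none, specializes_iff_forall_open.mpr fun s hs hzs => ?_⟩
  obtain ⟨W, ⟨hWo, hWc⟩, hzW, hWs⟩ := PrespectralSpace.isTopologicalBasis.exists_subset_of_mem_open hzs hs
  exact hWs (he (some ⟨W, hWo, hWc, hzW⟩))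

/-- In a quasi-sober space every point `z` of a closed subset `Z` is the specialisation of a maximal point of `Z`. -/
theorem exists_maximal_point [QuasiSober X] {Z : Set X} (hZ : IsClosed Z) {z : X} (hz : z ∈ Z) :
    ∃ η ∈ Z, η ⤳ z ∧ ∀ g ∈ Z, g ⤳ η → η ⤳ g := by
  have : QuasiSober ↥Z := Topology.IsClosedEmbedding.quasiSober hZ.isClosedEmbedding_subtypeVal
  let z' : ↥Z := ⟨z, hz⟩
  have hirr : IsIrreducible (irreducibleComponent z') := isIrreducible_irreducibleComponent
  have hgen : IsGenericPoint hirr.genericPoint (irreducibleComponent z') :=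
    hirr.isGenericPoint_genericPoint isClosed_irreducibleComponent
  let η' : ↥Z := hirr.genericPoint
  refine ⟨η'.1, η'.2, ?_, ?_⟩
  · have h1 : η' ⤳ z' := by
      rw [specializes_iff_mem_closure, hgen.def]
      exact mem_irreducibleComponent
    exact (subtype_specializes_iff η' z').mp h1
  · intro g hg hgη
    have h1 : (⟨g, hg⟩ : ↥Z) ⤳ η' := (subtype_specializes_iff _ _).mpr hgη
    have h2 : irreducibleComponent z' ⊆ closure ({(⟨g, hg⟩ : ↥Z)} : Set ↥Z) := by
      rw [← hgen.def]
      exact closure_minimal (singleton_subset_iff.mpr (specializes_iff_mem_closure.mp h1)) isClosed_closure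
    have h3 := eq_irreducibleComponent (isIrreducible_singleton.closure.isPreirreducible) h2
    have h4 : (⟨g, hg⟩ : ↥Z) ∈ closure ({η'} : Set ↥Z) := by
      rw [hgen.def, ← h3]
      exact subset_closure rfl
    exact (subtype_specializes_iff η' ⟨g, hg⟩).mp (specializes_iff_mem_closure.mpr h4)

section Quotient

variable (q : X → Y) (s t : R → X)

omit [TopologicalSpace X] [TopologicalSpace Y] [TopologicalSpace R] in
/-- The saturation of `W` for the relation described by `s`, `t`. -/
theorem preimage_image_eq_image_preimage (hR : ∀ x x', q x = q x' ↔ ∃ r, s r = x ∧ t r = x') (W : Set X) :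
    q ⁻¹' (q '' W) = s '' (t ⁻¹' W) := by
  ext x
  constructor
  · rintro ⟨w, hw, hqw⟩
    obtain ⟨r, hr1, hr2⟩ := (hR x w).mp hqw.symm
    exact ⟨r, by rw [mem_preimage, hr2]; exact hw, hr1⟩
  · rintro ⟨r, hr, rfl⟩
    exact ⟨t r, hr, ((hR (s r) (t r)).mpr ⟨r, rfl, rfl⟩).symm⟩

variable {q s t}

theorem prespectralSpace_of_quot [PrespectralSpace X] (hqc : Continuous q) (hqo : IsOpenMap q)
    (hqs : Function.Surjective q) : PrespectralSpace Y := by
  refine PrespectralSpace.of_isTopologicalBasis (B := {V | ∃ W : Set X, IsOpen W ∧ IsCompact W ∧ q '' W = V}) ?_ ?_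
  · refine TopologicalSpace.isTopologicalBasis_of_isOpen_of_nhds ?_ ?_
    · rintro _ ⟨W, hWo, -, rfl⟩
      exact hqo W hWo
    · intro y O hy hO
      obtain ⟨x, rfl⟩ := hqs y
      obtain ⟨W, ⟨hWo, hWc⟩, hxW, hWO⟩ :=
        PrespectralSpace.isTopologicalBasis.exists_subset_of_mem_open (show x ∈ q ⁻¹' O from hy) (hO.preimage hqc)
      exact ⟨q '' W, ⟨W, hWo, hWc, rfl⟩, ⟨x, hxW, rfl⟩, image_subset_iff.mpr hWO⟩
  · rintro _ ⟨W, -, hWc, rfl⟩
    exact hWc.image hqc

theorem isCompact_preimage_of_quot [PrespectralSpace X] (hqc : Continuous q) (hqo : IsOpenMap q)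
    (hqs : Function.Surjective q) (hs : Continuous s) (ht : IsSpectralMap t)
    (hR : ∀ x x', q x = q x' ↔ ∃ r, s r = x ∧ t r = x') {V : Set Y} (hVo : IsOpen V) (hVc : IsCompact V) :
    IsCompact (q ⁻¹' V) := by
  obtain ⟨W, hWc, rfl⟩ := hqo.exists_opens_image_eq_of_prespectralSpace hqc
    (by rw [hqs.range_eq]; exact subset_univ _) hVo hVc
  rw [preimage_image_eq_image_preimage q s t hR]
  exact (ht.isCompact_preimage_of_isOpen W.2 hWc).image hs

theorem quasiSeparatedSpace_of_quot [PrespectralSpace X] [QuasiSeparatedSpace X] (hqc : Continuous q)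
    (hqo : IsOpenMap q) (hqs : Function.Surjective q) (hs : Continuous s) (ht : IsSpectralMap t)
    (hR : ∀ x x', q x = q x' ↔ ∃ r, s r = x ∧ t r = x') : QuasiSeparatedSpace Y := by
  refine ⟨fun U V hUo hUc hVo hVc => ?_⟩
  have h1 := isCompact_preimage_of_quot hqc hqo hqs hs ht hR hUo hUc
  have h2 := isCompact_preimage_of_quot hqc hqo hqs hs ht hR hVo hVc
  have h3 : IsCompact (q ⁻¹' U ∩ q ⁻¹' V) :=
    QuasiSeparatedSpace.inter_isCompact _ _ (hUo.preimage hqc) h1 (hVo.preimage hqc) h2
  have h4 : U ∩ V = q '' (q ⁻¹' U ∩ q ⁻¹' V) := by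
    rw [← preimage_inter, image_preimage_eq _ hqs]
  rw [h4]
  exact h3.image hqc

theorem quasiSober_of_quot [SpectralSpace X] (hqc : Continuous q) (hqo : IsOpenMap q)
    (hqs : Function.Surjective q) (hs : Continuous s) (ht : IsSpectralMap t)
    (hR : ∀ x x', q x = q x' ↔ ∃ r, s r = x ∧ t r = x') : QuasiSober Y := by
  have := prespectralSpace_of_quot hqc hqo hqs
  refine ⟨fun {T} hTirr hTcl => ?_⟩
  let ι := {V : Set Y // IsOpen V ∧ IsCompact V ∧ (T ∩ V).Nonempty}
  let F : Option ι → Set X := fun o => o.elim (q ⁻¹' T) (fun V => q ⁻¹' V.1)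
  let G : Option ι → Set Y := fun o => o.elim univ (fun V => V.1)
  have hne : (⋂ o, F o).Nonempty := by
    refine nonempty_iInter_of_isProCons F ?_ ?_
    · rintro (_ | V)
      · exact isProCons_of_isClosed (hTcl.preimage hqc)
      · exact isProCons_of_isCompact_isOpen
          (isCompact_preimage_of_quot hqc hqo hqs hs ht hR V.2.1 V.2.2.1) (V.2.1.preimage hqc)
    · intro u
      classical
      obtain ⟨ξ, hξT, hξ⟩ := (isIrreducible_iff_sInter.mp hTirr) (u.image G)
        (fun V hV => by
          obtain ⟨o, -, rfl⟩ := Finset.mem_image.mp hV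
          rcases o with _ | V
          · exact isOpen_univ
          · exact V.2.1)
        (fun V hV => by
          obtain ⟨o, -, rfl⟩ := Finset.mem_image.mp hV
          rcases o with _ | V
          · simpa [G] using hTirr.nonempty
          · exact V.2.2.2)
      obtain ⟨x, rfl⟩ := hqs ξ
      refine ⟨x, mem_iInter₂.mpr fun o ho => ?_⟩
      rcases o with _ | V
      · exact hξT
      · exact mem_sInter.mp hξ V.1 (Finset.mem_coe.mpr (Finset.mem_image.mpr ⟨some V, ho, rfl⟩))
  obtain ⟨x, hx⟩ := hne
  rw [mem_iInter] at hx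
  refine ⟨q x, ?_⟩
  rw [isGenericPoint_def]
  apply subset_antisymm
  · exact closure_minimal (singleton_subset_iff.mpr (hx none)) hTcl
  · intro ξ hξ
    rw [mem_closure_iff]
    intro O hO hξO
    obtain ⟨V, ⟨hVo, hVc⟩, hξV, hVO⟩ := PrespectralSpace.isTopologicalBasis.exists_subset_of_mem_open hξO hO
    exact ⟨q x, hVO (hx (some ⟨V, hVo, hVc, ξ, hξ, hξV⟩)), rfl⟩

theorem t0Space_of_quot [SpectralSpace X] [SpectralSpace R] (hqc : Continuous q) (hqo : IsOpenMap q)
    (hs : IsSpectralMap s) (ht : IsSpectralMap t)
    (hR : ∀ x x', q x = q x' ↔ ∃ r, s r = x ∧ t r = x') (hqs : Function.Surjective q) : T0Space Y := by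
  refine ⟨fun ξ ξ' h => ?_⟩
  obtain ⟨x, rfl⟩ := hqs ξ
  obtain ⟨x', rfl⟩ := hqs ξ'
  have horb : ∀ x₀ : X, IsProCons (q ⁻¹' {q x₀}) := by
    intro x₀
    have : q ⁻¹' {q x₀} = s '' (t ⁻¹' {x₀}) := by
      rw [← preimage_image_eq_image_preimage q s t hR, image_singleton]
    rw [this]
    exact ((isProCons_singleton x₀).preimage ht).image hs
  have hcl : ∀ x₀ : X, closure (q ⁻¹' {q x₀}) = q ⁻¹' closure {q x₀} :=
    fun x₀ => (hqo.preimage_closure_eq_closure_preimage hqc _).symm
  have heq : closure ({q x} : Set Y) = closure {q x'} := inseparable_iff_closure_eq.mp h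
  let Z : Set X := q ⁻¹' closure {q x}
  have hZ : IsClosed Z := isClosed_closure.preimage hqc
  have hxZ : x ∈ Z := subset_closure rfl
  obtain ⟨η, hηZ, -, hηmax⟩ := exists_maximal_point hZ hxZ
  have key : ∀ x₀ : X, closure ({q x₀} : Set Y) = closure {q x} → q η = q x₀ := by
    intro x₀ hx₀
    have h1 : η ∈ closure (q ⁻¹' {q x₀}) := by
      rw [hcl, hx₀]; exact hηZ
    obtain ⟨a, ha, haη⟩ := exists_specializes_of_mem_closure (horb x₀) h1
    have haZ : a ∈ Z := by
      change q a ∈ closure {q x}
      rw [← hx₀, show q a = q x₀ from ha]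
      exact subset_closure rfl
    have : a = η := (haη.antisymm (hηmax a haZ haη)).eq
    rw [← this]; exact ha
  rw [← key x rfl, ← key x' heq.symm]

/-- An open quotient of a spectral space by a "spectral" relation is spectral. -/
theorem spectralSpace_of_quot [SpectralSpace X] [SpectralSpace R] (hqc : Continuous q) (hqo : IsOpenMap q)
    (hqs : Function.Surjective q) (hs : IsSpectralMap s) (ht : IsSpectralMap t)
    (hR : ∀ x x', q x = q x' ↔ ∃ r, s r = x ∧ t r = x') : SpectralSpace Y :=
  { toT0Space := t0Space_of_quot hqc hqo hs ht hR hqs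
    toCompactSpace := hqs.compactSpace hqc
    toQuasiSober := quasiSober_of_quot hqc hqo hqs hs.continuous ht hR
    toQuasiSeparatedSpace := quasiSeparatedSpace_of_quot hqc hqo hqs hs.continuous ht hR
    toPrespectralSpace := prespectralSpace_of_quot hqc hqo hqs }

end Quotient

end Groth.Agent.Lib.Helper80.SpectralQuot
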