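import Groth.Agent.Lib.Helper80.AlgStPts9
import Groth.Agent.Lib.Helper80.AlgStPsh4
import Groth.Agent.Lib.Helper80.SpectralQuot

/-!
# The space of points of a quasi-separated algebraic stack is locally spectral (helper80)
-/

set_option autoImplicit false
set_option backward.isDefEq.respectTransparency false

universe u

open CategoryTheory CategoryTheory.Functor CategoryTheory.Limits AlgebraicGeometry Opposite

namespace Groth.Agent.Lib.Helper80

open BasedFunctor

variable {S : Scheme.{u}} {𝒳 𝒴 : AlgSt.Cat S}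

/-- A scheme chart of `U ×_𝒳 V`, given a representing sheaf and a surjective chart of it: pairs of points of `U`, `V` with
the same image in `|𝒳|` are exactly the images of points of the chart. -/
theorem exists_chart_pair_of_chart (h𝒳 : FibCat.IsFibGrpd 𝒳.p) {U V : Over S} (x : FibCat.overCat U ⥤ᵇ 𝒳)
    (y : FibCat.overCat V ⥤ᵇ 𝒳) (E : AlgSp.Sp S) (e : AlgSt.ofSp E ⥤ᵇ FibCat.fp x y)
    (he : FibCat.IsEquivOver e) {A : Over S} (c : (AlgSp.yon S).obj A ⟶ E) (hc2 : AlgSp.RepWith @Surjective c) :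
    ∃ (a : A ⟶ U) (b : A ⟶ V),
      ∀ (t : ↥U.left) (v : ↥V.left), AlgSt.Points.ofChart x t = AlgSt.Points.ofChart y v ↔
        ∃ s : ↥A.left, a.left s = t ∧ b.left s = v := by
  let pe : FibCat.overCat A ⥤ᵇ FibCat.fp x y := BasedFunctor.comp (ptFun c.hom) e
  let G₁ : FibCat.overCat A ⥤ᵇ FibCat.overCat U := BasedFunctor.comp pe (FibCat.fpFst x y)
  let G₂ : FibCat.overCat A ⥤ᵇ FibCat.overCat V := BasedFunctor.comp pe (FibCat.fpSnd x y)
  let a : A ⟶ U := overClassify G₁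
  let b : A ⟶ V := overClassify G₂
  let j₁ : G₁ ≅ AlgSt.overMap a := isoOverMap G₁
  let j₂ : G₂ ≅ AlgSt.overMap b := isoOverMap G₂
  let i : BasedFunctor.comp (AlgSt.overMap a) x ≅ BasedFunctor.comp (AlgSt.overMap b) y :=
    whiskerRightIso j₁.symm x ≪≫
      (whiskerLeftIso pe (FibCat.fpIso x y) : BasedFunctor.comp G₁ x ≅ BasedFunctor.comp G₂ y) ≪≫
      whiskerRightIso j₂ y
  refine ⟨a, b, fun t v => ⟨fun htv => ?_, ?_⟩⟩
  · rw [ofChart_eq_map_chartPt, ofChart_eq_map_chartPt] at htv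
    obtain ⟨w, hw1, hw2⟩ := exists_point_fp (overCat_isFibGrpd V) h𝒳 (overCat_isFibGrpd U) y x
      (AlgSt.Points.mk (chartPt U t)) (AlgSt.Points.mk (chartPt V v)) htv
    obtain ⟨ξ, hξ⟩ := points_map_surjective_of_isEquivOver e he w
    obtain ⟨s, hs⟩ := exists_chartPt_ptFun c hc2 ξ
    have hpe : AlgSt.Points.map pe (AlgSt.Points.mk (chartPt A s)) = w := by
      rw [← hξ, ← hs, ofChart_eq_map_chartPt, points_map_comp]
      rfl
    refine ⟨s, ?_, ?_⟩
    · apply chartPt_injective U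
      rw [← map_overMap_chartPt a s, ← points_map_eq_of_iso j₁, ← hw1, ← hpe, points_map_comp]
      rfl
    · apply chartPt_injective V
      rw [← map_overMap_chartPt b s, ← points_map_eq_of_iso j₂, ← hw2, ← hpe, points_map_comp]
      rfl
  · rintro ⟨s, rfl, rfl⟩
    rw [← ofChart_overMap a x s, ← ofChart_overMap b y s, ofChart_congr i]

theorem isQuasiCompactSp_yon (W : Over S) [CompactSpace ↥W.left] :
    AlgSp.IsQuasiCompactSp ((AlgSp.yon S).obj W) :=
  ⟨W, 𝟙 _, AlgSp.repWith_id _ W, AlgSp.repWith_id _ W, inferInstance⟩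

theorem isQuasiCompactSp_of_isQuasiCompactMor {E : AlgSp.Sp S} {W : Over S} [CompactSpace ↥W.left]
    (φ : E ⟶ (AlgSp.yon S).obj W) (hφ : AlgSp.IsQuasiCompactMor φ) : AlgSp.IsQuasiCompactSp E :=
  hφ (AlgSp.IsAlgSpace.yon_obj W) (isQuasiCompactSp_yon W) (𝟙 _) (𝟙 E) φ (IsPullback.id_horiz φ)

theorem compactSpace_prod_left [QuasiSeparatedSpace ↥S] (V U : Over S) [CompactSpace ↥V.left]
    [CompactSpace ↥U.left] : CompactSpace ↥(V ⨯ U).left := by
  have : QuasiCompact U.hom := quasiCompact_of_compactSpace U.hom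
  have h1 : CompactSpace ↥(pullback V.hom U.hom) := inferInstance
  exact QuasiCompact.compactSpace_of_compactSpace (Over.prodLeftIsoPullback V U).hom

/-- Every compact scheme receives a surjective morphism from an affine scheme. -/
theorem exists_affine_surjective (A : Scheme.{u}) [CompactSpace ↥A] :
    ∃ (A' : Scheme.{u}) (_ : IsAffine A') (j : A' ⟶ A), Surjective j := by
  let 𝒰 := A.affineCover.finiteSubcover
  have : Finite 𝒰.I₀ := inferInstance
  have : ∀ i, IsAffine (𝒰.X i) := fun i => by dsimp [𝒰]; infer_instance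
  exact ⟨∐ 𝒰.X, inferInstance, Sigma.desc 𝒰.f, inferInstance⟩

/-- For a quasi-compact diagonal, the relation "same image in `|𝒳|`" on the points of an affine chart is the image of an
affine scheme. -/
theorem exists_affine_relation [QuasiSeparatedSpace ↥S] (h𝒳 : FibCat.IsFibGrpd 𝒳.p)
    (hΔ : AlgSt.RepByAlgSpWith AlgSp.IsQuasiCompactMor (FibCat.diag (FibCat.toSelf 𝒳)))
    {U : Over S} [CompactSpace ↥U.left] (x : FibCat.overCat U ⥤ᵇ 𝒳) :
    ∃ (A : Scheme.{u}) (_ : IsAffine A) (s t : A ⟶ U.left),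
      ∀ u u' : ↥U.left, AlgSt.Points.ofChart x u = AlgSt.Points.ofChart x u' ↔ ∃ r : ↥A, s r = u ∧ t r = u' := by
  let a := AlgSt.overMap (prod.fst : U ⨯ U ⟶ U)
  let b := AlgSt.overMap (prod.snd : U ⨯ U ⟶ U)
  let ε' : BasedFunctor.comp (BasedFunctor.comp a x) (FibCat.toSelf 𝒳) ≅
    BasedFunctor.comp (BasedFunctor.comp b x) (FibCat.toSelf 𝒳) := selfOverIso _ _
  have h1 := magic_isEquivOver x x a b ε' (selfOverIso _ _) (overProd_isFFEssSurjOver U U _)
  obtain ⟨E, e', he', hqc⟩ := hΔ (U ⨯ U) (pairToSq x x a b ε')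
  have := compactSpace_prod_left U U
  obtain ⟨A, c, hc1, hc2, hA⟩ := isQuasiCompactSp_of_isQuasiCompactMor _ hqc
  have hA' : CompactSpace ↥A.left := hA
  obtain ⟨a', b', hab⟩ := exists_chart_pair_of_chart h𝒳 x x E.obj (BasedFunctor.comp e' (magic x x a b ε'))
    (IsEquivOver.comp he' h1) c hc2
  obtain ⟨A', hA'aff, j, hj⟩ := exists_affine_surjective A.left
  refine ⟨A', hA'aff, j ≫ a'.left, j ≫ b'.left, fun u u' => ?_⟩
  rw [hab]
  constructor
  · rintro ⟨r, rfl, rfl⟩
    obtain ⟨r', rfl⟩ := hj.surj r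
    exact ⟨r', rfl, rfl⟩
  · rintro ⟨r', rfl, rfl⟩
    exact ⟨j r', rfl, rfl⟩

end Groth.Agent.Lib.Helper80
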