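import Groth.Agent.Lib.Helper80.AlgStSpPts
import Groth.Agent.Lib.Helper80.AlgStSpectral
import Groth.Agent.Lib.Helper80.AlgStDesc
import Groth.Agent.Lib.Helper51.AlgSpPoints

/-!
# Quasi-compact morphisms of algebraic stacks, representable case (helper80)
-/

set_option autoImplicit false
set_option backward.isDefEq.respectTransparency false

universe u

open CategoryTheory CategoryTheory.Functor CategoryTheory.Limits AlgebraicGeometry Opposite

namespace Groth.Agent.Lib.Helper80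

open BasedFunctor

variable {S : Scheme.{u}} {𝒳 𝒴 : AlgSt.Cat S}

/-- The base change of the algebraic space representing `U ×_𝒴 𝒳` along a map `g : Z ⟶ h_U` of sheaves represents
`Z ×_𝒴 𝒳`, compatibly with the projections to `Z`. -/
theorem exists_equiv_fp_of_isPullback {U : Over S} (y : FibCat.overCat U ⥤ᵇ 𝒴) (f : 𝒳 ⥤ᵇ 𝒴)
    (F : AlgSp.Sp S) (e : AlgSt.ofSp F ⥤ᵇ FibCat.fp y f) (he : FibCat.IsEquivOver e)
    {Z Z' : AlgSp.Sp S} (g : Z ⟶ (AlgSp.yon S).obj U) (fst : Z' ⟶ F) (snd : Z' ⟶ Z)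
    (sq : IsPullback fst snd (AlgSt.spMapOfOver (BasedFunctor.comp e (FibCat.fpFst y f))) g) :
    ∃ ε : AlgSt.ofSp Z' ⥤ᵇ
        FibCat.fp (BasedFunctor.comp (BasedFunctor.comp (AlgSt.ofSpMap g) (AlgSt.toOverCat U)) y) f,
      FibCat.IsEquivOver ε ∧
        Nonempty (BasedFunctor.comp ε (FibCat.fpFst _ f) ≅ AlgSt.ofSpMap snd) := by
  let Φ : AlgSt.ofSp F ⥤ᵇ FibCat.overCat U := BasedFunctor.comp e (FibCat.fpFst y f)
  let φ : F ⟶ (AlgSp.yon S).obj U := AlgSt.spMapOfOver Φ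
  let gU : AlgSt.ofSp Z ⥤ᵇ FibCat.overCat U := BasedFunctor.comp (AlgSt.ofSpMap g) (AlgSt.toOverCat U)
  have sq' := sq.flip.map (sheafToPresheaf (AlgSp.J S) (Type (u + 1)))
  -- step 1: `ofSp Z' ≃ ofSp Z ×_{h_U} ofSp F`
  let k₁ := ofPshFp sq'.w
  have hk₁ : FibCat.IsEquivOver k₁ := ofPshFp_isEquivOver sq'
  -- step 2: change the base from the category of `h_U` to `(Sch/U)`
  obtain ⟨i⟩ := ofSpMap_spMapOfOver_iso Φ
  have eG : BasedFunctor.comp (AlgSt.ofSpMap φ) (AlgSt.toOverCat U) ≅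
      BasedFunctor.comp (BasedFunctor.id _) Φ :=
    (whiskerRightIso i.symm (AlgSt.toOverCat U) : _ ≅
      BasedFunctor.comp (BasedFunctor.comp Φ (AlgSt.ofOverCat U)) (AlgSt.toOverCat U))
  have eF : BasedFunctor.comp (AlgSt.ofSpMap g) (AlgSt.toOverCat U) ≅
      BasedFunctor.comp (BasedFunctor.id _) gU := BasedNatIso.id _
  obtain ⟨hfull, hfaith, -⟩ := IsEquivOver.isFFEssSurjOver (toOverCat_isEquivOver U)
  let k₂ := fpMap gU Φ (AlgSt.ofSpMap g) (AlgSt.ofSpMap φ) (BasedFunctor.id _) (BasedFunctor.id _)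
    (AlgSt.toOverCat U) eF eG
  have hk₂ : FibCat.IsEquivOver k₂ :=
    fpMap_isEquivOver _ _ _ _ _ _ _ eF eG isEquivOver_id isEquivOver_id
  -- step 3: replace `ofSp F` by `U ×_𝒴 𝒳`
  let k₃ := fpMapRight gU (FibCat.fpFst y f) e Φ (BasedNatIso.id _)
  have hk₃ : FibCat.IsEquivOver k₃ := fpMapRight_isEquivOver gU (FibCat.fpFst y f) e Φ (BasedNatIso.id _) he
  -- step 4: pasting
  obtain ⟨k₄, hk₄, -, ⟨η₄⟩⟩ := IsEquivOver.symm (fpPasteLeft_isEquivOver gU y f)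
  refine ⟨BasedFunctor.comp (BasedFunctor.comp (BasedFunctor.comp k₁ k₂) k₃) k₄,
    IsEquivOver.comp (IsEquivOver.comp (IsEquivOver.comp hk₁ hk₂) hk₃) hk₄, ⟨?_⟩⟩
  -- the projections to `ofSp Z`
  have j₄ : BasedFunctor.comp k₄ (FibCat.fpFst (BasedFunctor.comp gU y) f) ≅
      FibCat.fpFst gU (FibCat.fpFst y f) :=
    (whiskerLeftIso k₄ (BasedNatIso.id _ : FibCat.fpFst (BasedFunctor.comp gU y) f ≅
      BasedFunctor.comp (fpPasteLeft gU y f) (FibCat.fpFst gU (FibCat.fpFst y f))) : _ ≅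
      BasedFunctor.comp (BasedFunctor.comp k₄ (fpPasteLeft gU y f)) (FibCat.fpFst gU (FibCat.fpFst y f))) ≪≫
    whiskerRightIso η₄ (FibCat.fpFst gU (FibCat.fpFst y f))
  exact (whiskerLeftIso (BasedFunctor.comp (BasedFunctor.comp k₁ k₂) k₃) j₄ : _ ≅
    BasedFunctor.comp (BasedFunctor.comp (BasedFunctor.comp k₁ k₂) k₃)
      (FibCat.fpFst gU (FibCat.fpFst y f))) ≪≫ (BasedNatIso.id _ : _ ≅ AlgSt.ofSpMap snd)

/-- A quasi-compact algebraic space is a quasi-compact algebraic stack. -/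
theorem isQuasiCompact_ofSp {Z : AlgSp.Sp S} (hZ : AlgSp.IsAlgSpace Z) (hqc : AlgSp.IsQuasiCompactSp Z) :
    AlgSt.IsQuasiCompact (AlgSt.ofSp Z) := by
  obtain ⟨A, c, hc1, hc2, hA⟩ := hqc
  have hA' : CompactSpace ↥A.left := hA
  exact (isQuasiCompact_iff_exists_compact_chart (ofPsh_isFibSetoid _).1 (hasAtlas_ofSp hZ)).mpr
    ⟨A, _, hA', repByAlgSpWith_smooth_chart hZ c hc1, repByAlgSpWith_surjective_chart hZ c hc2⟩

/-- An algebraic space whose category is a quasi-compact algebraic stack is quasi-compact. -/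
theorem isQuasiCompactSp_of_isQuasiCompact_ofSp {Z : AlgSp.Sp S} (hZ : AlgSp.IsAlgSpace Z)
    (h : AlgSt.IsQuasiCompact (AlgSt.ofSp Z)) : AlgSp.IsQuasiCompactSp Z := by
  have := compactSpace_points_of_isQuasiCompact (ofPsh_isFibSetoid _).1 (hasAtlas_ofSp hZ) h
  rw [Groth.Agent.Lib.Helper51.isQuasiCompactSp_iff_compactSpace_points hZ]
  exact (spHomeo hZ).symm.compactSpace

/-- `S12981`, first half. -/
theorem isQuasiCompactMor_of_repByAlgSpWith (h𝒳 : AlgSt.IsAlgStack Scheme.fppfPrecoverage 𝒳)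
    (h𝒴 : AlgSt.IsAlgStack Scheme.fppfPrecoverage 𝒴) (f : 𝒳 ⥤ᵇ 𝒴)
    (hf : AlgSt.RepByAlgSpWith AlgSp.IsQuasiCompactMor f) :
    AlgSt.IsQuasiCompactMor Scheme.fppfPrecoverage f := by
  intro 𝒲 h𝒲 hqc z
  obtain ⟨U, x, hU, hx1, hx2⟩ := hqc
  let xz := BasedFunctor.comp x z
  obtain ⟨E, e, he, hqcm⟩ := hf U xz
  have hUc : CompactSpace ↥U.left := inferInstance
  obtain ⟨A, c, hc1, hc2, hA⟩ := isQuasiCompactSp_of_isQuasiCompactMor _ hqcm
  have hA' : CompactSpace ↥A.left := hA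
  have a1 : AlgSt.IsAlgStack Scheme.fppfPrecoverage (FibCat.fp z f) :=
    isAlgStack_fp h𝒴.isStack h𝒴.diag h𝒲 h𝒳 z f
  let m₁ : FibCat.fp xz f ⥤ᵇ FibCat.fp z f := fpPasteLeftSnd x z f
  have hm1 : ∀ P : MorphismProperty (AlgSp.Sp S), AlgSt.RepByAlgSpWith P x →
      AlgSt.RepByAlgSpWith P m₁ := fun P hx =>
    repByAlgSpWith_of_isTwoCartOver' P (F := x) (G := FibCat.fpFst z f) (FibCat.fpFst xz f) m₁
      (BasedNatIso.id _) (fpPasteLeft_isEquivOver x z f) hx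
  have hQ := Groth.Agent.Lib.Helper78.AlgSpLocPSmooth.etLocalST_smooth
  have h1 : AlgSt.RepByAlgSpWith (AlgSp.LocP @Smooth) (BasedFunctor.comp (ptFun c.hom) e) :=
    repByAlgSpWith_chart _ (locP_baseChange hQ) E.property c (locP_smooth_of_repWith_etale hc1) e he
  have h2 : AlgSt.RepByAlgSpWith AlgSp.IsSurjectiveMor (BasedFunctor.comp (ptFun c.hom) e) :=
    repByAlgSpWith_chart _ (fun _ _ _ _ _ _ _ _ _ _ _ _ sq h => isSurjectiveMor_baseChange sq h)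
      E.property c (Groth.Agent.Lib.Helper51.surjective_map_of_repWith_surjective hc2) e he
  have g2 : FibCat.IsFibGrpd (FibCat.fp xz f).p :=
    fp_isFibGrpd _ _ (overCat_isFibGrpd U) h𝒳.isStack.1 h𝒴.isStack.1
  exact (isQuasiCompact_iff_exists_compact_chart a1.isStack.1 a1.atlas).mpr
    ⟨A, BasedFunctor.comp (BasedFunctor.comp (ptFun c.hom) e) m₁, hA',
      repByAlgSpWith_locP_comp hQ (overCat_isFibGrpd A) g2 _ _ h1 (hm1 _ hx1),
      repByAlgSpWith_isSurjectiveMor_comp (overCat_isFibGrpd A) g2 _ _ h2 (hm1 _ hx2)⟩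

/-- `S12981`, second half. -/
theorem repByAlgSpWith_isQuasiCompactMor_of_isQuasiCompactMor (f : 𝒳 ⥤ᵇ 𝒴) (hf : AlgSt.RepByAlgSp1 f)
    (H : AlgSt.IsQuasiCompactMor Scheme.fppfPrecoverage f) :
    AlgSt.RepByAlgSpWith AlgSp.IsQuasiCompactMor f := by
  intro U y
  obtain ⟨F, e, he⟩ := hf U y
  refine ⟨F, e, he, ?_⟩
  intro Z Z' hZ hZqc g fst snd sq
  obtain ⟨ε, hε, -⟩ := exists_equiv_fp_of_isPullback y f F.obj e he g fst snd sq
  have hZ' : AlgSp.IsAlgSpace Z' :=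
    Groth.Agent.Lib.Helper78.AlgSpFibre.isAlgSpace_of_isPullback sq
      (AlgSp.IsAlgSpace.yon_obj U).diag F.property hZ
  have h3 := H (AlgSt.ofSp Z) (isAlgStack_ofSp hZ) (isQuasiCompact_ofSp hZ hZqc)
    (BasedFunctor.comp (BasedFunctor.comp (AlgSt.ofSpMap g) (AlgSt.toOverCat U)) y)
  obtain ⟨d, hd, -, -⟩ := IsEquivOver.symm hε
  exact isQuasiCompactSp_of_isQuasiCompact_ofSp hZ' (isQuasiCompact_of_isEquivOver d hd h3)

end Groth.Agent.Lib.Helper80
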