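import Groth.Agent.Lib.Helper80.AlgStQcMor2

/-!
# Quasi-compactness of a morphism can be checked after a flat, locally finitely presented, surjective base change
(helper80)
-/

set_option autoImplicit false
set_option backward.isDefEq.respectTransparency false

universe u

open CategoryTheory CategoryTheory.Functor CategoryTheory.Limits AlgebraicGeometry Opposite

namespace Groth.Agent.Lib.Helper80

open BasedFunctor

variable {S : Scheme.{u}} {𝒳 𝒴 𝒵 : AlgSt.Cat S}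

/-- If `|𝒯|` is quasi-compact and a scheme chart `V ⟶ 𝒯` is open and surjective on points, some affine scheme mapping
to `V` is still surjective on the points of `𝒯`. -/
theorem exists_affine_surjective_refinement [CompactSpace (AlgSt.Points 𝒳)] {V : Over S}
    (c : FibCat.overCat V ⥤ᵇ 𝒳) (hopen : IsOpenMap (AlgSt.Points.ofChart c))
    (hsurj : Function.Surjective (AlgSt.Points.ofChart c)) :
    ∃ (V₀ : Over S) (j : V₀ ⟶ V), IsAffine V₀.left ∧
      Function.Surjective (AlgSt.Points.ofChart (BasedFunctor.comp (AlgSt.overMap j) c)) := by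
  have hcov : (Set.univ : Set (AlgSt.Points 𝒳)) ⊆
      ⋃ i : V.left.affineOpens, AlgSt.Points.ofChart c '' (i.1 : Set V.left) := by
    intro ξ _
    obtain ⟨t, rfl⟩ := hsurj ξ
    have ht : t ∈ (⊤ : V.left.Opens) := trivial
    obtain ⟨W, hW, htW, -⟩ :=
      (TopologicalSpace.Opens.isBasis_iff_nbhd.mp (Scheme.isBasis_affineOpens V.left)) ht
    exact Set.mem_iUnion.mpr ⟨⟨W, hW⟩, t, htW, rfl⟩
  obtain ⟨s, hs⟩ := isCompact_univ.elim_finite_subcover
    (fun i : V.left.affineOpens => AlgSt.Points.ofChart c '' (i.1 : Set V.left))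
    (fun i => hopen _ i.1.2) hcov
  let g : s → Scheme.{u} := fun i => (i.1.1 : Scheme.{u})
  have hg : ∀ i, IsAffine (g i) := fun i => i.1.2
  let j₀ : (∐ g) ⟶ V.left := Sigma.desc (fun i : s => (i.1.1).ι)
  let V₀ : Over S := Over.mk (j₀ ≫ V.hom)
  let j : V₀ ⟶ V := Over.homMk j₀ rfl
  refine ⟨V₀, j, (inferInstance : IsAffine (∐ g)), ?_⟩
  intro ξ
  obtain ⟨i, hi⟩ := Set.mem_iUnion.mp (hs (Set.mem_univ ξ))
  obtain ⟨hi', t, ht, rfl⟩ := Set.mem_iUnion.mp hi
  let t' : ↥(∐ g) := (Sigma.ι g ⟨i, hi'⟩) ⟨t, ht⟩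
  have e : j₀ t' = t := by
    change (Sigma.desc (fun i : s => (i.1.1).ι)) ((Sigma.ι g ⟨i, hi'⟩) ⟨t, ht⟩) = t
    rw [← Scheme.Hom.comp_apply, Sigma.ι_desc]
    rfl
  refine ⟨t', ?_⟩
  rw [ofChart_overMap]
  exact congrArg _ e

/-- A quasi-compact scheme, as a slice category, is a quasi-compact algebraic stack. -/
theorem isQuasiCompact_overCat (V : Over S) [CompactSpace ↥V.left] :
    AlgSt.IsQuasiCompact (FibCat.overCat V) :=
  isQuasiCompact_of_isEquivOver (AlgSt.toOverCat V) (toOverCat_isEquivOver V)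
    (isQuasiCompact_ofSp (AlgSp.IsAlgSpace.yon_obj V) (isQuasiCompactSp_yon V))

/-- `fpPasteLeftSnd` is surjective on points when the first functor is. -/
theorem isSurjective_fpPasteLeftSnd (h𝒳 : FibCat.IsFibGrpd 𝒳.p) (h𝒴 : FibCat.IsFibGrpd 𝒴.p)
    (h𝒵 : FibCat.IsFibGrpd 𝒵.p) {𝒱 : AlgSt.Cat S} (h𝒱 : FibCat.IsFibGrpd 𝒱.p)
    (v : 𝒱 ⥤ᵇ 𝒵) (z : 𝒵 ⥤ᵇ 𝒴) (f : 𝒳 ⥤ᵇ 𝒴) (hv : AlgSt.IsSurjective v) :
    AlgSt.IsSurjective (fpPasteLeftSnd v z f) := by
  have g3 : FibCat.IsFibGrpd (FibCat.fp z f).p := fp_isFibGrpd _ _ h𝒵 h𝒳 h𝒴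
  have hsnd := isSurjective_fpSnd g3 h𝒵 h𝒱 v (FibCat.fpFst z f) hv
  have heq := points_map_surjective_of_isEquivOver (fpPasteLeft v z f) (fpPasteLeft_isEquivOver v z f)
  have hcomp : AlgSt.Points.map (fpPasteLeftSnd v z f) =
      AlgSt.Points.map (FibCat.fpSnd v (FibCat.fpFst z f)) ∘ AlgSt.Points.map (fpPasteLeft v z f) := by
    rw [← points_map_comp]
    exact points_map_eq_of_iso (BasedNatIso.id _ : fpPasteLeftSnd v z f ≅
      BasedFunctor.comp (fpPasteLeft v z f) (FibCat.fpSnd v (FibCat.fpFst z f)))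
  change Function.Surjective (AlgSt.Points.map (fpPasteLeftSnd v z f))
  rw [hcomp]
  exact Function.Surjective.comp hsnd heq

end Groth.Agent.Lib.Helper80
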