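import Groth.Agent.Lib.Helper80.AlgStLocQ8
import Groth.Agent.Lib.Helper80.AlgStPts7

/-!
# Quasi-compactness of a morphism of algebraic stacks descends along fppf covers by algebraic stacks (helper80)
-/

set_option autoImplicit false
set_option backward.isDefEq.respectTransparency false

universe u

open CategoryTheory CategoryTheory.Functor CategoryTheory.Limits AlgebraicGeometry Opposite

namespace Groth.Agent.Lib.Helper80

open BasedFunctor

variable {S : Scheme.{u}} {𝒳 𝒴 𝒵 : AlgSt.Cat S}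

/-- Quasi-compactness of a morphism is invariant under precomposition with an equivalence and 2-isomorphism. -/
theorem isQuasiCompactMor_of_equiv_comp (K : Precoverage Scheme.{u}) {𝒲 𝒲' : AlgSt.Cat S} (e : 𝒲 ⥤ᵇ 𝒲')
    (he : FibCat.IsEquivOver e) (g : 𝒲' ⥤ᵇ 𝒴) (f : 𝒲 ⥤ᵇ 𝒴) (i : f ≅ BasedFunctor.comp e g)
    (hg : AlgSt.IsQuasiCompactMor K g) : AlgSt.IsQuasiCompactMor K f := by
  intro 𝒯 h𝒯 hqc t
  have h1 := hg 𝒯 h𝒯 hqc t
  obtain ⟨d, hd, -, -⟩ := IsEquivOver.symm (fpMapRight_isEquivOver t g e f i he)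
  exact isQuasiCompact_of_isEquivOver d hd h1

/-- `S13009`. -/
theorem isQuasiCompactMor_of_fpFst_of_fppf (h𝒳 : AlgSt.IsAlgStack Scheme.fppfPrecoverage 𝒳)
    (h𝒴 : AlgSt.IsAlgStack Scheme.fppfPrecoverage 𝒴) (h𝒵 : AlgSt.IsAlgStack Scheme.fppfPrecoverage 𝒵)
    (f : 𝒳 ⥤ᵇ 𝒴) (z : 𝒵 ⥤ᵇ 𝒴) (hz₁ : AlgSt.LocQ (AlgSp.LocP @Flat) z)
    (hz₂ : AlgSt.LocQ (AlgSp.LocP @LocallyOfFinitePresentation) z) (hz₃ : AlgSt.IsSurjective z)
    (H : AlgSt.IsQuasiCompactMor Scheme.fppfPrecoverage (FibCat.fpFst z f)) :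
    AlgSt.IsQuasiCompactMor Scheme.fppfPrecoverage f := by
  have hQe := Groth.Agent.Lib.Helper78.AlgSpLocPFlat.etLocalST_flat
  have hQe' := Groth.Agent.Lib.Helper78.AlgSpLocPLofp.etLocalST_lofp
  obtain ⟨V, v, hv1, hv2⟩ := h𝒵.atlas
  have hV := isAlgStack_overCat V
  have gV := overCat_isFibGrpd V
  let vz : FibCat.overCat V ⥤ᵇ 𝒴 := BasedFunctor.comp v z
  have hrep : AlgSt.RepByAlgSp1 vz := repByAlgSp1_of_diag h𝒴.diag V vz
  -- flat
  have hvfl : AlgSt.LocQ (AlgSp.LocP @Flat) v :=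
    locQ_of_repByAlgSpWith_locP hQe (fun k hk => smooth_flat k hk) hV h𝒵 v
      (repByAlgSpWith_locP_mono (fun _ _ k hk => smooth_flat k hk) hv1)
  have h1 : AlgSt.LocQ (AlgSp.LocP @Flat) vz :=
    Groth.Agent.S13038.result S _ isSmoothLocalST_flat (locP_comp_alg hQe) _ _ _ hV h𝒵 h𝒴 v z hvfl hz₁
  have h1' : AlgSt.RepByAlgSpWith (AlgSp.LocP @Flat) vz :=
    repByAlgSpWith_of_locQ _ isSmoothLocalST_flat (locP_baseChange_alg hQe) vz hrep h1
  -- locally of finite presentation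
  have hvfp : AlgSt.LocQ (AlgSp.LocP @LocallyOfFinitePresentation) v :=
    locQ_of_repByAlgSpWith_locP hQe' (fun k hk => smooth_lofp k hk) hV h𝒵 v
      (repByAlgSpWith_locP_mono (fun _ _ k hk => smooth_lofp k hk) hv1)
  have h2 : AlgSt.LocQ (AlgSp.LocP @LocallyOfFinitePresentation) vz :=
    Groth.Agent.S13038.result S _ isSmoothLocalST_lofp (locP_comp_alg hQe') _ _ _ hV h𝒵 h𝒴 v z hvfp hz₂
  have h2' : AlgSt.RepByAlgSpWith (AlgSp.LocP @LocallyOfFinitePresentation) vz :=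
    repByAlgSpWith_of_locQ _ isSmoothLocalST_lofp (locP_baseChange_alg hQe') vz hrep h2
  -- surjective
  have hvs : AlgSt.IsSurjective v := isSurjective_of_repByAlgSpWith h𝒵.isStack.1 v hv2
  have h3 : AlgSt.IsSurjective vz := by
    change Function.Surjective (AlgSt.Points.map (BasedFunctor.comp v z))
    rw [points_map_comp]
    exact hz₃.comp hvs
  have h3' : AlgSt.RepByAlgSpWith AlgSp.IsSurjectiveMor vz :=
    repByAlgSpWith_surjective_of_isSurjective gV h𝒴.isStack.1 vz hrep h3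
  -- the algebraic space `h_V`
  let W : AlgSp.Space S := ⟨(AlgSp.yon S).obj V, AlgSp.IsAlgSpace.yon_obj V⟩
  let c : AlgSt.ofSp W.obj ⥤ᵇ 𝒵 := BasedFunctor.comp (AlgSt.toOverCat V) v
  let w : AlgSt.ofSp W.obj ⥤ᵇ 𝒴 := BasedFunctor.comp (AlgSt.toOverCat V) vz
  have H1 : AlgSt.IsQuasiCompactMor Scheme.fppfPrecoverage (FibCat.fpFst c (FibCat.fpFst z f)) :=
    isQuasiCompactMor_fpFst _ (FibCat.fpFst z f) c H
  have H2 : AlgSt.IsQuasiCompactMor Scheme.fppfPrecoverage (FibCat.fpFst w f) :=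
    isQuasiCompactMor_of_equiv_comp _ (fpPasteLeft c z f) (fpPasteLeft_isEquivOver c z f)
      (FibCat.fpFst c (FibCat.fpFst z f)) (FibCat.fpFst w f) (BasedNatIso.id _) H1
  exact isQuasiCompactMor_of_fpFst_fppf_cover h𝒳 h𝒴 f W w
    (repByAlgSpWith_toOverCat_comp _ vz h1') (repByAlgSpWith_toOverCat_comp _ vz h2')
    (repByAlgSpWith_toOverCat_comp _ vz h3') H2

end Groth.Agent.Lib.Helper80
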