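import Groth.Agent.Lib.Helper80.AlgStSmoothLocus
import Groth.Agent.Lib.Helper80.AlgStClosedSub
import Groth.Agent.S0115

/-!
# The largest smooth open substack and smooth precomposition (helper80)
-/

set_option autoImplicit false
set_option backward.isDefEq.respectTransparency false

universe u

open CategoryTheory CategoryTheory.Functor CategoryTheory.Limits AlgebraicGeometry Opposite

namespace Groth.Agent.Lib.Helper80

open BasedFunctor Groth.Agent.Lib.Helper43.FPtRel Groth.Agent.Lib.Helper43.GerbComp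

section Schemes

variable {A' A B : Scheme.{u}}

theorem preimage_smOpen_le (k : A' ⟶ A) [Smooth k] (h : A ⟶ B) :
    k ⁻¹ᵁ smOpen h ≤ smOpen (k ≫ h) := by
  apply le_smOpen
  rw [← Category.assoc, ← morphismRestrict_ι, Category.assoc]
  have : Smooth ((smOpen h).ι ≫ h) := smooth_smOpen h
  have : Smooth (k ∣_ smOpen h) := IsZariskiLocalAtTarget.restrict ‹Smooth k› _
  infer_instance

theorem smOpen_comp_le (k : A' ⟶ A) [Smooth k] (h : A ⟶ B) :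
    smOpen (k ≫ h) ≤ k ⁻¹ᵁ smOpen h := by
  let W' := smOpen (k ≫ h)
  have hW' : Smooth (W'.ι ≫ k ≫ h) := smooth_smOpen (k ≫ h)
  let e₀ : (W' : Scheme.{u}) ⟶ A := W'.ι ≫ k
  have he₀ : Smooth e₀ := inferInstance
  let W'' : A.Opens := ⟨Set.range e₀, e₀.isOpenMap.isOpen_range⟩
  have hr : Set.range e₀ ⊆ Set.range W''.ι := by
    rw [Scheme.Opens.range_ι]
    exact fun _ h => h
  let e : (W' : Scheme.{u}) ⟶ (W'' : Scheme.{u}) := IsOpenImmersion.lift W''.ι e₀ hr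
  have hfac : e ≫ W''.ι = e₀ := IsOpenImmersion.lift_fac _ _ _
  have hes : Smooth e := by
    have h1 : Smooth (e ≫ W''.ι) := by rw [hfac]; exact he₀
    exact MorphismProperty.of_postcomp (W := @Smooth) (W' := @Etale) e W''.ι inferInstance h1
  have hsurj : Surjective e := by
    refine ⟨fun y => ?_⟩
    have hy : W''.ι y ∈ Set.range e₀ := by
      have : W''.ι y ∈ (W'' : Set A) := by
        have h1 : W''.ι y ∈ Set.range W''.ι := ⟨_, rfl⟩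
        rwa [Scheme.Opens.range_ι] at h1
      exact this
    obtain ⟨x, hx⟩ := hy
    refine ⟨x, ?_⟩
    apply W''.ι.isOpenEmbedding.injective
    rw [← hx, ← hfac]
    rfl
  have h2 : Smooth (e ≫ W''.ι ≫ h) := by
    rw [← Category.assoc, hfac]
    exact (by simpa [e₀] using hW' : Smooth ((W'.ι ≫ k) ≫ h))
  have h3 : Smooth (W''.ι ≫ h) := Groth.Agent.S0115.result e (W''.ι ≫ h)
  have hle : W'' ≤ smOpen h := le_smOpen h W'' h3
  intro x hx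
  change k x ∈ smOpen h
  apply hle
  exact ⟨⟨x, hx⟩, rfl⟩

theorem smOpen_comp_eq (k : A' ⟶ A) [Smooth k] (h : A ⟶ B) :
    smOpen (k ≫ h) = k ⁻¹ᵁ smOpen h :=
  le_antisymm (smOpen_comp_le k h) (preimage_smOpen_le k h)

end Schemes

variable {S : Scheme.{u}} {𝒳 𝒳' 𝒴 : AlgSt.Cat S}

/-- The inclusion of a full subcategory closed under sources of morphisms is injective on points. -/
theorem points_map_subIncl_injective (gX : FibCat.IsFibGrpd 𝒳.p) (Q : 𝒳.obj → Prop)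
    (hQh : ∀ {y' y : 𝒳.obj} (_ : y' ⟶ y), Q y → Q y') :
    Function.Injective (AlgSt.Points.map (AlgSt.subIncl 𝒳 Q)) := by
  intro w₁ w₂ h
  obtain ⟨q₁, rfl⟩ := AlgSt.Points.mk_surjective w₁
  obtain ⟨q₂, rfl⟩ := AlgSt.Points.mk_surjective w₂
  rw [AlgSt.Points.map_mk, AlgSt.Points.map_mk] at h
  obtain ⟨s, m1, m2, -⟩ := (points_mk_eq_iff gX _ _).mp h
  let s' : AlgSt.FPt (AlgSt.fullSub 𝒳 Q) :=
    { K := s.K, str := s.str, obj := ⟨s.obj, hQh m1 q₁.obj.property⟩, lies := s.lies }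
  exact (points_mk_eq_of_hom (p := s') (q := q₁) (ObjectProperty.homMk m1)).symm.trans
    (points_mk_eq_of_hom (p := s') (q := q₂) (ObjectProperty.homMk m2))

/-- Membership of `g a` in `ptsIn T` is membership of `a` in `ptsIn (|g|⁻¹ T)`. -/
theorem ptsIn_comp_iff (gX' : FibCat.IsFibGrpd 𝒳'.p) (gX : FibCat.IsFibGrpd 𝒳.p) (g : 𝒳' ⥤ᵇ 𝒳)
    (T : Set (AlgSt.Points 𝒳)) (a : 𝒳'.obj) :
    ptsIn T (g.obj a) ↔ ptsIn (AlgSt.Points.map g ⁻¹' T) a := by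
  constructor
  · intro h p' ⟨m⟩
    exact h (p'.map g) ⟨g.map m⟩
  · intro h p ⟨m⟩
    let b : Over.mk p.str ⟶ 𝒳'.p.obj a := eqToHom p.lies.symm ≫ 𝒳.p.map m ≫ eqToHom (g.w_obj a)
    have hb : 𝒳.p.IsHomLift b m := IsHomLift.of_fac 𝒳.p b m p.lies (g.w_obj a) rfl
    obtain ⟨a', ψ, hψ⟩ := exists_lift' 𝒳'.p gX' (rfl : 𝒳'.p.obj a = 𝒳'.p.obj a) b
    have h1 : 𝒳.p.IsHomLift b (g.map ψ) := inferInstance
    obtain ⟨χ, -, -⟩ := exists_factor_id 𝒳.p gX b (g.map ψ) m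
    let p'' : AlgSt.FPt 𝒳' := { K := p.K, str := p.str, obj := a', lies := IsHomLift.domain_eq 𝒳'.p b ψ }
    have e : AlgSt.Points.mk p = AlgSt.Points.map g (AlgSt.Points.mk p'') :=
      points_mk_eq_of_hom (p := p) (q := p''.map g) χ
    rw [e]
    exact h p'' ⟨ψ⟩

/-- The inverse image of an open substack is an open substack, with the inverse image points. -/
theorem isOpenSubstack_comp_obj (h𝒳' : AlgSt.IsAlgStack Scheme.fppfPrecoverage 𝒳')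
    (h𝒳 : AlgSt.IsAlgStack Scheme.fppfPrecoverage 𝒳) (g : 𝒳' ⥤ᵇ 𝒳) (Q : 𝒳.obj → Prop)
    (hQ : AlgSt.IsOpenSubstack 𝒳 Q Scheme.fppfPrecoverage) :
    AlgSt.IsOpenSubstack 𝒳' (fun a => Q (g.obj a)) Scheme.fppfPrecoverage ∧
      Set.range (AlgSt.Points.map (AlgSt.subIncl 𝒳' (fun a => Q (g.obj a)))) =
        AlgSt.Points.map g ⁻¹' Set.range (AlgSt.Points.map (AlgSt.subIncl 𝒳 Q)) := by
  have gX := h𝒳.isStack.1
  have gX' := h𝒳'.isStack.1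
  obtain ⟨T, hTdef⟩ : ∃ T, T = Set.range (AlgSt.Points.map (AlgSt.subIncl 𝒳 Q)) := ⟨_, rfl⟩
  have hT : IsOpen T := by
    rw [hTdef]
    exact isOpen_range_points_map_of_isOpenImm gX hQ.2.1.isStack.1 hQ.2.1.atlas _ hQ.2.2
  have hQT : Q = ptsIn T :=
    (isOpenSubstack_bijOn h𝒳).1.injOn hQ (isOpenSubstack_ptsIn h𝒳 T hT)
      (hTdef.symm.trans (range_subIncl_ptsIn T).symm)
  have e : (fun a => Q (g.obj a)) = ptsIn (AlgSt.Points.map g ⁻¹' T) := by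
    funext a
    exact (congrFun hQT (g.obj a)).trans (propext (ptsIn_comp_iff gX' gX g T a))
  rw [← hTdef, e]
  exact ⟨isOpenSubstack_ptsIn h𝒳' _ (hT.preimage (continuous_points_map h𝒳.atlas g)),
    range_subIncl_ptsIn _⟩

/-- For a chart square of `f` with smooth `U₀ ⟶ 𝒳 ×_𝒴 V₀` and smooth surjective `x₀`, the restriction of `f` to an open
substack `Q'` is smooth iff the inverse image of `|Q'|` in `U₀` lies in the smooth locus of `h₀`. -/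
theorem locQ_smooth_subIncl_iff (h𝒳 : AlgSt.IsAlgStack Scheme.fppfPrecoverage 𝒳) (f : 𝒳 ⥤ᵇ 𝒴)
    {U₀ V₀ : Over S} (x₀ : FibCat.overCat U₀ ⥤ᵇ 𝒳) (y₀ : FibCat.overCat V₀ ⥤ᵇ 𝒴) (h₀ : U₀ ⟶ V₀)
    (α₀ : BasedFunctor.comp x₀ f ≅ BasedFunctor.comp (AlgSt.overMap h₀) y₀)
    (hx₀ : AlgSt.RepByAlgSpWith (AlgSp.LocP @Smooth) x₀)
    (hx₀s : AlgSt.RepByAlgSpWith AlgSp.IsSurjectiveMor x₀)
    (hy₀ : AlgSt.RepByAlgSpWith (AlgSp.LocP @Smooth) y₀)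
    (hΓ₀ : AlgSt.RepByAlgSpWith (AlgSp.LocP @Smooth) (FibCat.fpLift x₀ (AlgSt.overMap h₀) α₀))
    (Q' : 𝒳.obj → Prop) (hQ' : AlgSt.IsOpenSubstack 𝒳 Q' Scheme.fppfPrecoverage) :
    AlgSt.LocQ (AlgSp.LocP @Smooth) (BasedFunctor.comp (AlgSt.subIncl 𝒳 Q') f) ↔
      ∀ t : ↥U₀.left, AlgSt.Points.ofChart x₀ t ∈ Set.range (AlgSt.Points.map (AlgSt.subIncl 𝒳 Q')) →
        t ∈ smOpen h₀.left := by
  have hsm := Groth.Agent.Lib.Helper78.AlgSpLocPSmooth.etLocalST_smooth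
  have gX := h𝒳.isStack.1
  have gQ' := hQ'.2.1.isStack.1
  have hT' : IsOpen (Set.range (AlgSt.Points.map (AlgSt.subIncl 𝒳 Q'))) :=
    isOpen_range_points_map_of_isOpenImm gX gQ' hQ'.2.1.atlas _ hQ'.2.2
  let W' : U₀.left.Opens :=
    ⟨AlgSt.Points.ofChart x₀ ⁻¹' Set.range (AlgSt.Points.map (AlgSt.subIncl 𝒳 Q')),
      (continuous_ofChart h𝒳.atlas x₀).isOpen_preimage _ hT'⟩
  let j' : opOver W' ⟶ U₀ := opHom W'
  let hmap' : FibCat.overCat (opOver W') ⥤ᵇ 𝒳 := BasedFunctor.comp (AlgSt.overMap j') x₀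
  have hin : ∀ v, Q' (hmap'.obj v) := by
    rw [forall_openSub_iff_points h𝒳 (isAlgStack_overCat (opOver W')) Q' hQ' hmap']
    rintro _ ⟨w, rfl⟩
    obtain ⟨p, rfl⟩ := AlgSt.Points.mk_surjective w
    rw [mk_eq_mk_chartPt p, ← ofChart_eq_map_chartPt, ofChart_overMap]
    have h1 : W'.ι (fptPoint p) ∈ Set.range W'.ι := ⟨_, rfl⟩
    rw [Scheme.Opens.range_ι] at h1
    exact h1
  let x' : FibCat.overCat (opOver W') ⥤ᵇ AlgSt.fullSub 𝒳 Q' := liftSub hmap' Q' hin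
  let α₁' : BasedFunctor.comp x' (AlgSt.subIncl 𝒳 Q') ≅ BasedFunctor.comp (AlgSt.overMap j') x₀ :=
    BasedNatIso.id _
  have hj'sm : Smooth j'.left := (inferInstance : Smooth W'.ι)
  have hhs' : AlgSt.RepByAlgSpWith (AlgSp.LocP @Smooth) hmap' :=
    repByAlgSpWith_smooth_overMap_comp j' hj'sm x₀ hx₀
  constructor
  · intro hloc t ht
    obtain ⟨U₁, V₁, x₁, y₁, h₁, α₁, hx₁, hx₁s, hy₁, hP₁⟩ := hloc
    have hΓ₁ : AlgSt.RepByAlgSpWith (AlgSp.LocP @Smooth) (FibCat.fpLift x' (AlgSt.overMap j') α₁') := by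
      apply repByAlgSpWith_smooth_of_comp_openImm _ (FibCat.fpSnd (AlgSt.subIncl 𝒳 Q') x₀)
        (repByAlgSpWith_fpSnd _ _ _ hQ'.2.2)
      apply repByAlgSpWith_of_iso _ (BasedNatIso.id _ : AlgSt.overMap j' ≅
        BasedFunctor.comp (FibCat.fpLift x' (AlgSt.overMap j') α₁') (FibCat.fpSnd (AlgSt.subIncl 𝒳 Q') x₀))
      exact (repByAlgSpWith_overMap_iff _ (locP_baseChange hsm) (atlasLocal_locP hsm) j').mpr
        ((Groth.Agent.Lib.Helper78.AlgSpLocP.locP_yon_map_iff hsm j').mpr hj'sm)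
    have hΓ := chartComp_smooth gQ' gX α₁' α₀ hΓ₁ hΓ₀
    have hP' : AlgSp.LocP @Smooth ((AlgSp.yon S).map (j' ≫ h₀)) :=
      locQ_all_squares (AlgSp.LocP @Smooth) isSmoothLocalST_smooth (locP_baseChange hsm)
        (BasedFunctor.comp (AlgSt.subIncl 𝒳 Q') f) x₁ y₁ h₁ α₁ hx₁ hx₁s hy₁ hP₁ x' y₀ (j' ≫ h₀)
        (chartCompIso α₁' α₀) hΓ
    have hsm' : Smooth (W'.ι ≫ h₀.left) :=
      (Groth.Agent.Lib.Helper78.AlgSpLocP.locP_yon_map_iff hsm (j' ≫ h₀)).mp hP'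
    exact le_smOpen h₀.left W' hsm' ht
  · intro hsub
    have hle : W' ≤ smOpen h₀.left := fun t ht => hsub t ht
    have hsmW : Smooth (W'.ι ≫ h₀.left) := by
      rw [← Scheme.homOfLE_ι _ hle, Category.assoc]
      have : Smooth ((smOpen h₀.left).ι ≫ h₀.left) := smooth_smOpen h₀.left
      infer_instance
    have hx's : AlgSt.RepByAlgSpWith (AlgSp.LocP @Smooth) x' :=
      repByAlgSpWith_smooth_of_comp_openImm x' (AlgSt.subIncl 𝒳 Q') hQ'.2.2 hhs'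
    have hgtop : AlgSt.RepByAlgSpWith ⊤ x' := repByAlgSpWith_congr _ _ (fun _ _ _ _ => trivial) hx's
    have hrep : AlgSt.RepByAlgSp1 x' := (repByAlgSp1_iff_repByAlgSpWith_top x').mpr hgtop
    have hsurj : AlgSt.IsSurjective x' := by
      intro w
      obtain ⟨t, ht⟩ := surjective_ofChart gX x₀ hx₀s (AlgSt.Points.map (AlgSt.subIncl 𝒳 Q') w)
      have htW : t ∈ W' := by
        change AlgSt.Points.ofChart x₀ t ∈ Set.range _
        rw [ht]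
        exact ⟨w, rfl⟩
      refine ⟨AlgSt.Points.mk (chartPt (opOver W') ⟨t, htW⟩), ?_⟩
      apply points_map_subIncl_injective gX Q' (fun m hy => sub_of_hom Q' hQ'.1 gX gQ' m hy)
      have e1 : AlgSt.Points.map (AlgSt.subIncl 𝒳 Q')
          (AlgSt.Points.map x' (AlgSt.Points.mk (chartPt (opOver W') ⟨t, htW⟩))) =
          AlgSt.Points.map hmap' (AlgSt.Points.mk (chartPt (opOver W') ⟨t, htW⟩)) := rfl
      rw [e1, ← ofChart_eq_map_chartPt, ofChart_overMap, ← ht]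
      rfl
    have hx'surj : AlgSt.RepByAlgSpWith AlgSp.IsSurjectiveMor x' :=
      repByAlgSpWith_surjective_of_isSurjective (overCat_isFibGrpd _) gQ' x' hrep hsurj
    refine ⟨opOver W', V₀, x', y₀, j' ≫ h₀, chartCompIso α₁' α₀, hx's, hx'surj, hy₀, ?_⟩
    rw [Groth.Agent.Lib.Helper78.AlgSpLocP.locP_yon_map_iff hsm]
    exact hsmW

/-- The points of the smooth locus of `h₀` land in the largest open substack on which `f` is smooth. -/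
theorem mem_range_of_mem_smOpen (h𝒳 : AlgSt.IsAlgStack Scheme.fppfPrecoverage 𝒳) (f : 𝒳 ⥤ᵇ 𝒴)
    {U₀ V₀ : Over S} (x₀ : FibCat.overCat U₀ ⥤ᵇ 𝒳) (y₀ : FibCat.overCat V₀ ⥤ᵇ 𝒴) (h₀ : U₀ ⟶ V₀)
    (α₀ : BasedFunctor.comp x₀ f ≅ BasedFunctor.comp (AlgSt.overMap h₀) y₀)
    (hx₀ : AlgSt.RepByAlgSpWith (AlgSp.LocP @Smooth) x₀)
    (hy₀ : AlgSt.RepByAlgSpWith (AlgSp.LocP @Smooth) y₀)
    (Q : 𝒳.obj → Prop) (hQ₁ : AlgSt.IsOpenSubstack 𝒳 Q Scheme.fppfPrecoverage)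
    (hQ₃ : ∀ Q' : 𝒳.obj → Prop, AlgSt.IsOpenSubstack 𝒳 Q' Scheme.fppfPrecoverage →
      AlgSt.LocQ (AlgSp.LocP @Smooth) (BasedFunctor.comp (AlgSt.subIncl 𝒳 Q') f) → ∀ a, Q' a → Q a)
    (t : ↥U₀.left) (ht : t ∈ smOpen h₀.left) :
    AlgSt.Points.ofChart x₀ t ∈ Set.range (AlgSt.Points.map (AlgSt.subIncl 𝒳 Q)) := by
  have hsm := Groth.Agent.Lib.Helper78.AlgSpLocPSmooth.etLocalST_smooth
  have gX := h𝒳.isStack.1
  let W₀ : U₀.left.Opens := smOpen h₀.left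
  let j : opOver W₀ ⟶ U₀ := opHom W₀
  have hjsm : Smooth j.left := (inferInstance : Smooth W₀.ι)
  let hmap : FibCat.overCat (opOver W₀) ⥤ᵇ 𝒳 := BasedFunctor.comp (AlgSt.overMap j) x₀
  have hhs : AlgSt.RepByAlgSpWith (AlgSp.LocP @Smooth) hmap :=
    repByAlgSpWith_smooth_overMap_comp j hjsm x₀ hx₀
  have gA := overCat_isFibGrpd (opOver W₀)
  have hatA : AlgSt.HasAtlas (AlgSp.LocP @Smooth) (FibCat.overCat (opOver W₀)) :=
    (isAlgStack_overCat (opOver W₀)).atlas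
  obtain ⟨hQ0, hgs, hgsurj⟩ := open_image_of_smooth h𝒳 gA hatA hmap hhs
  have hloc : AlgSt.LocQ (AlgSp.LocP @Smooth)
      (BasedFunctor.comp (AlgSt.subIncl 𝒳 (ptsIn (Set.range (AlgSt.Points.map hmap)))) f) := by
    refine ⟨opOver W₀, V₀, liftSub hmap _ (ptsIn_range_map gA h𝒳.isStack.1 hmap), y₀, j ≫ h₀,
      chartCompIso (BasedNatIso.id _ : BasedFunctor.comp (liftSub hmap _ (ptsIn_range_map gA h𝒳.isStack.1 hmap))
        (AlgSt.subIncl 𝒳 (ptsIn (Set.range (AlgSt.Points.map hmap)))) ≅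
          BasedFunctor.comp (AlgSt.overMap j) x₀) α₀, hgs, hgsurj, hy₀, ?_⟩
    rw [Groth.Agent.Lib.Helper78.AlgSpLocP.locP_yon_map_iff hsm]
    exact smooth_smOpen h₀.left
  have hsub := ((isOpenSubstack_bijOn h𝒳).2 _ Q hQ0 hQ₁).mp (hQ₃ _ hQ0 hloc)
  apply hsub
  rw [range_subIncl_ptsIn]
  refine ⟨AlgSt.Points.mk (chartPt (opOver W₀) ⟨t, ht⟩), ?_⟩
  rw [← ofChart_eq_map_chartPt, ofChart_overMap]
  rfl

/-- `S19902`. -/
theorem largest_smooth_openSub_comp (h𝒳' : AlgSt.IsAlgStack Scheme.fppfPrecoverage 𝒳')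
    (h𝒳 : AlgSt.IsAlgStack Scheme.fppfPrecoverage 𝒳) (h𝒴 : AlgSt.IsAlgStack Scheme.fppfPrecoverage 𝒴)
    (g : 𝒳' ⥤ᵇ 𝒳) (hg : AlgSt.LocQ (AlgSp.LocP @Smooth) g) (f : 𝒳 ⥤ᵇ 𝒴)
    (Q : 𝒳.obj → Prop) (hQ₁ : AlgSt.IsOpenSubstack 𝒳 Q Scheme.fppfPrecoverage)
    (hQ₂ : AlgSt.LocQ (AlgSp.LocP @Smooth) (BasedFunctor.comp (AlgSt.subIncl 𝒳 Q) f))
    (hQ₃ : ∀ Q' : 𝒳.obj → Prop, AlgSt.IsOpenSubstack 𝒳 Q' Scheme.fppfPrecoverage →
      AlgSt.LocQ (AlgSp.LocP @Smooth) (BasedFunctor.comp (AlgSt.subIncl 𝒳 Q') f) → ∀ a, Q' a → Q a) :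
    AlgSt.IsOpenSubstack 𝒳' (fun a ↦ Q (g.obj a)) Scheme.fppfPrecoverage ∧
      AlgSt.LocQ (AlgSp.LocP @Smooth)
        (BasedFunctor.comp (AlgSt.subIncl 𝒳' (fun a ↦ Q (g.obj a))) (BasedFunctor.comp g f)) ∧
      ∀ Q' : 𝒳'.obj → Prop, AlgSt.IsOpenSubstack 𝒳' Q' Scheme.fppfPrecoverage →
        AlgSt.LocQ (AlgSp.LocP @Smooth) (BasedFunctor.comp (AlgSt.subIncl 𝒳' Q') (BasedFunctor.comp g f)) →
        ∀ a, Q' a → Q (g.obj a) := by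
  have hsm := Groth.Agent.Lib.Helper78.AlgSpLocPSmooth.etLocalST_smooth
  have gX := h𝒳.isStack.1
  have gX' := h𝒳'.isStack.1
  obtain ⟨V₀, y₀, hy₀, hy₀s⟩ := h𝒴.atlas
  obtain ⟨U₀, x₀, h₀, α₀, hx₀, hΓ₀, hΓ₀s, hx₀s'⟩ := exists_chart_over h𝒳 h𝒴 f V₀ y₀ hy₀
  have hx₀s := hx₀s' hy₀s
  obtain ⟨U₁, x₁, k₀, β₀, hx₁, hΓ₁, hΓ₁s, hx₁s'⟩ := exists_chart_over h𝒳' h𝒳 g U₀ x₀ hx₀
  have hx₁s := hx₁s' hx₀s
  obtain ⟨Ug, Vg, xg, yg, hgg, αg, hxg, hxgs, hyg, hPg⟩ := hg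
  have hk₀ : AlgSp.LocP @Smooth ((AlgSp.yon S).map k₀) :=
    locQ_all_squares (AlgSp.LocP @Smooth) isSmoothLocalST_smooth (locP_baseChange hsm) g
      xg yg hgg αg hxg hxgs hyg hPg x₁ x₀ k₀ β₀ hΓ₁
  have hk₀' : Smooth k₀.left := (Groth.Agent.Lib.Helper78.AlgSpLocP.locP_yon_map_iff hsm k₀).mp hk₀
  have hΓc := chartComp_smooth gX' gX β₀ α₀ hΓ₁ hΓ₀
  have key := locQ_smooth_subIncl_iff h𝒳 f x₀ y₀ h₀ α₀ hx₀ hx₀s hy₀ hΓ₀
  have key' := locQ_smooth_subIncl_iff h𝒳' (BasedFunctor.comp g f) x₁ y₀ (k₀ ≫ h₀) (chartCompIso β₀ α₀)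
    hx₁ hx₁s hy₀ hΓc
  have hsmo : smOpen (k₀ ≫ h₀).left = k₀.left ⁻¹ᵁ smOpen h₀.left := smOpen_comp_eq k₀.left h₀.left
  have hpt : ∀ t, AlgSt.Points.map g (AlgSt.Points.ofChart x₁ t) = AlgSt.Points.ofChart x₀ (k₀.left t) :=
    fun t => by rw [← ofChart_comp, ofChart_congr β₀, ofChart_overMap]
  have hW₀ : ∀ t, t ∈ smOpen h₀.left ↔
      AlgSt.Points.ofChart x₀ t ∈ Set.range (AlgSt.Points.map (AlgSt.subIncl 𝒳 Q)) :=
    fun t => ⟨mem_range_of_mem_smOpen h𝒳 f x₀ y₀ h₀ α₀ hx₀ hy₀ Q hQ₁ hQ₃ t, (key Q hQ₁).mp hQ₂ t⟩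
  obtain ⟨hO, hOr⟩ := isOpenSubstack_comp_obj h𝒳' h𝒳 g Q hQ₁
  refine ⟨hO, ?_, ?_⟩
  · apply (key' _ hO).mpr
    intro t ht
    rw [hOr, Set.mem_preimage, hpt, ← hW₀] at ht
    rw [hsmo]
    exact ht
  · intro Q'' hQ'' hloc
    apply ((isOpenSubstack_bijOn h𝒳').2 Q'' _ hQ'' hO).mpr
    intro ξ hξ
    obtain ⟨t, rfl⟩ := surjective_ofChart gX' x₁ hx₁s ξ
    have ht := (key' Q'' hQ'').mp hloc t hξ
    rw [hsmo] at ht
    rw [hOr, Set.mem_preimage, hpt, ← hW₀]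
    exact ht

end Groth.Agent.Lib.Helper80
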