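import Groth.Agent.Lib.Helper80.AlgStIsoNat4
import Groth.Agent.Lib.Helper80.AlgStImm
import Groth.Agent.Lib.Helper80.AlgStQcMor3
import Groth.Agent.Lib.Helper80.AlgStSmoothLocus2
import Groth.Agent.Lib.Helper80.AlgStOpenSub2
import Groth.Agent.Lib.Helper80.FibCat14
import Groth.Agent.Lib.Helper80.AlgStPts8
import Groth.Agent.Lib.Helper80.AlgStPts10
import Groth.Agent.Lib.Helper30.AlgSpProper

set_option backward.isDefEq.respectTransparency false
set_option autoImplicit false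
open CategoryTheory AlgebraicGeometry Limits
universe u

namespace Groth.Agent.Lib.Helper80

open BasedFunctor Groth.Agent.Lib.Helper43.FPtRel Groth.Agent.Lib.Helper43.GerbComp

/-- A compact subset of the target of a continuous open surjection from a scheme lies in a
compact open. -/
theorem exists_compact_open_superset {Y : Type*} [TopologicalSpace Y] (V : Scheme.{u}) (φ : V → Y)
    (hc : Continuous φ) (ho : IsOpenMap φ) (hs : Function.Surjective φ) (K : Set Y)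
    (hK : IsCompact K) : ∃ T : Set Y, IsOpen T ∧ IsCompact T ∧ K ⊆ T := by
  obtain ⟨t, ht⟩ := hK.elim_finite_subcover (fun W : V.affineOpens => φ '' (W.1 : Set V))
    (fun W => ho _ W.1.2) (by
      intro y _
      obtain ⟨v, rfl⟩ := hs y
      obtain ⟨W, hW, hvW, -⟩ := (V.isBasis_affineOpens).exists_subset_of_mem_open
        (Set.mem_univ v) isOpen_univ
      obtain ⟨W', hW', rfl⟩ := hW
      exact Set.mem_iUnion.2 ⟨⟨W', hW'⟩, v, hvW, rfl⟩)
  exact ⟨⋃ W ∈ t, φ '' (W.1 : Set V), isOpen_biUnion (fun W _ => ho _ W.1.2),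
    t.isCompact_biUnion (fun W _ => (W.2.isCompact).image hc), ht⟩

variable {S : Scheme.{u}}

theorem ptsIn_mono {𝒳 : AlgSt.Cat S} {T T' : Set (AlgSt.Points 𝒳)} (h : T ⊆ T') {a : 𝒳.obj}
    (ha : ptsIn T a) : ptsIn T' a := fun p m => h (ha p m)

theorem isQuasiCompactMor_of_forall_openImm [QuasiSeparatedSpace S] {𝒳 𝒴 : AlgSt.Cat S}
    (h𝒳 : AlgSt.IsAlgStack Scheme.fppfPrecoverage 𝒳)
    (h𝒴 : AlgSt.IsAlgStack Scheme.fppfPrecoverage 𝒴)
    (h𝒴d : AlgSt.RepByAlgSpWith (AlgSp.IsSeparatedMor ⊓ AlgSp.IsQuasiCompactMor)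
      (FibCat.diag (FibCat.toSelf 𝒴)))
    (f : 𝒳 ⥤ᵇ 𝒴)
    (H : ∀ (𝒴' : AlgSt.Cat S), AlgSt.IsAlgStack Scheme.fppfPrecoverage 𝒴' → AlgSt.IsQuasiCompact 𝒴' →
        ∀ (j : 𝒴' ⥤ᵇ 𝒴), AlgSt.IsOpenImm j → AlgSt.IsQuasiCompact (FibCat.fp j f)) :
    AlgSt.IsQuasiCompactMor Scheme.fppfPrecoverage f := by
  intro 𝒵 h𝒵 hqc𝒵 g
  have gY := h𝒴.isStack.1
  have gZ := h𝒵.isStack.1
  have hqs𝒴 : AlgSt.IsQuasiSeparatedOver 𝒴 :=
    repByAlgSpWith_congr _ _ (fun _ _ _ h =>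
      ⟨h.2, Groth.Agent.Lib.Helper30.isQuasiSeparatedMor_of_isSeparatedMor h.1⟩) h𝒴d
  -- the compact image of `𝒵`
  have hcZ : CompactSpace (AlgSt.Points 𝒵) := compactSpace_points_of_isQuasiCompact gZ h𝒵.atlas hqc𝒵
  have hK : IsCompact (Set.range (AlgSt.Points.map g)) :=
    isCompact_range (continuous_points_map h𝒴.atlas g)
  obtain ⟨V, y₀, hy1, hy2⟩ := h𝒴.atlas
  have hfl : AlgSt.RepByAlgSpWith (AlgSp.LocP @Flat) y₀ :=
    repByAlgSpWith_locP_mono (fun _ _ k hk => by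
      have : Smooth k := hk
      exact (inferInstance : Flat k)) hy1
  have hfp : AlgSt.RepByAlgSpWith (AlgSp.LocP @LocallyOfFinitePresentation) y₀ :=
    repByAlgSpWith_locP_mono (fun _ _ k hk => by
      have : Smooth k := hk
      exact (inferInstance : LocallyOfFinitePresentation k)) hy1
  obtain ⟨T, hTo, hTc, hKT⟩ := exists_compact_open_superset V.left (AlgSt.Points.ofChart y₀)
    (continuous_ofChart h𝒴.atlas y₀) (isOpenMap_ofChart gY y₀ hfl hfp) (surjective_ofChart gY y₀ hy2)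
    _ hK
  -- the open substack
  have hos := isOpenSubstack_ptsIn h𝒴 T hTo
  have h𝒴₁ : AlgSt.IsAlgStack Scheme.fppfPrecoverage (AlgSt.fullSub 𝒴 (ptsIn T)) := hos.2.1
  have gY₁ := h𝒴₁.isStack.1
  let j₁ := AlgSt.subIncl 𝒴 (ptsIn T)
  have hj₁ : AlgSt.IsOpenImm j₁ := hos.2.2
  have hinj : Function.Injective (AlgSt.Points.map j₁) :=
    points_map_subIncl_injective gY (ptsIn T) (fun m h => ptsIn_of_hom T m h)
  have hcont : Continuous (AlgSt.Points.map j₁) := continuous_points_map h𝒴.atlas j₁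
  have hfl₁ : AlgSt.RepByAlgSpWith (AlgSp.LocP @Flat) j₁ := repByAlgSpWith_flat_of_isOpenImm hj₁
  have hfp₁ : AlgSt.RepByAlgSpWith (AlgSp.LocP @LocallyOfFinitePresentation) j₁ :=
    repByAlgSpWith_lofp_of_isOpenImm hj₁
  have hopen : IsOpenMap (AlgSt.Points.map j₁) :=
    isOpenMap_points_map gY gY₁ h𝒴₁.atlas j₁ hfl₁ hfp₁
  have hemb : Topology.IsOpenEmbedding (AlgSt.Points.map j₁) :=
    Topology.IsOpenEmbedding.of_continuous_injective_isOpenMap hcont hinj hopen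
  have hc₁ : CompactSpace (AlgSt.Points (AlgSt.fullSub 𝒴 (ptsIn T))) := by
    refine ⟨?_⟩
    have h1 : IsCompact (AlgSt.Points.map j₁ ⁻¹' T) :=
      hemb.isInducing.isCompact_preimage' hTc (by rw [range_subIncl_ptsIn])
    have h2 : AlgSt.Points.map j₁ ⁻¹' T = Set.univ := by
      refine Set.eq_univ_of_forall (fun w => ?_)
      have h3 := Set.mem_range_self (f := AlgSt.Points.map j₁) w
      rw [range_subIncl_ptsIn] at h3
      exact h3
    rwa [h2] at h1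
  have hqc₁ : AlgSt.IsQuasiCompact (AlgSt.fullSub 𝒴 (ptsIn T)) :=
    isQuasiCompact_of_compactSpace_points gY₁ h𝒴₁.atlas
  -- factor `g`
  let g₁ : 𝒵 ⥤ᵇ AlgSt.fullSub 𝒴 (ptsIn T) :=
    liftSub g (ptsIn T) (fun a => ptsIn_mono hKT (ptsIn_range_map gZ gY g a))
  have hg : g = BasedFunctor.comp g₁ j₁ := rfl
  have hfpqc : AlgSt.IsQuasiCompact (FibCat.fp j₁ f) := H _ h𝒴₁ hqc₁ j₁ hj₁
  have hfpalg : AlgSt.IsAlgStack Scheme.fppfPrecoverage (FibCat.fp j₁ f) :=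
    isAlgStack_fp h𝒴.isStack h𝒴.diag h𝒴₁ h𝒳 j₁ f
  have : j₁.toFunctor.Full := (inferInstance : (ObjectProperty.ι (ptsIn T)).Full)
  have : j₁.toFunctor.Faithful := (inferInstance : (ObjectProperty.ι (ptsIn T)).Faithful)
  have hqsj : AlgSt.IsQuasiSeparatedMor j₁ :=
    repByAlgSpWith_of_isEquivOver _ isQuasiCompactMor_inf_isQuasiSeparatedMor_id _
      (diag_isEquivOver_of_full_faithful j₁)
  have hqs₁ : AlgSt.IsQuasiSeparatedOver (AlgSt.fullSub 𝒴 (ptsIn T)) :=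
    isQuasiSeparatedMor_of_iso (selfOverIso _ _)
      (isQuasiSeparatedMor_comp gY₁ gY j₁ (FibCat.toSelf 𝒴) hqsj hqs𝒴)
  have hπ : AlgSt.IsQuasiCompactMor Scheme.fppfPrecoverage (FibCat.fpFst j₁ f) :=
    isQuasiCompactMor_of_isQuasiCompact_of_isQuasiSeparatedOver hfpalg h𝒴₁ _ hfpqc hqs₁
  have h3 : AlgSt.IsQuasiCompact (FibCat.fp g₁ (FibCat.fpFst j₁ f)) := hπ 𝒵 h𝒵 hqc𝒵 g₁
  rw [hg]
  exact isQuasiCompact_of_isEquivOver _ (IsEquivOver.symm (fpPasteLeft_isEquivOver g₁ j₁ f)).choose_spec.1 h3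

end Groth.Agent.Lib.Helper80
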