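import Groth.Agent.Lib.Helper80.AlgStOpenSub2
import Groth.Agent.Lib.Helper80.AlgSpSmLocalST
import Groth.Agent.Lib.Helper80.AlgStLocQ2
import Groth.Agent.Lib.Helper80.AlgStLocQ3
import Groth.Agent.Lib.Helper80.AlgStLocQ5
import Groth.Agent.Lib.Helper80.AlgStPts8
import Groth.Agent.Lib.Helper80.AlgStTP3
import Groth.Agent.Lib.Helper80.AlgStQcMor2
import Groth.Agent.S10553
import Groth.Agent.S10542
import Groth.Agent.S10567

/-!
# The largest open substack on which a morphism of algebraic stacks is smooth (helper80)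
-/

set_option autoImplicit false
set_option backward.isDefEq.respectTransparency false

universe u

open CategoryTheory CategoryTheory.Functor CategoryTheory.Limits AlgebraicGeometry Opposite

namespace Groth.Agent.Lib.Helper80

open BasedFunctor Groth.Agent.Lib.Helper43.FPtRel Groth.Agent.Lib.Helper43.GerbComp

/-- Smoothness is smooth local on the source-and-target. -/
theorem isSmoothLocalST_smooth {S : Scheme.{u}} : AlgSp.IsSmoothLocalST (AlgSp.LocP @Smooth (S := S)) :=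
  Groth.Agent.S10567.result _ (Groth.Agent.S10553.result S)
    (isLocalOnBase_sm_of_fpqc (Groth.Agent.S10542.result S))
    (locP_postcomp_smooth Groth.Agent.Lib.Helper78.AlgSpLocPSmooth.etLocalST_smooth (fun _ hk => hk))

section Schemes

variable {A B : Scheme.{u}}

/-- The largest open of the source on which a morphism of schemes is smooth. -/
def smOpen (h : A ⟶ B) : A.Opens :=
  ⨆ W : {W : A.Opens // Smooth (W.ι ≫ h)}, W.1

theorem le_smOpen (h : A ⟶ B) (W : A.Opens) (hW : Smooth (W.ι ≫ h)) : W ≤ smOpen h :=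
  le_iSup (fun W : {W : A.Opens // Smooth (W.ι ≫ h)} => W.1) ⟨W, hW⟩

theorem smooth_smOpen (h : A ⟶ B) : Smooth ((smOpen h).ι ≫ h) := by
  apply IsZariskiLocalAtSource.of_iSup_eq_top (P := @Smooth)
    (fun W : {W : A.Opens // Smooth (W.ι ≫ h)} => (smOpen h).ι ⁻¹ᵁ W.1)
  · rw [← Scheme.Hom.preimage_iSup]
    exact Scheme.Opens.ι_preimage_self _
  · intro W
    rw [← Category.assoc, ← morphismRestrict_ι, Category.assoc]
    have : Smooth (W.1.ι ≫ h) := W.2
    infer_instance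

end Schemes

variable {S : Scheme.{u}} {𝒳 𝒴 𝒜 : AlgSt.Cat S}

/-- The image of a smooth morphism to an algebraic stack is an open substack, onto which the morphism is smooth and
surjective. -/
theorem open_image_of_smooth (h𝒳 : AlgSt.IsAlgStack Scheme.fppfPrecoverage 𝒳) (gA : FibCat.IsFibGrpd 𝒜.p)
    (hatA : AlgSt.HasAtlas (AlgSp.LocP @Smooth) 𝒜) (h : 𝒜 ⥤ᵇ 𝒳)
    (hhs : AlgSt.RepByAlgSpWith (AlgSp.LocP @Smooth) h) :
    AlgSt.IsOpenSubstack 𝒳 (ptsIn (Set.range (AlgSt.Points.map h))) Scheme.fppfPrecoverage ∧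
      AlgSt.RepByAlgSpWith (AlgSp.LocP @Smooth)
        (liftSub h _ (ptsIn_range_map gA h𝒳.isStack.1 h)) ∧
      AlgSt.RepByAlgSpWith AlgSp.IsSurjectiveMor
        (liftSub h _ (ptsIn_range_map gA h𝒳.isStack.1 h)) := by
  have hsm := Groth.Agent.Lib.Helper78.AlgSpLocPSmooth.etLocalST_smooth
  have gX := h𝒳.isStack.1
  have hfl : AlgSt.RepByAlgSpWith (AlgSp.LocP @Flat) h :=
    repByAlgSpWith_locP_mono (fun _ _ k hk => by
      have : Smooth k := hk
      exact (inferInstance : Flat k)) hhs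
  have hfp : AlgSt.RepByAlgSpWith (AlgSp.LocP @LocallyOfFinitePresentation) h :=
    repByAlgSpWith_locP_mono (fun _ _ k hk => by
      have : Smooth k := hk
      exact (inferInstance : LocallyOfFinitePresentation k)) hhs
  have hT : IsOpen (Set.range (AlgSt.Points.map h)) :=
    (isOpenMap_points_map gX gA hatA h hfl hfp).isOpen_range
  have hQ := isOpenSubstack_ptsIn h𝒳 _ hT
  let g : 𝒜 ⥤ᵇ AlgSt.fullSub 𝒳 (ptsIn (Set.range (AlgSt.Points.map h))) :=
    liftSub h _ (ptsIn_range_map gA gX h)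
  have hgi : AlgSt.RepByAlgSpWith (AlgSp.LocP @Smooth)
      (BasedFunctor.comp g (AlgSt.subIncl 𝒳 (ptsIn (Set.range (AlgSt.Points.map h))))) := hhs
  have hgs : AlgSt.RepByAlgSpWith (AlgSp.LocP @Smooth) g :=
    repByAlgSpWith_of_comp_cancel (AlgSp.LocP @Smooth) (AlgSp.RepWith @IsOpenImmersion)
      (locP_baseChange hsm)
      (fun X Y Z hX hY hZ a b hb hab =>
        Groth.Agent.Lib.Helper78.AlgSpLocP.locP_of_comp_cancel' (Q := @Etale) hsm
          (fun u v hv huv => MorphismProperty.of_postcomp (W := @Smooth) (W' := @Etale) u v hv huv)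
          a b hX.atlas hY.atlas hZ.atlas
          (locP_of_repWith_etale (fun k hk => hk)
            (Groth.Agent.Lib.Helper78.AlgSpLargestOpen.repWith_mono' (fun _ _ k hk => by
              have : IsOpenImmersion k := hk
              exact (inferInstance : Etale k)) hb)) hab)
      g _ hQ.2.2 hgi
  have hgtop : AlgSt.RepByAlgSpWith ⊤ g :=
    repByAlgSpWith_of_comp_cancel ⊤ (AlgSp.RepWith @IsOpenImmersion)
      (fun _ _ _ _ _ _ _ _ _ _ _ _ _ _ => trivial) (fun _ _ _ _ _ _ _ _ _ _ => trivial)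
      g _ hQ.2.2 (repByAlgSpWith_congr _ _ (fun _ _ _ _ => trivial) hgi)
  have hrep : AlgSt.RepByAlgSp1 g := (repByAlgSp1_iff_repByAlgSpWith_top g).mpr hgtop
  have hgsurj : AlgSt.RepByAlgSpWith AlgSp.IsSurjectiveMor g :=
    repByAlgSpWith_surjective_of_isSurjective gA hQ.2.1.isStack.1 g hrep
      (isSurjective_liftSub_range gA gX h)
  exact ⟨hQ, hgs, hgsurj⟩

/-- Smooth cancellation through an open immersion. -/
theorem repByAlgSpWith_smooth_of_comp_openImm {ℬ : AlgSt.Cat S} (g : 𝒜 ⥤ᵇ ℬ) (i : ℬ ⥤ᵇ 𝒳)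
    (hi : AlgSt.IsOpenImm i) (hgi : AlgSt.RepByAlgSpWith (AlgSp.LocP @Smooth) (BasedFunctor.comp g i)) :
    AlgSt.RepByAlgSpWith (AlgSp.LocP @Smooth) g := by
  have hsm := Groth.Agent.Lib.Helper78.AlgSpLocPSmooth.etLocalST_smooth
  exact repByAlgSpWith_of_comp_cancel (AlgSp.LocP @Smooth) (AlgSp.RepWith @IsOpenImmersion)
      (locP_baseChange hsm)
      (fun X Y Z hX hY hZ a b hb hab =>
        Groth.Agent.Lib.Helper78.AlgSpLocP.locP_of_comp_cancel' (Q := @Etale) hsm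
          (fun u v hv huv => MorphismProperty.of_postcomp (W := @Smooth) (W' := @Etale) u v hv huv)
          a b hX.atlas hY.atlas hZ.atlas
          (locP_of_repWith_etale (fun k hk => hk)
            (Groth.Agent.Lib.Helper78.AlgSpLargestOpen.repWith_mono' (fun _ _ k hk => by
              have : IsOpenImmersion k := hk
              exact (inferInstance : Etale k)) hb)) hab)
      g i hi hgi

/-- `S13037`. -/
theorem exists_largest_smooth_openSub (h𝒳 : AlgSt.IsAlgStack Scheme.fppfPrecoverage 𝒳)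
    (h𝒴 : AlgSt.IsAlgStack Scheme.fppfPrecoverage 𝒴) (f : 𝒳 ⥤ᵇ 𝒴) :
    ∃ Q : 𝒳.obj → Prop, AlgSt.IsOpenSubstack 𝒳 Q Scheme.fppfPrecoverage ∧
      AlgSt.LocQ (AlgSp.LocP @Smooth) (BasedFunctor.comp (AlgSt.subIncl 𝒳 Q) f) ∧
      ∀ Q' : 𝒳.obj → Prop, AlgSt.IsOpenSubstack 𝒳 Q' Scheme.fppfPrecoverage →
        AlgSt.LocQ (AlgSp.LocP @Smooth) (BasedFunctor.comp (AlgSt.subIncl 𝒳 Q') f) → ∀ a, Q' a → Q a := by
  have hsm := Groth.Agent.Lib.Helper78.AlgSpLocPSmooth.etLocalST_smooth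
  have gX := h𝒳.isStack.1
  have gY := h𝒴.isStack.1
  obtain ⟨V₀, y₀, hy₀, hy₀s⟩ := h𝒴.atlas
  obtain ⟨U₀, x₀, h₀, α₀, hx₀, hΓ₀, hΓ₀s, hx₀s'⟩ := exists_chart_over h𝒳 h𝒴 f V₀ y₀ hy₀
  have hx₀s := hx₀s' hy₀s
  let W₀ : U₀.left.Opens := smOpen h₀.left
  let j : opOver W₀ ⟶ U₀ := opHom W₀
  have hjsm : Smooth j.left := (inferInstance : Smooth W₀.ι)
  let hmap : FibCat.overCat (opOver W₀) ⥤ᵇ 𝒳 := BasedFunctor.comp (AlgSt.overMap j) x₀
  have hhs : AlgSt.RepByAlgSpWith (AlgSp.LocP @Smooth) hmap :=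
    repByAlgSpWith_smooth_overMap_comp j hjsm x₀ hx₀
  have gA := overCat_isFibGrpd (opOver W₀)
  have hatA : AlgSt.HasAtlas (AlgSp.LocP @Smooth) (FibCat.overCat (opOver W₀)) :=
    (isAlgStack_overCat (opOver W₀)).atlas
  obtain ⟨hQ, hgs, hgsurj⟩ := open_image_of_smooth h𝒳 gA hatA hmap hhs
  refine ⟨ptsIn (Set.range (AlgSt.Points.map hmap)), hQ, ?_, ?_⟩
  · refine ⟨opOver W₀, V₀, liftSub hmap _ (ptsIn_range_map gA h𝒳.isStack.1 hmap), y₀, j ≫ h₀,
      chartCompIso (BasedNatIso.id _ : BasedFunctor.comp (liftSub hmap _ (ptsIn_range_map gA h𝒳.isStack.1 hmap))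
        (AlgSt.subIncl 𝒳 (ptsIn (Set.range (AlgSt.Points.map hmap)))) ≅
          BasedFunctor.comp (AlgSt.overMap j) x₀) α₀, hgs, hgsurj, hy₀, ?_⟩
    rw [Groth.Agent.Lib.Helper78.AlgSpLocP.locP_yon_map_iff hsm]
    exact smooth_smOpen h₀.left
  · intro Q' hQ' hloc
    obtain ⟨U₁, V₁, x₁, y₁, h₁, α₁, hx₁, hx₁s, hy₁, hP₁⟩ := hloc
    have gQ' := hQ'.2.1.isStack.1
    have hT' : IsOpen (Set.range (AlgSt.Points.map (AlgSt.subIncl 𝒳 Q'))) :=
      isOpen_range_points_map_of_isOpenImm gX gQ' hQ'.2.1.atlas _ hQ'.2.2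
    let W' : U₀.left.Opens :=
      ⟨AlgSt.Points.ofChart x₀ ⁻¹' Set.range (AlgSt.Points.map (AlgSt.subIncl 𝒳 Q')),
        (continuous_ofChart h𝒳.atlas x₀).isOpen_preimage _ hT'⟩
    let j' : opOver W' ⟶ U₀ := opHom W'
    let hmap' : FibCat.overCat (opOver W') ⥤ᵇ 𝒳 := BasedFunctor.comp (AlgSt.overMap j') x₀
    have hin : ∀ v, Q' (hmap'.obj v) := by
      rw [forall_openSub_iff_points h𝒳 (isAlgStack_overCat (opOver W')) Q' hQ' hmap']
      rintro _ ⟨w, rfl⟩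
      obtain ⟨p, rfl⟩ := AlgSt.Points.mk_surjective w
      rw [mk_eq_mk_chartPt p, ← ofChart_eq_map_chartPt, ofChart_overMap]
      have h1 : W'.ι (fptPoint p) ∈ Set.range W'.ι := ⟨_, rfl⟩
      rw [Scheme.Opens.range_ι] at h1
      exact h1
    let x' : FibCat.overCat (opOver W') ⥤ᵇ AlgSt.fullSub 𝒳 Q' := liftSub hmap' Q' hin
    let α₁' : BasedFunctor.comp x' (AlgSt.subIncl 𝒳 Q') ≅ BasedFunctor.comp (AlgSt.overMap j') x₀ :=
      BasedNatIso.id _
    have hj'sm : Smooth j'.left := (inferInstance : Smooth W'.ι)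
    have hΓ₁ : AlgSt.RepByAlgSpWith (AlgSp.LocP @Smooth) (FibCat.fpLift x' (AlgSt.overMap j') α₁') := by
      apply repByAlgSpWith_smooth_of_comp_openImm _ (FibCat.fpSnd (AlgSt.subIncl 𝒳 Q') x₀)
        (repByAlgSpWith_fpSnd _ _ _ hQ'.2.2)
      apply repByAlgSpWith_of_iso _ (BasedNatIso.id _ : AlgSt.overMap j' ≅
        BasedFunctor.comp (FibCat.fpLift x' (AlgSt.overMap j') α₁') (FibCat.fpSnd (AlgSt.subIncl 𝒳 Q') x₀))
      exact (repByAlgSpWith_overMap_iff _ (locP_baseChange hsm) (atlasLocal_locP hsm) j').mpr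
        ((Groth.Agent.Lib.Helper78.AlgSpLocP.locP_yon_map_iff hsm j').mpr hj'sm)
    have hΓ := chartComp_smooth gQ' gX α₁' α₀ hΓ₁ hΓ₀
    have hP' : AlgSp.LocP @Smooth ((AlgSp.yon S).map (j' ≫ h₀)) :=
      locQ_all_squares (AlgSp.LocP @Smooth) isSmoothLocalST_smooth (locP_baseChange hsm)
        (BasedFunctor.comp (AlgSt.subIncl 𝒳 Q') f) x₁ y₁ h₁ α₁ hx₁ hx₁s hy₁ hP₁ x' y₀ (j' ≫ h₀)
        (chartCompIso α₁' α₀) hΓ
    have hsm' : Smooth (W'.ι ≫ h₀.left) :=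
      (Groth.Agent.Lib.Helper78.AlgSpLocP.locP_yon_map_iff hsm (j' ≫ h₀)).mp hP'
    have hle : W' ≤ W₀ := le_smOpen h₀.left W' hsm'
    apply ((isOpenSubstack_bijOn h𝒳).2 Q' _ hQ' hQ).mpr
    rw [range_subIncl_ptsIn]
    intro ξ hξ
    obtain ⟨t, rfl⟩ := surjective_ofChart gX x₀ hx₀s ξ
    have ht : t ∈ W' := hξ
    have ht0 : t ∈ W₀ := hle ht
    refine ⟨AlgSt.Points.mk (chartPt (opOver W₀) ⟨t, ht0⟩), ?_⟩
    rw [← ofChart_eq_map_chartPt, ofChart_overMap]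
    rfl

end Groth.Agent.Lib.Helper80
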