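import Groth.Agent.Lib.Helper80.AlgStSpectral

/-!
# Spectrality of `|𝒳|` (helper80)
-/

set_option autoImplicit false
set_option backward.isDefEq.respectTransparency false

universe u

open CategoryTheory CategoryTheory.Functor CategoryTheory.Limits AlgebraicGeometry Opposite

namespace Groth.Agent.Lib.Helper80

open BasedFunctor

variable {S : Scheme.{u}} {𝒳 𝒴 : AlgSt.Cat S}

theorem spectralSpace_of_isAffine (X : Scheme.{u}) [IsAffine X] : SpectralSpace ↥X := { }

/-- The image in `|𝒳|` of a smooth affine chart is a spectral space, when the diagonal of `𝒳` is quasi-compact. -/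
theorem spectralSpace_range_ofChart [QuasiSeparatedSpace ↥S] (h𝒳 : FibCat.IsFibGrpd 𝒳.p)
    (hat : AlgSt.HasAtlas (AlgSp.LocP @Smooth) 𝒳)
    (hΔ : AlgSt.RepByAlgSpWith AlgSp.IsQuasiCompactMor (FibCat.diag (FibCat.toSelf 𝒳)))
    {U : Over S} [IsAffine U.left] (x : FibCat.overCat U ⥤ᵇ 𝒳)
    (hx : AlgSt.RepByAlgSpWith (AlgSp.LocP @Smooth) x) :
    SpectralSpace ↥(Set.range (AlgSt.Points.ofChart x)) := by
  have hfl : AlgSt.RepByAlgSpWith (AlgSp.LocP @Flat) x :=
    repByAlgSpWith_locP_mono (fun _ _ k hk => by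
      have : Smooth k := hk
      exact (inferInstance : Flat k)) hx
  have hfp : AlgSt.RepByAlgSpWith (AlgSp.LocP @LocallyOfFinitePresentation) x :=
    repByAlgSpWith_locP_mono (fun _ _ k hk => by
      have : Smooth k := hk
      exact (inferInstance : LocallyOfFinitePresentation k)) hx
  have hopen := isOpenMap_ofChart h𝒳 x hfl hfp
  have hcont := continuous_ofChart hat x
  obtain ⟨A, hA, s, t, hst⟩ := exists_affine_relation h𝒳 hΔ x
  have := spectralSpace_of_isAffine U.left
  have := spectralSpace_of_isAffine A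
  have hs : IsSpectralMap s := by
    have : QuasiCompact s := quasiCompact_of_compactSpace s
    exact s.isSpectralMap
  have ht : IsSpectralMap t := by
    have : QuasiCompact t := quasiCompact_of_compactSpace t
    exact t.isSpectralMap
  let q : ↥U.left → ↥(Set.range (AlgSt.Points.ofChart x)) := Set.rangeFactorization (AlgSt.Points.ofChart x)
  have hqc : Continuous q := hcont.subtype_mk _
  have hqo : IsOpenMap q := by
    intro W hW
    have e : q '' W = Subtype.val ⁻¹' (AlgSt.Points.ofChart x '' W) := by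
      ext ⟨ξ, hξ⟩
      constructor
      · rintro ⟨w, hw, hwξ⟩
        exact ⟨w, hw, congrArg Subtype.val hwξ⟩
      · rintro ⟨w, hw, hwξ⟩
        exact ⟨w, hw, Subtype.ext hwξ⟩
    rw [e]
    exact (hopen W hW).preimage continuous_subtype_val
  have hqs : Function.Surjective q := Set.rangeFactorization_surjective
  refine SpectralQuot.spectralSpace_of_quot (q := q) (s := s) (t := t) hqc hqo hqs hs ht ?_
  intro u u'
  rw [← hst u u']
  constructor
  · intro h
    exact congrArg Subtype.val h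
  · intro h
    exact Subtype.ext h

/-- `S12834`. -/
theorem spectralSpace_points [QuasiSeparatedSpace ↥S] (h𝒳 : FibCat.IsFibGrpd 𝒳.p)
    (hat : AlgSt.HasAtlas (AlgSp.LocP @Smooth) 𝒳)
    (hΔ : AlgSt.RepByAlgSpWith AlgSp.IsQuasiCompactMor (FibCat.diag (FibCat.toSelf 𝒳)))
    (hqc : AlgSt.IsQuasiCompact 𝒳) : SpectralSpace (AlgSt.Points 𝒳) := by
  obtain ⟨U, x, hU, hx1, hx2⟩ := hqc
  have := spectralSpace_range_ofChart h𝒳 hat hΔ x hx1
  have hsurj := surjective_ofChart h𝒳 x hx2
  have := compactSpace_points_of_compact_chart h𝒳 hat x hx2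
  have e : Set.range (AlgSt.Points.ofChart x) = Set.univ := hsurj.range_eq
  let φ : AlgSt.Points 𝒳 → ↥(Set.range (AlgSt.Points.ofChart x)) := fun ξ => ⟨ξ, by rw [e]; trivial⟩
  have hφ : Topology.IsOpenEmbedding φ := by
    refine Topology.IsOpenEmbedding.of_continuous_injective_isOpenMap (continuous_id.subtype_mk _)
      (fun a b h => congrArg Subtype.val h) ?_
    intro W hW
    have : φ '' W = Subtype.val ⁻¹' W := by
      ext ⟨ξ, hξ⟩
      constructor
      · rintro ⟨w, hw, hwξ⟩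
        have : w = ξ := congrArg Subtype.val hwξ
        subst this
        exact hw
      · intro h
        exact ⟨ξ, h, rfl⟩
    rw [this]
    exact hW.preimage continuous_subtype_val
  exact hφ.spectralSpace

/-- `S12835`. -/
theorem locally_spectral_points [QuasiSeparatedSpace ↥S] (h𝒳 : FibCat.IsFibGrpd 𝒳.p)
    (hat : AlgSt.HasAtlas (AlgSp.LocP @Smooth) 𝒳)
    (hΔ : AlgSt.RepByAlgSpWith AlgSp.IsQuasiCompactMor (FibCat.diag (FibCat.toSelf 𝒳))) :
    (∀ x : AlgSt.Points 𝒳, ∃ U : Set (AlgSt.Points 𝒳), IsOpen U ∧ x ∈ U ∧ SpectralSpace ↥U) ∧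
      QuasiSober (AlgSt.Points 𝒳) ∧ T0Space (AlgSt.Points 𝒳) := by
  have key : ∀ ξ : AlgSt.Points 𝒳, ∃ U : Set (AlgSt.Points 𝒳), IsOpen U ∧ ξ ∈ U ∧ SpectralSpace ↥U := by
    intro ξ
    obtain ⟨U, a, ha1, ha2⟩ := hat
    have hfl : AlgSt.RepByAlgSpWith (AlgSp.LocP @Flat) a :=
      repByAlgSpWith_locP_mono (fun _ _ k hk => by
        have : Smooth k := hk
        exact (inferInstance : Flat k)) ha1
    have hfp : AlgSt.RepByAlgSpWith (AlgSp.LocP @LocallyOfFinitePresentation) a :=
      repByAlgSpWith_locP_mono (fun _ _ k hk => by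
        have : Smooth k := hk
        exact (inferInstance : LocallyOfFinitePresentation k)) ha1
    have hopen := isOpenMap_ofChart h𝒳 a hfl hfp
    obtain ⟨t, rfl⟩ := surjective_ofChart h𝒳 a ha2 ξ
    have ht : t ∈ (⊤ : U.left.Opens) := trivial
    obtain ⟨V₀, hV, htV, -⟩ :=
      (TopologicalSpace.Opens.isBasis_iff_nbhd.mp (Scheme.isBasis_affineOpens U.left)) ht
    let V : U.left.Opens := V₀
    let U' : Over S := Over.mk (V.ι ≫ U.hom)
    let j : U' ⟶ U := Over.homMk V.ι rfl
    have hU' : IsAffine U'.left := hV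
    let x' : FibCat.overCat U' ⥤ᵇ 𝒳 := BasedFunctor.comp (AlgSt.overMap j) a
    have hx' : AlgSt.RepByAlgSpWith (AlgSp.LocP @Smooth) x' :=
      repByAlgSpWith_smooth_overMap_comp j (inferInstance : Smooth V.ι) a ha1
    have hrange : Set.range (AlgSt.Points.ofChart x') = AlgSt.Points.ofChart a '' (V : Set U.left) := by
      ext ζ
      constructor
      · rintro ⟨v, rfl⟩
        exact ⟨V.ι v, v.2, (ofChart_overMap j a v).symm⟩
      · rintro ⟨v, hv, rfl⟩
        exact ⟨⟨v, hv⟩, ofChart_overMap j a ⟨v, hv⟩⟩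
    refine ⟨Set.range (AlgSt.Points.ofChart x'), ?_, ?_, ?_⟩
    · rw [hrange]; exact hopen _ V.2
    · rw [hrange]; exact ⟨t, htV, rfl⟩
    · exact spectralSpace_range_ofChart h𝒳 ⟨U, a, ha1, ha2⟩ hΔ x' hx'
  refine ⟨key, ?_, ?_⟩
  · have hinst : ∀ s : ↥{U : Set (AlgSt.Points 𝒳) | IsOpen U ∧ SpectralSpace ↥U}, QuasiSober ↥s.1 := by
      intro s
      have := s.2.2
      infer_instance
    refine quasiSober_of_open_cover {U : Set (AlgSt.Points 𝒳) | IsOpen U ∧ SpectralSpace ↥U}
      (fun s => s.2.1) ?_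
    · rw [Set.top_eq_univ, Set.eq_univ_iff_forall]
      intro ξ
      obtain ⟨U, hU1, hU2, hU3⟩ := key ξ
      exact ⟨U, ⟨hU1, hU3⟩, hU2⟩
  · refine T0Space.of_open_cover fun ξ => ?_
    obtain ⟨U, hU1, hU2, hU3⟩ := key ξ
    exact ⟨U, hU2, hU1, inferInstance⟩

end Groth.Agent.Lib.Helper80
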