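import Groth.Agent.Lib.Helper80.AlgStDesc2

/-!
# Descent of properties along an fppf cover of the source (helper80)
-/

set_option autoImplicit false
set_option backward.isDefEq.respectTransparency false

universe u

open CategoryTheory CategoryTheory.Functor CategoryTheory.Limits AlgebraicGeometry Opposite

namespace Groth.Agent.Lib.Helper80

open BasedFunctor

variable {S : Scheme.{u}} {𝒳 𝒴 𝒵 : AlgSt.Cat S}

open Groth.Agent.Lib.Helper78.AlgSpLocP in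
/-- `S12851`: if `x` is a flat, locally finitely presented, surjective cover and `x ⋙ y` has `P`, for `P` stable
under base change and fppf local on the source, then `y` has `P`. -/
theorem repByAlgSpWith_of_comp_cover (h𝒳 : FibCat.IsFibGrpd 𝒳.p) (h𝒴 : FibCat.IsFibGrpd 𝒴.p)
    (P : MorphismProperty (AlgSp.Sp S))
    (hPb : ∀ ⦃X₁ Y₁ X₂ Y₂ : AlgSp.Sp S⦄, AlgSp.IsAlgSpace X₁ → AlgSp.IsAlgSpace Y₁ → AlgSp.IsAlgSpace X₂ →
      AlgSp.IsAlgSpace Y₂ → ∀ (a : X₁ ⟶ Y₁) (b : Y₂ ⟶ Y₁) (a' : X₂ ⟶ Y₂) (b' : X₂ ⟶ X₁),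
      IsPullback b' a' a b → P a → P a')
    (hP' : AlgSp.IsLocalOnSource AlgSp.IsFppfCover P)
    (x : 𝒳 ⥤ᵇ 𝒴) (y : 𝒴 ⥤ᵇ 𝒵) (hy : AlgSt.RepByAlgSp1 y)
    (hx₁ : AlgSt.RepByAlgSpWith (AlgSp.LocP @Flat) x)
    (hx₂ : AlgSt.RepByAlgSpWith (AlgSp.LocP @LocallyOfFinitePresentation) x)
    (hx₃ : AlgSt.RepByAlgSpWith AlgSp.IsSurjectiveMor x)
    (h : AlgSt.RepByAlgSpWith P (BasedFunctor.comp x y)) : AlgSt.RepByAlgSpWith P y := by
  intro T t
  obtain ⟨G, eg, heg⟩ := hy T t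
  refine ⟨G, eg, heg, ?_⟩
  have hQfl := Groth.Agent.Lib.Helper78.AlgSpLocPFlat.etLocalST_flat
  have hQfp := Groth.Agent.Lib.Helper78.AlgSpLocPLofp.etLocalST_lofp
  let zG : AlgSt.ofSp G.obj ⥤ᵇ 𝒴 := BasedFunctor.comp eg (FibCat.fpSnd t y)
  obtain ⟨V, a, e, he, ⟨i⟩, hfl⟩ := exists_space_fp_with' h𝒳 h𝒴 _ (atlasLocal_locP hQfl) x hx₁ G zG
  have r2 : RepOverSp (AlgSp.LocP @LocallyOfFinitePresentation) (FibCat.fpFst zG x) :=
    exists_space_fp_with' h𝒳 h𝒴 _ (atlasLocal_locP hQfp) x hx₂ G zG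
  have r3 : RepOverSp AlgSp.IsSurjectiveMor (FibCat.fpFst zG x) :=
    exists_space_fp_with' h𝒳 h𝒴 _ atlasLocal_isSurjectiveMor x hx₃ G zG
  have hlfp : AlgSp.LocP @LocallyOfFinitePresentation a.hom :=
    repOverSp_unique _ (locP_baseChange hQfp) (FibCat.fpFst zG x) r2 V.property a.hom e he i
  have hsurj : AlgSp.IsSurjectiveMor a.hom :=
    repOverSp_unique _ (fun _ _ _ _ _ _ _ _ a b a' b' sq ha => isSurjectiveMor_baseChange sq ha)
      (FibCat.fpFst zG x) r3 V.property a.hom e he i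
  -- the composite has `P`
  have hcomp : P (a.hom ≫ AlgSt.spMapOfOver (BasedFunctor.comp eg (FibCat.fpFst t y))) := by
    by_contra hn
    obtain ⟨F', e', he', hn'⟩ := comp_transfer (fun _ _ m => ¬ P m) x y t G eg heg V a e he i hn
    obtain ⟨F, eF, heF, hPF⟩ := h T t
    exact hn' (prop_of_rep_over P hPb (FibCat.fpFst t (BasedFunctor.comp x y)) F' F e' eF he' heF hPF)
  exact (hP' (fun _ : PUnit.{u + 1} => V.obj) (fun _ => a.hom) G.property (fun _ => V.property)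
    ⟨fun _ => ⟨hfl, hlfp⟩, fun p => ⟨PUnit.unit, hsurj p⟩⟩
    (AlgSt.spMapOfOver (BasedFunctor.comp eg (FibCat.fpFst t y))) (AlgSp.IsAlgSpace.yon_obj T)).mpr
    (fun _ => hcomp)

end Groth.Agent.Lib.Helper80
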