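import Groth.Agent.Lib.Helper80.AlgStSrc

/-!
# Descent of properties along a cover of the source, general covering class (helper80)
-/

set_option autoImplicit false
set_option backward.isDefEq.respectTransparency false

universe u

open CategoryTheory CategoryTheory.Functor CategoryTheory.Limits AlgebraicGeometry Opposite

namespace Groth.Agent.Lib.Helper80

open BasedFunctor

variable {S : Scheme.{u}} {𝒳 𝒴 𝒵 : AlgSt.Cat S}

/-- `S12849`, `S12850`: if `x` is a surjective cover with `Q` and `x ⋙ y` has `P`, for `P` stable under base change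
and local on the source for `Q`-coverings, then `y` has `P`. -/
theorem repByAlgSpWith_of_comp_cover' (h𝒳 : FibCat.IsFibGrpd 𝒳.p) (h𝒴 : FibCat.IsFibGrpd 𝒴.p)
    (P Q : MorphismProperty (AlgSp.Sp S))
    (hPb : ∀ ⦃X₁ Y₁ X₂ Y₂ : AlgSp.Sp S⦄, AlgSp.IsAlgSpace X₁ → AlgSp.IsAlgSpace Y₁ → AlgSp.IsAlgSpace X₂ →
      AlgSp.IsAlgSpace Y₂ → ∀ (a : X₁ ⟶ Y₁) (b : Y₂ ⟶ Y₁) (a' : X₂ ⟶ Y₂) (b' : X₂ ⟶ X₁),
      IsPullback b' a' a b → P a → P a')
    (hQ : AtlasLocal Q)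
    (hP' : AlgSp.IsLocalOnSource (fun _ _ Y g => AlgSp.IsCover Q Y g) P)
    (x : 𝒳 ⥤ᵇ 𝒴) (y : 𝒴 ⥤ᵇ 𝒵) (hy : AlgSt.RepByAlgSp1 y)
    (hx₁ : AlgSt.RepByAlgSpWith Q x)
    (hx₃ : AlgSt.RepByAlgSpWith AlgSp.IsSurjectiveMor x)
    (h : AlgSt.RepByAlgSpWith P (BasedFunctor.comp x y)) : AlgSt.RepByAlgSpWith P y := by
  intro T t
  obtain ⟨G, eg, heg⟩ := hy T t
  refine ⟨G, eg, heg, ?_⟩
  let zG : AlgSt.ofSp G.obj ⥤ᵇ 𝒴 := BasedFunctor.comp eg (FibCat.fpSnd t y)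
  obtain ⟨V, a, e, he, ⟨i⟩, hfl⟩ := exists_space_fp_with' h𝒳 h𝒴 _ hQ x hx₁ G zG
  have r3 : RepOverSp AlgSp.IsSurjectiveMor (FibCat.fpFst zG x) :=
    exists_space_fp_with' h𝒳 h𝒴 _ atlasLocal_isSurjectiveMor x hx₃ G zG
  have hsurj : AlgSp.IsSurjectiveMor a.hom :=
    repOverSp_unique _ (fun _ _ _ _ _ _ _ _ a b a' b' sq ha => isSurjectiveMor_baseChange sq ha)
      (FibCat.fpFst zG x) r3 V.property a.hom e he i
  have hcomp : P (a.hom ≫ AlgSt.spMapOfOver (BasedFunctor.comp eg (FibCat.fpFst t y))) := by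
    by_contra hn
    obtain ⟨F', e', he', hn'⟩ := comp_transfer (fun _ _ m => ¬ P m) x y t G eg heg V a e he i hn
    obtain ⟨F, eF, heF, hPF⟩ := h T t
    exact hn' (prop_of_rep_over P hPb (FibCat.fpFst t (BasedFunctor.comp x y)) F' F e' eF he' heF hPF)
  exact (hP' (fun _ : PUnit.{u + 1} => V.obj) (fun _ => a.hom) G.property (fun _ => V.property)
    ⟨fun _ => hfl, fun p => ⟨PUnit.unit, hsurj p⟩⟩
    (AlgSt.spMapOfOver (BasedFunctor.comp eg (FibCat.fpFst t y))) (AlgSp.IsAlgSpace.yon_obj T)).mpr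
    (fun _ => hcomp)

open Groth.Agent.Lib.Helper78.AlgSpLocP in
theorem atlasLocal_isEtaleMor : AtlasLocal (S := S) AlgSp.IsEtaleMor := by
  intro V Z A U a p q r hV hZ hA hp1 hp2 sq hr
  rw [Groth.Agent.Lib.Helper78.AlgSpMisc.isEtaleMor_iff_locP hZ]
  rw [Groth.Agent.Lib.Helper78.AlgSpMisc.isEtaleMor_iff_locP (AlgSp.IsAlgSpace.yon_obj U)] at hr
  exact atlasLocal_locP Groth.Agent.Lib.Helper78.AlgSpLocPSmooth.etLocalST_etale a p q r hV hZ hA hp1 hp2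
    sq hr

end Groth.Agent.Lib.Helper80
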