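import Groth.Agent.Lib.Helper80.AlgStIso3
import Groth.Agent.Lib.Helper80.Boot2

/-!
# The space-test theorem (helper80)

If `f : 𝒳 ⟶ 𝒴` is representable by algebraic spaces, `Z` is an algebraic space and `z : Z ⟶ 𝒴`, then `Z ×_𝒴 𝒳` is (the category
of) an algebraic space `V`, and for every scheme `U ⟶ Z` the algebraic space representing `U ×_𝒴 𝒳` is the fibre product
`U ×_Z V`.
-/

set_option autoImplicit false
set_option backward.isDefEq.respectTransparency false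

universe u

open CategoryTheory CategoryTheory.Functor CategoryTheory.Limits AlgebraicGeometry Opposite

namespace Groth.Agent.Lib.Helper80

open BasedFunctor

variable {S : Scheme.{u}} {𝒳 𝒴 : AlgSt.Cat S}

/-- The key pullback square: the presheaf-level statement. -/
theorem core_isPullback (f : 𝒳 ⥤ᵇ 𝒴)
    (Z : AlgSp.Sp S) (z : AlgSt.ofSp Z ⥤ᵇ 𝒴)
    (h𝒲 : FibCat.IsFibGrpd (FibCat.fp z f).p)
    {U : Over S} (ξ : (AlgSp.pyon S).obj U ⟶ Z.obj) (A : AlgSp.Sp S)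
    (e : AlgSt.ofSp A ⥤ᵇ FibCat.fp (BasedFunctor.comp (ptFun ξ) z) f) (he : FibCat.IsEquivOver e) :
    IsPullback
      (clsMap h𝒲 (BasedFunctor.comp (BasedFunctor.comp e (fpPasteLeft (ptFun ξ) z f))
        (FibCat.fpSnd (ptFun ξ) (FibCat.fpFst z f))))
      (AlgSt.spMapOfOver (BasedFunctor.comp e (FibCat.fpFst (BasedFunctor.comp (ptFun ξ) z) f))).hom
      (isoDesc h𝒲 (FibCat.fpFst z f)) ξ := by
  have he' := IsEquivOver.comp he (fpPasteLeft_isEquivOver (ptFun ξ) z f)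
  have PB := isPullback_isoDesc h𝒲 (FibCat.fpFst z f) ξ A _ he'
  have i : BasedFunctor.comp (BasedFunctor.comp e (fpPasteLeft (ptFun ξ) z f))
      (FibCat.fpFst (ptFun ξ) (FibCat.fpFst z f)) ≅
      BasedFunctor.comp e (FibCat.fpFst (BasedFunctor.comp (ptFun ξ) z) f) := BasedNatIso.id _
  rw [spMapOfOver_eq_of_iso i] at PB
  exact PB

/-- The space-test theorem, with the description of the fibres over schemes. -/
theorem exists_space_fp (h𝒳 : FibCat.IsFibGrpd 𝒳.p) (h𝒴 : FibCat.IsFibGrpd 𝒴.p) (f : 𝒳 ⥤ᵇ 𝒴)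
    (hf : AlgSt.RepByAlgSp1 f) (Z : AlgSp.Space S) (z : AlgSt.ofSp Z.obj ⥤ᵇ 𝒴) :
    ∃ (V : AlgSp.Space S) (a : V ⟶ Z) (e : AlgSt.ofSp V.obj ⥤ᵇ FibCat.fp z f),
      FibCat.IsEquivOver e ∧
      Nonempty (BasedFunctor.comp e (FibCat.fpFst z f) ≅ AlgSt.ofSpMap a.hom) ∧
      ∀ (U : Over S) (ξ : (AlgSp.yon S).obj U ⟶ Z.obj) (A : AlgSp.Sp S)
        (eU : AlgSt.ofSp A ⥤ᵇ FibCat.fp (BasedFunctor.comp (ptFun ξ.hom) z) f),
        FibCat.IsEquivOver eU →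
        ∃ q : A ⟶ V.obj, IsPullback q
          (AlgSt.spMapOfOver (BasedFunctor.comp eU (FibCat.fpFst (BasedFunctor.comp (ptFun ξ.hom) z) f)))
          a.hom ξ := by
  have hfaith : f.toFunctor.Faithful := faithful_of_repByAlgSp1 h𝒳 h𝒴 f hf
  have h𝒲 : FibCat.IsFibSetoid (FibCat.fp z f).p :=
    fp_isFibSetoid_of_faithful z f (ofPsh_isFibSetoid _) h𝒳 h𝒴
  -- the presheaf of isomorphism classes and its map to `Z`
  have hrep : AlgSp.RepBySp (isoDesc h𝒲.1 (FibCat.fpFst z f)) := by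
    intro U ξ F' fst snd sq
    obtain ⟨FU, eU, heU⟩ := hf U (BasedFunctor.comp (ptFun ξ) z)
    have PB := core_isPullback f Z.obj z h𝒲.1 ξ FU.obj eU heU
    exact ((AlgSp.isAlgSpaceP_obj_iff FU.obj).2 FU.property).of_iso (PB.isoIsPullback _ _ sq)
  obtain ⟨hsh, halg⟩ := isAlgSpaceP_of_repBySp _ hrep ((AlgSp.isAlgSpaceP_obj_iff Z.obj).2 Z.property)
  let V : AlgSp.Space S := ⟨⟨isoPsh (FibCat.fp z f) h𝒲.1, hsh⟩, halg⟩
  let a : V ⟶ Z := ObjectProperty.homMk (ObjectProperty.homMk (isoDesc h𝒲.1 (FibCat.fpFst z f)))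
  obtain ⟨e, he, -, ⟨ε⟩⟩ := IsEquivOver.symm (toIso_isEquivOver (FibCat.fp z f) h𝒲)
  refine ⟨V, a, e, he, ⟨?_⟩, ?_⟩
  · have i1 : BasedFunctor.comp e (FibCat.fpFst z f) ≅
        BasedFunctor.comp e (BasedFunctor.comp (toIso (FibCat.fp z f) h𝒲.1)
          (Stk.ofPshMap (isoDesc h𝒲.1 (FibCat.fpFst z f)))) :=
      whiskerLeftIso e (isoDescIso h𝒲.1 (FibCat.fpFst z f)).symm
    have i2 : BasedFunctor.comp (BasedFunctor.comp e (toIso (FibCat.fp z f) h𝒲.1))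
          (Stk.ofPshMap (isoDesc h𝒲.1 (FibCat.fpFst z f))) ≅
        BasedFunctor.comp (BasedFunctor.id _) (Stk.ofPshMap (isoDesc h𝒲.1 (FibCat.fpFst z f))) :=
      whiskerRightIso ε _
    exact i1 ≪≫ i2
  · intro U ξ A eU heU
    have PB := core_isPullback f Z.obj z h𝒲.1 ξ.hom A eU heU
    refine ⟨ObjectProperty.homMk (clsMap h𝒲.1
      (BasedFunctor.comp (BasedFunctor.comp eU (fpPasteLeft (ptFun ξ.hom) z f))
        (FibCat.fpSnd (ptFun ξ.hom) (FibCat.fpFst z f)))), ?_⟩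
    exact IsPullback.of_map_of_faithful (sheafToPresheaf (AlgSp.J S) (Type (u + 1))) PB

end Groth.Agent.Lib.Helper80
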