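import Groth.Agent.Lib.Helper80.AlgStTP1
import Groth.Agent.Lib.Helper30.AlgSpLoc
import Groth.Agent.Lib.Helper51.AlgSpPoints
import Groth.Prelude.Def_AlgSpCov

/-!
# The space-test theorem with a property `P` that is fppf local on the base (helper80)
-/

set_option autoImplicit false
set_option backward.isDefEq.respectTransparency false

universe u

open CategoryTheory CategoryTheory.Functor CategoryTheory.Limits AlgebraicGeometry Opposite

namespace Groth.Agent.Lib.Helper80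

open BasedFunctor

variable {S : Scheme.{u}}

/-- An atlas is an fppf covering. -/
theorem atlas_isFppfCover {Z : AlgSp.Sp S} {U : Over S} (p : (AlgSp.yon S).obj U ⟶ Z)
    (hp1 : AlgSp.RepWith @Etale p) (hp2 : AlgSp.RepWith @Surjective p) :
    AlgSp.IsFppfCover (fun _ : PUnit.{u + 1} => (AlgSp.yon S).obj U) (fun _ => p) := by
  refine ⟨fun _ => ⟨?_, ?_⟩, fun x =>
    ⟨PUnit.unit, Groth.Agent.Lib.Helper51.surjective_map_of_repWith_surjective hp2 x⟩⟩
  · exact Groth.Agent.Lib.Helper30.locP_of_repWith @Etale @Flat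
      (fun k i hk hi => inferInstance) hp1
  · exact Groth.Agent.Lib.Helper30.locP_of_repWith @Etale @LocallyOfFinitePresentation
      (fun k i hk hi => inferInstance) hp1

variable {𝒳 𝒴 : AlgSt.Cat S}

/-- Space-test theorem with a property that is fppf local on the base. -/
theorem exists_space_fp_with (h𝒳 : FibCat.IsFibGrpd 𝒳.p) (h𝒴 : FibCat.IsFibGrpd 𝒴.p)
    (P : MorphismProperty (AlgSp.Sp S)) (hP : AlgSp.IsLocalOnBase AlgSp.IsFppfCover P)
    (f : 𝒳 ⥤ᵇ 𝒴) (hf : AlgSt.RepByAlgSpWith P f) (Z : AlgSp.Space S) (z : AlgSt.ofSp Z.obj ⥤ᵇ 𝒴) :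
    ∃ (V : AlgSp.Space S) (a : V ⟶ Z) (e : AlgSt.ofSp V.obj ⥤ᵇ FibCat.fp z f),
      FibCat.IsEquivOver e ∧
      Nonempty (BasedFunctor.comp e (FibCat.fpFst z f) ≅ AlgSt.ofSpMap a.hom) ∧ P a.hom := by
  obtain ⟨V, a, e, he, i, hsq⟩ :=
    exists_space_fp h𝒳 h𝒴 f (repByAlgSp1_of_repByAlgSpWith P hf) Z z
  refine ⟨V, a, e, he, i, ?_⟩
  obtain ⟨U, p, hp1, hp2⟩ := Z.property.atlas
  obtain ⟨FU, eU, heU, hPU⟩ := hf U (BasedFunctor.comp (ptFun p.hom) z)
  obtain ⟨q, sq⟩ := hsq U p FU.obj eU heU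
  exact (hP (fun _ : PUnit.{u + 1} => (AlgSp.yon S).obj U) (fun _ => p) Z.property
    (fun _ => AlgSp.IsAlgSpace.yon_obj U) (atlas_isFppfCover p hp1 hp2) a.hom V.property
    (fun _ => FU.obj) (fun _ => _) (fun _ => q) (fun _ => FU.property) (fun _ => sq)).mpr
    (fun _ => hPU)

end Groth.Agent.Lib.Helper80
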