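import Groth.Agent.Lib.Helper80.AlgStQcMor4
import Groth.Agent.Lib.Helper80.AlgStSpPts
import Groth.Agent.Lib.Helper80.AlgStPts10
import Groth.Agent.Lib.Helper30.AlgSpFib

/-!
# Universal topological properties of morphisms representable by algebraic spaces (helper80)

For a morphism `f : 𝒳 ⟶ 𝒴` of algebraic stacks that is representable by algebraic spaces and a topological property `T`
of maps (open, closed, injective, quotient map, homeomorphism), "every base change of `f` to a scheme has `T` universally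
as a morphism of algebraic spaces" is the same as "every base change of `f` to an algebraic stack has `T` on points".
-/

set_option autoImplicit false
set_option backward.isDefEq.respectTransparency false

universe u

open CategoryTheory CategoryTheory.Functor CategoryTheory.Limits AlgebraicGeometry Opposite

namespace Groth.Agent.Lib.Helper80

open BasedFunctor

variable {S : Scheme.{u}} {𝒳 𝒴 𝒵 : AlgSt.Cat S}

theorem points_map_id (𝒳 : AlgSt.Cat S) : AlgSt.Points.map (BasedFunctor.id 𝒳) = id := by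
  funext x
  obtain ⟨p, rfl⟩ := AlgSt.Points.mk_surjective x
  rfl

/-- An equivalence over the base induces a homeomorphism on points. -/
noncomputable def pointsHomeo (hat𝒳 : AlgSt.HasAtlas (AlgSp.LocP @Smooth) 𝒳)
    (hat𝒴 : AlgSt.HasAtlas (AlgSp.LocP @Smooth) 𝒴) (e : 𝒳 ⥤ᵇ 𝒴) (he : FibCat.IsEquivOver e) :
    AlgSt.Points 𝒳 ≃ₜ AlgSt.Points 𝒴 where
  toFun := AlgSt.Points.map e
  invFun := AlgSt.Points.map he.choose
  left_inv := by
    intro x
    obtain ⟨⟨η⟩, -⟩ := he.choose_spec
    have h1 := points_map_eq_of_iso η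
    rw [points_map_comp, points_map_id] at h1
    exact congrFun h1 x
  right_inv := by
    intro x
    obtain ⟨-, ⟨ε⟩⟩ := he.choose_spec
    have h1 := points_map_eq_of_iso ε
    rw [points_map_comp, points_map_id] at h1
    exact congrFun h1 x
  continuous_toFun := continuous_points_map hat𝒴 e
  continuous_invFun := continuous_points_map hat𝒳 he.choose

theorem pointsHomeo_apply (hat𝒳 : AlgSt.HasAtlas (AlgSp.LocP @Smooth) 𝒳)
    (hat𝒴 : AlgSt.HasAtlas (AlgSp.LocP @Smooth) 𝒴) (e : 𝒳 ⥤ᵇ 𝒴) (he : FibCat.IsEquivOver e)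
    (x : AlgSt.Points 𝒳) : pointsHomeo hat𝒳 hat𝒴 e he x = AlgSt.Points.map e x := rfl

/-- A property of maps of topological spaces which is invariant under homeomorphisms and descends along open continuous
surjections. -/
structure TopDesc (T : ∀ {A B : Type (u + 1)} [TopologicalSpace A] [TopologicalSpace B], (A → B) → Prop) :
    Prop where
  homeo : ∀ {A B A' B' : Type (u + 1)} [TopologicalSpace A] [TopologicalSpace B] [TopologicalSpace A']
    [TopologicalSpace B'] (α : A ≃ₜ A') (β : B ≃ₜ B') (p : A → B) (p' : A' → B'),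
    (∀ x, p' (α x) = β (p x)) → T p → T p'
  desc : ∀ {A B C D : Type (u + 1)} [TopologicalSpace A] [TopologicalSpace B] [TopologicalSpace C]
    [TopologicalSpace D] (p : A → B) (q : C → D) (a : A → C) (b : B → D),
    (∀ x, q (a x) = b (p x)) → Continuous a → Function.Surjective a → Continuous b → IsOpenMap b →
    Function.Surjective b → (∀ β c, b β = q c → ∃ x, p x = β ∧ a x = c) → Continuous q → T p → T q

theorem topDesc_isOpenMap : TopDesc.{u} (fun {_ _} _ _ p => IsOpenMap p) where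
  homeo := by
    intro A B A' B' _ _ _ _ α β p p' h hp
    have e : p' = β ∘ p ∘ α.symm := by
      funext x
      simp only [Function.comp_apply]
      rw [← h, Homeomorph.apply_symm_apply]
    rw [e]
    exact β.isOpenMap.comp (hp.comp α.symm.isOpenMap)
  desc := by
    intro A B C D _ _ _ _ p q a b h ha hsa _ hb _ _ _ hp W hW
    have e : q '' W = b '' (p '' (a ⁻¹' W)) := by
      ext d
      constructor
      · rintro ⟨c, hc, rfl⟩
        obtain ⟨x, rfl⟩ := hsa c
        exact ⟨p x, ⟨x, hc, rfl⟩, (h x).symm⟩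
      · rintro ⟨_, ⟨x, hx, rfl⟩, rfl⟩
        exact ⟨a x, hx, h x⟩
    rw [e]
    exact hb _ (hp _ (hW.preimage ha))

theorem topDesc_isClosedMap : TopDesc.{u} (fun {_ _} _ _ p => IsClosedMap p) where
  homeo := by
    intro A B A' B' _ _ _ _ α β p p' h hp
    have e : p' = β ∘ p ∘ α.symm := by
      funext x
      simp only [Function.comp_apply]
      rw [← h, Homeomorph.apply_symm_apply]
    rw [e]
    exact β.isClosedMap.comp (hp.comp α.symm.isClosedMap)
  desc := by
    intro A B C D _ _ _ _ p q a b h ha _ hcb hb hsb hfp _ hp W hW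
    have hquot : Topology.IsQuotientMap b := hb.isQuotientMap hcb hsb
    rw [← hquot.isClosed_preimage]
    have e : b ⁻¹' (q '' W) = p '' (a ⁻¹' W) := by
      ext β
      constructor
      · rintro ⟨c, hc, hcβ⟩
        obtain ⟨x, rfl, rfl⟩ := hfp β c hcβ.symm
        exact ⟨x, hc, rfl⟩
      · rintro ⟨x, hx, rfl⟩
        exact ⟨a x, hx, h x⟩
    rw [e]
    exact hp _ (hW.preimage ha)

theorem topDesc_injective : TopDesc.{u} (fun {_ _} _ _ p => Function.Injective p) where
  homeo := by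
    intro A B A' B' _ _ _ _ α β p p' h hp
    have e : p' = β ∘ p ∘ α.symm := by
      funext x
      simp only [Function.comp_apply]
      rw [← h, Homeomorph.apply_symm_apply]
    rw [e]
    exact β.injective.comp (hp.comp α.symm.injective)
  desc := by
    intro A B C D _ _ _ _ p q a b h _ _ _ _ hsb hfp _ hp c c' hcc
    obtain ⟨β, hβ⟩ := hsb (q c)
    obtain ⟨x, hx1, rfl⟩ := hfp β c hβ
    obtain ⟨x', hx1', rfl⟩ := hfp β c' (hβ.trans hcc)
    rw [hp (hx1.trans hx1'.symm)]

theorem topDesc_isQuotientMap : TopDesc.{u} (fun {_ _} _ _ p => Topology.IsQuotientMap p) where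
  homeo := by
    intro A B A' B' _ _ _ _ α β p p' h hp
    have e : p' = β ∘ p ∘ α.symm := by
      funext x
      simp only [Function.comp_apply]
      rw [← h, Homeomorph.apply_symm_apply]
    rw [e]
    exact β.isQuotientMap.comp (hp.comp α.symm.isQuotientMap)
  desc := by
    intro A B C D _ _ _ _ p q a b h ha _ hcb hb hsb _ hcq hp
    have hquot : Topology.IsQuotientMap b := hb.isQuotientMap hcb hsb
    have h1 : Topology.IsQuotientMap (b ∘ p) := hquot.comp hp
    have e : b ∘ p = q ∘ a := by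
      funext x
      exact (h x).symm
    rw [e] at h1
    exact Topology.IsQuotientMap.of_comp ha hcq h1

theorem topDesc_isHomeomorph : TopDesc.{u} (fun {_ _} _ _ p => IsHomeomorph p) where
  homeo := by
    intro A B A' B' _ _ _ _ α β p p' h hp
    have e : p' = β ∘ p ∘ α.symm := by
      funext x
      simp only [Function.comp_apply]
      rw [← h, Homeomorph.apply_symm_apply]
    rw [e]
    exact β.isHomeomorph.comp (hp.comp α.symm.isHomeomorph)
  desc := by
    intro A B C D _ _ _ _ p q a b h ha hsa hcb hb hsb hfp hcq hp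
    refine ⟨hcq, ?_, ?_⟩
    · exact topDesc_isOpenMap.desc p q a b h ha hsa hcb hb hsb hfp hcq hp.isOpenMap
    · refine ⟨topDesc_injective.desc p q a b h ha hsa hcb hb hsb hfp hcq hp.injective, ?_⟩
      intro d
      obtain ⟨β, rfl⟩ := hsb d
      obtain ⟨x, rfl⟩ := hp.surjective β
      exact ⟨a x, h x⟩


section Main

variable (T : ∀ {A B : Type (u + 1)} [TopologicalSpace A] [TopologicalSpace B], (A → B) → Prop)

/-- The property of maps of sheaves "the map on points has `T`". -/
def spProp : MorphismProperty (AlgSp.Sp S) := fun _ _ φ => T (AlgSp.Points.map φ)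

variable {T}

/-- Transport of `T` from the map on points of a map of algebraic spaces to the functor of categories. -/
theorem top_ofSpMap_iff (hT : TopDesc T) {F G : AlgSp.Sp S} (hF : AlgSp.IsAlgSpace F) (hG : AlgSp.IsAlgSpace G)
    (φ : F ⟶ G) : T (AlgSp.Points.map φ) ↔ T (AlgSt.Points.map (AlgSt.ofSpMap φ)) := by
  constructor
  · intro h
    exact hT.homeo (spHomeo hF) (spHomeo hG) _ _ (fun x => (spToSt_map φ x).symm) h
  · intro h
    refine hT.homeo (spHomeo hF).symm (spHomeo hG).symm _ _ (fun x => ?_) h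
    rw [Homeomorph.eq_symm_apply]
    change spToSt _ = _
    rw [spToSt_map]
    exact congrArg _ ((spHomeo hF).apply_symm_apply x)

/-- The forward direction: the structure map to a scheme has `T` on points. -/
theorem top_fpFst_of_univSp (hT : TopDesc T) (h𝒳 : AlgSt.IsAlgStack Scheme.fppfPrecoverage 𝒳)
    (h𝒴 : AlgSt.IsAlgStack Scheme.fppfPrecoverage 𝒴) (f : 𝒳 ⥤ᵇ 𝒴)
    (hU : AlgSt.RepByAlgSpWith (AlgSp.UnivSp (spProp T)) f) {V : Over S} (y : FibCat.overCat V ⥤ᵇ 𝒴) :
    T (AlgSt.Points.map (FibCat.fpFst y f)) := by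
  obtain ⟨F, e, he, hm⟩ := hU V y
  let Φ : AlgSt.ofSp F.obj ⥤ᵇ FibCat.overCat V := BasedFunctor.comp e (FibCat.fpFst y f)
  let m : F.obj ⟶ (AlgSp.yon S).obj V := AlgSt.spMapOfOver Φ
  have hQm : T (AlgSp.Points.map m) :=
    hm (AlgSp.IsAlgSpace.yon_obj V) (𝟙 _) (𝟙 _) m (IsPullback.id_horiz m)
  have h1 : T (AlgSt.Points.map (AlgSt.ofSpMap m)) :=
    (top_ofSpMap_iff hT F.property (AlgSp.IsAlgSpace.yon_obj V) m).mp hQm
  obtain ⟨i⟩ := ofSpMap_spMapOfOver_iso Φ
  have hVat := (isAlgStack_overCat V).atlas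
  have hFat := hasAtlas_ofSp F.property
  have hYat := hasAtlas_ofSp (AlgSp.IsAlgSpace.yon_obj V)
  have hfpat := (isAlgStack_fp h𝒴.isStack h𝒴.diag (isAlgStack_overCat V) h𝒳 y f).atlas
  refine hT.homeo (pointsHomeo hFat hfpat e he)
    (pointsHomeo hVat hYat (AlgSt.ofOverCat V) (ofOverCat_isEquivOver V)).symm _ _ (fun x => ?_) h1
  rw [Homeomorph.eq_symm_apply, pointsHomeo_apply, pointsHomeo_apply, ← points_map_eq_of_iso i]
  change _ = AlgSt.Points.map (BasedFunctor.comp (BasedFunctor.comp e (FibCat.fpFst y f)) (AlgSt.ofOverCat V)) x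
  rw [points_map_comp, points_map_comp]
  rfl

/-- The square of points for the base change of a chart. -/
theorem top_fpFst_of_chart (hT : TopDesc T) (h𝒳 : AlgSt.IsAlgStack Scheme.fppfPrecoverage 𝒳)
    (h𝒴 : AlgSt.IsAlgStack Scheme.fppfPrecoverage 𝒴) (h𝒵 : AlgSt.IsAlgStack Scheme.fppfPrecoverage 𝒵)
    (f : 𝒳 ⥤ᵇ 𝒴) (g : 𝒵 ⥤ᵇ 𝒴) {V : Over S} (v : FibCat.overCat V ⥤ᵇ 𝒵)
    (hv1 : AlgSt.RepByAlgSpWith (AlgSp.LocP @Smooth) v)
    (hv2 : AlgSt.RepByAlgSpWith AlgSp.IsSurjectiveMor v)
    (h : T (AlgSt.Points.map (FibCat.fpFst (BasedFunctor.comp v g) f))) :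
    T (AlgSt.Points.map (FibCat.fpFst g f)) := by
  have gX := h𝒳.isStack.1
  have gY := h𝒴.isStack.1
  have gZ := h𝒵.isStack.1
  have gV := overCat_isFibGrpd V
  have hV := isAlgStack_overCat V
  have hvfl : AlgSt.RepByAlgSpWith (AlgSp.LocP @Flat) v :=
    repByAlgSpWith_locP_mono (fun _ _ k hk => by
      have : Smooth k := hk
      exact (inferInstance : Flat k)) hv1
  have hvfp : AlgSt.RepByAlgSpWith (AlgSp.LocP @LocallyOfFinitePresentation) v :=
    repByAlgSpWith_locP_mono (fun _ _ k hk => by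
      have : Smooth k := hk
      exact (inferInstance : LocallyOfFinitePresentation k)) hv1
  have hvs : AlgSt.IsSurjective v := isSurjective_of_repByAlgSpWith gZ v hv2
  have hB := isAlgStack_fp h𝒴.isStack h𝒴.diag h𝒵 h𝒳 g f
  have g3 : FibCat.IsFibGrpd (FibCat.fp g f).p := hB.isStack.1
  refine hT.desc (AlgSt.Points.map (FibCat.fpFst (BasedFunctor.comp v g) f))
    (AlgSt.Points.map (FibCat.fpFst g f)) (AlgSt.Points.map (fpPasteLeftSnd v g f)) (AlgSt.Points.map v)
    ?_ (continuous_points_map hB.atlas _) (isSurjective_fpPasteLeftSnd gX gY gZ gV v g f hvs)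
    (continuous_points_map h𝒵.atlas v) (isOpenMap_points_map gZ gV hV.atlas v hvfl hvfp) hvs ?_
    (continuous_points_map h𝒵.atlas _) h
  · intro x
    have e1 : AlgSt.Points.map (FibCat.fpFst g f) ∘ AlgSt.Points.map (fpPasteLeftSnd v g f) =
        AlgSt.Points.map v ∘ AlgSt.Points.map (FibCat.fpFst (BasedFunctor.comp v g) f) := by
      rw [← points_map_comp, ← points_map_comp]
      exact points_map_eq_of_iso (BasedNatIso.id _ :
        BasedFunctor.comp (fpPasteLeftSnd v g f) (FibCat.fpFst g f) ≅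
          BasedFunctor.comp (FibCat.fpFst (BasedFunctor.comp v g) f) v)
    exact congrFun e1 x
  · intro β c hβc
    obtain ⟨w, hw1, hw2⟩ := exists_point_fp g3 gZ gV (FibCat.fpFst g f) v β c hβc
    obtain ⟨x, rfl⟩ := points_map_surjective_of_isEquivOver (fpPasteLeft v g f) (fpPasteLeft_isEquivOver v g f) w
    refine ⟨x, ?_, ?_⟩
    · rw [← hw1]
      have e2 : AlgSt.Points.map (FibCat.fpFst (BasedFunctor.comp v g) f) =
          AlgSt.Points.map (FibCat.fpFst v (FibCat.fpFst g f)) ∘ AlgSt.Points.map (fpPasteLeft v g f) := by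
        rw [← points_map_comp]
        exact points_map_eq_of_iso (BasedNatIso.id _ : FibCat.fpFst (BasedFunctor.comp v g) f ≅
          BasedFunctor.comp (fpPasteLeft v g f) (FibCat.fpFst v (FibCat.fpFst g f)))
      exact congrFun e2 x
    · rw [← hw2]
      have e3 : AlgSt.Points.map (fpPasteLeftSnd v g f) =
          AlgSt.Points.map (FibCat.fpSnd v (FibCat.fpFst g f)) ∘ AlgSt.Points.map (fpPasteLeft v g f) := by
        rw [← points_map_comp]
        exact points_map_eq_of_iso (BasedNatIso.id _ : fpPasteLeftSnd v g f ≅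
          BasedFunctor.comp (fpPasteLeft v g f) (FibCat.fpSnd v (FibCat.fpFst g f)))
      exact congrFun e3 x

/-- The main equivalence. -/
theorem repByAlgSpWith_univSp_iff (hT : TopDesc T) (h𝒳 : AlgSt.IsAlgStack Scheme.fppfPrecoverage 𝒳)
    (h𝒴 : AlgSt.IsAlgStack Scheme.fppfPrecoverage 𝒴) (f : 𝒳 ⥤ᵇ 𝒴) (hf : AlgSt.RepByAlgSp1 f) :
    AlgSt.RepByAlgSpWith (AlgSp.UnivSp (spProp T)) f ↔
      ∀ (𝒵 : AlgSt.Cat S), AlgSt.IsAlgStack Scheme.fppfPrecoverage 𝒵 → ∀ (g : 𝒵 ⥤ᵇ 𝒴),
        T (AlgSt.Points.map (FibCat.fpFst g f)) := by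
  constructor
  · intro hU 𝒵 h𝒵 g
    obtain ⟨V, v, hv1, hv2⟩ := h𝒵.atlas
    exact top_fpFst_of_chart hT h𝒳 h𝒴 h𝒵 f g v hv1 hv2
      (top_fpFst_of_univSp hT h𝒳 h𝒴 f hU (BasedFunctor.comp v g))
  · intro H U y
    obtain ⟨F, e, he⟩ := hf U y
    refine ⟨F, e, he, ?_⟩
    intro Z Z' hZ g fst snd sq
    obtain ⟨ε, hε, ⟨i⟩⟩ := exists_equiv_fp_of_isPullback y f F.obj e he g fst snd sq
    have hZ' : AlgSp.IsAlgSpace Z' :=
      Groth.Agent.Lib.Helper30.isAlgSpace_of_isPullback (AlgSp.IsAlgSpace.yon_obj U).diag F.property hZ sq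
    have hZst := isAlgStack_ofSp hZ
    have h1 := H (AlgSt.ofSp Z) hZst
      (BasedFunctor.comp (BasedFunctor.comp (AlgSt.ofSpMap g) (AlgSt.toOverCat U)) y)
    have hfpat := (isAlgStack_fp h𝒴.isStack h𝒴.diag hZst h𝒳
      (BasedFunctor.comp (BasedFunctor.comp (AlgSt.ofSpMap g) (AlgSt.toOverCat U)) y) f).atlas
    have h2 : T (AlgSt.Points.map (AlgSt.ofSpMap snd)) := by
      refine hT.homeo (pointsHomeo (hasAtlas_ofSp hZ') hfpat ε hε).symm (Homeomorph.refl _) _ _ (fun x => ?_) h1
      rw [← points_map_eq_of_iso i, points_map_comp]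
      change AlgSt.Points.map (FibCat.fpFst _ f)
        ((pointsHomeo (hasAtlas_ofSp hZ') hfpat ε hε) ((pointsHomeo (hasAtlas_ofSp hZ') hfpat ε hε).symm x)) = _
      rw [Homeomorph.apply_symm_apply]
      rfl
    exact (top_ofSpMap_iff hT hZ' hZ snd).mpr h2

end Main

end Groth.Agent.Lib.Helper80
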