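import Groth.Agent.Lib.Helper80.AlgStUniv
import Groth.Agent.Lib.Helper80.AlgStNoeth

/-!
# Universally injective morphisms of algebraic stacks: composition, affine test objects, fppf descent (helper80)
-/

set_option autoImplicit false
set_option backward.isDefEq.respectTransparency false

universe u

open CategoryTheory CategoryTheory.Functor CategoryTheory.Limits AlgebraicGeometry Opposite TopologicalSpace

namespace Groth.Agent.Lib.Helper80

open BasedFunctor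

variable {S : Scheme.{u}} {𝒳 𝒴 𝒵 : AlgSt.Cat S}

theorem points_map_injective_of_isEquivOver {𝒜 ℬ : AlgSt.Cat S} (e : 𝒜 ⥤ᵇ ℬ) (he : FibCat.IsEquivOver e) :
    Function.Injective (AlgSt.Points.map e) := by
  obtain ⟨d, ⟨η⟩, -⟩ := he
  have e1 := points_map_eq_of_iso η
  rw [points_map_comp, points_map_id] at e1
  exact Function.Injective.of_comp (f := AlgSt.Points.map d) (by rw [e1]; exact Function.injective_id)

/-- A universally injective morphism to an algebraic stack is injective on points. -/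
theorem injective_of_isUnivInjective (h𝒴 : AlgSt.IsAlgStack Scheme.fppfPrecoverage 𝒴) (f : 𝒳 ⥤ᵇ 𝒴)
    (hf : AlgSt.IsUnivInjective Scheme.fppfPrecoverage f) : Function.Injective (AlgSt.Points.map f) := by
  have h2 := hf 𝒴 h𝒴 (BasedFunctor.id 𝒴)
  have h3 := points_map_injective_of_isEquivOver (fpIdLeftInv f) (fpIdLeftInv_isEquivOver f)
  have e2 : AlgSt.Points.map f = AlgSt.Points.map (FibCat.fpFst (BasedFunctor.id 𝒴) f) ∘
      AlgSt.Points.map (fpIdLeftInv f) := by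
    rw [← points_map_comp]
    exact points_map_eq_of_iso (BasedNatIso.id _ : f ≅
      BasedFunctor.comp (fpIdLeftInv f) (FibCat.fpFst (BasedFunctor.id 𝒴) f))
  rw [e2]
  exact h2.comp h3

/-- Injectivity of a base change, tested locally on the base. -/
theorem injective_fpFst_of_local (h𝒳 : FibCat.IsFibGrpd 𝒳.p) (h𝒴 : FibCat.IsFibGrpd 𝒴.p)
    (h𝒵 : FibCat.IsFibGrpd 𝒵.p) (f : 𝒳 ⥤ᵇ 𝒴) (g : 𝒵 ⥤ᵇ 𝒴)
    (H : ∀ τ : AlgSt.Points 𝒵, ∃ (𝒱 : AlgSt.Cat S) (_ : FibCat.IsFibGrpd 𝒱.p) (v : 𝒱 ⥤ᵇ 𝒵),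
      τ ∈ Set.range (AlgSt.Points.map v) ∧
        Function.Injective (AlgSt.Points.map (FibCat.fpFst (BasedFunctor.comp v g) f))) :
    Function.Injective (AlgSt.Points.map (FibCat.fpFst g f)) := by
  intro c c' hcc
  obtain ⟨𝒱, h𝒱, v, ⟨β, hβ⟩, hinj⟩ := H (AlgSt.Points.map (FibCat.fpFst g f) c)
  have g3 : FibCat.IsFibGrpd (FibCat.fp g f).p := fp_isFibGrpd _ _ h𝒵 h𝒳 h𝒴
  have key : ∀ c₀ : AlgSt.Points (FibCat.fp g f), AlgSt.Points.map v β = AlgSt.Points.map (FibCat.fpFst g f) c₀ →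
      ∃ x, AlgSt.Points.map (FibCat.fpFst (BasedFunctor.comp v g) f) x = β ∧
        AlgSt.Points.map (fpPasteLeftSnd v g f) x = c₀ := by
    intro c₀ hβc
    obtain ⟨w, hw1, hw2⟩ := exists_point_fp g3 h𝒵 h𝒱 (FibCat.fpFst g f) v β c₀ hβc
    obtain ⟨x, rfl⟩ := points_map_surjective_of_isEquivOver (fpPasteLeft v g f) (fpPasteLeft_isEquivOver v g f) w
    refine ⟨x, ?_, ?_⟩
    · rw [← hw1]
      have e2 : AlgSt.Points.map (FibCat.fpFst (BasedFunctor.comp v g) f) =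
          AlgSt.Points.map (FibCat.fpFst v (FibCat.fpFst g f)) ∘ AlgSt.Points.map (fpPasteLeft v g f) := by
        rw [← points_map_comp]
        exact points_map_eq_of_iso (BasedNatIso.id _ : FibCat.fpFst (BasedFunctor.comp v g) f ≅
          BasedFunctor.comp (fpPasteLeft v g f) (FibCat.fpFst v (FibCat.fpFst g f)))
      exact congrFun e2 x
    · rw [← hw2]
      have e3 : AlgSt.Points.map (fpPasteLeftSnd v g f) =
          AlgSt.Points.map (FibCat.fpSnd v (FibCat.fpFst g f)) ∘ AlgSt.Points.map (fpPasteLeft v g f) := by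
        rw [← points_map_comp]
        exact points_map_eq_of_iso (BasedNatIso.id _ : fpPasteLeftSnd v g f ≅
          BasedFunctor.comp (fpPasteLeft v g f) (FibCat.fpSnd v (FibCat.fpFst g f)))
      exact congrFun e3 x
  obtain ⟨x, hx1, rfl⟩ := key c hβ
  obtain ⟨x', hx1', rfl⟩ := key c' (hβ.trans hcc)
  rw [hinj (hx1.trans hx1'.symm)]

/-- `S13568`. -/
theorem isUnivInjective_comp (_h𝒳 : AlgSt.IsAlgStack Scheme.fppfPrecoverage 𝒳)
    (h𝒴 : AlgSt.IsAlgStack Scheme.fppfPrecoverage 𝒴) (h𝒵 : AlgSt.IsAlgStack Scheme.fppfPrecoverage 𝒵)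
    (f : 𝒳 ⥤ᵇ 𝒴) (g : 𝒴 ⥤ᵇ 𝒵) (hf : AlgSt.IsUnivInjective Scheme.fppfPrecoverage f)
    (hg : AlgSt.IsUnivInjective Scheme.fppfPrecoverage g) :
    AlgSt.IsUnivInjective Scheme.fppfPrecoverage (BasedFunctor.comp f g) := by
  intro 𝒯 h𝒯 t
  have hfp := isAlgStack_fp h𝒵.isStack h𝒵.diag h𝒯 h𝒴 t g
  have h1 := hf (FibCat.fp t g) hfp (FibCat.fpSnd t g)
  have h2 := hg 𝒯 h𝒯 t
  have h3 := points_map_injective_of_isEquivOver (fpPasteRight t g f) (fpPasteRight_isEquivOver t g f)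
  have e : AlgSt.Points.map (FibCat.fpFst t (BasedFunctor.comp f g)) =
      AlgSt.Points.map (FibCat.fpFst t g) ∘ (AlgSt.Points.map (FibCat.fpFst (FibCat.fpSnd t g) f) ∘
        AlgSt.Points.map (fpPasteRight t g f)) := by
    rw [← points_map_comp, ← points_map_comp]
    exact points_map_eq_of_iso (BasedNatIso.id _ : FibCat.fpFst t (BasedFunctor.comp f g) ≅
      BasedFunctor.comp (BasedFunctor.comp (fpPasteRight t g f) (FibCat.fpFst (FibCat.fpSnd t g) f))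
        (FibCat.fpFst t g))
  rw [e]
  exact h2.comp (h1.comp h3)

/-- `S13569`. -/
theorem isUnivInjective_of_forall_affine_fpFst (h𝒳 : AlgSt.IsAlgStack Scheme.fppfPrecoverage 𝒳)
    (h𝒴 : AlgSt.IsAlgStack Scheme.fppfPrecoverage 𝒴) (f : 𝒳 ⥤ᵇ 𝒴)
    (h : ∀ (Z : Over S) [IsAffine Z.left] (z : FibCat.overCat Z ⥤ᵇ 𝒴),
      AlgSt.IsUnivInjective Scheme.fppfPrecoverage (FibCat.fpFst z f)) :
    AlgSt.IsUnivInjective Scheme.fppfPrecoverage f := by
  intro 𝒯 h𝒯 t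
  refine injective_fpFst_of_local h𝒳.isStack.1 h𝒴.isStack.1 h𝒯.isStack.1 f t (fun τ => ?_)
  obtain ⟨U, c, hc1, hc2⟩ := h𝒯.atlas
  obtain ⟨u, rfl⟩ := surjective_ofChart h𝒯.isStack.1 c hc2 τ
  obtain ⟨U', hU', huU', -⟩ :=
    (Opens.isBasis_iff_nbhd.mp (Scheme.isBasis_affineOpens U.left)) (Opens.mem_top u)
  let U'' : U.left.Opens := U'
  let V₀ : Over S := Over.mk (U''.ι ≫ U.hom)
  let j : V₀ ⟶ U := Over.homMk U''.ι rfl
  have hA : IsAffine V₀.left := hU'
  let z : FibCat.overCat V₀ ⥤ᵇ 𝒯 := BasedFunctor.comp (AlgSt.overMap j) c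
  refine ⟨FibCat.overCat V₀, overCat_isFibGrpd V₀, z, ⟨AlgSt.Points.mk (chartPt V₀ ⟨u, huU'⟩), ?_⟩, ?_⟩
  · rw [← ofChart_eq_map_chartPt, ofChart_overMap]
    rfl
  · exact injective_of_isUnivInjective (isAlgStack_overCat V₀) _ (h V₀ (BasedFunctor.comp z t))

/-- `S13570`. -/
theorem isUnivInjective_of_fpFst_fppf_cover (h𝒳 : AlgSt.IsAlgStack Scheme.fppfPrecoverage 𝒳)
    (h𝒴 : AlgSt.IsAlgStack Scheme.fppfPrecoverage 𝒴) (f : 𝒳 ⥤ᵇ 𝒴)
    (W : AlgSp.Space S) (w : AlgSt.ofSp W.obj ⥤ᵇ 𝒴)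
    (hw₃ : AlgSt.RepByAlgSpWith AlgSp.IsSurjectiveMor w)
    (h : AlgSt.IsUnivInjective Scheme.fppfPrecoverage (FibCat.fpFst w f)) :
    AlgSt.IsUnivInjective Scheme.fppfPrecoverage f := by
  intro 𝒯 h𝒯 t
  have hW := isAlgStack_ofSp W.property
  have h𝒱 := isAlgStack_fp h𝒴.isStack h𝒴.diag h𝒯 hW t w
  have hws : AlgSt.IsSurjective w := isSurjective_of_repByAlgSpWith h𝒴.isStack.1 w hw₃
  have hvs : AlgSt.IsSurjective (FibCat.fpFst t w) :=
    isSurjective_fpFst hW.isStack.1 h𝒴.isStack.1 h𝒯.isStack.1 t w hws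
  refine injective_fpFst_of_local h𝒳.isStack.1 h𝒴.isStack.1 h𝒯.isStack.1 f t (fun τ => ?_)
  refine ⟨FibCat.fp t w, h𝒱.isStack.1, FibCat.fpFst t w, hvs τ, ?_⟩
  let v := FibCat.fpFst t w
  let s := FibCat.fpSnd t w
  have h1 : Function.Injective (AlgSt.Points.map (FibCat.fpFst s (FibCat.fpFst w f))) := h _ h𝒱 s
  have h2 := points_map_injective_of_isEquivOver (fpPasteLeft s w f) (fpPasteLeft_isEquivOver s w f)
  let i : BasedFunctor.comp v t ≅ BasedFunctor.comp (BasedFunctor.id _) (BasedFunctor.comp s w) :=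
    FibCat.fpIso t w
  have h3 := points_map_injective_of_isEquivOver
    (fpMapLeft (BasedFunctor.comp s w) f (BasedFunctor.id _) (BasedFunctor.comp v t) i)
    (fpMapLeft_isEquivOver (BasedFunctor.comp s w) f (BasedFunctor.id _) (BasedFunctor.comp v t) i
      isEquivOver_id)
  have e : AlgSt.Points.map (FibCat.fpFst (BasedFunctor.comp v t) f) =
      AlgSt.Points.map (FibCat.fpFst s (FibCat.fpFst w f)) ∘ (AlgSt.Points.map (fpPasteLeft s w f) ∘
        AlgSt.Points.map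
          (fpMapLeft (BasedFunctor.comp s w) f (BasedFunctor.id _) (BasedFunctor.comp v t) i)) := by
    rw [← points_map_comp, ← points_map_comp]
    exact points_map_eq_of_iso (BasedNatIso.id _ : FibCat.fpFst (BasedFunctor.comp v t) f ≅
      BasedFunctor.comp (BasedFunctor.comp
        (fpMapLeft (BasedFunctor.comp s w) f (BasedFunctor.id _) (BasedFunctor.comp v t) i)
        (fpPasteLeft s w f)) (FibCat.fpFst s (FibCat.fpFst w f)))
  rw [e]
  exact h1.comp (h2.comp h3)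

end Groth.Agent.Lib.Helper80
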