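import Groth.Agent.Lib.Helper80.AlgStUnivInj
import Groth.Agent.Lib.Helper80.AlgStUniv
import Groth.Agent.Lib.Helper80.AlgStPts2
import Groth.Agent.Lib.Helper80.AlgStPts7
import Groth.Agent.Lib.Helper80.AlgStBC
import Groth.Agent.Lib.Helper80.AlgStDiag

/-!
# Universally injective morphisms and the diagonal (helper80)
-/

set_option autoImplicit false
set_option backward.isDefEq.respectTransparency false

universe u

open CategoryTheory CategoryTheory.Functor CategoryTheory.Limits AlgebraicGeometry Opposite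

namespace Groth.Agent.Lib.Helper80

open BasedFunctor

variable {S : Scheme.{u}} {𝒳 𝒴 : AlgSt.Cat S}

theorem points_map_fpFst_diag (f : 𝒳 ⥤ᵇ 𝒴) (w : AlgSt.Points 𝒳) :
    AlgSt.Points.map (FibCat.fpFst f f) (AlgSt.Points.map (FibCat.diag f) w) = w := by
  have h1 : AlgSt.Points.map (BasedFunctor.comp (FibCat.diag f) (FibCat.fpFst f f)) =
      AlgSt.Points.map (BasedFunctor.id 𝒳) :=
    points_map_eq_of_iso (F := BasedFunctor.comp (FibCat.diag f) (FibCat.fpFst f f))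
      (G := BasedFunctor.id 𝒳) (BasedNatIso.id _)
  have h2 := congrFun (points_map_comp (FibCat.diag f) (FibCat.fpFst f f)) w
  rw [h1, points_map_id] at h2
  exact h2.symm

theorem points_map_fpSnd_diag (f : 𝒳 ⥤ᵇ 𝒴) (w : AlgSt.Points 𝒳) :
    AlgSt.Points.map (FibCat.fpSnd f f) (AlgSt.Points.map (FibCat.diag f) w) = w := by
  have h1 : AlgSt.Points.map (BasedFunctor.comp (FibCat.diag f) (FibCat.fpSnd f f)) =
      AlgSt.Points.map (BasedFunctor.id 𝒳) :=
    points_map_eq_of_iso (F := BasedFunctor.comp (FibCat.diag f) (FibCat.fpSnd f f))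
      (G := BasedFunctor.id 𝒳) (BasedNatIso.id _)
  have h2 := congrFun (points_map_comp (FibCat.diag f) (FibCat.fpSnd f f)) w
  rw [h1, points_map_id] at h2
  exact h2.symm

/-- If the diagonal of `f` is surjective on points then `|f|` is injective. -/
theorem injective_of_isSurjective_diag (h𝒳 : FibCat.IsFibGrpd 𝒳.p) (h𝒴 : FibCat.IsFibGrpd 𝒴.p)
    (f : 𝒳 ⥤ᵇ 𝒴) (hΔ : AlgSt.IsSurjective (FibCat.diag f)) :
    Function.Injective (AlgSt.Points.map f) := by
  intro w₁ w₂ h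
  obtain ⟨v, hv1, hv2⟩ := exists_point_fp h𝒳 h𝒴 h𝒳 f f w₁ w₂ h
  obtain ⟨w, rfl⟩ := hΔ v
  rw [← hv1, ← hv2, points_map_fpFst_diag, points_map_fpSnd_diag]

/-- `S12831`. -/
theorem isUnivInjective_iff_isSurjective_diag (h𝒳 : AlgSt.IsAlgStack Scheme.fppfPrecoverage 𝒳)
    (h𝒴 : AlgSt.IsAlgStack Scheme.fppfPrecoverage 𝒴) (f : 𝒳 ⥤ᵇ 𝒴) :
    AlgSt.IsUnivInjective Scheme.fppfPrecoverage f ↔ AlgSt.IsSurjective (FibCat.diag f) := by
  have gX := h𝒳.isStack.1
  have gY := h𝒴.isStack.1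
  constructor
  · intro h v
    have hinj := h 𝒳 h𝒳 f
    refine ⟨AlgSt.Points.map (FibCat.fpFst f f) v, hinj ?_⟩
    exact points_map_fpFst_diag f _
  · intro hΔ 𝒵 h𝒵 g
    have gZ := h𝒵.isStack.1
    have gff : FibCat.IsFibGrpd (FibCat.fp f f).p := fp_isFibGrpd f f gX gX gY
    have hrep : AlgSt.RepByAlgSp1 (FibCat.diag f) := repByAlgSp1_diag_of_diag f h𝒳.diag h𝒴.diag
    have hΔ' : AlgSt.RepByAlgSpWith AlgSp.IsSurjectiveMor (FibCat.diag f) :=
      repByAlgSpWith_surjective_of_isSurjective gX gff (FibCat.diag f) hrep hΔ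
    have hΔ'' : AlgSt.RepByAlgSpWith AlgSp.IsSurjectiveMor (FibCat.diag (FibCat.fpFst g f)) :=
      repByAlgSpWith_diag_fpFst g f _ hΔ'
    have gX' : FibCat.IsFibGrpd (FibCat.fp g f).p := fp_isFibGrpd g f gZ gX gY
    have gff' : FibCat.IsFibGrpd (FibCat.fp (FibCat.fpFst g f) (FibCat.fpFst g f)).p :=
      fp_isFibGrpd _ _ gX' gX' gZ
    exact injective_of_isSurjective_diag gX' gZ (FibCat.fpFst g f)
      (isSurjective_of_repByAlgSpWith gff' _ hΔ'')

end Groth.Agent.Lib.Helper80
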