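import Groth.Agent.Lib.Helper80.AlgStQcMor
import Groth.Agent.Lib.Helper80.AlgStBC
import Groth.Agent.Lib.Helper80.AlgStTP3
import Groth.Agent.Lib.Helper80.AlgStPsh2
import Groth.Prelude.Def_W4stkstmodspWNA

/-!
# A stack affine over a well-nigh affine stack is well-nigh affine (helper80)
-/

set_option autoImplicit false
set_option backward.isDefEq.respectTransparency false

universe u

open CategoryTheory CategoryTheory.Functor CategoryTheory.Limits AlgebraicGeometry Opposite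

namespace Groth.Agent.Lib.Helper80

open BasedFunctor

variable {S : Scheme.{u}} {𝒳 𝒳' : AlgSt.Cat S}

/-- `S16699`. -/
theorem isWellNighAffine_of_isAffineMor (hw : AlgSt.IsWellNighAffine 𝒳) (f : 𝒳' ⥤ᵇ 𝒳)
    (hf : AlgSt.RepByAlgSpWith AlgSp.IsAffineMor f) : AlgSt.IsWellNighAffine 𝒳' := by
  obtain ⟨U, x, hU, hx⟩ := hw
  obtain ⟨F, e, he, haff⟩ := hf U x
  obtain ⟨W, i, fst, sq, hW⟩ := haff hU (𝟙 ((AlgSp.yon S).obj U))
  obtain ⟨ε, hε, -⟩ := exists_equiv_fp_of_isPullback x f F.obj e he (𝟙 ((AlgSp.yon S).obj U)) fst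
    ((AlgSp.yon S).map i) sq
  have hx' : AlgSt.RepByAlgSpWith _ (BasedFunctor.comp (BasedFunctor.comp
      (AlgSt.ofSpMap (𝟙 ((AlgSp.yon S).obj U))) (AlgSt.toOverCat U)) x) :=
    (repByAlgSpWith_precomp_equiv _ (BasedFunctor.comp
      (AlgSt.ofSpMap (𝟙 ((AlgSp.yon S).obj U))) (AlgSt.toOverCat U))
      (by
        have h1 : FibCat.IsEquivOver (AlgSt.toOverCat U) := toOverCat_isEquivOver U
        exact IsEquivOver.of_iso (BasedNatIso.id _ : AlgSt.toOverCat U ≅ BasedFunctor.comp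
          (AlgSt.ofSpMap (𝟙 ((AlgSp.yon S).obj U))) (AlgSt.toOverCat U)) h1) x).mp hx
  refine ⟨W, BasedFunctor.comp (BasedFunctor.comp (AlgSt.ofOverCat W) ε) (FibCat.fpSnd _ f), hW, ?_⟩
  exact (repByAlgSpWith_precomp_equiv _ (BasedFunctor.comp (AlgSt.ofOverCat W) ε)
    (IsEquivOver.comp (ofOverCat_isEquivOver W) hε) _).mp (repByAlgSpWith_fpSnd _ _ f hx')

end Groth.Agent.Lib.Helper80
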