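import Groth.Agent.Lib.Helper80.FibCat9

/-!
# Cartesian (not nec. strongly) morphisms and equivalences over `C` (helper80)
-/

set_option autoImplicit false
set_option backward.isDefEq.respectTransparency false

universe v₃ u₃ v₂ u₂ v u

open CategoryTheory CategoryTheory.Functor CategoryTheory.Limits

namespace Groth.Agent.Lib.Helper80

open BasedFunctor

variable {C : Type u} [Category.{v} C]
  {𝒳 : BasedCategory.{v₂, u₂} C} {𝒴 : BasedCategory.{v₃, u₃} C}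

/-- A fully faithful functor over `C` reflects cartesian morphisms. -/
theorem isCartesian_of_map {F : 𝒳 ⥤ᵇ 𝒴} [F.toFunctor.Full] [F.toFunctor.Faithful]
    {R S : C} (f : R ⟶ S) {a b : 𝒳.obj} (φ : a ⟶ b)
    [h : 𝒴.p.IsCartesian f (F.map φ)] : 𝒳.p.IsCartesian f φ := by
  have : 𝒳.p.IsHomLift f φ := isHomLift_map F f φ
  refine ⟨fun {a'} φ' hφ' => ?_⟩
  have : 𝒴.p.IsHomLift f (F.map φ') := inferInstance
  obtain ⟨χ, ⟨hχ1, hχ2⟩, hχu⟩ := h.universal_property (F.map φ')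
  obtain ⟨ψ, rfl⟩ := F.toFunctor.map_surjective χ
  have : 𝒳.p.IsHomLift (𝟙 R) ψ := isHomLift_map F (𝟙 R) ψ
  refine ⟨ψ, ⟨inferInstance, ?_⟩, ?_⟩
  · apply F.toFunctor.map_injective
    rw [Functor.map_comp]; exact hχ2
  · rintro ψ' ⟨hψ'1, hψ'2⟩
    apply F.toFunctor.map_injective
    apply hχu
    exact ⟨inferInstance, by rw [← Functor.map_comp, hψ'2]⟩

/-- An equivalence over `C` preserves cartesian morphisms. -/
theorem IsFFEssSurjOver.map_isCartesian {F : 𝒳 ⥤ᵇ 𝒴} (hF : IsFFEssSurjOver F)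
    {R S : C} (f : R ⟶ S) {a b : 𝒳.obj} (φ : a ⟶ b) [hφ : 𝒳.p.IsCartesian f φ] :
    𝒴.p.IsCartesian f (F.map φ) := by
  have := hF.full
  have := hF.faithful
  refine ⟨fun {a'} φ' hφ' => ?_⟩
  obtain ⟨a'', θ, hθ⟩ := hF.essSurj a'
  have hR : 𝒴.p.obj a' = R := IsHomLift.domain_eq 𝒴.p f φ'
  have hθR : 𝒴.p.IsHomLift (𝟙 R) θ.hom := isHomLift_id_of_eq 𝒴.p hR _
  have hθR' : 𝒴.p.IsHomLift (𝟙 R) θ.inv := inferInstance
  have h1 : 𝒴.p.IsHomLift f (θ.hom ≫ φ') := inferInstance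
  obtain ⟨ψ', hψ'⟩ := F.toFunctor.map_surjective (θ.hom ≫ φ')
  have : 𝒴.p.IsHomLift f (F.map ψ') := by rw [hψ']; exact h1
  have : 𝒳.p.IsHomLift f ψ' := isHomLift_map F f ψ'
  obtain ⟨ψ, ⟨hψ1, hψ2⟩, hψu⟩ := hφ.universal_property ψ'
  have h2 : 𝒴.p.IsHomLift (𝟙 R) (θ.inv ≫ F.map ψ) := inferInstance
  refine ⟨θ.inv ≫ F.map ψ, ⟨h2, ?_⟩, ?_⟩
  · rw [Category.assoc, ← Functor.map_comp, hψ2, hψ', Iso.inv_hom_id_assoc]
  · rintro χ' ⟨hχ'1, hχ'2⟩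
    have h3 : 𝒴.p.IsHomLift (𝟙 R) (θ.hom ≫ χ') := inferInstance
    obtain ⟨ψ₂, hψ₂⟩ := F.toFunctor.map_surjective (θ.hom ≫ χ')
    have : 𝒴.p.IsHomLift (𝟙 R) (F.map ψ₂) := by rw [hψ₂]; exact h3
    have : 𝒳.p.IsHomLift (𝟙 R) ψ₂ := isHomLift_map F (𝟙 R) ψ₂
    have h4 : ψ₂ = ψ := by
      apply hψu
      refine ⟨inferInstance, ?_⟩
      apply F.toFunctor.map_injective
      rw [Functor.map_comp, hψ₂, hψ', Category.assoc, hχ'2]
    rw [← h4, hψ₂, Iso.inv_hom_id_assoc]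

theorem IsEquivOver.isCartesian_map_iff {F : 𝒳 ⥤ᵇ 𝒴} (hF : FibCat.IsEquivOver F)
    {R S : C} (f : R ⟶ S) {a b : 𝒳.obj} (φ : a ⟶ b) :
    𝒴.p.IsCartesian f (F.map φ) ↔ 𝒳.p.IsCartesian f φ := by
  have h := IsEquivOver.isFFEssSurjOver hF
  have := h.full
  have := h.faithful
  exact ⟨fun _ => isCartesian_of_map (F := F) f φ, fun _ => h.map_isCartesian f φ⟩

/-- If `𝒳` is transportable, a functor over `C` whose underlying functor is an equivalence is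
an equivalence over `C`. -/
theorem isEquivOver_of_isEquivalence_of_transportable
    (h𝒳 : ∀ ⦃T S : C⦄ (α : T ≅ S) (ξ : 𝒳.obj), 𝒳.p.obj ξ = T →
      ∃ (ξ' : 𝒳.obj) (e : ξ ≅ ξ'), 𝒳.p.IsHomLift α.hom e.hom)
    (F : 𝒳 ⥤ᵇ 𝒴) [F.toFunctor.IsEquivalence] : FibCat.IsEquivOver F := by
  apply IsFFEssSurjOver.isEquivOver
  refine ⟨inferInstance, inferInstance, fun η => ?_⟩
  let ξ₀ := F.toFunctor.objPreimage η
  let θ₀ : F.obj ξ₀ ≅ η := F.toFunctor.objObjPreimageIso η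
  let α : 𝒳.p.obj ξ₀ ≅ 𝒴.p.obj η := eqToIso (F.w_obj ξ₀).symm ≪≫ 𝒴.p.mapIso θ₀
  have hθ₀ : 𝒴.p.IsHomLift α.hom θ₀.hom := by
    apply IsHomLift.of_fac 𝒴.p α.hom θ₀.hom (F.w_obj ξ₀) rfl
    simp [α]
  obtain ⟨ξ', e, he⟩ := h𝒳 α ξ₀ rfl
  have he' : 𝒴.p.IsHomLift α.hom (F.map e.hom) := inferInstance
  have he'' : 𝒴.p.IsHomLift α.inv (F.map e.inv) := by
    have : 𝒴.p.IsHomLift α.hom (F.toFunctor.mapIso e).hom := he'
    have := IsHomLift.inv_lift_inv 𝒴.p α (F.toFunctor.mapIso e)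
    exact this
  refine ⟨ξ', (F.toFunctor.mapIso e).symm ≪≫ θ₀, ?_⟩
  have h : 𝒴.p.IsHomLift (α.inv ≫ α.hom) (F.map e.inv ≫ θ₀.hom) := inferInstance
  simpa using h

end Groth.Agent.Lib.Helper80
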