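import Groth.Agent.Lib.Helper80.FibCat10

/-!
# Cartesian morphisms of the fibre product `𝒳 ×_C 𝒴` (helper80)
-/

set_option autoImplicit false
set_option backward.isDefEq.respectTransparency false

universe v₄ u₄ v₃ u₃ v₂ u₂ v u

open CategoryTheory CategoryTheory.Functor CategoryTheory.Limits

namespace Groth.Agent.Lib.Helper80

open BasedFunctor

variable {C : Type u} [Category.{v} C]

/-- For the identity functor every morphism is strongly cartesian. -/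
theorem id_isStronglyCartesian {R S : C} (f : R ⟶ S) {a b : C} (φ : a ⟶ b)
    [h : (𝟭 C).IsHomLift f φ] : (𝟭 C).IsStronglyCartesian f φ := by
  subst_hom_lift (𝟭 C) f φ
  refine ⟨fun {a'} g φ' hφ' => ?_⟩
  have h1 : g ≫ φ = φ' := IsHomLift.eq_of_isHomLift (𝟭 C) (g ≫ (𝟭 C).map φ) φ'
  refine ⟨g, ⟨IsHomLift.map (𝟭 C) g, h1⟩, ?_⟩
  rintro χ ⟨hχ, -⟩
  exact (IsHomLift.eq_of_isHomLift (𝟭 C) g χ).symm

instance selfOver_isFibered : (FibCat.selfOver C).p.IsFibered := by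
  apply IsFibered.of_exists_isStronglyCartesian
  intro a R f
  have : (𝟭 C).IsHomLift f f := IsHomLift.map (𝟭 C) f
  exact ⟨R, f, id_isStronglyCartesian f f⟩

theorem isCartesian_map_of_isCartesian {𝒵 : Type*} [Category 𝒵] (p : 𝒵 ⥤ C) {R S : C}
    (f : R ⟶ S) {a b : 𝒵} (φ : a ⟶ b) [h : p.IsCartesian f φ] : p.IsCartesian (p.map φ) φ := by
  subst_hom_lift p f φ
  exact h

theorem isCartesian_of_isHomLift {𝒵 : Type*} [Category 𝒵] (p : 𝒵 ⥤ C) {R S : C}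
    (f : R ⟶ S) {a b : 𝒵} (φ : a ⟶ b) [hl : p.IsHomLift f φ] (h : p.IsCartesian (p.map φ) φ) :
    p.IsCartesian f φ := by
  subst_hom_lift p f φ
  exact h

variable {𝒳 : BasedCategory.{v₂, u₂} C} {𝒴 : BasedCategory.{v₃, u₃} C} {𝒮 : BasedCategory.{v₄, u₄} C}
  (F : 𝒳 ⥤ᵇ 𝒮) (G : 𝒴 ⥤ᵇ 𝒮)

theorem toSelf_preservesStronglyCartesian : FibCat.PreservesStronglyCartesian (FibCat.toSelf 𝒳) := by
  intro R S f a b φ hφ
  have h1 : (FibCat.selfOver C).p.IsHomLift f ((FibCat.toSelf 𝒳).map φ) := inferInstance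
  have h2 : (𝟭 C).IsHomLift f ((FibCat.toSelf 𝒳).map φ) := h1
  exact id_isStronglyCartesian f _

/-- A morphism of the 2-fibre product whose two components are cartesian, the image of
the second one in `𝒮` being cartesian too, is cartesian. -/
theorem fp_isCartesian {R S : C} (u : R ⟶ S) {P' P : (FibCat.fp F G).obj} (m : P' ⟶ P)
    [h1 : 𝒳.p.IsCartesian u m.hom.fst] [h2 : 𝒴.p.IsCartesian u m.hom.snd]
    [h3 : 𝒮.p.IsCartesian u (G.map m.hom.snd)] :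
    (FibCat.fp F G).p.IsCartesian u m := by
  have hm : (FibCat.fp F G).p.IsHomLift u m := (fp_isHomLift_iff F G u m).mpr inferInstance
  refine ⟨fun {Q} ψ hψ => ?_⟩
  have hψ1 : 𝒳.p.IsHomLift u ψ.hom.fst := (fp_isHomLift_iff F G _ ψ).mp hψ
  have hψ2 : 𝒴.p.IsHomLift u ψ.hom.snd := fp_isHomLift_snd F G _ ψ
  let α : Q.obj.fst ⟶ P'.obj.fst := IsCartesian.map 𝒳.p u m.hom.fst ψ.hom.fst
  let β : Q.obj.snd ⟶ P'.obj.snd := IsCartesian.map 𝒴.p u m.hom.snd ψ.hom.snd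
  have hα : α ≫ m.hom.fst = ψ.hom.fst := IsCartesian.fac 𝒳.p u m.hom.fst ψ.hom.fst
  have hβ : β ≫ m.hom.snd = ψ.hom.snd := IsCartesian.fac 𝒴.p u m.hom.snd ψ.hom.snd
  have hαl : 𝒳.p.IsHomLift (𝟙 R) α := inferInstance
  have hβl : 𝒴.p.IsHomLift (𝟙 R) β := inferInstance
  have hP' := fp_iso_isHomLift F G P' (IsHomLift.domain_eq 𝒳.p u m.hom.fst)
  have hQ := fp_iso_isHomLift F G Q (IsHomLift.domain_eq 𝒳.p u ψ.hom.fst)
  have w : F.map α ≫ P'.obj.iso.hom = Q.obj.iso.hom ≫ G.map β := by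
    have l1 : 𝒮.p.IsHomLift (𝟙 R) (F.map α ≫ P'.obj.iso.hom) := inferInstance
    have l2 : 𝒮.p.IsHomLift (𝟙 R) (Q.obj.iso.hom ≫ G.map β) := inferInstance
    apply IsCartesian.ext 𝒮.p u (G.map m.hom.snd)
    have e1 := m.hom.w
    have e2 := ψ.hom.w
    rw [Category.assoc, ← e1, ← Category.assoc, ← Functor.map_comp, hα, e2, Category.assoc,
      ← Functor.map_comp, hβ]
  let χ : Q ⟶ P' := ObjectProperty.homMk ⟨α, β, w⟩
  refine ⟨χ, ⟨(fp_isHomLift_iff F G (𝟙 R) χ).mpr hαl, ?_⟩, ?_⟩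
  · apply ObjectProperty.hom_ext
    apply CategoricalPullback.hom_ext
    · exact hα
    · exact hβ
  · rintro χ' ⟨hχ'1, hχ'2⟩
    have k1 : 𝒳.p.IsHomLift (𝟙 R) χ'.hom.fst := (fp_isHomLift_iff F G (𝟙 R) χ').mp hχ'1
    have k2 : 𝒴.p.IsHomLift (𝟙 R) χ'.hom.snd := fp_isHomLift_snd F G (𝟙 R) χ'
    have e1 : χ'.hom.fst ≫ m.hom.fst = ψ.hom.fst := by
      rw [← hχ'2]; rfl
    have e2 : χ'.hom.snd ≫ m.hom.snd = ψ.hom.snd := by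
      rw [← hχ'2]; rfl
    apply ObjectProperty.hom_ext
    apply CategoricalPullback.hom_ext
    · exact IsCartesian.map_uniq 𝒳.p u m.hom.fst ψ.hom.fst χ'.hom.fst e1
    · exact IsCartesian.map_uniq 𝒴.p u m.hom.snd ψ.hom.snd χ'.hom.snd e2


section ToSelf

variable {𝒳 : BasedCategory.{v₂, u₂} C} {𝒴 : BasedCategory.{v₃, u₃} C}

theorem map_eq_of_isHomLift_id {𝒵 : Type*} [Category 𝒵] (p : 𝒵 ⥤ C) {R : C} {a b : 𝒵}
    (χ χ' : a ⟶ b) [p.IsHomLift (𝟙 R) χ] [p.IsHomLift (𝟙 R) χ'] : p.map χ = p.map χ' := by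
  rw [IsHomLift.fac' p (𝟙 R) χ, IsHomLift.fac' p (𝟙 R) χ']

theorem map_eq_eqToHom_comp_of_isHomLift {𝒵 : Type*} [Category 𝒵] (p : 𝒵 ⥤ C) {R S : C}
    (u : R ⟶ S) {a a' b : 𝒵} (ψ : a ⟶ b) (φ : a' ⟶ b) [p.IsHomLift u ψ] [p.IsHomLift u φ]
    (h : p.obj a = p.obj a') : p.map ψ = eqToHom h ≫ p.map φ := by
  rw [IsHomLift.fac' p u ψ, IsHomLift.fac' p u φ]
  simp

theorem fpSelf_fst_isCartesian {R S : C} (u : R ⟶ S)
    {P' P : (FibCat.fp (FibCat.toSelf 𝒳) (FibCat.toSelf 𝒴)).obj} (m : P' ⟶ P)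
    [hm : (FibCat.fp (FibCat.toSelf 𝒳) (FibCat.toSelf 𝒴)).p.IsCartesian u m] :
    𝒳.p.IsCartesian u m.hom.fst := by
  have hml : 𝒳.p.IsHomLift u m.hom.fst := (fp_isHomLift_iff _ _ u m).mp hm.toIsHomLift
  refine ⟨fun {a} ψ₁ hψ₁ => ?_⟩
  have ha : 𝒳.p.obj a = 𝒳.p.obj P'.obj.fst :=
    (IsHomLift.domain_eq 𝒳.p u ψ₁).trans (IsHomLift.domain_eq 𝒳.p u m.hom.fst).symm
  let e : (FibCat.toSelf 𝒳).obj a ≅ (FibCat.toSelf 𝒴).obj P'.obj.snd :=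
    eqToIso ha ≪≫ P'.obj.iso
  have hP' : (FibCat.selfOver C).p.IsHomLift (𝟙 (𝒳.p.obj P'.obj.fst)) P'.obj.iso.hom :=
    P'.property
  have he0 : (FibCat.selfOver C).p.IsHomLift (𝟙 (𝒳.p.obj P'.obj.fst))
      (eqToHom ha ≫ P'.obj.iso.hom) := inferInstance
  have he0' : (FibCat.selfOver C).p.IsHomLift (𝟙 (𝒳.p.obj P'.obj.fst)) e.hom := he0
  have he : (FibCat.selfOver C).p.IsHomLift (𝟙 (𝒳.p.obj a)) e.hom :=
    isHomLift_id_of_eq _ ha.symm _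
  let Q : (FibCat.fp (FibCat.toSelf 𝒳) (FibCat.toSelf 𝒴)).obj := ⟨⟨a, P'.obj.snd, e⟩, he⟩
  have key : 𝒳.p.map ψ₁ = eqToHom ha ≫ 𝒳.p.map m.hom.fst :=
    map_eq_eqToHom_comp_of_isHomLift 𝒳.p u ψ₁ m.hom.fst ha
  have w : (FibCat.toSelf 𝒳).map ψ₁ ≫ P.obj.iso.hom =
      e.hom ≫ (FibCat.toSelf 𝒴).map m.hom.snd := by
    change 𝒳.p.map ψ₁ ≫ P.obj.iso.hom = (eqToHom ha ≫ P'.obj.iso.hom) ≫ 𝒴.p.map m.hom.snd
    rw [key, Category.assoc, Category.assoc]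
    congr 1
    exact m.hom.w
  let n : Q ⟶ P := ObjectProperty.homMk ⟨ψ₁, m.hom.snd, w⟩
  have hn : (FibCat.fp (FibCat.toSelf 𝒳) (FibCat.toSelf 𝒴)).p.IsHomLift u n :=
    (fp_isHomLift_iff _ _ u n).mpr hψ₁
  obtain ⟨χ, ⟨hχ1, hχ2⟩, hχu⟩ := hm.universal_property n
  have hχl : 𝒳.p.IsHomLift (𝟙 R) χ.hom.fst := (fp_isHomLift_iff _ _ (𝟙 R) χ).mp hχ1
  refine ⟨χ.hom.fst, ⟨hχl, congrArg (fun k => k.hom.fst) hχ2⟩, ?_⟩
  rintro χ₁' ⟨hχ₁'l, hχ₁'c⟩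
  have w' : (FibCat.toSelf 𝒳).map χ₁' ≫ P'.obj.iso.hom =
      Q.obj.iso.hom ≫ (FibCat.toSelf 𝒴).map χ.hom.snd := by
    have := χ.hom.w
    change 𝒳.p.map χ₁' ≫ P'.obj.iso.hom = _
    rw [map_eq_of_isHomLift_id 𝒳.p (R := R) χ₁' χ.hom.fst]
    exact this
  let χ' : Q ⟶ P' := ObjectProperty.homMk ⟨χ₁', χ.hom.snd, w'⟩
  have hχ' : χ' = χ := by
    apply hχu
    refine ⟨(fp_isHomLift_iff _ _ (𝟙 R) χ').mpr hχ₁'l, ?_⟩
    apply ObjectProperty.hom_ext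
    apply CategoricalPullback.hom_ext
    · exact hχ₁'c
    · exact congrArg (fun k => k.hom.snd) hχ2
  exact congrArg (fun k => k.hom.fst) hχ'

theorem fpSelf_snd_isCartesian {R S : C} (u : R ⟶ S)
    {P' P : (FibCat.fp (FibCat.toSelf 𝒳) (FibCat.toSelf 𝒴)).obj} (m : P' ⟶ P)
    [hm : (FibCat.fp (FibCat.toSelf 𝒳) (FibCat.toSelf 𝒴)).p.IsCartesian u m] :
    𝒴.p.IsCartesian u m.hom.snd := by
  have hml : 𝒳.p.IsHomLift u m.hom.fst := (fp_isHomLift_iff _ _ u m).mp hm.toIsHomLift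
  have hml2 : 𝒴.p.IsHomLift u m.hom.snd := fp_isHomLift_snd _ _ u m
  refine ⟨fun {b} ψ₂ hψ₂ => ?_⟩
  have hb : 𝒴.p.obj P'.obj.snd = 𝒴.p.obj b :=
    (IsHomLift.domain_eq 𝒴.p u m.hom.snd).trans (IsHomLift.domain_eq 𝒴.p u ψ₂).symm
  let e : (FibCat.toSelf 𝒳).obj P'.obj.fst ≅ (FibCat.toSelf 𝒴).obj b :=
    P'.obj.iso ≪≫ eqToIso hb
  have hP' : (FibCat.selfOver C).p.IsHomLift (𝟙 (𝒳.p.obj P'.obj.fst)) P'.obj.iso.hom :=
    P'.property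
  have he : (FibCat.selfOver C).p.IsHomLift (𝟙 (𝒳.p.obj P'.obj.fst)) e.hom := by
    change (FibCat.selfOver C).p.IsHomLift (𝟙 (𝒳.p.obj P'.obj.fst))
      (P'.obj.iso.hom ≫ eqToHom hb)
    infer_instance
  let Q : (FibCat.fp (FibCat.toSelf 𝒳) (FibCat.toSelf 𝒴)).obj := ⟨⟨P'.obj.fst, b, e⟩, he⟩
  have key : 𝒴.p.map ψ₂ = eqToHom hb.symm ≫ 𝒴.p.map m.hom.snd :=
    map_eq_eqToHom_comp_of_isHomLift 𝒴.p u ψ₂ m.hom.snd hb.symm
  have w : (FibCat.toSelf 𝒳).map m.hom.fst ≫ P.obj.iso.hom =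
      e.hom ≫ (FibCat.toSelf 𝒴).map ψ₂ := by
    change _ = (P'.obj.iso.hom ≫ eqToHom hb) ≫ 𝒴.p.map ψ₂
    rw [key, Category.assoc, eqToHom_trans_assoc, eqToHom_refl, Category.id_comp]
    exact m.hom.w
  let n : Q ⟶ P := ObjectProperty.homMk ⟨m.hom.fst, ψ₂, w⟩
  have hn : (FibCat.fp (FibCat.toSelf 𝒳) (FibCat.toSelf 𝒴)).p.IsHomLift u n :=
    (fp_isHomLift_iff _ _ u n).mpr hml
  obtain ⟨χ, ⟨hχ1, hχ2⟩, hχu⟩ := hm.universal_property n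
  have hχl : 𝒴.p.IsHomLift (𝟙 R) χ.hom.snd := fp_isHomLift_snd _ _ (𝟙 R) χ
  have hχl1 : 𝒳.p.IsHomLift (𝟙 R) χ.hom.fst := (fp_isHomLift_iff _ _ (𝟙 R) χ).mp hχ1
  refine ⟨χ.hom.snd, ⟨hχl, congrArg (fun k => k.hom.snd) hχ2⟩, ?_⟩
  rintro χ₂' ⟨hχ₂'l, hχ₂'c⟩
  have w' : (FibCat.toSelf 𝒳).map χ.hom.fst ≫ P'.obj.iso.hom =
      Q.obj.iso.hom ≫ (FibCat.toSelf 𝒴).map χ₂' := by
    have := χ.hom.w
    change _ = Q.obj.iso.hom ≫ 𝒴.p.map χ₂'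
    rw [map_eq_of_isHomLift_id 𝒴.p (R := R) χ₂' χ.hom.snd]
    exact this
  let χ' : Q ⟶ P' := ObjectProperty.homMk ⟨χ.hom.fst, χ₂', w'⟩
  have hχ' : χ' = χ := by
    apply hχu
    refine ⟨(fp_isHomLift_iff _ _ (𝟙 R) χ').mpr hχl1, ?_⟩
    apply ObjectProperty.hom_ext
    apply CategoricalPullback.hom_ext
    · exact congrArg (fun k => k.hom.fst) hχ2
    · exact hχ₂'c
  exact congrArg (fun k => k.hom.snd) hχ'

theorem fpSelf_isCartesian_iff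
    {P' P : (FibCat.fp (FibCat.toSelf 𝒳) (FibCat.toSelf 𝒴)).obj} (m : P' ⟶ P) :
    (FibCat.fp (FibCat.toSelf 𝒳) (FibCat.toSelf 𝒴)).p.IsCartesian
        ((FibCat.fp (FibCat.toSelf 𝒳) (FibCat.toSelf 𝒴)).p.map m) m ↔
      𝒳.p.IsCartesian (𝒳.p.map m.hom.fst) m.hom.fst ∧
        𝒴.p.IsCartesian (𝒴.p.map m.hom.snd) m.hom.snd := by
  constructor
  · intro hm
    refine ⟨fpSelf_fst_isCartesian ((FibCat.fp (FibCat.toSelf 𝒳) (FibCat.toSelf 𝒴)).p.map m) m, ?_⟩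
    have := fpSelf_snd_isCartesian ((FibCat.fp (FibCat.toSelf 𝒳) (FibCat.toSelf 𝒴)).p.map m) m
    exact isCartesian_map_of_isCartesian 𝒴.p
      ((FibCat.fp (FibCat.toSelf 𝒳) (FibCat.toSelf 𝒴)).p.map m) m.hom.snd
  · rintro ⟨h1, h2⟩
    have h1' : 𝒳.p.IsCartesian ((FibCat.fp (FibCat.toSelf 𝒳) (FibCat.toSelf 𝒴)).p.map m)
      m.hom.fst := h1
    have h2' : 𝒴.p.IsCartesian ((FibCat.fp (FibCat.toSelf 𝒳) (FibCat.toSelf 𝒴)).p.map m)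
      m.hom.snd := isCartesian_of_isHomLift 𝒴.p _ m.hom.snd h2
    have h3l : (𝟭 C).IsHomLift ((FibCat.fp (FibCat.toSelf 𝒳) (FibCat.toSelf 𝒴)).p.map m)
        ((FibCat.toSelf 𝒴).map m.hom.snd) :=
      (FibCat.toSelf 𝒴).preserves_isHomLift _ m.hom.snd
    have h3s : (FibCat.selfOver C).p.IsStronglyCartesian
      ((FibCat.fp (FibCat.toSelf 𝒳) (FibCat.toSelf 𝒴)).p.map m)
      ((FibCat.toSelf 𝒴).map m.hom.snd) := id_isStronglyCartesian _ _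
    have h3 : (FibCat.selfOver C).p.IsCartesian
      ((FibCat.fp (FibCat.toSelf 𝒳) (FibCat.toSelf 𝒴)).p.map m)
      ((FibCat.toSelf 𝒴).map m.hom.snd) := inferInstance
    exact fp_isCartesian _ _ _ m

theorem fpSelf_isFibered [𝒳.p.IsFibered] [𝒴.p.IsFibered] :
    (FibCat.fp (FibCat.toSelf 𝒳) (FibCat.toSelf 𝒴)).p.IsFibered :=
  fp_isFibered _ _ toSelf_preservesStronglyCartesian toSelf_preservesStronglyCartesian

theorem fpSelf_isPreFibered [𝒳.p.IsPreFibered] [𝒴.p.IsPreFibered] :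
    (FibCat.fp (FibCat.toSelf 𝒳) (FibCat.toSelf 𝒴)).p.IsPreFibered where
  exists_isCartesian' := by
    intro P R f
    obtain ⟨x', φ, hφ⟩ := IsPreFibered.exists_isCartesian 𝒳.p (a := P.obj.fst) rfl f
    obtain ⟨y', ψ, hψ⟩ := IsPreFibered.exists_isCartesian 𝒴.p (a := P.obj.snd)
      (fp_snd_proj _ _ P) f
    have l1 : (𝟭 C).IsHomLift f ((FibCat.toSelf 𝒳).map φ) :=
      (FibCat.toSelf 𝒳).preserves_isHomLift f φ
    have l2 : (𝟭 C).IsHomLift f ((FibCat.toSelf 𝒴).map ψ) :=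
      (FibCat.toSelf 𝒴).preserves_isHomLift f ψ
    have s1 : (FibCat.selfOver C).p.IsStronglyCartesian f ((FibCat.toSelf 𝒳).map φ) :=
      id_isStronglyCartesian f _
    have s2 : (FibCat.selfOver C).p.IsStronglyCartesian f ((FibCat.toSelf 𝒴).map ψ) :=
      id_isStronglyCartesian f _
    obtain ⟨P', m, h1, h2, hm1, hm2⟩ := fp_exists_lift _ _ f P φ ψ
    obtain ⟨⟨x'', y'', e⟩, hP'⟩ := P'
    simp only at h1 h2
    subst h1 h2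
    simp only [eqToHom_refl, Category.id_comp] at hm1 hm2
    have : 𝒳.p.IsCartesian f m.hom.fst := by rw [hm1]; infer_instance
    have : 𝒴.p.IsCartesian f m.hom.snd := by rw [hm2]; infer_instance
    have : (FibCat.selfOver C).p.IsCartesian f ((FibCat.toSelf 𝒴).map m.hom.snd) := by
      rw [hm2]; infer_instance
    exact ⟨_, m, fp_isCartesian _ _ f m⟩

end ToSelf

end Groth.Agent.Lib.Helper80
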