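import Groth.Agent.Lib.Helper80.FibCat11

/-!
# A criterion for `fpLift a b e` to be an equivalence over `C` (helper80)

`fpLift_isEquivOver`: the square `(a, b, e)` over `(F, G)` is 2-cartesian over `C` as soon as
`(a, b)` is jointly faithful, jointly full relative to `e`, and essentially surjective over `C`
onto the 2-fibre product.  Also: composition and invariance of `IsEquivOver`, invariance of
`IsRepresentable`.
-/

set_option autoImplicit false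
set_option backward.isDefEq.respectTransparency false

universe v₆ u₆ v₅ u₅ v₄ u₄ v₃ u₃ v₂ u₂ v u

open CategoryTheory CategoryTheory.Functor CategoryTheory.Limits

namespace Groth.Agent.Lib.Helper80

open BasedFunctor

variable {C : Type u} [Category.{v} C]
  {𝒳 : BasedCategory.{v₂, u₂} C} {𝒴 : BasedCategory.{v₃, u₃} C} {𝒮 : BasedCategory.{v₄, u₄} C}
  {𝒲 : BasedCategory.{v₅, u₅} C}

section Basic

variable {F : 𝒳 ⥤ᵇ 𝒮} {G : 𝒴 ⥤ᵇ 𝒮} (a : 𝒲 ⥤ᵇ 𝒳) (b : 𝒲 ⥤ᵇ 𝒴)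
  (e : BasedFunctor.comp a F ≅ BasedFunctor.comp b G)

@[simp] theorem fpLift_obj_fst (w : 𝒲.obj) : ((FibCat.fpLift a b e).obj w).obj.fst = a.obj w := rfl
@[simp] theorem fpLift_obj_snd (w : 𝒲.obj) : ((FibCat.fpLift a b e).obj w).obj.snd = b.obj w := rfl
@[simp] theorem fpLift_obj_iso_hom (w : 𝒲.obj) :
    ((FibCat.fpLift a b e).obj w).obj.iso.hom = e.hom.toNatTrans.app w := rfl
@[simp] theorem fpLift_obj_iso_inv (w : 𝒲.obj) :
    ((FibCat.fpLift a b e).obj w).obj.iso.inv = e.inv.toNatTrans.app w := rfl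
@[simp] theorem fpLift_map_fst {w w' : 𝒲.obj} (g : w ⟶ w') :
    ((FibCat.fpLift a b e).map g).hom.fst = a.map g := rfl
@[simp] theorem fpLift_map_snd {w w' : 𝒲.obj} (g : w ⟶ w') :
    ((FibCat.fpLift a b e).map g).hom.snd = b.map g := rfl

/-- Criterion for `fpLift a b e` to be fully faithful and essentially surjective over `C`. -/
theorem fpLift_isFFEssSurjOver
    (hfaith : ∀ {w w' : 𝒲.obj} (g g' : w ⟶ w'), a.map g = a.map g' → b.map g = b.map g' → g = g')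
    (hfull : ∀ {w w' : 𝒲.obj} (φ : a.obj w ⟶ a.obj w') (ψ : b.obj w ⟶ b.obj w'),
      F.map φ ≫ e.hom.toNatTrans.app w' = e.hom.toNatTrans.app w ≫ G.map ψ →
      ∃ g : w ⟶ w', a.map g = φ ∧ b.map g = ψ)
    (hess : ∀ P : (FibCat.fp F G).obj, ∃ (w : 𝒲.obj) (α : a.obj w ≅ P.obj.fst)
      (β : b.obj w ≅ P.obj.snd), 𝒳.p.IsHomLift (𝟙 (𝒳.p.obj P.obj.fst)) α.hom ∧
        F.map α.hom ≫ P.obj.iso.hom = e.hom.toNatTrans.app w ≫ G.map β.hom) :
    IsFFEssSurjOver (FibCat.fpLift a b e) where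
  faithful := ⟨fun {w w'} g g' h => by
    apply hfaith
    · exact congrArg (fun m => m.hom.fst) h
    · exact congrArg (fun m => m.hom.snd) h⟩
  full := ⟨fun {w w'} m => by
    obtain ⟨g, hg1, hg2⟩ := hfull m.hom.fst m.hom.snd m.hom.w
    refine ⟨g, ?_⟩
    apply ObjectProperty.hom_ext
    apply CategoricalPullback.hom_ext
    · exact hg1
    · exact hg2⟩
  essSurj := fun P => by
    obtain ⟨w, α, β, hα, hw⟩ := hess P
    let θ : (FibCat.fpLift a b e).obj w ≅ P :=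
      ObjectProperty.isoMk _ (CategoricalPullback.mkIso α β hw)
    refine ⟨w, θ, ?_⟩
    rw [fp_isHomLift_iff]
    exact hα

theorem fpLift_isEquivOver
    (hfaith : ∀ {w w' : 𝒲.obj} (g g' : w ⟶ w'), a.map g = a.map g' → b.map g = b.map g' → g = g')
    (hfull : ∀ {w w' : 𝒲.obj} (φ : a.obj w ⟶ a.obj w') (ψ : b.obj w ⟶ b.obj w'),
      F.map φ ≫ e.hom.toNatTrans.app w' = e.hom.toNatTrans.app w ≫ G.map ψ →
      ∃ g : w ⟶ w', a.map g = φ ∧ b.map g = ψ)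
    (hess : ∀ P : (FibCat.fp F G).obj, ∃ (w : 𝒲.obj) (α : a.obj w ≅ P.obj.fst)
      (β : b.obj w ≅ P.obj.snd), 𝒳.p.IsHomLift (𝟙 (𝒳.p.obj P.obj.fst)) α.hom ∧
        F.map α.hom ≫ P.obj.iso.hom = e.hom.toNatTrans.app w ≫ G.map β.hom) :
    FibCat.IsEquivOver (FibCat.fpLift a b e) :=
  (fpLift_isFFEssSurjOver a b e hfaith hfull hess).isEquivOver

end Basic

section Comp

variable {𝒵 : BasedCategory.{v₆, u₆} C}

theorem IsFFEssSurjOver.comp {F : 𝒳 ⥤ᵇ 𝒴} {G : 𝒴 ⥤ᵇ 𝒵} (hF : IsFFEssSurjOver F)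
    (hG : IsFFEssSurjOver G) : IsFFEssSurjOver (BasedFunctor.comp F G) where
  full := by
    have := hF.full; have := hG.full
    exact inferInstanceAs (F.toFunctor ⋙ G.toFunctor).Full
  faithful := by
    have := hF.faithful; have := hG.faithful
    exact inferInstanceAs (F.toFunctor ⋙ G.toFunctor).Faithful
  essSurj := fun z => by
    obtain ⟨y, θ, hθ⟩ := hG.essSurj z
    obtain ⟨x, η, hη⟩ := hF.essSurj y
    have hy : 𝒴.p.obj y = 𝒵.p.obj z := by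
      rw [← G.w_obj y]; exact IsHomLift.domain_eq 𝒵.p (𝟙 (𝒵.p.obj z)) θ.hom
    have hη' : 𝒴.p.IsHomLift (𝟙 (𝒵.p.obj z)) η.hom := isHomLift_id_of_eq 𝒴.p hy η.hom
    refine ⟨x, G.toFunctor.mapIso η ≪≫ θ, ?_⟩
    have : 𝒵.p.IsHomLift (𝟙 (𝒵.p.obj z)) (G.map η.hom) := inferInstance
    have h2 : 𝒵.p.IsHomLift (𝟙 (𝒵.p.obj z) ≫ 𝟙 (𝒵.p.obj z)) (G.map η.hom ≫ θ.hom) := inferInstance
    simpa using h2

theorem IsEquivOver.comp {F : 𝒳 ⥤ᵇ 𝒴} {G : 𝒴 ⥤ᵇ 𝒵} (hF : FibCat.IsEquivOver F)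
    (hG : FibCat.IsEquivOver G) : FibCat.IsEquivOver (BasedFunctor.comp F G) :=
  (IsFFEssSurjOver.comp (IsEquivOver.isFFEssSurjOver hF) (IsEquivOver.isFFEssSurjOver hG)).isEquivOver

/-- A functor over `C` isomorphic (over `C`) to an equivalence over `C` is one. -/
theorem IsFFEssSurjOver.of_iso {F F' : 𝒳 ⥤ᵇ 𝒴} (i : F ≅ F') (hF : IsFFEssSurjOver F) :
    IsFFEssSurjOver F' where
  full := by
    have : ((BasedNatTrans.forgetful 𝒳 𝒴).obj F).Full := hF.full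
    exact Functor.Full.of_iso ((BasedNatTrans.forgetful _ _).mapIso i)
  faithful := by
    have : ((BasedNatTrans.forgetful 𝒳 𝒴).obj F).Faithful := hF.faithful
    exact Functor.Faithful.of_iso ((BasedNatTrans.forgetful _ _).mapIso i)
  essSurj := fun y => by
    obtain ⟨x, θ, hθ⟩ := hF.essSurj y
    have hx : 𝒳.p.obj x = 𝒴.p.obj y := by
      rw [← F.w_obj x]; exact IsHomLift.domain_eq 𝒴.p (𝟙 (𝒴.p.obj y)) θ.hom
    refine ⟨x, (((BasedNatTrans.forgetful _ _).mapIso i).app x).symm ≪≫ θ, ?_⟩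
    have h1 : 𝒴.p.IsHomLift (𝟙 (𝒴.p.obj y)) (i.inv.toNatTrans.app x) :=
      BasedNatTrans.isHomLift i.inv hx
    have h2 : 𝒴.p.IsHomLift (𝟙 (𝒴.p.obj y) ≫ 𝟙 (𝒴.p.obj y)) (i.inv.toNatTrans.app x ≫ θ.hom) :=
      inferInstance
    simpa using h2

theorem IsEquivOver.of_iso {F F' : 𝒳 ⥤ᵇ 𝒴} (i : F ≅ F') (hF : FibCat.IsEquivOver F) :
    FibCat.IsEquivOver F' :=
  (IsFFEssSurjOver.of_iso i (IsEquivOver.isFFEssSurjOver hF)).isEquivOver

end Comp

section Representable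

variable {𝒳' : BasedCategory.{v₂, u₂} C} {𝒳'' : BasedCategory.{v₃, u₃} C}

theorem isRepresentable_of_isEquivOver (H : 𝒳' ⥤ᵇ 𝒳'') (hH : FibCat.IsEquivOver H)
    (h : FibCat.IsRepresentable 𝒳'') : FibCat.IsRepresentable 𝒳' := by
  obtain ⟨U, K, hK⟩ := h
  exact ⟨U, BasedFunctor.comp H K, IsEquivOver.comp hH hK⟩

theorem isRepresentable_iff_of_isEquivOver (H : 𝒳' ⥤ᵇ 𝒳'') (hH : FibCat.IsEquivOver H) :
    FibCat.IsRepresentable 𝒳' ↔ FibCat.IsRepresentable 𝒳'' := by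
  refine ⟨fun h => ?_, isRepresentable_of_isEquivOver H hH⟩
  obtain ⟨H', hH', -, -⟩ := IsEquivOver.symm hH
  exact isRepresentable_of_isEquivOver H' hH' h

end Representable

end Groth.Agent.Lib.Helper80
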