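import Groth.Agent.Lib.Helper80.FibCat12

/-!
# Functoriality of the 2-fibre product over `C` in the cospan (helper80)

`fpMap F G F' G' a b s eF eG : fp F' G' ⥤ᵇ fp F G` induced by a 2-commutative morphism of cospans
`(a, b, s)`, and `fpMap_isEquivOver`: it is an equivalence over `C` when `a`, `b` are and `s` is
fully faithful.
-/

set_option autoImplicit false
set_option backward.isDefEq.respectTransparency false

universe v₇ u₇ v₆ u₆ v₅ u₅ v₄ u₄ v₃ u₃ v₂ u₂ v u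

open CategoryTheory CategoryTheory.Functor CategoryTheory.Limits

namespace Groth.Agent.Lib.Helper80

open BasedFunctor

variable {C : Type u} [Category.{v} C]

section AppIso

variable {𝒳 : BasedCategory.{v₂, u₂} C} {𝒴 : BasedCategory.{v₃, u₃} C}

/-- The component of an isomorphism of functors over `C`. -/
def appIso {F G : 𝒳 ⥤ᵇ 𝒴} (e : F ≅ G) (x : 𝒳.obj) : F.obj x ≅ G.obj x :=
  ((BasedNatTrans.forgetful _ _).mapIso e).app x

@[simp] theorem appIso_hom {F G : 𝒳 ⥤ᵇ 𝒴} (e : F ≅ G) (x : 𝒳.obj) :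
    (appIso e x).hom = e.hom.toNatTrans.app x := rfl

@[simp] theorem appIso_inv {F G : 𝒳 ⥤ᵇ 𝒴} (e : F ≅ G) (x : 𝒳.obj) :
    (appIso e x).inv = e.inv.toNatTrans.app x := rfl

@[reassoc (attr := simp)]
theorem iso_hom_inv_app {F G : 𝒳 ⥤ᵇ 𝒴} (e : F ≅ G) (x : 𝒳.obj) :
    e.hom.toNatTrans.app x ≫ e.inv.toNatTrans.app x = 𝟙 _ := (appIso e x).hom_inv_id

@[reassoc (attr := simp)]
theorem iso_inv_hom_app {F G : 𝒳 ⥤ᵇ 𝒴} (e : F ≅ G) (x : 𝒳.obj) :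
    e.inv.toNatTrans.app x ≫ e.hom.toNatTrans.app x = 𝟙 _ := (appIso e x).inv_hom_id

theorem iso_hom_app_isHomLift {F G : 𝒳 ⥤ᵇ 𝒴} (e : F ≅ G) (x : 𝒳.obj) {S : C}
    (h : 𝒳.p.obj x = S) : 𝒴.p.IsHomLift (𝟙 S) (e.hom.toNatTrans.app x) :=
  BasedNatTrans.isHomLift e.hom h

theorem iso_inv_app_isHomLift {F G : 𝒳 ⥤ᵇ 𝒴} (e : F ≅ G) (x : 𝒳.obj) {S : C}
    (h : 𝒳.p.obj x = S) : 𝒴.p.IsHomLift (𝟙 S) (e.inv.toNatTrans.app x) :=
  BasedNatTrans.isHomLift e.inv h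

@[reassoc]
theorem iso_hom_naturality {F G : 𝒳 ⥤ᵇ 𝒴} (e : F ≅ G) {x y : 𝒳.obj} (g : x ⟶ y) :
    F.map g ≫ e.hom.toNatTrans.app y = e.hom.toNatTrans.app x ≫ G.map g :=
  e.hom.toNatTrans.naturality g

@[reassoc]
theorem iso_inv_naturality {F G : 𝒳 ⥤ᵇ 𝒴} (e : F ≅ G) {x y : 𝒳.obj} (g : x ⟶ y) :
    G.map g ≫ e.inv.toNatTrans.app y = e.inv.toNatTrans.app x ≫ F.map g :=
  e.inv.toNatTrans.naturality g

/-- A composite of two morphisms over an identity lies over that identity. -/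
theorem comp_isHomLift_id {𝒵 : Type*} [Category 𝒵] (p : 𝒵 ⥤ C) {S : C} {x y z : 𝒵}
    (φ : x ⟶ y) (ψ : y ⟶ z) [p.IsHomLift (𝟙 S) φ] [p.IsHomLift (𝟙 S) ψ] :
    p.IsHomLift (𝟙 S) (φ ≫ ψ) := by
  have : p.IsHomLift (𝟙 S ≫ 𝟙 S) (φ ≫ ψ) := inferInstance
  simpa using this

end AppIso

section FpMap

variable {𝒳 : BasedCategory.{v₂, u₂} C} {𝒴 : BasedCategory.{v₃, u₃} C} {𝒮 : BasedCategory.{v₄, u₄} C}
  {𝒳' : BasedCategory.{v₅, u₅} C} {𝒴' : BasedCategory.{v₆, u₆} C} {𝒮' : BasedCategory.{v₇, u₇} C}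
  (F : 𝒳 ⥤ᵇ 𝒮) (G : 𝒴 ⥤ᵇ 𝒮) (F' : 𝒳' ⥤ᵇ 𝒮') (G' : 𝒴' ⥤ᵇ 𝒮')
  (a : 𝒳' ⥤ᵇ 𝒳) (b : 𝒴' ⥤ᵇ 𝒴) (s : 𝒮' ⥤ᵇ 𝒮)
  (eF : BasedFunctor.comp F' s ≅ BasedFunctor.comp a F)
  (eG : BasedFunctor.comp G' s ≅ BasedFunctor.comp b G)

/-- The component of the 2-isomorphism of `fpMap`. -/
def fpMapIsoApp (P : (FibCat.fp F' G').obj) : F.obj (a.obj P.obj.fst) ≅ G.obj (b.obj P.obj.snd) :=
  (appIso eF P.obj.fst).symm ≪≫ s.toFunctor.mapIso P.obj.iso ≪≫ appIso eG P.obj.snd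

@[simp] theorem fpMapIsoApp_hom (P : (FibCat.fp F' G').obj) :
    (fpMapIsoApp F G F' G' a b s eF eG P).hom =
      eF.inv.toNatTrans.app P.obj.fst ≫ s.map P.obj.iso.hom ≫ eG.hom.toNatTrans.app P.obj.snd := rfl

theorem fpMapIsoApp_isHomLift (P : (FibCat.fp F' G').obj) :
    𝒮.p.IsHomLift (𝟙 (𝒳'.p.obj P.obj.fst)) (fpMapIsoApp F G F' G' a b s eF eG P).hom := by
  have h1 : 𝒮.p.IsHomLift (𝟙 (𝒳'.p.obj P.obj.fst)) (eF.inv.toNatTrans.app P.obj.fst) :=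
    iso_inv_app_isHomLift eF _ rfl
  have h2' : 𝒮'.p.IsHomLift (𝟙 (𝒳'.p.obj P.obj.fst)) P.obj.iso.hom := P.property
  have h2 : 𝒮.p.IsHomLift (𝟙 (𝒳'.p.obj P.obj.fst)) (s.map P.obj.iso.hom) := inferInstance
  have h3 : 𝒮.p.IsHomLift (𝟙 (𝒳'.p.obj P.obj.fst)) (eG.hom.toNatTrans.app P.obj.snd) :=
    iso_hom_app_isHomLift eG _ (fp_snd_proj F' G' P)
  rw [fpMapIsoApp_hom]
  have := comp_isHomLift_id 𝒮.p (s.map P.obj.iso.hom) (eG.hom.toNatTrans.app P.obj.snd)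
    (S := 𝒳'.p.obj P.obj.fst)
  exact comp_isHomLift_id 𝒮.p _ _

/-- The 2-isomorphism of `fpMap`. -/
def fpMapIso : BasedFunctor.comp (BasedFunctor.comp (FibCat.fpFst F' G') a) F ≅
    BasedFunctor.comp (BasedFunctor.comp (FibCat.fpSnd F' G') b) G :=
  BasedNatIso.mkNatIso
    (NatIso.ofComponents (fun P => fpMapIsoApp F G F' G' a b s eF eG P) (by
      intro P Q m
      have hw : F'.map m.hom.fst ≫ Q.obj.iso.hom = P.obj.iso.hom ≫ G'.map m.hom.snd := m.hom.w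
      have h1 : F.map (a.map m.hom.fst) ≫ eF.inv.toNatTrans.app Q.obj.fst =
          eF.inv.toNatTrans.app P.obj.fst ≫ s.map (F'.map m.hom.fst) :=
        iso_inv_naturality eF m.hom.fst
      have h2 : s.map (G'.map m.hom.snd) ≫ eG.hom.toNatTrans.app Q.obj.snd =
          eG.hom.toNatTrans.app P.obj.snd ≫ G.map (b.map m.hom.snd) :=
        iso_hom_naturality eG m.hom.snd
      change F.map (a.map m.hom.fst) ≫ (fpMapIsoApp F G F' G' a b s eF eG Q).hom =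
        (fpMapIsoApp F G F' G' a b s eF eG P).hom ≫ G.map (b.map m.hom.snd)
      rw [fpMapIsoApp_hom, fpMapIsoApp_hom, reassoc_of% h1, ← Functor.map_comp_assoc, hw,
        Functor.map_comp_assoc, h2]
      simp only [Category.assoc]))
    (fun P => fpMapIsoApp_isHomLift F G F' G' a b s eF eG P)

/-- The functor over `C` between 2-fibre products induced by a 2-commutative morphism of cospans. -/
def fpMap : FibCat.fp F' G' ⥤ᵇ FibCat.fp F G :=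
  FibCat.fpLift (BasedFunctor.comp (FibCat.fpFst F' G') a) (BasedFunctor.comp (FibCat.fpSnd F' G') b)
    (fpMapIso F G F' G' a b s eF eG)

theorem fpMap_isEquivOver (ha : FibCat.IsEquivOver a) (hb : FibCat.IsEquivOver b)
    [s.toFunctor.Full] [s.toFunctor.Faithful] :
    FibCat.IsEquivOver (fpMap F G F' G' a b s eF eG) := by
  obtain ⟨hafull, hafaith, haess⟩ := IsEquivOver.isFFEssSurjOver ha
  obtain ⟨hbfull, hbfaith, hbess⟩ := IsEquivOver.isFFEssSurjOver hb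
  apply fpLift_isEquivOver
  · intro P Q m m' h1 h2
    apply ObjectProperty.hom_ext
    apply CategoricalPullback.hom_ext
    · exact a.toFunctor.map_injective h1
    · exact b.toFunctor.map_injective h2
  · intro P Q φ ψ hw
    obtain ⟨φ', rfl⟩ := a.toFunctor.map_surjective φ
    obtain ⟨ψ', rfl⟩ := b.toFunctor.map_surjective ψ
    have hw' : F.map (a.map φ') ≫ (fpMapIsoApp F G F' G' a b s eF eG Q).hom =
        (fpMapIsoApp F G F' G' a b s eF eG P).hom ≫ G.map (b.map ψ') := hw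
    have h1 : F.map (a.map φ') ≫ eF.inv.toNatTrans.app Q.obj.fst =
        eF.inv.toNatTrans.app P.obj.fst ≫ s.map (F'.map φ') :=
      iso_inv_naturality eF φ'
    have h2 : s.map (G'.map ψ') ≫ eG.hom.toNatTrans.app Q.obj.snd =
        eG.hom.toNatTrans.app P.obj.snd ≫ G.map (b.map ψ') :=
      iso_hom_naturality eG ψ'
    have key : F'.map φ' ≫ Q.obj.iso.hom = P.obj.iso.hom ≫ G'.map ψ' := by
      apply s.toFunctor.map_injective
      have e1 : s.map (F'.map φ' ≫ Q.obj.iso.hom) ≫ eG.hom.toNatTrans.app Q.obj.snd =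
          s.map (P.obj.iso.hom ≫ G'.map ψ') ≫ eG.hom.toNatTrans.app Q.obj.snd := by
        rw [Functor.map_comp, Functor.map_comp, Category.assoc, Category.assoc, h2]
        rw [fpMapIsoApp_hom, fpMapIsoApp_hom, reassoc_of% h1] at hw'
        have := (cancel_epi (eF.inv.toNatTrans.app P.obj.fst)).mp
          (by simpa only [Category.assoc] using hw')
        exact this
      have : IsIso (eG.hom.toNatTrans.app Q.obj.snd) := (appIso eG Q.obj.snd).isIso_hom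
      exact (cancel_mono (eG.hom.toNatTrans.app Q.obj.snd)).mp e1
    refine ⟨ObjectProperty.homMk ⟨φ', ψ', key⟩, rfl, rfl⟩
  · intro P
    obtain ⟨x', α, hα⟩ := haess P.obj.fst
    obtain ⟨y', β, hβ⟩ := hbess P.obj.snd
    have hx' : 𝒳'.p.obj x' = 𝒳.p.obj P.obj.fst := by
      rw [← a.w_obj x']; exact IsHomLift.domain_eq 𝒳.p (𝟙 (𝒳.p.obj P.obj.fst)) α.hom
    have hy' : 𝒴'.p.obj y' = 𝒳.p.obj P.obj.fst := by
      rw [← b.w_obj y', ← fp_snd_proj F G P]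
      exact IsHomLift.domain_eq 𝒴.p (𝟙 (𝒴.p.obj P.obj.snd)) β.hom
    have hβ' : 𝒴.p.IsHomLift (𝟙 (𝒳.p.obj P.obj.fst)) β.hom :=
      isHomLift_id_of_eq 𝒴.p (fp_snd_proj F G P) β.hom
    have hβ'' : 𝒴.p.IsHomLift (𝟙 (𝒳.p.obj P.obj.fst)) β.inv :=
      IsHomLift.lift_id_inv 𝒴.p (𝒳.p.obj P.obj.fst) β
    -- the isomorphism `s (F' x') ≅ s (G' y')`
    let τ : s.obj (F'.obj x') ≅ s.obj (G'.obj y') :=
      appIso eF x' ≪≫ F.toFunctor.mapIso α ≪≫ P.obj.iso ≪≫ G.toFunctor.mapIso β.symm ≪≫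
        (appIso eG y').symm
    have hτ : 𝒮.p.IsHomLift (𝟙 (𝒳.p.obj P.obj.fst)) τ.hom := by
      have k1 : 𝒮.p.IsHomLift (𝟙 (𝒳.p.obj P.obj.fst)) (eF.hom.toNatTrans.app x') :=
        iso_hom_app_isHomLift eF x' hx'
      have k2 : 𝒮.p.IsHomLift (𝟙 (𝒳.p.obj P.obj.fst)) (F.map α.hom) := inferInstance
      have k3 : 𝒮.p.IsHomLift (𝟙 (𝒳.p.obj P.obj.fst)) P.obj.iso.hom := P.property
      have k4 : 𝒮.p.IsHomLift (𝟙 (𝒳.p.obj P.obj.fst)) (G.map β.inv) := inferInstance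
      have k5 : 𝒮.p.IsHomLift (𝟙 (𝒳.p.obj P.obj.fst)) (eG.inv.toNatTrans.app y') :=
        iso_inv_app_isHomLift eG y' hy'
      have l4 := comp_isHomLift_id 𝒮.p (G.map β.inv) (eG.inv.toNatTrans.app y')
        (S := 𝒳.p.obj P.obj.fst)
      have l3 := comp_isHomLift_id 𝒮.p P.obj.iso.hom (G.map β.inv ≫ eG.inv.toNatTrans.app y')
        (S := 𝒳.p.obj P.obj.fst)
      have l2 := comp_isHomLift_id 𝒮.p (F.map α.hom)
        (P.obj.iso.hom ≫ G.map β.inv ≫ eG.inv.toNatTrans.app y') (S := 𝒳.p.obj P.obj.fst)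
      change 𝒮.p.IsHomLift _ (eF.hom.toNatTrans.app x' ≫ F.map α.hom ≫ P.obj.iso.hom ≫
        G.map β.inv ≫ eG.inv.toNatTrans.app y')
      exact comp_isHomLift_id 𝒮.p (eF.hom.toNatTrans.app x') _
    let θ : F'.obj x' ≅ G'.obj y' := s.toFunctor.preimageIso τ
    have hθ : s.map θ.hom = τ.hom := s.toFunctor.map_preimage τ.hom
    have hθl : 𝒮'.p.IsHomLift (𝟙 (𝒳'.p.obj x')) θ.hom := by
      have : 𝒮.p.IsHomLift (𝟙 (𝒳'.p.obj x')) (s.map θ.hom) := by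
        rw [hθ, hx']; exact hτ
      exact isHomLift_map s _ _
    let P' : (FibCat.fp F' G').obj := ⟨⟨x', y', θ⟩, hθl⟩
    refine ⟨P', α, β, hα, ?_⟩
    change F.map α.hom ≫ P.obj.iso.hom =
      (fpMapIsoApp F G F' G' a b s eF eG P').hom ≫ G.map β.hom
    rw [fpMapIsoApp_hom]
    change _ = (eF.inv.toNatTrans.app x' ≫ s.map θ.hom ≫ eG.hom.toNatTrans.app y') ≫ _
    rw [hθ]
    change _ = (eF.inv.toNatTrans.app x' ≫ (eF.hom.toNatTrans.app x' ≫ F.map α.hom ≫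
      P.obj.iso.hom ≫ G.map β.inv ≫ eG.inv.toNatTrans.app y') ≫ eG.hom.toNatTrans.app y') ≫ _
    simp only [Category.assoc, iso_inv_hom_app_assoc]
    rw [← Functor.map_comp, β.inv_hom_id, Functor.map_id, Category.comp_id]

end FpMap

end Groth.Agent.Lib.Helper80
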