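import Groth.Agent.Lib.Helper80.FibCat15
import Mathlib.CategoryTheory.Limits.Shapes.Pullback.IsPullback.Basic

/-!
# Slice categories: functors between them and their 2-fibre products (helper80)

* `overMap h : overCat U ⥤ᵇ overCat V` for `h : U ⟶ V`.
* `exists_iso_overMap`: every functor `overCat U ⥤ᵇ overCat Y` over `C` is isomorphic to `overMap h`.
* `overFp_isEquivOver`: `C/(U ×_Y X) ≃ (C/U) ×_{C/Y} (C/X)` over `C`.
-/

set_option autoImplicit false
set_option backward.isDefEq.respectTransparency false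

universe v₂ u₂ v u

open CategoryTheory CategoryTheory.Functor CategoryTheory.Limits

namespace Groth.Agent.Lib.Helper80

open BasedFunctor

variable {C : Type u} [Category.{v} C]

/-- Two morphisms lying over the same morphism of the base are equal when the structure functor is
faithful. -/
theorem eq_of_isHomLift_of_faithful {𝒵 : Type*} [Category 𝒵] (p : 𝒵 ⥤ C) [p.Faithful]
    {R S : C} (f : R ⟶ S) {a b : 𝒵} (φ ψ : a ⟶ b) [p.IsHomLift f φ] [p.IsHomLift f ψ] : φ = ψ := by
  apply p.map_injective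
  rw [IsHomLift.fac' p f φ, IsHomLift.fac' p f ψ]

/-- Composition with `h : U ⟶ V` as a functor over `C` between slice categories. -/
def overMap {U V : C} (h : U ⟶ V) : FibCat.overCat U ⥤ᵇ FibCat.overCat V :=
  ⟨Over.map h, Over.mapForget_eq h⟩

@[simp] theorem overMap_obj_left {U V : C} (h : U ⟶ V) (x : Over U) :
    ((overMap h).obj x).left = x.left := rfl
@[simp] theorem overMap_obj_hom {U V : C} (h : U ⟶ V) (x : Over U) :
    ((overMap h).obj x).hom = x.hom ≫ h := rfl
@[simp] theorem overMap_map_left {U V : C} (h : U ⟶ V) {x y : Over U} (m : x ⟶ y) :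
    ((overMap h).map m).left = m.left := rfl

section Yoneda

variable {U Y : C} (G : FibCat.overCat U ⥤ᵇ FibCat.overCat Y)

/-- The morphism `U ⟶ Y` classifying a functor `C/U ⟶ C/Y` over `C`. -/
def overClassify : U ⟶ Y :=
  eqToHom (G.w_obj (Over.mk (𝟙 U))).symm ≫ (G.obj (Over.mk (𝟙 U))).hom

theorem overClassify_spec (x : Over U) :
    (G.obj x).hom = eqToHom (G.w_obj x) ≫ x.hom ≫ overClassify G := by
  let m : x ⟶ Over.mk (𝟙 U) := toId U x
  have h1 : (G.map m).left ≫ (G.obj (Over.mk (𝟙 U))).hom = (G.obj x).hom := Over.w (G.map m)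
  have h2 : (G.map m).left = eqToHom (G.w_obj x) ≫ x.hom ≫ eqToHom (G.w_obj (Over.mk (𝟙 U))).symm :=
    IsHomLift.fac' (FibCat.overCat Y).p ((FibCat.overCat U).p.map m) (G.map m)
  rw [← h1, h2, overClassify]
  simp only [Category.assoc]

/-- Every functor `C/U ⟶ C/Y` over `C` is isomorphic to composition with a morphism `U ⟶ Y`. -/
def isoOverMap : G ≅ overMap (overClassify G) :=
  BasedNatIso.mkNatIso
    (NatIso.ofComponents
      (fun x => Over.isoMk (eqToIso (G.w_obj x)) (by
        rw [overClassify_spec G x]; simp))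
      (by
        intro x y m
        apply Over.OverMorphism.ext
        have h2 : (G.map m).left = eqToHom (G.w_obj x) ≫ m.left ≫ eqToHom (G.w_obj y).symm :=
          IsHomLift.fac' (FibCat.overCat Y).p ((FibCat.overCat U).p.map m) (G.map m)
        change (G.map m).left ≫ eqToHom (G.w_obj y) = eqToHom (G.w_obj x) ≫ m.left
        rw [h2]; simp))
    (fun x => by
      apply IsHomLift.of_fac (Over.forget Y) _ _ (G.w_obj x) rfl
      change 𝟙 _ = eqToHom (G.w_obj x).symm ≫ eqToHom (G.w_obj x) ≫ eqToHom rfl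
      simp)

end Yoneda

section SliceFp

variable {U X Y P : C} {h : U ⟶ Y} {f : X ⟶ Y} {p₁ : P ⟶ U} {p₂ : P ⟶ X}

/-- The 2-isomorphism of the square of slice categories attached to a commutative square. -/
def overSqIso (w : p₁ ≫ h = p₂ ≫ f) :
    BasedFunctor.comp (overMap p₁) (overMap h) ≅ BasedFunctor.comp (overMap p₂) (overMap f) :=
  BasedNatIso.mkNatIso
    (NatIso.ofComponents
      (fun x => Over.isoMk (Iso.refl _) (by
        change 𝟙 _ ≫ (x.hom ≫ p₂) ≫ f = (x.hom ≫ p₁) ≫ h
        rw [Category.id_comp, Category.assoc, Category.assoc, w]))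
      (by
        intro x y m
        apply Over.OverMorphism.ext
        change m.left ≫ 𝟙 _ = 𝟙 _ ≫ m.left
        rw [Category.comp_id, Category.id_comp]))
    (fun x => by
      apply IsHomLift.of_fac (Over.forget Y) _ _ rfl rfl
      change 𝟙 _ = eqToHom rfl ≫ 𝟙 _ ≫ eqToHom rfl
      simp)

@[simp] theorem overSqIso_hom_app_left (w : p₁ ≫ h = p₂ ≫ f) (x : Over P) :
    ((overSqIso w).hom.toNatTrans.app x).left = 𝟙 x.left := rfl

/-- The comparison functor `C/P ⟶ (C/U) ×_{C/Y} (C/X)` over `C` of a commutative square. -/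
def overFp (w : p₁ ≫ h = p₂ ≫ f) :
    FibCat.overCat P ⥤ᵇ FibCat.fp (overMap h) (overMap f) :=
  FibCat.fpLift (overMap p₁) (overMap p₂) (overSqIso w)

/-- For a pullback square in `C`, `C/P ≃ (C/U) ×_{C/Y} (C/X)` over `C`. -/
theorem overFp_isEquivOver (sq : IsPullback p₁ p₂ h f) : FibCat.IsEquivOver (overFp sq.w) := by
  apply fpLift_isEquivOver
  · intro x y m m' h1 _
    apply Over.OverMorphism.ext
    exact congrArg (fun k => k.left) h1
  · intro x y φ ψ hw
    have hw' : φ.left ≫ 𝟙 _ = 𝟙 _ ≫ ψ.left := congrArg (fun k => k.left) hw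
    rw [Category.comp_id, Category.id_comp] at hw'
    have hφ : φ.left ≫ y.hom ≫ p₁ = x.hom ≫ p₁ := Over.w φ
    have hψ : ψ.left ≫ y.hom ≫ p₂ = x.hom ≫ p₂ := Over.w ψ
    have hxy : φ.left ≫ y.hom = x.hom := by
      apply sq.hom_ext
      · rw [Category.assoc]; exact hφ
      · rw [Category.assoc, hw']; exact hψ
    refine ⟨Over.homMk φ.left hxy, ?_, ?_⟩
    · apply Over.OverMorphism.ext; rfl
    · apply Over.OverMorphism.ext; exact hw'
  · intro Q
    -- `Q = (x : T ⟶ U, y : T' ⟶ X, θ)`
    let x : Over U := Q.obj.fst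
    let y : Over X := Q.obj.snd
    let θ : (overMap h).obj x ≅ (overMap f).obj y := Q.obj.iso
    have hθ : (Over.forget Y).IsHomLift (𝟙 x.left) θ.hom := Q.property
    have hT : y.left = x.left := IsHomLift.codomain_eq (Over.forget Y) (𝟙 x.left) θ.hom
    have hθl : θ.hom.left = eqToHom hT.symm := by
      have := IsHomLift.fac' (Over.forget Y) (𝟙 x.left) θ.hom
      simpa using this
    have hθw : θ.hom.left ≫ y.hom ≫ f = x.hom ≫ h := Over.w θ.hom
    have hcomm : x.hom ≫ h = (eqToHom hT.symm ≫ y.hom) ≫ f := by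
      rw [← hθw, hθl, Category.assoc]
    let t : x.left ⟶ P := sq.lift x.hom (eqToHom hT.symm ≫ y.hom) hcomm
    have ht1 : t ≫ p₁ = x.hom := sq.lift_fst _ _ _
    have ht2 : t ≫ p₂ = eqToHom hT.symm ≫ y.hom := sq.lift_snd _ _ _
    let α : (overMap p₁).obj (Over.mk t) ≅ x := Over.isoMk (Iso.refl _) (by
      change 𝟙 _ ≫ x.hom = t ≫ p₁
      rw [ht1, Category.id_comp])
    let β : (overMap p₂).obj (Over.mk t) ≅ y := Over.isoMk (eqToIso hT.symm) (by
      change eqToHom hT.symm ≫ y.hom = t ≫ p₂
      rw [ht2])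
    refine ⟨Over.mk t, α, β, ?_, ?_⟩
    · apply IsHomLift.of_fac (Over.forget U) _ _ rfl rfl
      change 𝟙 _ = eqToHom rfl ≫ 𝟙 _ ≫ eqToHom rfl
      simp
    · apply Over.OverMorphism.ext
      change 𝟙 _ ≫ θ.hom.left = 𝟙 _ ≫ eqToHom hT.symm
      rw [hθl]
      rfl

end SliceFp

section

variable {𝒳 : BasedCategory.{v₂, u₂} C}

theorem isRepresentable_of_isEquivOver_overCat {P : C} (K : FibCat.overCat P ⥤ᵇ 𝒳)
    (hK : FibCat.IsEquivOver K) : FibCat.IsRepresentable 𝒳 := by
  obtain ⟨K', hK', -, -⟩ := IsEquivOver.symm hK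
  exact ⟨P, K', hK'⟩

theorem isRepresentable_overCat (P : C) : FibCat.IsRepresentable (FibCat.overCat P) :=
  ⟨P, BasedFunctor.id _, isEquivOver_id⟩

/-- The 2-fibre product of two slice categories over a slice category is representable when the
relevant fibre product exists in `C`. -/
theorem isRepresentable_fp_overMap {U X Y : C} (h : U ⟶ Y) (f : X ⟶ Y) [HasPullback h f] :
    FibCat.IsRepresentable (FibCat.fp (overMap h) (overMap f)) :=
  isRepresentable_of_isEquivOver_overCat _ (overFp_isEquivOver (IsPullback.of_hasPullback h f))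

/-- `overMap f` is a representable 1-morphism when `C` has the fibre products along `f`. -/
theorem isRepresentable1_overMap {X Y : C} (f : X ⟶ Y) [∀ {U : C} (h : U ⟶ Y), HasPullback h f] :
    FibCat.IsRepresentable1 (overMap f) := by
  intro U G
  exact (isRepresentable_iff_of_isEquivOver _
    (fpMapLeft_isEquivOver (overMap (overClassify G)) (overMap f) (BasedFunctor.id _) G
      (isoOverMap G) isEquivOver_id)).mpr (isRepresentable_fp_overMap (overClassify G) f)

end

end Groth.Agent.Lib.Helper80
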