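import Groth.Agent.Lib.Helper80.FibCat16

/-!
# Products over `C` and the "magic square" (helper80)

* `selfOverIso a b`: any two functors over `C` into `C` over itself are canonically isomorphic.
* `magic`: for `F : 𝒳 ⟶ 𝒮`, `G : 𝒴 ⟶ 𝒮` and `(a, b) : 𝒲 ≃ 𝒳 ×_C 𝒴`, the 2-fibre product of
  `(a ⋙ F, b ⋙ G) : 𝒲 ⟶ 𝒮 ×_C 𝒮` with the diagonal of `𝒮` is equivalent to `𝒳 ×_𝒮 𝒴`.
-/

set_option autoImplicit false
set_option backward.isDefEq.respectTransparency false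

universe v₅ u₅ v₄ u₄ v₃ u₃ v₂ u₂ v u

open CategoryTheory CategoryTheory.Functor CategoryTheory.Limits

namespace Groth.Agent.Lib.Helper80

open BasedFunctor

variable {C : Type u} [Category.{v} C]

section SelfOver

variable {𝒲 : BasedCategory.{v₂, u₂} C}

instance selfOver_faithful : (FibCat.selfOver C).p.Faithful := inferInstanceAs (𝟭 C).Faithful

/-- Any two functors over `C` into `C` over itself are canonically isomorphic. -/
def selfOverIso (a b : 𝒲 ⥤ᵇ FibCat.selfOver C) : a ≅ b :=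
  BasedNatIso.mkNatIso
    (NatIso.ofComponents (fun x => eqToIso ((a.w_obj x).trans (b.w_obj x).symm)) (by
      intro x y m
      have h1 : a.map m = eqToHom (a.w_obj x) ≫ 𝒲.p.map m ≫ eqToHom (a.w_obj y).symm :=
        IsHomLift.fac' (FibCat.selfOver C).p (𝒲.p.map m) (a.map m)
      have h2 : b.map m = eqToHom (b.w_obj x) ≫ 𝒲.p.map m ≫ eqToHom (b.w_obj y).symm :=
        IsHomLift.fac' (FibCat.selfOver C).p (𝒲.p.map m) (b.map m)
      change a.map m ≫ eqToHom ((a.w_obj y).trans (b.w_obj y).symm) =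
        eqToHom ((a.w_obj x).trans (b.w_obj x).symm) ≫ b.map m
      rw [h1, h2]; simp))
    (fun x => by
      apply IsHomLift.of_fac (𝟭 C) _ _ (a.w_obj x) (b.w_obj x)
      change 𝟙 _ = eqToHom (a.w_obj x).symm ≫ eqToHom ((a.w_obj x).trans (b.w_obj x).symm) ≫
        eqToHom (b.w_obj x)
      simp)

end SelfOver

section Magic

variable {𝒳 : BasedCategory.{v₂, u₂} C} {𝒴 : BasedCategory.{v₃, u₃} C} {𝒮 : BasedCategory.{v₄, u₄} C}
  {𝒲 : BasedCategory.{v₅, u₅} C}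
  (F : 𝒳 ⥤ᵇ 𝒮) (G : 𝒴 ⥤ᵇ 𝒮) (a : 𝒲 ⥤ᵇ 𝒳) (b : 𝒲 ⥤ᵇ 𝒴)
  (ε' : BasedFunctor.comp (BasedFunctor.comp a F) (FibCat.toSelf 𝒮) ≅
    BasedFunctor.comp (BasedFunctor.comp b G) (FibCat.toSelf 𝒮))

/-- `(a ⋙ F, b ⋙ G) : 𝒲 ⟶ 𝒮 ×_C 𝒮`. -/
abbrev pairToSq : 𝒲 ⥤ᵇ FibCat.fp (FibCat.toSelf 𝒮) (FibCat.toSelf 𝒮) :=
  FibCat.fpLift (BasedFunctor.comp a F) (BasedFunctor.comp b G) ε'

/-- The 2-isomorphism of the magic square. -/
def magicIso :
    BasedFunctor.comp (BasedFunctor.comp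
      (FibCat.fpFst (pairToSq F G a b ε') (FibCat.diag (FibCat.toSelf 𝒮))) a) F ≅
    BasedFunctor.comp (BasedFunctor.comp
      (FibCat.fpFst (pairToSq F G a b ε') (FibCat.diag (FibCat.toSelf 𝒮))) b) G :=
  (whiskerRightIso (FibCat.fpIso (pairToSq F G a b ε') (FibCat.diag (FibCat.toSelf 𝒮)))
      (FibCat.fpFst (FibCat.toSelf 𝒮) (FibCat.toSelf 𝒮))) ≪≫
    (whiskerRightIso (FibCat.fpIso (pairToSq F G a b ε') (FibCat.diag (FibCat.toSelf 𝒮)))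
      (FibCat.fpSnd (FibCat.toSelf 𝒮) (FibCat.toSelf 𝒮))).symm

theorem magicIso_hom_app (Q : (FibCat.fp (pairToSq F G a b ε') (FibCat.diag (FibCat.toSelf 𝒮))).obj) :
    (magicIso F G a b ε').hom.toNatTrans.app Q = Q.obj.iso.hom.hom.fst ≫ Q.obj.iso.inv.hom.snd := rfl

/-- The comparison functor of the magic square: `𝒲 ×_{𝒮 ×_C 𝒮} 𝒮 ⟶ 𝒳 ×_𝒮 𝒴`. -/
def magic : FibCat.fp (pairToSq F G a b ε') (FibCat.diag (FibCat.toSelf 𝒮)) ⥤ᵇ FibCat.fp F G :=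
  FibCat.fpLift
    (BasedFunctor.comp (FibCat.fpFst (pairToSq F G a b ε') (FibCat.diag (FibCat.toSelf 𝒮))) a)
    (BasedFunctor.comp (FibCat.fpFst (pairToSq F G a b ε') (FibCat.diag (FibCat.toSelf 𝒮))) b)
    (magicIso F G a b ε')

variable {F G a b ε'}

/-- First component of the isomorphism carried by an object of the magic fibre product. -/
def magicI₁ (Q : (FibCat.fp (pairToSq F G a b ε') (FibCat.diag (FibCat.toSelf 𝒮))).obj) :
    F.obj (a.obj Q.obj.fst) ≅ Q.obj.snd :=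
  (FibCat.fpFst (FibCat.toSelf 𝒮) (FibCat.toSelf 𝒮)).toFunctor.mapIso Q.obj.iso

/-- Second component of the isomorphism carried by an object of the magic fibre product. -/
def magicI₂ (Q : (FibCat.fp (pairToSq F G a b ε') (FibCat.diag (FibCat.toSelf 𝒮))).obj) :
    G.obj (b.obj Q.obj.fst) ≅ Q.obj.snd :=
  (FibCat.fpSnd (FibCat.toSelf 𝒮) (FibCat.toSelf 𝒮)).toFunctor.mapIso Q.obj.iso

theorem magicIso_hom_app' (Q : (FibCat.fp (pairToSq F G a b ε') (FibCat.diag (FibCat.toSelf 𝒮))).obj) :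
    (magicIso F G a b ε').hom.toNatTrans.app Q = (magicI₁ Q).hom ≫ (magicI₂ Q).inv := rfl

theorem magicI₁_isHomLift (Q : (FibCat.fp (pairToSq F G a b ε') (FibCat.diag (FibCat.toSelf 𝒮))).obj) :
    𝒮.p.IsHomLift (𝟙 (𝒲.p.obj Q.obj.fst)) (magicI₁ Q).hom := by
  have h : (FibCat.fp (FibCat.toSelf 𝒮) (FibCat.toSelf 𝒮)).p.IsHomLift (𝟙 (𝒲.p.obj Q.obj.fst))
    Q.obj.iso.hom := Q.property
  exact (fp_isHomLift_iff _ _ _ _).mp h

theorem magicI₂_isHomLift (Q : (FibCat.fp (pairToSq F G a b ε') (FibCat.diag (FibCat.toSelf 𝒮))).obj) :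
    𝒮.p.IsHomLift (𝟙 (𝒲.p.obj Q.obj.fst)) (magicI₂ Q).hom := by
  have h : (FibCat.fp (FibCat.toSelf 𝒮) (FibCat.toSelf 𝒮)).p.IsHomLift (𝟙 (𝒲.p.obj Q.obj.fst))
    Q.obj.iso.hom := Q.property
  exact fp_isHomLift_snd _ _ _ _

theorem magic_w₁ {Q Q' : (FibCat.fp (pairToSq F G a b ε') (FibCat.diag (FibCat.toSelf 𝒮))).obj}
    (m : Q ⟶ Q') :
    F.map (a.map m.hom.fst) ≫ (magicI₁ Q').hom = (magicI₁ Q).hom ≫ m.hom.snd :=
  congrArg (fun k => k.hom.fst) m.hom.w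

theorem magic_w₂ {Q Q' : (FibCat.fp (pairToSq F G a b ε') (FibCat.diag (FibCat.toSelf 𝒮))).obj}
    (m : Q ⟶ Q') :
    G.map (b.map m.hom.fst) ≫ (magicI₂ Q').hom = (magicI₂ Q).hom ≫ m.hom.snd :=
  congrArg (fun k => k.hom.snd) m.hom.w

variable (F G a b ε')

/-- The magic square: if `(a, b) : 𝒲 ⟶ 𝒳 ×_C 𝒴` is an equivalence over `C`, then
`𝒲 ×_{𝒮 ×_C 𝒮} 𝒮 ⟶ 𝒳 ×_𝒮 𝒴` is an equivalence over `C`. -/
theorem magic_isEquivOver
    (ε : BasedFunctor.comp a (FibCat.toSelf 𝒳) ≅ BasedFunctor.comp b (FibCat.toSelf 𝒴))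
    (h : IsFFEssSurjOver (FibCat.fpLift a b ε)) :
    FibCat.IsEquivOver (magic F G a b ε') := by
  have hfull := h.full
  have hfaith := h.faithful
  apply fpLift_isEquivOver
  · -- faithful
    intro Q Q' m m' h1 h2
    have h1' : a.map m.hom.fst = a.map m'.hom.fst := h1
    have h2' : b.map m.hom.fst = b.map m'.hom.fst := h2
    have e1 : m.hom.fst = m'.hom.fst := by
      apply (FibCat.fpLift a b ε).toFunctor.map_injective
      apply ObjectProperty.hom_ext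
      apply CategoricalPullback.hom_ext
      · exact h1'
      · exact h2'
    have e2 : m.hom.snd = m'.hom.snd := by
      have w1 := magic_w₁ m
      have w2 := magic_w₁ m'
      rw [h1'] at w1
      have := w1.symm.trans w2
      exact (cancel_epi (magicI₁ Q).hom).mp this
    apply ObjectProperty.hom_ext
    apply CategoricalPullback.hom_ext
    · exact e1
    · exact e2
  · -- full
    intro Q Q' φ ψ hw
    have hw' : F.map φ ≫ (magicI₁ Q').hom ≫ (magicI₂ Q').inv =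
        ((magicI₁ Q).hom ≫ (magicI₂ Q).inv) ≫ G.map ψ := hw
    -- the base morphism
    let R := 𝒲.p.obj Q.obj.fst
    let R' := 𝒲.p.obj Q'.obj.fst
    let f : R ⟶ R' := eqToHom (a.w_obj Q.obj.fst).symm ≫ 𝒳.p.map φ ≫ eqToHom (a.w_obj Q'.obj.fst)
    have hφ : 𝒳.p.IsHomLift f φ := IsHomLift.of_fac 𝒳.p f φ (a.w_obj _) (a.w_obj _) rfl
    have l1 := magicI₁_isHomLift Q
    have l2 := magicI₂_isHomLift Q
    have l1' := magicI₁_isHomLift Q'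
    have l2' := magicI₂_isHomLift Q'
    have l2i : 𝒮.p.IsHomLift (𝟙 R) (magicI₂ Q).inv := IsHomLift.lift_id_inv 𝒮.p R (magicI₂ Q)
    have l1i : 𝒮.p.IsHomLift (𝟙 R) (magicI₁ Q).inv := IsHomLift.lift_id_inv 𝒮.p R (magicI₁ Q)
    have l2i' : 𝒮.p.IsHomLift (𝟙 R') (magicI₂ Q').inv := IsHomLift.lift_id_inv 𝒮.p R' (magicI₂ Q')
    have hGψ : G.map ψ = (magicI₂ Q).hom ≫ (magicI₁ Q).inv ≫ F.map φ ≫ (magicI₁ Q').hom ≫
        (magicI₂ Q').inv := by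
      rw [hw']; simp
    have hψS : 𝒮.p.IsHomLift f (G.map ψ) := by
      rw [hGψ]
      have k1 : 𝒮.p.IsHomLift f (F.map φ) := inferInstance
      have k2 : 𝒮.p.IsHomLift (f ≫ 𝟙 R') (F.map φ ≫ (magicI₁ Q').hom) := inferInstance
      have k3 : 𝒮.p.IsHomLift ((f ≫ 𝟙 R') ≫ 𝟙 R')
        ((F.map φ ≫ (magicI₁ Q').hom) ≫ (magicI₂ Q').inv) := inferInstance
      have k4 : 𝒮.p.IsHomLift (𝟙 R ≫ ((f ≫ 𝟙 R') ≫ 𝟙 R'))
        ((magicI₁ Q).inv ≫ ((F.map φ ≫ (magicI₁ Q').hom) ≫ (magicI₂ Q').inv)) := inferInstance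
      have k5 : 𝒮.p.IsHomLift (𝟙 R ≫ (𝟙 R ≫ ((f ≫ 𝟙 R') ≫ 𝟙 R')))
        ((magicI₂ Q).hom ≫ ((magicI₁ Q).inv ≫ ((F.map φ ≫ (magicI₁ Q').hom) ≫
          (magicI₂ Q').inv))) := inferInstance
      simpa using k5
    have hψ : 𝒴.p.IsHomLift f ψ := isHomLift_map G f ψ
    -- the morphism of `𝒳 ×_C 𝒴`
    have compat : (FibCat.toSelf 𝒳).map φ ≫ ε.hom.toNatTrans.app Q'.obj.fst =
        ε.hom.toNatTrans.app Q.obj.fst ≫ (FibCat.toSelf 𝒴).map ψ := by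
      have c1 : (FibCat.selfOver C).p.IsHomLift (𝟙 R) (ε.hom.toNatTrans.app Q.obj.fst) :=
        iso_hom_app_isHomLift ε _ rfl
      have c2 : (FibCat.selfOver C).p.IsHomLift (𝟙 R') (ε.hom.toNatTrans.app Q'.obj.fst) :=
        iso_hom_app_isHomLift ε _ rfl
      have c3 : (FibCat.selfOver C).p.IsHomLift f ((FibCat.toSelf 𝒳).map φ) := inferInstance
      have c4 : (FibCat.selfOver C).p.IsHomLift f ((FibCat.toSelf 𝒴).map ψ) := inferInstance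
      have c5 : (FibCat.selfOver C).p.IsHomLift (f ≫ 𝟙 R')
        ((FibCat.toSelf 𝒳).map φ ≫ ε.hom.toNatTrans.app Q'.obj.fst) := inferInstance
      have c6 : (FibCat.selfOver C).p.IsHomLift (𝟙 R ≫ f)
        (ε.hom.toNatTrans.app Q.obj.fst ≫ (FibCat.toSelf 𝒴).map ψ) := inferInstance
      rw [Category.comp_id] at c5
      rw [Category.id_comp] at c6
      exact eq_of_isHomLift_of_faithful (FibCat.selfOver C).p f _ _
    let μ : (FibCat.fpLift a b ε).obj Q.obj.fst ⟶ (FibCat.fpLift a b ε).obj Q'.obj.fst :=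
      ObjectProperty.homMk ⟨φ, ψ, compat⟩
    obtain ⟨k₁, hk₁⟩ := (FibCat.fpLift a b ε).toFunctor.map_surjective μ
    have hk₁a : a.map k₁ = φ := congrArg (fun k => k.hom.fst) hk₁
    have hk₁b : b.map k₁ = ψ := congrArg (fun k => k.hom.snd) hk₁
    let k₂ : Q.obj.snd ⟶ Q'.obj.snd := (magicI₁ Q).inv ≫ F.map φ ≫ (magicI₁ Q').hom
    have hwk : (pairToSq F G a b ε').map k₁ ≫ Q'.obj.iso.hom =
        Q.obj.iso.hom ≫ (FibCat.diag (FibCat.toSelf 𝒮)).map k₂ := by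
      apply ObjectProperty.hom_ext
      apply CategoricalPullback.hom_ext
      · change F.map (a.map k₁) ≫ (magicI₁ Q').hom = (magicI₁ Q).hom ≫ k₂
        rw [hk₁a]; simp [k₂]
      · change G.map (b.map k₁) ≫ (magicI₂ Q').hom = (magicI₂ Q).hom ≫ k₂
        rw [hk₁b, hGψ]; simp [k₂]
    refine ⟨ObjectProperty.homMk ⟨k₁, k₂, hwk⟩, hk₁a, hk₁b⟩
  · -- essentially surjective
    intro P
    let x := P.obj.fst
    let y := P.obj.snd
    let θ : F.obj x ≅ G.obj y := P.obj.iso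
    have hy : 𝒴.p.obj y = 𝒳.p.obj x := fp_snd_proj F G P
    have hP₀ : (FibCat.selfOver C).p.IsHomLift (𝟙 (𝒳.p.obj x)) (eqToIso hy.symm).hom := by
      apply IsHomLift.of_fac (𝟭 C) _ _ rfl hy
      simp
    let P₀ : (FibCat.fp (FibCat.toSelf 𝒳) (FibCat.toSelf 𝒴)).obj := ⟨⟨x, y, eqToIso hy.symm⟩, hP₀⟩
    obtain ⟨w, Θ, hΘ⟩ := h.essSurj P₀
    let α : a.obj w ≅ x := (FibCat.fpFst (FibCat.toSelf 𝒳) (FibCat.toSelf 𝒴)).toFunctor.mapIso Θ
    let β : b.obj w ≅ y := (FibCat.fpSnd (FibCat.toSelf 𝒳) (FibCat.toSelf 𝒴)).toFunctor.mapIso Θ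
    have hα : 𝒳.p.IsHomLift (𝟙 (𝒳.p.obj x)) α.hom := (fp_isHomLift_iff _ _ _ _).mp hΘ
    have hβ : 𝒴.p.IsHomLift (𝟙 (𝒳.p.obj x)) β.hom := fp_isHomLift_snd _ _ _ _ (h := hΘ)
    have hw : 𝒳.p.obj x = 𝒲.p.obj w :=
      ((a.w_obj w).symm.trans (IsHomLift.domain_eq 𝒳.p (𝟙 (𝒳.p.obj x)) α.hom)).symm
    let R := 𝒲.p.obj w
    have hαR : 𝒳.p.IsHomLift (𝟙 R) α.hom := isHomLift_id_of_eq 𝒳.p hw α.hom
    have hβR : 𝒴.p.IsHomLift (𝟙 R) β.hom := isHomLift_id_of_eq 𝒴.p hw β.hom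
    have hθR : 𝒮.p.IsHomLift (𝟙 R) θ.hom := isHomLift_id_of_eq 𝒮.p hw θ.hom (hφ := P.property)
    have hαRi : 𝒳.p.IsHomLift (𝟙 R) α.inv := IsHomLift.lift_id_inv 𝒳.p R α
    have hθRi : 𝒮.p.IsHomLift (𝟙 R) θ.inv := IsHomLift.lift_id_inv 𝒮.p R θ
    let η₂ : G.obj (b.obj w) ≅ F.obj (a.obj w) :=
      G.toFunctor.mapIso β ≪≫ θ.symm ≪≫ F.toFunctor.mapIso α.symm
    have hη₂ : 𝒮.p.IsHomLift (𝟙 R) η₂.hom := by
      change 𝒮.p.IsHomLift (𝟙 R) (G.map β.hom ≫ θ.inv ≫ F.map α.inv)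
      have k1 : 𝒮.p.IsHomLift (𝟙 R) (G.map β.hom) := inferInstance
      have k2 : 𝒮.p.IsHomLift (𝟙 R) (F.map α.inv) := inferInstance
      have k3 := comp_isHomLift_id 𝒮.p θ.inv (F.map α.inv) (S := R)
      exact comp_isHomLift_id 𝒮.p _ _
    let s : 𝒮.obj := F.obj (a.obj w)
    have hs : 𝒮.p.obj s = R := (F.w_obj _).trans (a.w_obj w)
    have compat : (FibCat.toSelf 𝒮).map (Iso.refl (F.obj (a.obj w))).hom ≫
        ((FibCat.diag (FibCat.toSelf 𝒮)).obj s).obj.iso.hom =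
        ((pairToSq F G a b ε').obj w).obj.iso.hom ≫ (FibCat.toSelf 𝒮).map η₂.hom := by
      have c1 : (FibCat.selfOver C).p.IsHomLift (𝟙 R) (ε'.hom.toNatTrans.app w) :=
        iso_hom_app_isHomLift ε' _ rfl
      have c2 : (FibCat.selfOver C).p.IsHomLift (𝟙 R) ((FibCat.toSelf 𝒮).map η₂.hom) :=
        inferInstance
      have c3 : (FibCat.selfOver C).p.IsHomLift (𝟙 R)
          (ε'.hom.toNatTrans.app w ≫ (FibCat.toSelf 𝒮).map η₂.hom) :=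
        comp_isHomLift_id (FibCat.selfOver C).p _ _
      have c4 : 𝒮.p.IsHomLift (𝟙 R) (𝟙 s) := IsHomLift.id hs
      have c5 : (FibCat.selfOver C).p.IsHomLift (𝟙 R) ((FibCat.toSelf 𝒮).map (𝟙 s)) :=
        inferInstance
      have c6 : (FibCat.selfOver C).p.IsHomLift (𝟙 R) (𝟙 ((FibCat.toSelf 𝒮).obj s)) :=
        IsHomLift.id hs
      have c7 : (FibCat.selfOver C).p.IsHomLift (𝟙 R)
          ((FibCat.toSelf 𝒮).map (𝟙 s) ≫ 𝟙 ((FibCat.toSelf 𝒮).obj s)) :=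
        comp_isHomLift_id (FibCat.selfOver C).p _ _
      change (FibCat.toSelf 𝒮).map (𝟙 s) ≫ 𝟙 ((FibCat.toSelf 𝒮).obj s) =
        ε'.hom.toNatTrans.app w ≫ (FibCat.toSelf 𝒮).map η₂.hom
      exact eq_of_isHomLift_of_faithful (FibCat.selfOver C).p (𝟙 R) _ _
    let η : (pairToSq F G a b ε').obj w ≅ (FibCat.diag (FibCat.toSelf 𝒮)).obj s :=
      ObjectProperty.isoMk _ (CategoricalPullback.mkIso (Iso.refl _) η₂ compat)
    have hη : (FibCat.fp (FibCat.toSelf 𝒮) (FibCat.toSelf 𝒮)).p.IsHomLift (𝟙 (𝒲.p.obj w)) η.hom := by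
      rw [fp_isHomLift_iff]
      exact IsHomLift.id hs
    let Q : (FibCat.fp (pairToSq F G a b ε') (FibCat.diag (FibCat.toSelf 𝒮))).obj :=
      ⟨⟨w, s, η⟩, hη⟩
    refine ⟨Q, α, β, hα, ?_⟩
    rw [magicIso_hom_app']
    change F.map α.hom ≫ θ.hom = (𝟙 _ ≫ ((F.map α.hom ≫ θ.hom) ≫ G.map β.inv)) ≫ G.map β.hom
    rw [Category.id_comp, Category.assoc, Category.assoc, ← Functor.map_comp, β.inv_hom_id,
      CategoryTheory.Functor.map_id, Category.comp_id]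

end Magic

end Groth.Agent.Lib.Helper80
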