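import Groth.Agent.Lib.Helper80.FibCat17
import Mathlib.CategoryTheory.Limits.Shapes.BinaryProducts

/-!
# Products of slice categories (helper80)

`overProd_isFFEssSurjOver`: `C/(V ⨯ U) ≃ (C/V) ×_C (C/U)` over `C`.
-/

set_option autoImplicit false
set_option backward.isDefEq.respectTransparency false

universe v₂ u₂ v u

open CategoryTheory CategoryTheory.Functor CategoryTheory.Limits

namespace Groth.Agent.Lib.Helper80

open BasedFunctor

variable {C : Type u} [Category.{v} C]

section OverProd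

variable (V U : C) [HasBinaryProduct V U]

/-- `C/(V ⨯ U) ⟶ (C/V) ×_C (C/U)`. -/
noncomputable def overProd : FibCat.overCat (V ⨯ U) ⥤ᵇ
    FibCat.fp (FibCat.toSelf (FibCat.overCat V)) (FibCat.toSelf (FibCat.overCat U)) :=
  FibCat.fpLift (overMap prod.fst) (overMap prod.snd) (selfOverIso _ _)

theorem overProd_isFFEssSurjOver (ε : BasedFunctor.comp (overMap (prod.fst : V ⨯ U ⟶ V))
      (FibCat.toSelf (FibCat.overCat V)) ≅
    BasedFunctor.comp (overMap (prod.snd : V ⨯ U ⟶ U)) (FibCat.toSelf (FibCat.overCat U))) :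
    IsFFEssSurjOver (FibCat.fpLift (overMap (prod.fst : V ⨯ U ⟶ V)) (overMap prod.snd) ε) := by
  apply fpLift_isFFEssSurjOver
  · intro x y m m' h1 _
    apply Over.OverMorphism.ext
    exact congrArg (fun k => k.left) h1
  · intro x y φ ψ hw
    have c1 : (FibCat.selfOver C).p.IsHomLift (𝟙 x.left) (ε.hom.toNatTrans.app x) :=
      iso_hom_app_isHomLift ε _ rfl
    have c2 : (FibCat.selfOver C).p.IsHomLift (𝟙 y.left) (ε.hom.toNatTrans.app y) :=
      iso_hom_app_isHomLift ε _ rfl
    have e1 : ε.hom.toNatTrans.app x = 𝟙 x.left := by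
      have := IsHomLift.fac' (FibCat.selfOver C).p (𝟙 x.left) (ε.hom.toNatTrans.app x)
      simp only [eqToHom_refl, Category.id_comp, Category.comp_id] at this
      exact this
    have e2 : ε.hom.toNatTrans.app y = 𝟙 y.left := by
      have := IsHomLift.fac' (FibCat.selfOver C).p (𝟙 y.left) (ε.hom.toNatTrans.app y)
      simp only [eqToHom_refl, Category.id_comp, Category.comp_id] at this
      exact this
    have hw' : φ.left ≫ ε.hom.toNatTrans.app y = ε.hom.toNatTrans.app x ≫ ψ.left := hw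
    rw [e1, e2] at hw'
    have hw'' : φ.left = ψ.left := by
      have h3 : φ.left ≫ 𝟙 y.left = φ.left := Category.comp_id _
      have h4 : 𝟙 x.left ≫ ψ.left = ψ.left := Category.id_comp _
      exact h3.symm.trans (hw'.trans h4)
    have hφ : φ.left ≫ y.hom ≫ prod.fst = x.hom ≫ prod.fst := Over.w φ
    have hψ : ψ.left ≫ y.hom ≫ prod.snd = x.hom ≫ prod.snd := Over.w ψ
    have hxy : φ.left ≫ y.hom = x.hom := by
      apply Limits.prod.hom_ext
      · rw [Category.assoc]; exact hφ
      · rw [Category.assoc, hw'']; exact hψ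
    refine ⟨Over.homMk φ.left hxy, ?_, ?_⟩
    · apply Over.OverMorphism.ext; rfl
    · apply Over.OverMorphism.ext; exact hw''
  · intro P
    let x : Over V := P.obj.fst
    let y : Over U := P.obj.snd
    have hT : y.left = x.left := fp_snd_proj _ _ P
    let t : x.left ⟶ V ⨯ U := prod.lift x.hom (eqToHom hT.symm ≫ y.hom)
    let α : (overMap (prod.fst : V ⨯ U ⟶ V)).obj (Over.mk t) ≅ x := Over.isoMk (Iso.refl _) (by
      change 𝟙 _ ≫ x.hom = t ≫ prod.fst
      rw [prod.lift_fst, Category.id_comp])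
    let β : (overMap (prod.snd : V ⨯ U ⟶ U)).obj (Over.mk t) ≅ y := Over.isoMk (eqToIso hT.symm) (by
      change eqToHom hT.symm ≫ y.hom = t ≫ prod.snd
      rw [prod.lift_snd])
    have hα : (FibCat.overCat V).p.IsHomLift (𝟙 x.left) α.hom := by
      apply IsHomLift.of_fac (Over.forget V) _ _ rfl rfl
      change 𝟙 _ = eqToHom rfl ≫ 𝟙 _ ≫ eqToHom rfl
      simp
    have hβ : (FibCat.overCat U).p.IsHomLift (𝟙 x.left) β.hom := by
      apply IsHomLift.of_fac (Over.forget U) _ _ rfl hT
      change 𝟙 _ = eqToHom rfl ≫ eqToHom hT.symm ≫ eqToHom hT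
      simp
    refine ⟨Over.mk t, α, β, hα, ?_⟩
    have c1 : (FibCat.selfOver C).p.IsHomLift (𝟙 x.left) (ε.hom.toNatTrans.app (Over.mk t)) :=
      iso_hom_app_isHomLift ε _ rfl
    have c2 : (FibCat.selfOver C).p.IsHomLift (𝟙 x.left) P.obj.iso.hom := P.property
    have c3 : (FibCat.selfOver C).p.IsHomLift (𝟙 x.left)
      ((FibCat.toSelf (FibCat.overCat V)).map α.hom) :=
      BasedFunctor.preserves_isHomLift (FibCat.toSelf (FibCat.overCat V)) (𝟙 x.left) α.hom
    have c4 : (FibCat.selfOver C).p.IsHomLift (𝟙 x.left)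
      ((FibCat.toSelf (FibCat.overCat U)).map β.hom) :=
      BasedFunctor.preserves_isHomLift (FibCat.toSelf (FibCat.overCat U)) (𝟙 x.left) β.hom
    have c5 := comp_isHomLift_id (FibCat.selfOver C).p
      ((FibCat.toSelf (FibCat.overCat V)).map α.hom) P.obj.iso.hom (S := x.left)
    have c6 := comp_isHomLift_id (FibCat.selfOver C).p
      (ε.hom.toNatTrans.app (Over.mk t)) ((FibCat.toSelf (FibCat.overCat U)).map β.hom) (S := x.left)
    exact eq_of_isHomLift_of_faithful (FibCat.selfOver C).p (𝟙 x.left) _ _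

end OverProd

end Groth.Agent.Lib.Helper80
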