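import Groth.Agent.Lib.Helper80.FibCat2

/-!
# The relative inertia of a functor over `C` (helper80)
-/

set_option autoImplicit false
set_option backward.isDefEq.respectTransparency false

universe v₃ u₃ v₂ u₂ v u

open CategoryTheory CategoryTheory.Functor

namespace Groth.Agent.Lib.Helper80

open BasedFunctor

variable {C : Type u} [Category.{v} C]
  {𝒳 : BasedCategory.{v₂, u₂} C} {𝒴 : BasedCategory.{v₃, u₃} C} (F : 𝒳 ⥤ᵇ 𝒴)

/-- The automorphism of an object of the inertia lies over an identity. -/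
theorem inertia_aut_isHomLift (X : (FibCat.inertia F).obj) {S : C} (hS : 𝒳.p.obj X.pt = S) :
    𝒳.p.IsHomLift (𝟙 S) X.aut.hom := by
  subst hS
  have : 𝒴.p.IsHomLift (𝟙 (𝒳.p.obj X.pt)) (F.map X.aut.hom) := by
    rw [X.map_aut]; infer_instance
  exact isHomLift_map F _ _

theorem inertia_aut_inv_isHomLift (X : (FibCat.inertia F).obj) {S : C} (hS : 𝒳.p.obj X.pt = S) :
    𝒳.p.IsHomLift (𝟙 S) X.aut.inv := by
  have := inertia_aut_isHomLift F X hS
  infer_instance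

theorem inertia_isHomLift_iff {R S : C} (u : R ⟶ S) {X Y : (FibCat.inertia F).obj} (m : X ⟶ Y) :
    (FibCat.inertia F).p.IsHomLift u m ↔ 𝒳.p.IsHomLift u m.hom :=
  ((FibCat.inertiaToBase F).isHomLift_iff u m).symm

/-- A morphism of the inertia whose underlying morphism is strongly cartesian is strongly
cartesian. -/
theorem inertia_isStronglyCartesian {R S : C} (u : R ⟶ S) {X Y : (FibCat.inertia F).obj}
    (m : X ⟶ Y) [h : 𝒳.p.IsStronglyCartesian u m.hom] :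
    (FibCat.inertia F).p.IsStronglyCartesian u m := by
  have hm : (FibCat.inertia F).p.IsHomLift u m := (inertia_isHomLift_iff F u m).mpr inferInstance
  refine ⟨fun {Z} g ψ hψ => ?_⟩
  have hψ' : 𝒳.p.IsHomLift (g ≫ u) ψ.hom := (inertia_isHomLift_iff F _ ψ).mp hψ
  let χ : Z.pt ⟶ X.pt := IsStronglyCartesian.map 𝒳.p u m.hom (g := g) rfl ψ.hom
  have hχ : χ ≫ m.hom = ψ.hom := IsStronglyCartesian.fac 𝒳.p u m.hom rfl ψ.hom
  have hχl : 𝒳.p.IsHomLift g χ := inferInstance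
  have hX := inertia_aut_isHomLift F X (IsHomLift.domain_eq 𝒳.p u m.hom)
  have hZ := inertia_aut_isHomLift F Z (S := (FibCat.inertia F).p.obj Z) rfl
  have hcomm : Z.aut.hom ≫ χ = χ ≫ X.aut.hom := by
    have h1 : 𝒳.p.IsHomLift g (Z.aut.hom ≫ χ) := inferInstance
    have h2 : 𝒳.p.IsHomLift g (χ ≫ X.aut.hom) := inferInstance
    apply IsStronglyCartesian.ext 𝒳.p u m.hom g
    rw [Category.assoc, Category.assoc, hχ, m.comm, ← Category.assoc, hχ, ψ.comm]
  refine ⟨⟨χ, hcomm⟩, ⟨?_, ?_⟩, ?_⟩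
  · exact (inertia_isHomLift_iff F g _).mpr hχl
  · exact FibCat.InertiaObj.hom_ext hχ
  · rintro χ' ⟨hχ'1, hχ'2⟩
    apply FibCat.InertiaObj.hom_ext
    have : 𝒳.p.IsHomLift g χ'.hom := (inertia_isHomLift_iff F g χ').mp hχ'1
    apply IsStronglyCartesian.map_uniq 𝒳.p u m.hom rfl ψ.hom χ'.hom
    exact congrArg FibCat.InertiaObj.Hom.hom hχ'2

/-- Lifting an object of the inertia along a strongly cartesian morphism of `𝒳`. -/
theorem inertia_exists_lift {R S : C} (f : R ⟶ S) (X : (FibCat.inertia F).obj) {y : 𝒳.obj}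
    (φ : y ⟶ X.pt) [𝒳.p.IsStronglyCartesian f φ]
    (hF : ∀ β : y ⟶ y, 𝒳.p.IsHomLift (𝟙 R) β → β ≫ φ = φ ≫ X.aut.hom → F.map β = 𝟙 (F.obj y)) :
    ∃ (Y : (FibCat.inertia F).obj) (m : Y ⟶ X) (hY : Y.pt = y), m.hom = eqToHom hY ≫ φ := by
  have hX := inertia_aut_isHomLift F X (IsHomLift.codomain_eq 𝒳.p f φ)
  have hX' := inertia_aut_inv_isHomLift F X (IsHomLift.codomain_eq 𝒳.p f φ)
  have h1 : 𝒳.p.IsHomLift f (φ ≫ X.aut.hom) := inferInstance
  have h2 : 𝒳.p.IsHomLift f (φ ≫ X.aut.inv) := inferInstance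
  let β₁ := IsCartesian.map 𝒳.p f φ (φ ≫ X.aut.hom)
  let β₂ := IsCartesian.map 𝒳.p f φ (φ ≫ X.aut.inv)
  have hβ₁ : β₁ ≫ φ = φ ≫ X.aut.hom := IsCartesian.fac 𝒳.p f φ _
  have hβ₂ : β₂ ≫ φ = φ ≫ X.aut.inv := IsCartesian.fac 𝒳.p f φ _
  have h12 : β₁ ≫ β₂ = 𝟙 y := by
    have : 𝒳.p.IsHomLift (𝟙 R) (𝟙 y) := IsHomLift.id (IsHomLift.domain_eq 𝒳.p f φ)
    apply IsCartesian.ext 𝒳.p f φ
    rw [Category.assoc, hβ₂, ← Category.assoc, hβ₁, Category.assoc, Iso.hom_inv_id,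
      Category.comp_id, Category.id_comp]
  have h21 : β₂ ≫ β₁ = 𝟙 y := by
    have : 𝒳.p.IsHomLift (𝟙 R) (𝟙 y) := IsHomLift.id (IsHomLift.domain_eq 𝒳.p f φ)
    apply IsCartesian.ext 𝒳.p f φ
    rw [Category.assoc, hβ₁, ← Category.assoc, hβ₂, Category.assoc, Iso.inv_hom_id,
      Category.comp_id, Category.id_comp]
  let Y : (FibCat.inertia F).obj := ⟨y, ⟨β₁, β₂, h12, h21⟩, hF β₁ inferInstance hβ₁⟩
  exact ⟨Y, ⟨φ, hβ₁⟩, rfl, by simp⟩

theorem inertia_isFibered [𝒳.p.IsFibered] (hF : FibCat.PreservesStronglyCartesian F) :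
    (FibCat.inertia F).p.IsFibered := by
  apply IsFibered.of_exists_isStronglyCartesian
  intro X R f
  obtain ⟨y, φ, hφ⟩ := IsPreFibered.exists_isCartesian 𝒳.p (a := X.pt) rfl f
  have : 𝒳.p.IsStronglyCartesian f φ := inferInstance
  have hFφ : 𝒴.p.IsStronglyCartesian f (F.map φ) := hF f φ inferInstance
  obtain ⟨Y, m, hY, hm⟩ := inertia_exists_lift F f X φ (by
    intro β hβ hβφ
    have : 𝒴.p.IsHomLift (𝟙 R) (𝟙 (F.obj y)) :=
      IsHomLift.id ((F.w_obj y).trans (IsHomLift.domain_eq 𝒳.p f φ))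
    apply IsCartesian.ext 𝒴.p f (F.map φ)
    rw [← Functor.map_comp, hβφ, Functor.map_comp, X.map_aut, Category.comp_id,
      Category.id_comp])
  subst hY
  have hm' : m.hom = φ := by simpa using hm
  have : 𝒳.p.IsStronglyCartesian f m.hom := by rw [hm']; infer_instance
  exact ⟨Y, m, inertia_isStronglyCartesian F f m⟩

theorem inertia_toSelf_isFibGrpd (h𝒳 : FibCat.IsFibGrpd 𝒳.p) :
    FibCat.IsFibGrpd (FibCat.inertia (FibCat.toSelf 𝒳)).p where
  exists_lift := by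
    intro X V f
    obtain ⟨y, φ, hφ⟩ := h𝒳.exists_lift (x := X.pt) f
    have := IsFibGrpd.isStronglyCartesian' 𝒳.p h𝒳 f φ
    obtain ⟨Y, m, hY, hm⟩ := inertia_exists_lift (FibCat.toSelf 𝒳) f X φ (by
      intro β hβ _
      change 𝒳.p.map β = 𝟙 _
      rw [IsHomLift.fac' 𝒳.p (𝟙 V) β]
      simp)
    subst hY
    have hm' : m.hom = φ := by simpa using hm
    refine ⟨Y, m, (inertia_isHomLift_iff _ f m).mpr ?_⟩
    rw [hm']; infer_instance
  isStronglyCartesian := by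
    intro Y X m
    have : 𝒳.p.IsStronglyCartesian (𝒳.p.map m.hom) m.hom := h𝒳.isStronglyCartesian m.hom
    exact inertia_isStronglyCartesian (FibCat.toSelf 𝒳) (𝒳.p.map m.hom) m

end Groth.Agent.Lib.Helper80
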