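import Groth.Agent.Lib.Helper80.FibCat7

/-!
# Categories fibred in setoids are equivalent to categories fibred in sets (helper80)
-/

set_option autoImplicit false
set_option backward.isDefEq.respectTransparency false

universe v₃ u₃ v₂ u₂ v u

open CategoryTheory CategoryTheory.Functor CategoryTheory.Limits

namespace Groth.Agent.Lib.Helper80

open BasedFunctor

variable {C : Type u} [Category.{v} C] {𝒳 : BasedCategory.{v₂, u₂} C}

/-- In a category fibred in setoids, a morphism is determined by its source, its target and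
the morphism of the base it lies over. -/
theorem IsFibSetoid.hom_ext (h𝒳 : FibCat.IsFibSetoid 𝒳.p) {R S : C} (u : R ⟶ S) {a b : 𝒳.obj}
    (m₁ m₂ : a ⟶ b) [𝒳.p.IsHomLift u m₁] [𝒳.p.IsHomLift u m₂] : m₁ = m₂ := by
  have := IsFibGrpd.isStronglyCartesian' 𝒳.p h𝒳.1 u m₂
  let χ := IsCartesian.map 𝒳.p u m₂ m₁
  have hχ : χ ≫ m₂ = m₁ := IsCartesian.fac 𝒳.p u m₂ m₁
  let x : 𝒳.p.Fiber R := Fiber.mk (IsHomLift.domain_eq 𝒳.p u m₁)
  let χ' : x ⟶ x := ⟨χ, inferInstance⟩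
  let i' : x ⟶ x := 𝟙 x
  have h1 : χ' = i' := ((h𝒳.2 R) x x).elim _ _
  have h2 : χ = 𝟙 a := congrArg Subtype.val h1
  rw [← hχ, h2, Category.id_comp]

variable (𝒳)

/-- Two objects are related when they are isomorphic by an isomorphism over an identity. -/
def isoOverRel (x x' : 𝒳.obj) : Prop :=
  ∃ e : x ≅ x', 𝒳.p.IsHomLift (𝟙 (𝒳.p.obj x)) e.hom

theorem isoOverRel_equivalence : Equivalence (isoOverRel 𝒳) where
  refl x := ⟨Iso.refl x, by simp only [Iso.refl_hom]; infer_instance⟩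
  symm := by
    rintro x x' ⟨e, he⟩
    refine ⟨e.symm, ?_⟩
    have h1 : 𝒳.p.obj x' = 𝒳.p.obj x := IsHomLift.codomain_eq 𝒳.p (𝟙 (𝒳.p.obj x)) e.hom
    have h2 : 𝒳.p.IsHomLift (𝟙 (𝒳.p.obj x)) e.symm.hom := by
      simp only [Iso.symm_hom]; infer_instance
    exact isHomLift_id_of_eq 𝒳.p h1.symm _
  trans := by
    rintro x x' x'' ⟨e, he⟩ ⟨e', he'⟩
    refine ⟨e ≪≫ e', ?_⟩
    have h1 : 𝒳.p.obj x' = 𝒳.p.obj x := IsHomLift.codomain_eq 𝒳.p (𝟙 (𝒳.p.obj x)) e.hom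
    have h2 : 𝒳.p.IsHomLift (𝟙 (𝒳.p.obj x)) e'.hom := isHomLift_id_of_eq 𝒳.p h1 _
    simp only [Iso.trans_hom]
    infer_instance

/-- The setoid of objects up to isomorphism over identities. -/
def isoOverSetoid : Setoid 𝒳.obj := ⟨isoOverRel 𝒳, isoOverRel_equivalence 𝒳⟩

/-- The chosen representative of an object. -/
noncomputable def rep (x : 𝒳.obj) : 𝒳.obj := (Quotient.mk (isoOverSetoid 𝒳) x).out

theorem rep_rel (x : 𝒳.obj) : isoOverRel 𝒳 (rep 𝒳 x) x :=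
  Quotient.mk_out (s := isoOverSetoid 𝒳) x

theorem rep_eq_of_rel {x x' : 𝒳.obj} (h : isoOverRel 𝒳 x x') : rep 𝒳 x = rep 𝒳 x' := by
  unfold rep
  rw [Quotient.sound (s := isoOverSetoid 𝒳) h]

theorem rep_rep (x : 𝒳.obj) : rep 𝒳 (rep 𝒳 x) = rep 𝒳 x :=
  rep_eq_of_rel 𝒳 (rep_rel 𝒳 x)

/-- The property of being a chosen representative. -/
def isRep : ObjectProperty 𝒳.obj := fun x => rep 𝒳 x = x

/-- The full subcategory of chosen representatives, as a category over `C`. -/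
noncomputable def skel : BasedCategory.{v₂, u₂} C where
  obj := (isRep 𝒳).FullSubcategory
  p := (isRep 𝒳).ι ⋙ 𝒳.p

/-- The inclusion of the chosen representatives. -/
noncomputable def skelIncl : skel 𝒳 ⥤ᵇ 𝒳 where
  toFunctor := (isRep 𝒳).ι
  w := rfl

instance : (skelIncl 𝒳).toFunctor.Full := inferInstanceAs ((isRep 𝒳).ι).Full
instance : (skelIncl 𝒳).toFunctor.Faithful := inferInstanceAs ((isRep 𝒳).ι).Faithful

theorem skelIncl_isFFEssSurjOver : IsFFEssSurjOver (skelIncl 𝒳) where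
  full := inferInstance
  faithful := inferInstance
  essSurj := fun x => by
    obtain ⟨e, he⟩ := rep_rel 𝒳 x
    refine ⟨⟨rep 𝒳 x, rep_rep 𝒳 x⟩, e, ?_⟩
    have h1 : 𝒳.p.obj x = 𝒳.p.obj (rep 𝒳 x) :=
      IsHomLift.codomain_eq 𝒳.p (𝟙 (𝒳.p.obj (rep 𝒳 x))) e.hom
    exact isHomLift_id_of_eq 𝒳.p h1.symm _

variable {𝒳}

theorem skel_isFibGrpd (h𝒳 : FibCat.IsFibGrpd 𝒳.p) : FibCat.IsFibGrpd (skel 𝒳).p where
  exists_lift := by
    intro y V f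
    obtain ⟨x', φ, hφ⟩ := h𝒳.exists_lift (x := y.obj) f
    obtain ⟨e, he⟩ := rep_rel 𝒳 x'
    have h1 : 𝒳.p.obj (rep 𝒳 x') = V :=
      (IsHomLift.codomain_eq 𝒳.p (𝟙 (𝒳.p.obj (rep 𝒳 x'))) e.hom).symm.trans
        (IsHomLift.domain_eq 𝒳.p f φ)
    have h2 : 𝒳.p.IsHomLift (𝟙 V) e.hom := isHomLift_id_of_eq 𝒳.p h1 _
    have h3 : 𝒳.p.IsHomLift f (e.hom ≫ φ) := inferInstance
    let y' : (skel 𝒳).obj := ⟨rep 𝒳 x', rep_rep 𝒳 x'⟩
    let m : y' ⟶ y := ObjectProperty.homMk (e.hom ≫ φ)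
    refine ⟨y', m, ?_⟩
    rw [← (skelIncl 𝒳).isHomLift_iff]
    exact h3
  isStronglyCartesian := by
    intro y' y m
    have : 𝒳.p.IsStronglyCartesian ((skel 𝒳).p.map m) ((skelIncl 𝒳).map m) :=
      h𝒳.isStronglyCartesian m.hom
    exact isStronglyCartesian_of_map (F := skelIncl 𝒳) ((skel 𝒳).p.map m) m

theorem skel_isFibSet (h𝒳 : FibCat.IsFibSetoid 𝒳.p) : FibCat.IsFibSet (skel 𝒳).p := by
  refine ⟨skel_isFibGrpd h𝒳.1, fun U => ?_⟩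
  refine { subsingleton := fun X Y => ⟨fun m₁ m₂ => ?_⟩, eq_of_hom := fun {X Y} m => ?_ }
  · apply Fiber.hom_ext
    apply ObjectProperty.hom_ext
    have h1 : (skel 𝒳).p.IsHomLift (𝟙 U) m₁.1 := m₁.2
    have h2 : (skel 𝒳).p.IsHomLift (𝟙 U) m₂.1 := m₂.2
    have h1' : 𝒳.p.IsHomLift (𝟙 U) m₁.1.hom := ((skelIncl 𝒳).isHomLift_iff (𝟙 U) m₁.1).mpr h1
    have h2' : 𝒳.p.IsHomLift (𝟙 U) m₂.1.hom := ((skelIncl 𝒳).isHomLift_iff (𝟙 U) m₂.1).mpr h2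
    have := IsFibSetoid.hom_ext h𝒳 (𝟙 U) m₁.1.hom m₂.1.hom
    exact this
  · have h1 : (skel 𝒳).p.IsHomLift (𝟙 U) m.1 := m.2
    have h1' : 𝒳.p.IsHomLift (𝟙 U) m.1.hom := ((skelIncl 𝒳).isHomLift_iff (𝟙 U) m.1).mpr h1
    have : IsIso m.1.hom := IsFibGrpd.isIso_of_base_isIso 𝒳.p h𝒳.1 (𝟙 U) m.1.hom
    have hU : 𝒳.p.obj X.1.obj = U := IsHomLift.domain_eq 𝒳.p (𝟙 U) m.1.hom
    have h3 : 𝒳.p.IsHomLift (𝟙 U) (asIso m.1.hom).hom := h1'
    have hrel : isoOverRel 𝒳 X.1.obj Y.1.obj :=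
      ⟨asIso m.1.hom, isHomLift_id_of_eq 𝒳.p hU.symm (asIso m.1.hom).hom⟩
    have e1 : X.1.obj = Y.1.obj := by
      rw [← X.1.property, ← Y.1.property]
      exact rep_eq_of_rel 𝒳 hrel
    obtain ⟨⟨a, ha⟩, X2⟩ := X
    obtain ⟨⟨b, hb⟩, Y2⟩ := Y
    simp only at e1
    subst e1
    rfl

variable (𝒳)

/-- A category fibred in setoids is equivalent over `C` to one fibred in sets. -/
theorem exists_isFibSet_equivOver (h𝒳 : FibCat.IsFibSetoid 𝒳.p) :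
    ∃ (𝒴 : BasedCategory.{v₂, u₂} C) (F : 𝒳 ⥤ᵇ 𝒴), FibCat.IsFibSet 𝒴.p ∧ FibCat.IsEquivOver F := by
  obtain ⟨F, hF, -, -⟩ := IsEquivOver.symm (skelIncl_isFFEssSurjOver 𝒳).isEquivOver
  exact ⟨skel 𝒳, F, skel_isFibSet h𝒳, hF⟩

end Groth.Agent.Lib.Helper80
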