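import Groth.Agent.Lib.Helper80.AlgStIso2

/-!
# Functors over `C` into the category of a presheaf, and sections (helper80)

General `C`.  `secFun t : C/U ⟶ ofPsh P` for a section `t ∈ P(U)`; `secOf H a` the section of `H a`; functors into `ofPsh P`
over `C` form a thin groupoid, two of them being isomorphic exactly when their sections agree.
-/

set_option autoImplicit false
set_option backward.isDefEq.respectTransparency false

universe w v₂ u₂ v u

open CategoryTheory CategoryTheory.Functor CategoryTheory.Limits Opposite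

namespace Groth.Agent.Lib.Helper80

open BasedFunctor

variable {C : Type u} [Category.{v} C] {P : Cᵒᵖ ⥤ Type w}

/-- The functor `C/U ⟶ ofPsh P` over `C` of a section `t ∈ P(U)`: `(h : V ⟶ U) ↦ (V, t|_h)`. -/
def secFun {U : C} (t : P.obj (op U)) : FibCat.overCat U ⥤ᵇ Stk.ofPsh P where
  toFunctor :=
    { obj := fun h => ⟨h.left, P.map h.hom.op t⟩
      map := fun {h h'} φ => ⟨φ.left, by
        change P.map φ.left.op (P.map h'.hom.op t) = P.map h.hom.op t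
        rw [← Over.w φ, op_comp, P.map_comp]
        rfl⟩
      map_id := fun h => by apply Stk.EltObj.hom_ext; rfl
      map_comp := fun f g => by apply Stk.EltObj.hom_ext; rfl }
  w := rfl

section SecOf

variable {𝒜 : BasedCategory.{v₂, u₂} C}

/-- The section of `H a` over the base of `a`. -/
def secOf (H : 𝒜 ⥤ᵇ Stk.ofPsh P) (a : 𝒜.obj) : P.obj (op (𝒜.p.obj a)) :=
  secAt (H.obj a) (H.w_obj a)

theorem secOf_map (H : 𝒜 ⥤ᵇ Stk.ofPsh P) {a a' : 𝒜.obj} (φ : a ⟶ a') :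
    P.map (𝒜.p.map φ).op (secOf H a') = secOf H a := by
  have l : (Stk.ofPsh P).p.IsHomLift (𝒜.p.map φ) (H.map φ) :=
    BasedFunctor.preserves_isHomLift H (𝒜.p.map φ) φ
  exact secAt_of_isHomLift (𝒜.p.map φ) (H.map φ) (H.w_obj a) (H.w_obj a')

theorem secOf_eq_of_hom {H H' : 𝒜 ⥤ᵇ Stk.ofPsh P} (α : H ⟶ H') (a : 𝒜.obj) :
    secOf H a = secOf H' a := by
  have l : (Stk.ofPsh P).p.IsHomLift (𝟙 (𝒜.p.obj a)) (α.toNatTrans.app a) := α.isHomLift' a
  have h1 := secAt_of_isHomLift (𝟙 (𝒜.p.obj a)) (α.toNatTrans.app a) (H.w_obj a) (H'.w_obj a)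
  rw [op_id, P.map_id] at h1
  exact h1.symm

/-- Functors over `C` into `ofPsh P` form a thin category. -/
theorem ofPsh_hom_thin {H H' : 𝒜 ⥤ᵇ Stk.ofPsh P} (α β : H ⟶ H') : α = β := by
  apply BasedNatTrans.homCategory.ext
  apply NatTrans.ext
  funext a
  have l1 : (Stk.ofPsh P).p.IsHomLift (𝟙 (𝒜.p.obj a)) (α.toNatTrans.app a) := α.isHomLift' a
  have l2 : (Stk.ofPsh P).p.IsHomLift (𝟙 (𝒜.p.obj a)) (β.toNatTrans.app a) := β.isHomLift' a
  exact IsFibSetoid.hom_ext (ofPsh_isFibSetoid P) (𝟙 (𝒜.p.obj a)) _ _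

/-- An isomorphism in `ofPsh P` between two objects with the same base and equal sections. -/
def eltIsoOfSecEq {T : C} {s s' : P.obj (op T)} (h : s = s') :
    (⟨T, s⟩ : Stk.EltObj P) ≅ ⟨T, s'⟩ where
  hom := ⟨𝟙 T, by subst h; simp⟩
  inv := ⟨𝟙 T, by subst h; simp⟩
  hom_inv_id := by apply Stk.EltObj.hom_ext; simp
  inv_hom_id := by apply Stk.EltObj.hom_ext; simp

/-- The comparison isomorphism `H a ≅ H' a` when the sections agree. -/
def secCompIso (H H' : 𝒜 ⥤ᵇ Stk.ofPsh P) (a : 𝒜.obj) (h : secOf H a = secOf H' a) :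
    H.obj a ≅ H'.obj a :=
  (eltIso (H.obj a) (H.w_obj a)).symm ≪≫ eltIsoOfSecEq h ≪≫ eltIso (H'.obj a) (H'.w_obj a)

theorem secCompIso_isHomLift (H H' : 𝒜 ⥤ᵇ Stk.ofPsh P) (a : 𝒜.obj) (h : secOf H a = secOf H' a) :
    (Stk.ofPsh P).p.IsHomLift (𝟙 (𝒜.p.obj a)) (secCompIso H H' a h).hom := by
  have l1 : (Stk.ofPsh P).p.IsHomLift (𝟙 (𝒜.p.obj a)) (eltIso (H.obj a) (H.w_obj a)).hom :=
    eltIso_hom_isHomLift _ _
  have l1' : (Stk.ofPsh P).p.IsHomLift (𝟙 (𝒜.p.obj a)) (eltIso (H.obj a) (H.w_obj a)).inv :=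
    IsHomLift.lift_id_inv _ _ _
  have l2 : (Stk.ofPsh P).p.IsHomLift (𝟙 (𝒜.p.obj a)) (eltIso (H'.obj a) (H'.w_obj a)).hom :=
    eltIso_hom_isHomLift _ _
  have l3 : (Stk.ofPsh P).p.IsHomLift (𝟙 (𝒜.p.obj a)) (eltIsoOfSecEq h).hom :=
    IsHomLift.map (Stk.ofPsh P).p (eltIsoOfSecEq h).hom
  have l4 : (Stk.ofPsh P).p.IsHomLift (𝟙 (𝒜.p.obj a))
      ((eltIsoOfSecEq h).hom ≫ (eltIso (H'.obj a) (H'.w_obj a)).hom) :=
    comp_isHomLift_id (Stk.ofPsh P).p _ _
  change (Stk.ofPsh P).p.IsHomLift (𝟙 (𝒜.p.obj a)) ((eltIso (H.obj a) (H.w_obj a)).inv ≫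
      ((eltIsoOfSecEq h).hom ≫ (eltIso (H'.obj a) (H'.w_obj a)).hom))
  exact comp_isHomLift_id (Stk.ofPsh P).p _ _

/-- Two functors over `C` into `ofPsh P` with the same sections are isomorphic. -/
def isoOfSecEq (H H' : 𝒜 ⥤ᵇ Stk.ofPsh P) (h : ∀ a, secOf H a = secOf H' a) : H ≅ H' :=
  BasedNatIso.mkNatIso
    (NatIso.ofComponents (fun a => secCompIso H H' a (h a)) (by
      intro a a' φ
      have l1 : (Stk.ofPsh P).p.IsHomLift (𝒜.p.map φ) (H.map φ) :=
        BasedFunctor.preserves_isHomLift H (𝒜.p.map φ) φ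
      have l2 : (Stk.ofPsh P).p.IsHomLift (𝒜.p.map φ) (H'.map φ) :=
        BasedFunctor.preserves_isHomLift H' (𝒜.p.map φ) φ
      have l3 := secCompIso_isHomLift H H' a (h a)
      have l4 := secCompIso_isHomLift H H' a' (h a')
      have l5 : (Stk.ofPsh P).p.IsHomLift (𝒜.p.map φ) (H.map φ ≫ (secCompIso H H' a' (h a')).hom) :=
        IsHomLift.comp_lift_id_right (Stk.ofPsh P).p (𝒜.p.map φ) (H.map φ) _
      have l6 : (Stk.ofPsh P).p.IsHomLift (𝒜.p.map φ) ((secCompIso H H' a (h a)).hom ≫ H'.map φ) :=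
        IsHomLift.comp_lift_id_left (Stk.ofPsh P).p (𝒜.p.map φ) (H'.map φ) _
      exact IsFibSetoid.hom_ext (ofPsh_isFibSetoid P) (𝒜.p.map φ) _ _))
    (fun a => secCompIso_isHomLift H H' a (h a))

end SecOf

section Slice

variable {U : C}

theorem secOf_secFun (t : P.obj (op U)) (h : Over U) :
    secOf (secFun (P := P) t) h = P.map h.hom.op t := by
  unfold secOf
  exact secAt_rfl _

/-- The section of `G` at `h : V ⟶ U` is the restriction of its section at `𝟙 U`. -/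
theorem secOf_overCat (G : FibCat.overCat U ⥤ᵇ Stk.ofPsh P) (h : Over U) :
    secOf G h = P.map h.hom.op (secOf G (Over.mk (𝟙 U))) := by
  let φ : h ⟶ Over.mk (𝟙 U) := Over.homMk h.hom
  exact (secOf_map G φ).symm

/-- Every functor `C/U ⟶ ofPsh P` over `C` is the functor of a section. -/
def isoSecFun (G : FibCat.overCat U ⥤ᵇ Stk.ofPsh P) :
    G ≅ secFun (secOf G (Over.mk (𝟙 U))) :=
  isoOfSecEq _ _ (fun h => by rw [secOf_secFun]; exact secOf_overCat G h)

end Slice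

end Groth.Agent.Lib.Helper80
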