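import Groth.Agent.Lib.Helper80.StkPsh2
import Groth.Agent.Lib.Helper80.FibCat21

/-!
# The slice `C/U` as the category of the representable presheaf (general `C`) (helper80)
-/

set_option autoImplicit false
set_option backward.isDefEq.respectTransparency false

universe v u

open CategoryTheory CategoryTheory.Functor CategoryTheory.Limits Opposite

namespace Groth.Agent.Lib.Helper80

open BasedFunctor

variable {C : Type u} [Category.{v} C] (U : C)

/-- The functor `ofPsh h_U ⟶ C/U` over `C`: `(T, g) ↦ (g : T ⟶ U)`. -/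
def ofYon : Stk.ofPsh (yoneda.obj U) ⥤ᵇ FibCat.overCat U where
  toFunctor :=
    { obj := fun a => Over.mk (a.sec : a.base ⟶ U)
      map := fun {a b} f => Over.homMk f.hom f.map_sec
      map_id := fun a => by apply Over.OverMorphism.ext; rfl
      map_comp := fun f g => by apply Over.OverMorphism.ext; rfl }
  w := rfl

theorem ofYon_isFFEssSurjOver : IsFFEssSurjOver (ofYon U) where
  full := ⟨fun {a b} φ => ⟨⟨φ.left, Over.w φ⟩, by apply Over.OverMorphism.ext; rfl⟩⟩
  faithful := ⟨fun {a b} f g h => by
    apply Stk.EltObj.hom_ext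
    exact congrArg (fun k => CommaMorphism.left k) h⟩
  essSurj := fun h => by
    refine ⟨⟨h.left, h.hom⟩, Over.isoMk (Iso.refl _) (by simp [ofYon]), ?_⟩
    apply IsHomLift.of_fac' (FibCat.overCat U).p (𝟙 h.left) _ rfl rfl
    change 𝟙 h.left = eqToHom rfl ≫ 𝟙 h.left ≫ eqToHom rfl
    simp

theorem ofYon_isEquivOver : FibCat.IsEquivOver (ofYon U) := (ofYon_isFFEssSurjOver U).isEquivOver

/-- `S12797`. -/
theorem isStack_overCat_iff_isSheaf_yoneda (J : GrothendieckTopology C) :
    Stk.IsStack J (FibCat.overCat U) ↔ Presieve.IsSheaf J (yoneda.obj U) := by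
  rw [← isStack_iff_of_isEquivOver J (ofYon U) (ofYon_isEquivOver U)]
  exact isStack_ofPsh_iff_isSheaf J (yoneda.obj U)

end Groth.Agent.Lib.Helper80
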