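import Groth.Agent.Lib.Helper80.FibCat23
import Groth.Agent.Lib.Helper80.FibCat19

/-!
# Descent along a functor whose fibres over the base satisfy descent (helper80)

`restr_isEquivalence_of_fp`: for `j : 𝒳 ⟶ 𝒴` over `C` with `𝒴` fibred in groupoids, if restriction along `ι : 𝒜 ⟶ ℬ` is an
equivalence for `𝒴` and for every 2-fibre product `ℬ ×_{y, 𝒴, j} 𝒳`, then it is an equivalence for `𝒳`.
-/

set_option autoImplicit false
set_option backward.isDefEq.respectTransparency false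

universe v₆ u₆ v₅ u₅ v₄ u₄ v₃ u₃ v₂ u₂ v u

open CategoryTheory CategoryTheory.Functor CategoryTheory.Limits

namespace Groth.Agent.Lib.Helper80

open BasedFunctor

variable {C : Type u} [Category.{v} C]

section IsoOfGrpd

variable {𝒲 : BasedCategory.{v₂, u₂} C} {𝒴 : BasedCategory.{v₃, u₃} C}

/-- Every 2-morphism between functors over `C` into a category fibred in groupoids is invertible. -/
theorem basedNatTrans_isIso (h𝒴 : FibCat.IsFibGrpd 𝒴.p) {A B : 𝒲 ⥤ᵇ 𝒴} (γ : A ⟶ B) : IsIso γ := by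
  have h1 : ∀ w : 𝒲.obj, IsIso (γ.toNatTrans.app w) := fun w => by
    have l : 𝒴.p.IsHomLift (𝟙 (𝒲.p.obj w)) (γ.toNatTrans.app w) := γ.isHomLift' w
    exact IsFibGrpd.isIso_of_base_isIso 𝒴.p h𝒴 (𝟙 (𝒲.p.obj w)) (γ.toNatTrans.app w)
  have h2 : IsIso (X := A.toFunctor) γ.toNatTrans := NatIso.isIso_of_isIso_app _
  exact BasedNatIso.isIso_of_toNatTrans_isIso γ

end IsoOfGrpd

section Rel

variable {𝒳 : BasedCategory.{v₂, u₂} C} {𝒴 : BasedCategory.{v₃, u₃} C}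
  {𝒜 : BasedCategory.{v₅, u₅} C} {ℬ : BasedCategory.{v₆, u₆} C}
  (ι : 𝒜 ⥤ᵇ ℬ) (j : 𝒳 ⥤ᵇ 𝒴)

theorem restr_essSurj_of_fp (h𝒴 : (Stk.restr ι 𝒴).EssSurj)
    (hfp : ∀ y : ℬ ⥤ᵇ 𝒴, (Stk.restr ι (FibCat.fp y j)).EssSurj) :
    (Stk.restr ι 𝒳).EssSurj where
  mem_essImage ξ := by
    let y := (Stk.restr ι 𝒴).objPreimage (BasedFunctor.comp ξ j)
    let θ : BasedFunctor.comp ι y ≅ BasedFunctor.comp ξ j := (Stk.restr ι 𝒴).objObjPreimageIso _
    let t : 𝒜 ⥤ᵇ FibCat.fp y j := FibCat.fpLift ι ξ θ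
    have := hfp y
    let w := (Stk.restr ι (FibCat.fp y j)).objPreimage t
    let κ : BasedFunctor.comp ι w ≅ t := (Stk.restr ι (FibCat.fp y j)).objObjPreimageIso _
    refine ⟨BasedFunctor.comp w (FibCat.fpSnd y j), ⟨?_⟩⟩
    exact (whiskerRightIso κ (FibCat.fpSnd y j) : BasedFunctor.comp ι (BasedFunctor.comp w (FibCat.fpSnd y j)) ≅ ξ)

section Sections

variable {j}

/-- The section of `ℬ ×_{x' ⋙ j, 𝒴, j} 𝒳 ⟶ ℬ` given by `x` and `γ : x ⋙ j ≅ x' ⋙ j`. -/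
def secLift (x x' : ℬ ⥤ᵇ 𝒳) (γ : BasedFunctor.comp x j ≅ BasedFunctor.comp x' j) :
    ℬ ⥤ᵇ FibCat.fp (BasedFunctor.comp x' j) j :=
  FibCat.fpLift (BasedFunctor.id ℬ) x
    (γ.symm : BasedFunctor.comp (BasedFunctor.id ℬ) (BasedFunctor.comp x' j) ≅ BasedFunctor.comp x j)

variable {𝒟 : BasedCategory.{v₄, u₄} C}

/-- A 2-morphism between the restrictions of two sections along `ψ`. -/
def secHom (x x' : ℬ ⥤ᵇ 𝒳) (γ : BasedFunctor.comp x j ≅ BasedFunctor.comp x' j) (ψ : 𝒟 ⥤ᵇ ℬ)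
    (α : BasedFunctor.comp ψ x ⟶ BasedFunctor.comp ψ x')
    (hα : ∀ d : 𝒟.obj, j.map (α.toNatTrans.app d) = γ.hom.toNatTrans.app (ψ.obj d)) :
    BasedFunctor.comp ψ (secLift x x' γ) ⟶ BasedFunctor.comp ψ (secLift x' x' (Iso.refl _)) :=
  fpHomMk (A := BasedFunctor.comp ψ (secLift x x' γ))
    (B := BasedFunctor.comp ψ (secLift x' x' (Iso.refl _)))
    (𝟙 ψ : ψ ⟶ ψ) α (by
      intro d
      change (BasedFunctor.comp x' j).map (𝟙 (ψ.obj d)) ≫ 𝟙 _ =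
        γ.inv.toNatTrans.app (ψ.obj d) ≫ j.map (α.toNatTrans.app d)
      rw [hα d, iso_inv_hom_app, Category.comp_id]
      exact (BasedFunctor.comp x' j).toFunctor.map_id _)

theorem secHom_app_snd (x x' : ℬ ⥤ᵇ 𝒳) (γ : BasedFunctor.comp x j ≅ BasedFunctor.comp x' j) (ψ : 𝒟 ⥤ᵇ ℬ)
    (α : BasedFunctor.comp ψ x ⟶ BasedFunctor.comp ψ x')
    (hα : ∀ d : 𝒟.obj, j.map (α.toNatTrans.app d) = γ.hom.toNatTrans.app (ψ.obj d)) (d : 𝒟.obj) :
    ((secHom x x' γ ψ α hα).toNatTrans.app d).hom.snd = α.toNatTrans.app d := rfl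

theorem secHom_app_fst (x x' : ℬ ⥤ᵇ 𝒳) (γ : BasedFunctor.comp x j ≅ BasedFunctor.comp x' j) (ψ : 𝒟 ⥤ᵇ ℬ)
    (α : BasedFunctor.comp ψ x ⟶ BasedFunctor.comp ψ x')
    (hα : ∀ d : 𝒟.obj, j.map (α.toNatTrans.app d) = γ.hom.toNatTrans.app (ψ.obj d)) (d : 𝒟.obj) :
    ((secHom x x' γ ψ α hα).toNatTrans.app d).hom.fst = 𝟙 (ψ.obj d) := rfl

end Sections

theorem restr_faithful_of_fp (h𝒴g : FibCat.IsFibGrpd 𝒴.p) (h𝒴 : (Stk.restr ι 𝒴).Faithful)
    (hfp : ∀ y : ℬ ⥤ᵇ 𝒴, (Stk.restr ι (FibCat.fp y j)).Faithful) :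
    (Stk.restr ι 𝒳).Faithful where
  map_injective {x x'} β β' h := by
    have hcomp : ∀ a : 𝒜.obj, β.toNatTrans.app (ι.obj a) = β'.toNatTrans.app (ι.obj a) := fun a =>
      congrArg (fun δ => δ.toNatTrans.app a) h
    have hγ : BasedCategory.whiskerRight β j = BasedCategory.whiskerRight β' j := by
      apply (Stk.restr ι 𝒴).map_injective
      apply BasedNatTrans.homCategory.ext
      apply NatTrans.ext
      funext a
      change j.map (β.toNatTrans.app (ι.obj a)) = j.map (β'.toNatTrans.app (ι.obj a))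
      rw [hcomp a]
    have : IsIso (BasedCategory.whiskerRight β j) := basedNatTrans_isIso h𝒴g _
    let γ : BasedFunctor.comp x j ≅ BasedFunctor.comp x' j := asIso (BasedCategory.whiskerRight β j)
    have hβ : ∀ b : ℬ.obj, j.map (β.toNatTrans.app b) = γ.hom.toNatTrans.app b := fun b => rfl
    have hβ' : ∀ b : ℬ.obj, j.map (β'.toNatTrans.app b) = γ.hom.toNatTrans.app b := fun b =>
      (congrArg (fun δ => δ.toNatTrans.app b) hγ).symm
    let σ : secLift x x' γ ⟶ secLift x' x' (Iso.refl _) := secHom x x' γ (BasedFunctor.id ℬ) β hβ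
    let σ' : secLift x x' γ ⟶ secLift x' x' (Iso.refl _) := secHom x x' γ (BasedFunctor.id ℬ) β' hβ'
    have := hfp (BasedFunctor.comp x' j)
    have hσ : σ = σ' := by
      apply (Stk.restr ι (FibCat.fp (BasedFunctor.comp x' j) j)).map_injective
      apply fpHom_ext
      · intro a; rfl
      · intro a; exact hcomp a
    apply BasedNatTrans.homCategory.ext
    apply NatTrans.ext
    funext b
    exact congrArg (fun δ => (δ.toNatTrans.app b).hom.snd) hσ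

theorem restr_full_of_fp (h𝒴g : FibCat.IsFibGrpd 𝒴.p) (h𝒴 : (Stk.restr ι 𝒴).Full)
    (hfp : ∀ y : ℬ ⥤ᵇ 𝒴, (Stk.restr ι (FibCat.fp y j)).Full) :
    (Stk.restr ι 𝒳).Full where
  map_surjective {x x'} α := by
    let αj : (Stk.restr ι 𝒴).obj (BasedFunctor.comp x j) ⟶ (Stk.restr ι 𝒴).obj (BasedFunctor.comp x' j) :=
      BasedCategory.whiskerRight α j
    obtain ⟨γ₀, hγ₀⟩ := (Stk.restr ι 𝒴).map_surjective αj
    have : IsIso γ₀ := basedNatTrans_isIso h𝒴g _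
    let γ : BasedFunctor.comp x j ≅ BasedFunctor.comp x' j := asIso γ₀
    have hα : ∀ a : 𝒜.obj, j.map (α.toNatTrans.app a) = γ.hom.toNatTrans.app (ι.obj a) := fun a =>
      (congrArg (fun δ => δ.toNatTrans.app a) hγ₀).symm
    let τ : (Stk.restr ι _).obj (secLift x x' γ) ⟶ (Stk.restr ι _).obj (secLift x' x' (Iso.refl _)) :=
      secHom x x' γ ι α hα
    have := hfp (BasedFunctor.comp x' j)
    obtain ⟨σ, hσ⟩ := (Stk.restr ι (FibCat.fp (BasedFunctor.comp x' j) j)).map_surjective τ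
    let β : x ⟶ x' := BasedCategory.whiskerRight σ (FibCat.fpSnd (BasedFunctor.comp x' j) j)
    refine ⟨β, ?_⟩
    apply BasedNatTrans.homCategory.ext
    apply NatTrans.ext
    funext a
    exact congrArg (fun δ => (δ.toNatTrans.app a).hom.snd) hσ

/-- Descent along `j : 𝒳 ⟶ 𝒴` from descent for `𝒴` and for the fibres of `j` over `ℬ`. -/
theorem restr_isEquivalence_of_fp (h𝒴g : FibCat.IsFibGrpd 𝒴.p) (h𝒴 : (Stk.restr ι 𝒴).IsEquivalence)
    (hfp : ∀ y : ℬ ⥤ᵇ 𝒴, (Stk.restr ι (FibCat.fp y j)).IsEquivalence) :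
    (Stk.restr ι 𝒳).IsEquivalence :=
  { faithful := restr_faithful_of_fp ι j h𝒴g h𝒴.faithful (fun y => (hfp y).faithful)
    full := restr_full_of_fp ι j h𝒴g h𝒴.full (fun y => (hfp y).full)
    essSurj := restr_essSurj_of_fp ι j h𝒴.essSurj (fun y => (hfp y).essSurj) }

end Rel

end Groth.Agent.Lib.Helper80
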